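import Mathlib

/-! S3806 piece C (race copy by helper39): `(s c)^p = s^p c^p` in an abelian normal section. -/

set_option autoImplicit false

namespace Cfsg.Agent.Lib.helper12.MC

open Subgroup

/-- geometric sum of `(D + 1)^i` in binomial form (cast version). -/
theorem h39_sum_pow_choose {R : Type*} [Ring R] (D : R) (n : ℕ) :
    ∑ i ∈ Finset.range n, (D + 1) ^ i
      = ∑ m ∈ Finset.range n, D ^ m * ((n.choose (m + 1) : ℕ) : R) := by
  induction n with
  | zero => simp
  | succ n ih =>
    rw [Finset.sum_range_succ, ih, (Commute.one_right D).add_pow]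
    have h1 : ∀ m, D ^ m * (((n + 1).choose (m + 1) : ℕ) : R)
        = D ^ m * ((n.choose m : ℕ) : R) + D ^ m * ((n.choose (m + 1) : ℕ) : R) := by
      intro m
      rw [Nat.choose_succ_succ]
      push_cast
      rw [mul_add]
    simp only [h1, Finset.sum_add_distrib]
    rw [Finset.sum_range_succ (fun m => D ^ m * ((n.choose (m + 1) : ℕ) : R)) n]
    simp [Nat.choose_succ_self, add_comm]

/-- evaluation of a finite sum of endomorphisms. -/
theorem h39_end_sum_apply {M : Type*} [AddCommMonoid M] {ι : Type*} (s : Finset ι)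
    (f : ι → AddMonoid.End M) (x : M) : (∑ i ∈ s, f i) x = ∑ i ∈ s, (f i) x := by
  classical
  induction s using Finset.induction_on with
  | empty => rfl
  | insert a s ha ih =>
    rw [Finset.sum_insert ha, Finset.sum_insert ha, ← ih]
    rfl

/-- the commutative-group version of the computation. -/
theorem h39_prod_iterate_eq {A : Type*} [CommGroup A] (σ : A →* A) (p : ℕ) (hp : p.Prime)
    (c : A) (B : Subgroup A) (hB : ∀ b ∈ B, b⁻¹ * σ b ∈ B) (hBp : ∀ b ∈ B, b ^ p = 1)
    (hcB : c⁻¹ * σ c ∈ B)
    (hnil : (fun v : A => v⁻¹ * σ v)^[p - 1] c = 1) :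
    ∏ i ∈ Finset.range p, (⇑σ)^[i] c = c ^ p := by
  classical
  set σa : AddMonoid.End (Additive A) := MonoidHom.toAdditive σ with hσa
  set Dd : AddMonoid.End (Additive A) := σa - 1 with hDd
  have hσD : σa = Dd + 1 := by rw [hDd]; abel
  -- iterates of sigma
  have hit : ∀ (i : ℕ) (a : A), (σa ^ i) (Additive.ofMul a) = Additive.ofMul ((⇑σ)^[i] a) := by
    intro i
    induction i with
    | zero => intro a; simp
    | succ i ih =>
      intro a
      rw [pow_succ, Function.iterate_succ_apply]
      show (σa ^ i) (σa (Additive.ofMul a)) = _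
      have : σa (Additive.ofMul a) = Additive.ofMul (σ a) := rfl
      rw [this, ih]
  -- iterates of D
  have hDa : ∀ a : A, Dd (Additive.ofMul a) = Additive.ofMul (a⁻¹ * σ a) := by
    intro a
    rw [hDd]
    show Additive.ofMul (σ a) - Additive.ofMul a = Additive.ofMul (a⁻¹ * σ a)
    rw [← ofMul_div, div_eq_mul_inv, mul_comm]
  have hDit : ∀ (m : ℕ) (a : A),
      (Dd ^ m) (Additive.ofMul a) = Additive.ofMul ((fun v : A => v⁻¹ * σ v)^[m] a) := by
    intro m
    induction m with
    | zero => intro a; simp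
    | succ m ih =>
      intro a
      rw [pow_succ, Function.iterate_succ_apply]
      show (Dd ^ m) (Dd (Additive.ofMul a)) = _
      rw [hDa, ih]
  have hDB : ∀ m : ℕ, 1 ≤ m → (fun v : A => v⁻¹ * σ v)^[m] c ∈ B := by
    intro m hm
    induction m with
    | zero => omega
    | succ m ih =>
      rcases Nat.eq_zero_or_pos m with h0 | h0
      · subst h0; simpa using hcB
      · rw [Function.iterate_succ_apply']
        exact hB _ (ih h0)
  have key := congrArg (fun f : AddMonoid.End (Additive A) => f (Additive.ofMul c))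
    (h39_sum_pow_choose Dd p)
  simp only [← hσD] at key
  have hL : (∑ i ∈ Finset.range p, σa ^ i) (Additive.ofMul c)
      = Additive.ofMul (∏ i ∈ Finset.range p, (⇑σ)^[i] c) := by
    rw [h39_end_sum_apply, ofMul_prod]
    exact Finset.sum_congr rfl (fun i _ => hit i c)
  have hR : (∑ m ∈ Finset.range p, Dd ^ m * ((p.choose (m + 1) : ℕ) : AddMonoid.End (Additive A)))
      (Additive.ofMul c) = Additive.ofMul (c ^ p) := by
    rw [h39_end_sum_apply]
    have hterm : ∀ m ∈ Finset.range p,
        (Dd ^ m * ((p.choose (m + 1) : ℕ) : AddMonoid.End (Additive A))) (Additive.ofMul c)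
          = if m = 0 then Additive.ofMul (c ^ p) else 0 := by
      intro m hm
      have hmp : m < p := Finset.mem_range.mp hm
      show (Dd ^ m) (((p.choose (m + 1) : ℕ) : AddMonoid.End (Additive A)) (Additive.ofMul c)) = _
      rw [AddMonoid.End.natCast_apply, map_nsmul, hDit]
      split_ifs with h0
      · subst h0
        simp
      · rcases Nat.lt_or_ge (m + 1) p with hlt | hge
        · -- p divides the binomial coefficient and the element lies in B
          obtain ⟨k, hk⟩ := hp.dvd_choose_self (Nat.succ_ne_zero m) hlt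
          have hb := hBp _ (hDB m (Nat.pos_of_ne_zero h0))
          rw [hk, ← ofMul_pow, pow_mul, hb, one_pow]
          rfl
        · have hm1 : m = p - 1 := by omega
          subst hm1
          rw [hnil]
          simp
    rw [Finset.sum_congr rfl hterm, Finset.sum_ite_eq' ]
    simp [hp.pos]
  have := hL.symm.trans (key.trans hR)
  exact Additive.ofMul.injective this

/-- C: `(s c)^p = s^p c^p` for `c` in an abelian `s`-invariant subgroup `A`, when `[c, s]` lies in an
`s`-invariant subgroup `B ≤ A` of exponent `p` and `[c, s, …, s] = 1` (`p - 1` times). -/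
theorem h39_mul_pow_eq_of_abelian (p : ℕ) [Fact p.Prime] {T : Type*} [Group T] (A B : Subgroup T)
    (hA : ∀ x ∈ A, ∀ y ∈ A, x * y = y * x) (s : T) (hsA : ∀ a ∈ A, s⁻¹ * a * s ∈ A)
    (hBA : B ≤ A) (hsB : ∀ b ∈ B, s⁻¹ * b * s ∈ B) (hBp : ∀ b ∈ B, b ^ p = 1)
    (c : T) (hc : c ∈ A) (hcB : c⁻¹ * (s⁻¹ * c * s) ∈ B)
    (hnil : (fun v : T => v⁻¹ * (s⁻¹ * v * s))^[p - 1] c = 1) :
    (s * c) ^ p = s ^ p * c ^ p := by
  classical
  have hp : p.Prime := Fact.out
  let _ : CommGroup A :=
    { (inferInstance : Group A) with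
      mul_comm := fun x y => Subtype.ext (hA x x.2 y y.2) }
  let σ : A →* A :=
    { toFun := fun a => ⟨s⁻¹ * (a : T) * s, hsA a a.2⟩
      map_one' := by ext; simp
      map_mul' := by intro a b; ext; simp [mul_assoc] }
  have hσ : ∀ a : A, ((σ a : A) : T) = s⁻¹ * (a : T) * s := fun a => rfl
  -- Step 1
  have h1 : ∀ n : ℕ, (s * c) ^ n
      = s ^ n * ((∏ i ∈ Finset.range n, (⇑σ)^[i] (⟨c, hc⟩ : A) : A) : T) := by
    intro n
    induction n with
    | zero => simp
    | succ n ih =>
      rw [pow_succ, ih, Finset.prod_range_succ']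
      have e1 : (∏ k ∈ Finset.range n, (⇑σ)^[k + 1] (⟨c, hc⟩ : A))
          = σ (∏ k ∈ Finset.range n, (⇑σ)^[k] (⟨c, hc⟩ : A)) := by
        rw [map_prod]
        exact Finset.prod_congr rfl (fun k _ => Function.iterate_succ_apply' _ _ _)
      rw [e1]
      simp only [Function.iterate_zero, id_eq, Subgroup.coe_mul, hσ, pow_succ]
      group
  -- Step 2
  have h2 := h39_prod_iterate_eq σ p hp (⟨c, hc⟩ : A) (B.subgroupOf A)
    (by
      intro b hb
      rw [Subgroup.mem_subgroupOf] at hb ⊢
      simp only [Subgroup.coe_mul, Subgroup.coe_inv, hσ]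
      exact B.mul_mem (B.inv_mem hb) (hsB _ hb))
    (by
      intro b hb
      rw [Subgroup.mem_subgroupOf] at hb
      ext
      simpa using hBp _ hb)
    (by
      rw [Subgroup.mem_subgroupOf]
      simpa only [Subgroup.coe_mul, Subgroup.coe_inv, hσ] using hcB)
    (by
      have hiter : ∀ (m : ℕ) (a : A),
          (((fun v : A => v⁻¹ * σ v)^[m] a : A) : T)
            = (fun v : T => v⁻¹ * (s⁻¹ * v * s))^[m] (a : T) := by
        intro m
        induction m with
        | zero => intro a; simp
        | succ m ih =>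
          intro a
          rw [Function.iterate_succ_apply, Function.iterate_succ_apply, ih]
          simp [hσ]
      ext
      rw [hiter]
      simpa using hnil)
  rw [h1 p, h2]
  simp

end Cfsg.Agent.Lib.helper12.MC
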