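import Mathlib
import Cfsg.Agent.Lib.helper45.BrSETUP

/-!
S4700 (Brauer-Reynolds) split project, piece SETUP0 (helper39): `p ≠ 2`, `n ≥ 1`,
`2 ≤ e = |N_G(P) : C_G(P)|`, `e ∣ p - 1` for a perfect group with a Sylow `p`-subgroup of
order `p`.
-/

set_option autoImplicit false

namespace Cfsg.Agent.Lib.helper39.BR

universe u

/-- SETUP0. -/
theorem setup0 {G : Type u} [Group G] [Finite G] (hperf : commutator G = ⊤) (p : ℕ)
    [Fact p.Prime] (P : Sylow p G) (hP : Nat.card P = p) (n : ℕ)
    (hn : Nat.card (Sylow p G) = 1 + n * p) :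
    p ≠ 2 ∧ 1 ≤ n ∧
      2 ≤ (Subgroup.centralizer ((P : Subgroup G) : Set G)).relIndex
        (Subgroup.normalizer ((P : Subgroup G) : Set G)) ∧
      (Subgroup.centralizer ((P : Subgroup G) : Set G)).relIndex
        (Subgroup.normalizer ((P : Subgroup G) : Set G)) ∣ p - 1 := by
  classical
  have hp : p.Prime := Fact.out
  have hcard : Nat.card ↥(P : Subgroup G) = p := hP
  have hcyc : IsCyclic ↥(P : Subgroup G) := isCyclic_of_prime_card hcard
  have hcommP : ∀ a b : ↥(P : Subgroup G), a * b = b * a := by
    obtain ⟨g, hg⟩ := IsCyclic.exists_generator (α := ↥(P : Subgroup G))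
    intro a b
    obtain ⟨i, rfl⟩ := Subgroup.mem_zpowers_iff.mp (hg a)
    obtain ⟨j, rfl⟩ := Subgroup.mem_zpowers_iff.mp (hg b)
    exact zpow_mul_comm g i j
  have hcommA : ∀ a b : MulAut ↥(P : Subgroup G), a * b = b * a := by
    intro a b
    apply (IsCyclic.mulAutMulEquiv ↥(P : Subgroup G)).injective
    rw [map_mul, map_mul, mul_comm]
  have key : (Subgroup.centralizer ((P : Subgroup G) : Set G)).relIndex
      (Subgroup.normalizer ((P : Subgroup G) : Set G)) ∣ p - 1 := by
    have key := Subgroup.card_dvd_of_injective _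
      (QuotientGroup.kerLift_injective (P : Subgroup G).normalizerMonoidHom)
    rw [Subgroup.normalizerMonoidHom_ker, ← Subgroup.index, ← Subgroup.relIndex,
      IsCyclic.card_mulAut, hcard, Nat.totient_prime hp] at key
    exact key
  have hp1 : 0 < p - 1 := by have := hp.two_le; omega
  have he0 : (Subgroup.centralizer ((P : Subgroup G) : Set G)).relIndex
      (Subgroup.normalizer ((P : Subgroup G) : Set G)) ≠ 0 := by
    intro h0
    rw [h0] at key
    have := Nat.eq_zero_of_zero_dvd key
    omega
  -- `N ≤ C` is impossible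
  have hnot : ¬ Subgroup.normalizer ((P : Subgroup G) : Set G) ≤
      Subgroup.centralizer ((P : Subgroup G) : Set G) := by
    intro hNC
    have hcomp := MonoidHom.ker_transferSylow_isComplement' P hNC
    have hker : (MonoidHom.transferSylow P hNC).ker = ⊤ := by
      ext g
      simp only [MonoidHom.mem_ker, Subgroup.mem_top, iff_true]
      exact Cfsg.Agent.Lib.helper45.Br.hom_trivial_of_perfect hperf _ hcommP g
    rw [hker] at hcomp
    have h2 := hcomp.card_mul_card
    rw [Subgroup.card_top, hcard] at h2
    have hG0 : 0 < Nat.card G := Nat.card_pos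
    have h3 : p = 1 := by
      have h4 : Nat.card G * p = Nat.card G * 1 := by rw [h2, mul_one]
      exact Nat.eq_of_mul_eq_mul_left hG0 h4
    exact hp.one_lt.ne' h3
  have he2 : 2 ≤ (Subgroup.centralizer ((P : Subgroup G) : Set G)).relIndex
      (Subgroup.normalizer ((P : Subgroup G) : Set G)) := by
    by_contra hlt
    have he1 : (Subgroup.centralizer ((P : Subgroup G) : Set G)).relIndex
        (Subgroup.normalizer ((P : Subgroup G) : Set G)) = 1 := by omega
    exact hnot (Subgroup.relIndex_eq_one.mp he1)
  have hn1 : 1 ≤ n := by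
    by_contra h0
    have hn0 : n = 0 := by omega
    rw [hn0, zero_mul, add_zero] at hn
    have hidx : (Subgroup.normalizer ((P : Subgroup G) : Set G)).index = 1 := by
      have h5 := Sylow.card_eq_index_normalizer P
      rw [hn] at h5
      exact h5.symm
    have hNtop : Subgroup.normalizer ((P : Subgroup G) : Set G) = ⊤ :=
      Subgroup.index_eq_one.mp hidx
    have hmemN : ∀ g : G, g ∈ Subgroup.normalizer ((P : Subgroup G) : Set G) := by
      intro g
      rw [hNtop]
      trivial
    apply hnot
    intro g _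
    have h1 := Cfsg.Agent.Lib.helper45.Br.hom_trivial_of_perfect hperf
      ((P : Subgroup G).normalizerMonoidHom.comp ((MonoidHom.id G).codRestrict _ hmemN))
      hcommA g
    have h2 : (⟨g, hmemN g⟩ : ↥(Subgroup.normalizer ((P : Subgroup G) : Set G))) ∈
        (P : Subgroup G).normalizerMonoidHom.ker := h1
    rw [Subgroup.normalizerMonoidHom_ker, Subgroup.mem_subgroupOf] at h2
    exact h2
  have hp2 : p ≠ 2 := by
    intro h2
    have h3 : p - 1 = 1 := by omega
    have := Nat.le_of_dvd (by omega) key
    omega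
  exact ⟨hp2, hn1, he2, key⟩

end Cfsg.Agent.Lib.helper39.BR
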