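import Mathlib
import Cfsg.Prelude.Def_Characters
import Cfsg.Prelude.Def_Blocks
import Cfsg.Prelude.Def_Solvable
import Cfsg.Agent.Lib.helper84.BrDefs
import Cfsg.Agent.Lib.helper14.BR0Defs
import Cfsg.Agent.Lib.helper81.Kernel
import Cfsg.Agent.Lib.helper81.CharTools
import Cfsg.Agent.Lib.helper4.FinOrder

/-!
S4700 (Brauer-Reynolds) split project, piece VK (helper39): a character of `X` of degree `p - 1`
and sign `-1` forces `C_G(P) = P` when `O_{p'}(G) = 1`.
-/

set_option autoImplicit false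

namespace Cfsg.Agent.Lib.helper39.BR

open Cfsg Cfsg.Agent.Lib.helper81 Cfsg.Agent.Lib.helper84.Br Cfsg.Agent.Lib.helper14.BR
open scoped ComplexConjugate

universe u

/-- `|χ(g)| ≤ χ(1)` for an irreducible character. -/
theorem h39_irr_norm_le {G : Type u} [Group G] [Finite G] (χ : IrrCharacter G) (g : G) :
    ‖(χ : G → ℂ) g‖ ≤ (charDegree (χ : G → ℂ) : ℝ) := by
  obtain ⟨n, ρ, hirr, hχ⟩ := χ.2
  have h := Cfsg.Agent.Lib.helper4.norm_char_le ρ g
  have h1 : (χ : G → ℂ) 1 = (charDegree (χ : G → ℂ) : ℂ) := irr_one_eq_charDegree χ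
  have h2 : (χ : G → ℂ) 1 = (Module.finrank ℂ (Fin n → ℂ) : ℂ) := by
    rw [← hχ, Representation.char_one]
  have h3 : charDegree (χ : G → ℂ) = Module.finrank ℂ (Fin n → ℂ) := by
    have : (charDegree (χ : G → ℂ) : ℂ) = (Module.finrank ℂ (Fin n → ℂ) : ℂ) := by
      rw [← h1, h2]
    exact_mod_cast this
  rw [h3, ← hχ]
  exact h

/-- If `Re χ(g) ≥ χ(1)` then `χ(g) = χ(1)`. -/
theorem h39_irr_eq_of_le_re {G : Type u} [Group G] [Finite G] (χ : IrrCharacter G) (g : G)
    (h : (charDegree (χ : G → ℂ) : ℝ) ≤ ((χ : G → ℂ) g).re) :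
    (χ : G → ℂ) g = (χ : G → ℂ) 1 := by
  have h1 := h39_irr_norm_le χ g
  have h2 : ((χ : G → ℂ) g).re ≤ ‖(χ : G → ℂ) g‖ := Complex.re_le_norm _
  have h3 : ((χ : G → ℂ) g).re = ‖(χ : G → ℂ) g‖ := le_antisymm h2 (h1.trans h)
  have h4 : ‖(χ : G → ℂ) g‖ = (charDegree (χ : G → ℂ) : ℝ) := le_antisymm h1 (h.trans h2)
  have h5 := Complex.eq_coe_norm_of_nonneg (Complex.re_eq_norm.mp h3)
  rw [irr_one_eq_charDegree, h5, h4]
  simp

/-- The sum of a character over the (internal direct) product of two commuting subgroups with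
trivial intersection is the order of the product times a natural number. -/
theorem h39_sum_prod_char {G : Type u} [Group G] [Finite G] {χ : G → ℂ} (hχ : IsCharacter G χ)
    (A B : Subgroup G) [Fintype A] [Fintype B]
    (hcomm : ∀ a ∈ A, ∀ b ∈ B, a * b = b * a) (hdisj : A ⊓ B = ⊥) :
    ∃ m : ℕ, ∑ a : A, ∑ b : B, χ ((a : G) * (b : G)) =
      ((Nat.card A * Nat.card B : ℕ) : ℂ) * m := by
  classical
  let φ : A × B →* G := MonoidHom.noncommCoprod A.subtype B.subtype
    (fun a b => hcomm a a.2 b b.2)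
  have hinj : Function.Injective φ := by
    rw [injective_iff_map_eq_one]
    rintro ⟨a, b⟩ h
    have h1 : (a : G) * (b : G) = 1 := h
    have h2 : (a : G) = (b : G)⁻¹ := eq_inv_of_mul_eq_one_left h1
    have h3 : (a : G) ∈ A ⊓ B := ⟨a.2, by rw [h2]; exact B.inv_mem b.2⟩
    rw [hdisj, Subgroup.mem_bot] at h3
    have h4 : (b : G) = 1 := by rw [h3, one_mul] at h1; exact h1
    exact Prod.ext (Subtype.ext h3) (Subtype.ext h4)
  have := Fintype.ofFinite φ.range
  obtain ⟨m, hm⟩ := sum_subgroup_char hχ φ.range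
  refine ⟨m, ?_⟩
  have h1 : ∑ u : φ.range, χ (u : G) = ∑ q : A × B, χ (φ q) := by
    rw [← Equiv.sum_comp (MonoidHom.ofInjective hinj).toEquiv]
    rfl
  have h2 : Nat.card φ.range = Nat.card A * Nat.card B := by
    rw [← Nat.card_congr (MonoidHom.ofInjective hinj).toEquiv, Nat.card_prod]
  rw [← Fintype.sum_prod_type' (fun (a : A) (b : B) => χ ((a : G) * (b : G)))]
  rw [h1, h2] at hm
  exact hm

section pieces

variable {G : Type u} [Group G] [Fintype G] {p : ℕ} [Fact p.Prime] {P : Sylow p G} {e n : ℕ}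

/-- Under the hypotheses of VK, a `p`-regular element of `C_G(P)` is trivial. -/
theorem h39_cent_regular_eq_one (D : Data0 G p P e) (hP : Nat.card P = p)
    (hcore : Cfsg.pPrimeCore p G = ⊥)
    (χ : IrrCharacter G) (hχ : χ ∈ D.X) (hδ : D.δ χ = -1)
    (hdeg : charDegree (χ : G → ℂ) = p - 1) (y : G)
    (hy : y ∈ Subgroup.centralizer ((P : Subgroup G) : Set G)) (hyp : ¬ p ∣ orderOf y) :
    y = 1 := by
  classical
  have hp : p.Prime := Fact.out
  have hcard : Nat.card ↥(P : Subgroup G) = p := hP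
  have hone : ¬ p ∣ orderOf (1 : G) := by
    rw [orderOf_one]
    exact fun hd => hp.one_lt.ne' (Nat.dvd_one.mp hd)
  have hd1 : (charDegree (χ : G → ℂ) : ℝ) = (p : ℝ) - 1 := by
    rw [hdeg, Nat.cast_sub hp.one_lt.le, Nat.cast_one]
  have hχ1 : (χ : G → ℂ) 1 = (p : ℂ) - 1 := by
    rw [irr_one_eq_charDegree, hdeg, Nat.cast_sub hp.one_lt.le, Nat.cast_one]
  -- the kernel of `χ` is trivial
  have hK : ∀ k : G, (χ : G → ℂ) k = (χ : G → ℂ) 1 → k = 1 := by
    have hcop : (Nat.card (charKer (χ : G → ℂ) (irr_isCharacter χ))).Coprime p := by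
      apply Nat.Coprime.symm
      rw [Nat.Prime.coprime_iff_not_dvd hp]
      intro hdvd
      obtain ⟨k, hk⟩ := exists_prime_orderOf_dvd_card' p hdvd
      have hk' : orderOf (k : G) = p := by rw [Subgroup.orderOf_coe]; exact hk
      have hpg : IsPGroup p (Subgroup.zpowers (k : G)) :=
        IsPGroup.of_card (n := 1) (by rw [Nat.card_zpowers, hk', pow_one])
      obtain ⟨Q, hQ⟩ := hpg.exists_le_sylow
      obtain ⟨g, hg⟩ := MulAction.exists_smul_eq G Q P
      have hx : g * (k : G) * g⁻¹ ∈ (P : Subgroup G) := by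
        rw [← hg, Sylow.coe_subgroup_smul]
        have := Subgroup.smul_mem_pointwise_smul (k : G) (MulAut.conj g) (Q : Subgroup G)
          (hQ (Subgroup.mem_zpowers _))
        rwa [MulAut.smul_def, MulAut.conj_apply] at this
      have hx1 : g * (k : G) * g⁻¹ ≠ 1 := by
        intro h
        have hk1 : (k : G) = 1 := by
          have : (k : G) = g⁻¹ * (g * (k : G) * g⁻¹) * g := by group
          rw [this, h]; group
        rw [hk1, orderOf_one] at hk'
        exact hp.one_lt.ne hk'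
      have hxK : g * (k : G) * g⁻¹ ∈ charKer (χ : G → ℂ) (irr_isCharacter χ) :=
        (charKer_normal (χ : G → ℂ) (irr_isCharacter χ)).conj_mem _ k.2 g
      rw [mem_charKer] at hxK
      have hv := D.val_X χ hχ _ hx hx1 1 (Subgroup.one_mem _) hone
      rw [mul_one, hxK, hχ1, hδ] at hv
      have h0 : (p : ℂ) = 0 := by
        have : (p : ℂ) - 1 = -1 := by rw [hv]; push_cast; ring
        linear_combination this
      exact hp.ne_zero (by exact_mod_cast h0)
    intro k hk
    have hle : charKer (χ : G → ℂ) (irr_isCharacter χ) ≤ Cfsg.pPrimeCore p G :=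
      le_sSup ⟨charKer_normal _ _, hcop⟩
    rw [hcore] at hle
    exact Subgroup.mem_bot.mp (hle ((mem_charKer _ _ k).mpr hk))
  apply hK
  apply h39_irr_eq_of_le_re
  rw [hd1]
  by_contra hlt
  rw [not_le] at hlt
  -- the two commuting subgroups
  have hyc : ∀ a ∈ (P : Subgroup G), a * y = y * a := fun a ha =>
    Subgroup.mem_centralizer_iff.mp hy a ha
  have hcomm : ∀ a ∈ (P : Subgroup G), ∀ b ∈ Subgroup.zpowers y, a * b = b * a := by
    intro a ha b hb
    obtain ⟨k, rfl⟩ := Subgroup.mem_zpowers_iff.mp hb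
    exact (Commute.zpow_right (show Commute a y from hyc a ha) k).eq
  have hbreg : ∀ b ∈ Subgroup.zpowers y, ¬ p ∣ orderOf b := fun b hb hd =>
    hyp (hd.trans (orderOf_dvd_of_mem_zpowers hb))
  have hdisj : (P : Subgroup G) ⊓ Subgroup.zpowers y = ⊥ := by
    rw [eq_bot_iff]
    intro g hg
    rw [Subgroup.mem_bot]
    have h1 : orderOf g ∣ p := by
      have := orderOf_dvd_natCard (⟨g, hg.1⟩ : ↥(P : Subgroup G))
      rwa [hcard, Subgroup.orderOf_mk] at this
    rcases (Nat.dvd_prime hp).mp h1 with h | h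
    · exact orderOf_eq_one_iff.mp h
    · exact absurd (h ▸ dvd_refl _) (hbreg g hg.2)
  have : Fintype ↥(P : Subgroup G) := Fintype.ofFinite _
  have : Fintype ↥(Subgroup.zpowers y) := Fintype.ofFinite _
  obtain ⟨m, hm⟩ := h39_sum_prod_char (irr_isCharacter χ) (P : Subgroup G) (Subgroup.zpowers y)
    hcomm hdisj
  -- real parts
  have hre : (0 : ℝ) ≤ ∑ a : ↥(P : Subgroup G), ∑ b : ↥(Subgroup.zpowers y),
      ((χ : G → ℂ) ((a : G) * (b : G))).re := by
    have h1 := congrArg Complex.re hm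
    rw [Complex.re_sum] at h1
    simp only [Complex.re_sum] at h1
    rw [h1]
    have : (((Nat.card ↥(P : Subgroup G) * Nat.card ↥(Subgroup.zpowers y) : ℕ) : ℂ) * (m : ℂ))
        = (((Nat.card ↥(P : Subgroup G) * Nat.card ↥(Subgroup.zpowers y) * m : ℕ) : ℝ) : ℂ) := by
      push_cast; ring
    rw [this, Complex.ofReal_re]
    exact Nat.cast_nonneg _
  have hcB : (Fintype.card ↥(Subgroup.zpowers y) : ℝ) = (Nat.card ↥(Subgroup.zpowers y) : ℝ) := by
    rw [Nat.card_eq_fintype_card]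
  have hBpos : (0 : ℝ) < (Nat.card ↥(Subgroup.zpowers y) : ℝ) := by
    exact_mod_cast Nat.card_pos
  -- the terms with `a ≠ 1`
  have hne : ∀ a ∈ (Finset.univ : Finset ↥(P : Subgroup G)).erase 1,
      ∑ b : ↥(Subgroup.zpowers y), ((χ : G → ℂ) ((a : G) * (b : G))).re =
        -(Nat.card ↥(Subgroup.zpowers y) : ℝ) := by
    intro a ha
    have ha1 : (a : G) ≠ 1 := fun h => (Finset.mem_erase.mp ha).1 (Subtype.ext h)
    have : ∀ b : ↥(Subgroup.zpowers y), ((χ : G → ℂ) ((a : G) * (b : G))).re = -1 := by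
      intro b
      have hv := D.val_X χ hχ (a : G) a.2 ha1 (b : G)
        (Subgroup.zpowers_le.mpr hy b.2) (hbreg b b.2)
      rw [hv, hδ]
      simp
    rw [Finset.sum_congr rfl (fun b _ => this b), Finset.sum_const, Finset.card_univ,
      nsmul_eq_mul, hcB]
    ring
  -- the term with `a = 1`
  have h1 : ∑ b : ↥(Subgroup.zpowers y), ((χ : G → ℂ) (((1 : ↥(P : Subgroup G)) : G) * (b : G))).re
      < (Nat.card ↥(Subgroup.zpowers y) : ℝ) * ((p : ℝ) - 1) := by
    have hlt' : ∑ b : ↥(Subgroup.zpowers y),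
        ((χ : G → ℂ) (((1 : ↥(P : Subgroup G)) : G) * (b : G))).re
        < ∑ _b : ↥(Subgroup.zpowers y), ((p : ℝ) - 1) := by
      apply Finset.sum_lt_sum
      · intro b _
        rw [Subgroup.coe_one, one_mul, ← hd1]
        exact (Complex.re_le_norm _).trans (h39_irr_norm_le χ (b : G))
      · refine ⟨⟨y, Subgroup.mem_zpowers y⟩, Finset.mem_univ _, ?_⟩
        rw [Subgroup.coe_one, one_mul]
        exact hlt
    rw [Finset.sum_const, Finset.card_univ, nsmul_eq_mul, hcB] at hlt'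
    exact hlt'
  have hsplit := Finset.add_sum_erase (Finset.univ : Finset ↥(P : Subgroup G))
    (fun a => ∑ b : ↥(Subgroup.zpowers y), ((χ : G → ℂ) ((a : G) * (b : G))).re)
    (Finset.mem_univ (1 : ↥(P : Subgroup G)))
  rw [Finset.sum_congr rfl hne, Finset.sum_const, Finset.card_erase_of_mem (Finset.mem_univ _),
    Finset.card_univ, ← Nat.card_eq_fintype_card, hcard, nsmul_eq_mul,
    Nat.cast_sub hp.one_lt.le, Nat.cast_one] at hsplit
  rw [← hsplit] at hre
  nlinarith

/-- VK : a character of `X` of degree `p - 1` and sign `-1` forces `C_G(P) = P`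
when `O_{p'}(G) = 1`. -/
theorem cent_eq (D : Data0 G p P e) (hP : Nat.card P = p) (hcore : Cfsg.pPrimeCore p G = ⊥)
    (χ : IrrCharacter G) (hχ : χ ∈ D.X) (hδ : D.δ χ = -1)
    (hdeg : charDegree (χ : G → ℂ) = p - 1) :
    Subgroup.centralizer ((P : Subgroup G) : Set G) = (P : Subgroup G) := by
  classical
  have hp : p.Prime := Fact.out
  have hcard : Nat.card ↥(P : Subgroup G) = p := hP
  have hcyc : IsCyclic ↥(P : Subgroup G) := isCyclic_of_prime_card hcard
  have hcommP : ∀ a b : ↥(P : Subgroup G), a * b = b * a := by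
    obtain ⟨g, hg⟩ := IsCyclic.exists_generator (α := ↥(P : Subgroup G))
    intro a b
    obtain ⟨i, rfl⟩ := Subgroup.mem_zpowers_iff.mp (hg a)
    obtain ⟨j, rfl⟩ := Subgroup.mem_zpowers_iff.mp (hg b)
    exact zpow_mul_comm g i j
  have hPC : (P : Subgroup G) ≤ Subgroup.centralizer ((P : Subgroup G) : Set G) := by
    intro x hx
    rw [Subgroup.mem_centralizer_iff]
    intro h hh
    exact congrArg Subtype.val (hcommP ⟨h, hh⟩ ⟨x, hx⟩)
  have hpg : IsPGroup p ↥(Subgroup.centralizer ((P : Subgroup G) : Set G)) := by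
    intro c
    have ho : orderOf (c : G) ≠ 0 := (orderOf_pos (c : G)).ne'
    obtain ⟨a, m, hm, hom⟩ := Nat.exists_eq_pow_mul_and_not_dvd ho p hp.ne_one
    refine ⟨a, ?_⟩
    have hpa : p ^ a ≠ 0 := pow_ne_zero _ hp.ne_zero
    have hord : orderOf ((c : G) ^ p ^ a) = m := by
      rw [orderOf_pow' _ hpa, hom, Nat.gcd_eq_right (dvd_mul_right _ _),
        Nat.mul_div_cancel_left _ (Nat.pos_of_ne_zero hpa)]
    have h1 := h39_cent_regular_eq_one D hP hcore χ hχ hδ hdeg ((c : G) ^ p ^ a)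
      (Subgroup.pow_mem _ c.2 _) (by rw [hord]; exact hm)
    apply Subtype.ext
    rw [Subgroup.coe_pow, h1]
    rfl
  exact P.3 hpg hPC

end pieces

end Cfsg.Agent.Lib.helper39.BR
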