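import Mathlib
import Cfsg.Agent.Lib.helper62.FrobExtract
import Cfsg.Agent.Lib.helper62.FrobSolvA
import Cfsg.Agent.Lib.helper62.LinRegQ8A

/-!
# S3359 piece B (for helper14): from a fixed-point-free module to the S0690 hypothesis
-/

set_option autoImplicit false

namespace Cfsg.Agent.Lib.helper39

open Cfsg.Agent.Lib.helper62.FrobExtract

universe u v

/-- PIECE B -/
theorem zass_bridge
    (hZ : ∀ (K : Type v) [Group K] [Finite K] (G : Subgroup (MulAut K)),
      (∀ φ ∈ G, φ ≠ 1 → ∀ k : K, φ k = k → k = 1) → commutator G = ⊤ → G ≠ ⊥ →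
      Nonempty (G ≃* (Matrix.SpecialLinearGroup (Fin 2) (ZMod 5))))
    {S : Type u} [Group S] [Finite S] (h : HasFpfMod.{u, v} S) (hperf : commutator S = ⊤)
    (hnt : Nontrivial S) : Nonempty (S ≃* (Matrix.SpecialLinearGroup (Fin 2) (ZMod 5))) := by
  obtain ⟨p, hp, V, i1, i2, hpS, hfin, hntV, hpV, hfpf⟩ := h
  let ψ : S →* MulAut (Multiplicative V) :=
    (MulAutMultiplicative V).symm.toMonoidHom.comp (DistribMulAction.toAddAut S V)
  have hψ : ∀ (s : S) (k : Multiplicative V), ψ s k = Multiplicative.ofAdd (s • Multiplicative.toAdd k) :=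
    fun s k => rfl
  have hinj : Function.Injective ψ := by
    rw [injective_iff_map_eq_one]
    intro s hs
    by_contra hs1
    obtain ⟨x, hx⟩ := exists_ne (0 : V)
    apply hx
    apply hfpf s hs1 x
    have h1 := hψ s (Multiplicative.ofAdd x)
    rw [hs] at h1
    exact (congrArg Multiplicative.toAdd h1).symm
  let e : S ≃* ψ.range := MonoidHom.ofInjective hinj
  have hfix : ∀ φ ∈ ψ.range, φ ≠ 1 → ∀ k : Multiplicative V, φ k = k → k = 1 := by
    rintro φ ⟨s, rfl⟩ hne k hk
    have hs1 : s ≠ 1 := by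
      rintro rfl
      exact hne (map_one ψ)
    rw [hψ] at hk
    have h1 : s • Multiplicative.toAdd k = Multiplicative.toAdd k := congrArg Multiplicative.toAdd hk
    have h2 := hfpf s hs1 _ h1
    exact congrArg Multiplicative.ofAdd h2
  have hcomm : commutator ψ.range = ⊤ := by
    have h1 : Subgroup.map e.toMonoidHom (⊤ : Subgroup S) = ⊤ :=
      Subgroup.map_top_of_surjective _ e.surjective
    rw [commutator_def, ← h1, ← Subgroup.map_commutator, ← commutator_def, hperf]
  have hne : ψ.range ≠ ⊥ := by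
    intro hbot
    obtain ⟨s, hs⟩ := exists_ne (1 : S)
    apply hs
    apply hinj
    rw [map_one]
    have h1 : ψ s ∈ ψ.range := ⟨s, rfl⟩
    rw [hbot] at h1
    exact Subgroup.mem_bot.mp h1
  obtain ⟨e2⟩ := hZ (Multiplicative V) ψ.range hfix hcomm hne
  exact ⟨e.trans e2⟩

end Cfsg.Agent.Lib.helper39
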