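import Mathlib

set_option autoImplicit false

namespace Cfsg.Agent.Lib.helper39.S3174

/-- FP -/
theorem exists_fixed_mod {T : Type*} [Group T] [Finite T] (hT : IsPGroup 2 T) (N M : Subgroup T) [N.Normal] [M.Normal]
    (hNM : N < M) : ∃ v ∈ M, v ∉ N ∧ ∀ τ : T, v * τ * v⁻¹ * τ⁻¹ ∈ N := by
  classical
  have : Fact (Nat.Prime 2) := ⟨Nat.prime_two⟩
  have hnil : Group.IsNilpotent T := hT.isNilpotent
  obtain ⟨c, hc⟩ := Subgroup.nilpotent_iff_lowerCentralSeries.mp hnil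
  have hex : ∃ i, M ⊓ (⊤ : Subgroup T).lowerCentralSeries i ≤ N := ⟨c, by rw [hc, inf_bot_eq]; exact bot_le⟩
  have h0 : ¬ (M ⊓ (⊤ : Subgroup T).lowerCentralSeries 0 ≤ N) := by
    rw [Subgroup.lowerCentralSeries_zero, inf_top_eq]
    exact not_le_of_gt hNM
  have hpos : Nat.find hex ≠ 0 := by
    intro h
    have h1 := Nat.find_spec hex
    rw [h] at h1
    exact h0 h1
  obtain ⟨j, hj⟩ := Nat.exists_eq_succ_of_ne_zero hpos
  have hjn : ¬ (M ⊓ (⊤ : Subgroup T).lowerCentralSeries j ≤ N) := Nat.find_min hex (by omega)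
  have hj1 : M ⊓ (⊤ : Subgroup T).lowerCentralSeries (j + 1) ≤ N := by
    have h1 := Nat.find_spec hex
    rw [hj] at h1
    exact h1
  obtain ⟨v, hv, hvN⟩ := SetLike.not_le_iff_exists.mp hjn
  have hvM : v ∈ M := (Subgroup.mem_inf.mp hv).1
  have hvL : v ∈ (⊤ : Subgroup T).lowerCentralSeries j := (Subgroup.mem_inf.mp hv).2
  refine ⟨v, hvM, hvN, fun τ => hj1 (Subgroup.mem_inf.mpr ⟨?_, ?_⟩)⟩
  · have h1 : τ * v⁻¹ * τ⁻¹ ∈ M := ‹M.Normal›.conj_mem _ (M.inv_mem hvM) τ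
    have h2 := M.mul_mem hvM h1
    have e : v * (τ * v⁻¹ * τ⁻¹) = v * τ * v⁻¹ * τ⁻¹ := by group
    rw [e] at h2
    exact h2
  · rw [Subgroup.lowerCentralSeries_succ]
    exact Subgroup.commutator_mem_commutator hvL (Subgroup.mem_top τ)

end Cfsg.Agent.Lib.helper39.S3174
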