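import Mathlib

set_option autoImplicit false

namespace Cfsg.Agent.Lib.helper39.S3174

/-- HYP -/
theorem exists_index_two_avoiding {T : Type*} [Group T] [Finite T] (X N : Subgroup T) (hNX : N ≤ X)
    (hsq : ∀ x ∈ X, x ^ 2 ∈ N) (hcomm : ∀ x ∈ X, ∀ y ∈ X, x * y * x⁻¹ * y⁻¹ ∈ N) (v : T) (hvX : v ∈ X) (hvN : v ∉ N) :
    ∃ K : Subgroup T, N ≤ K ∧ K ≤ X ∧ v ∉ K ∧ Nat.card ↥X = 2 * Nat.card ↥K := by
  classical
  obtain ⟨K, hKU, hKmax⟩ := (wellFounded_gt :
    WellFounded ((· > ·) : Subgroup T → Subgroup T → Prop)).has_min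
    {K : Subgroup T | N ≤ K ∧ K ≤ X ∧ v ∉ K} ⟨N, le_rfl, hNX, hvN⟩
  obtain ⟨hNK, hKX, hvK⟩ := hKU
  have n1 : ∀ k ∈ K, ∀ y ∈ X, y * k * y⁻¹ ∈ K := by
    intro k hk y hy
    have h1 := hNK (hcomm y hy k (hKX hk))
    have h2 := K.mul_mem h1 hk
    have e : y * k * y⁻¹ * k⁻¹ * k = y * k * y⁻¹ := by group
    rw [e] at h2
    exact h2
  have key : ∀ x ∈ X, x ∉ K → x * v ∈ K := by
    intro x hx hxK
    have hxx : x * x ∈ K := by
      have h1 := hNK (hsq x hx)
      rwa [pow_two] at h1
    obtain ⟨K', hK'⟩ : ∃ K' : Subgroup T, ∀ y, y ∈ K' ↔ (y ∈ K ∨ y * x ∈ K) := by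
      refine ⟨{ carrier := {y | y ∈ K ∨ y * x ∈ K}
                one_mem' := Or.inl K.one_mem
                mul_mem' := ?_
                inv_mem' := ?_ }, fun y => Iff.rfl⟩
      · rintro a b (ha | ha) (hb | hb)
        · exact Or.inl (K.mul_mem ha hb)
        · right
          have h2 := K.mul_mem ha hb
          have e : a * (b * x) = a * b * x := by group
          rw [e] at h2
          exact h2
        · right
          have h1 := n1 b hb x⁻¹ (X.inv_mem hx)
          have h2 := K.mul_mem ha h1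
          have e : a * x * (x⁻¹ * b * x⁻¹⁻¹) = a * b * x := by group
          rw [e] at h2
          exact h2
        · left
          have h1 := n1 (b * x) hb x⁻¹ (X.inv_mem hx)
          have h2 := K.mul_mem (K.mul_mem ha h1) (K.inv_mem hxx)
          have e : a * x * (x⁻¹ * (b * x) * x⁻¹⁻¹) * (x * x)⁻¹ = a * b := by group
          rw [e] at h2
          exact h2
      · rintro a (ha | ha)
        · exact Or.inl (K.inv_mem ha)
        · right
          have h1 := n1 (a * x)⁻¹ (K.inv_mem ha) x hx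
          have h2 := K.mul_mem h1 hxx
          have e : x * (a * x)⁻¹ * x⁻¹ * (x * x) = a⁻¹ * x := by group
          rw [e] at h2
          exact h2
    have hKK' : K < K' := by
      refine lt_of_le_of_ne (fun y hy => (hK' y).mpr (Or.inl hy)) ?_
      intro heq
      apply hxK
      have h1 : x ∈ K' := (hK' x).mpr (Or.inr hxx)
      rw [← heq] at h1
      exact h1
    have hK'X : K' ≤ X := by
      intro y hy
      rcases (hK' y).mp hy with h | h
      · exact hKX h
      · have h1 := X.mul_mem (hKX h) (X.inv_mem hx)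
        have e : y * x * x⁻¹ = y := by group
        rw [e] at h1
        exact h1
    have hvK' : v ∈ K' := by
      by_contra hv'
      exact hKmax K' ⟨hNK.trans hKK'.le, hK'X, hv'⟩ hKK'
    rcases (hK' v).mp hvK' with h | h
    · exact absurd h hvK
    · have h1 := n1 _ h x hx
      have e : x * (v * x) * x⁻¹ = x * v := by group
      rw [e] at h1
      exact h1
  refine ⟨K, hNK, hKX, hvK, ?_⟩
  have hidx : (K.subgroupOf X).index = 2 := by
    rw [Subgroup.index_eq_two_iff]
    refine ⟨⟨v, hvX⟩, fun b => ?_⟩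
    by_cases hb : (b : T) ∈ K
    · right
      refine ⟨Subgroup.mem_subgroupOf.mpr hb, ?_⟩
      intro hbv
      have hbv' : (b : T) * v ∈ K := Subgroup.mem_subgroupOf.mp hbv
      apply hvK
      have h1 := K.mul_mem (K.inv_mem hb) hbv'
      have e : (b : T)⁻¹ * ((b : T) * v) = v := by group
      rw [e] at h1
      exact h1
    · left
      refine ⟨Subgroup.mem_subgroupOf.mpr (key b b.2 hb), ?_⟩
      intro hb'
      exact hb (Subgroup.mem_subgroupOf.mp hb')
  have h1 := Subgroup.card_mul_index (K.subgroupOf X)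
  rw [hidx] at h1
  have h2 : Nat.card (K.subgroupOf X) = Nat.card K :=
    Nat.card_congr (Subgroup.subgroupOfEquivOfLe hKX).toEquiv
  rw [h2] at h1
  omega

end Cfsg.Agent.Lib.helper39.S3174
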