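import Mathlib
import Cfsg.Agent.Lib.helper69.SNDefs

/-!
# S4073, piece E1-A (helper39): fusion of central elements of a non-abelian Sylow 2-subgroup
-/

set_option autoImplicit false

namespace Cfsg.Agent.Lib.helper39.SNG

open Cfsg.Agent.Lib.helper69.SNG

universe u

/-- **[E1-A]** -/
theorem sn_sylow2_fusion_center {G : Type u} [Group G] [Finite G] (h : SN G) (S : Sylow 2 G)
    (hS : ¬ IsMulCommutative S) (z : G) (hzS : z ∈ S)
    (hz : z ∈ Subgroup.centralizer ((S : Subgroup G) : Set G)) (g : G)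
    (hgS : g * z * g⁻¹ ∈ S)
    (hg : g * z * g⁻¹ ∈ Subgroup.centralizer ((S : Subgroup G) : Set G)) :
    g * z * g⁻¹ = z := by
  have : Fact (Nat.Prime 2) := ⟨Nat.prime_two⟩
  set L : Subgroup G := Subgroup.centralizer ({g * z * g⁻¹} : Set G) with hL
  have hmemL : ∀ x : G, x ∈ L ↔ (g * z * g⁻¹) * x = x * (g * z * g⁻¹) := by
    intro x
    rw [hL, Subgroup.mem_centralizer_iff]
    constructor
    · intro hx
      exact hx _ (Set.mem_singleton _)
    · intro hx y hy
      rw [Set.mem_singleton_iff] at hy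
      rw [hy]
      exact hx
  have hzc : ∀ s ∈ (S : Subgroup G), s * z = z * s := by
    intro s hs
    exact (Subgroup.mem_centralizer_iff.mp hz) s hs
  have hgc : ∀ s ∈ (S : Subgroup G), s * (g * z * g⁻¹) = (g * z * g⁻¹) * s := by
    intro s hs
    exact (Subgroup.mem_centralizer_iff.mp hg) s hs
  have hSL : (S : Subgroup G) ≤ L := by
    intro s hs
    rw [hmemL]
    exact (hgc s hs).symm
  have hS'L : ((g • S : Sylow 2 G) : Subgroup G) ≤ L := by
    intro x hx
    rw [Sylow.smul_def, Sylow.pointwise_smul_def,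
      Subgroup.mem_pointwise_smul_iff_inv_smul_mem] at hx
    have hx' : g⁻¹ * x * g ∈ (S : Subgroup G) := by
      simpa [MulAut.smul_def] using hx
    rw [hmemL]
    have h1 := hzc _ hx'
    have hx2 : x = g * (g⁻¹ * x * g) * g⁻¹ := by group
    rw [hx2]
    calc g * z * g⁻¹ * (g * (g⁻¹ * x * g) * g⁻¹) = g * (z * (g⁻¹ * x * g)) * g⁻¹ := by group
      _ = g * ((g⁻¹ * x * g) * z) * g⁻¹ := by rw [h1]
      _ = g * (g⁻¹ * x * g) * g⁻¹ * (g * z * g⁻¹) := by group
  obtain ⟨c, hc⟩ := MulAction.exists_smul_eq L ((g • S : Sylow 2 G).subtype hS'L) (S.subtype hSL)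
  rw [Sylow.smul_subtype] at hc
  have hc2 : c • (g • S : Sylow 2 G) = S := Sylow.subtype_injective hc
  have hc3 : ((c : G) * g) • S = S := by
    rw [mul_smul]
    exact hc2
  have hnorm : (c : G) * g ∈ Subgroup.normalizer ((S : Subgroup G) : Set G) :=
    Sylow.smul_eq_iff_mem_normalizer.mp hc3
  rw [h (S : Subgroup G) hS] at hnorm
  have h1 := hzc _ hnorm
  have hcL := (hmemL (c : G)).mp c.2
  -- (c g) z = z (c g), and c commutes with g z g⁻¹
  have h2 : (c : G) * (g * z * g⁻¹) = z * (c : G) := by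
    calc (c : G) * (g * z * g⁻¹) = ((c : G) * g * z) * g⁻¹ := by group
      _ = (z * ((c : G) * g)) * g⁻¹ := by rw [h1]
      _ = z * (c : G) := by group
  have h3 : (g * z * g⁻¹) * (c : G) = z * (c : G) := by rw [hcL, h2]
  exact mul_right_cancel h3

end Cfsg.Agent.Lib.helper39.SNG
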