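import Mathlib
import Cfsg.Prelude.Def_FusionSystem
import Cfsg.Agent.Lib.helper90.FusIsoC
import Cfsg.Agent.S5093

/-!
Piece RS-D1 of S5156: the hyperfocal subgroup theorem for a fusion system realized by a finite
group on a Sylow subgroup (transport of S5093 along the realizing homomorphism).
-/

set_option autoImplicit false

namespace Cfsg.Agent.Lib.helper39.RS

open Cfsg Cfsg.FusionSystem Cfsg.Agent.Lib.helper90

/-- The isomorphism of `S` onto a subgroup `T` equal to the range of the injective `ι`. -/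
noncomputable def realEquiv {Ω : Type*} [Group Ω] {S : Subgroup Ω} {H : Type*} [Group H]
    (ι : S →* H) (hinj : Function.Injective ι) (T : Subgroup H) (hT : T = ι.range) : S ≃* T :=
  (MonoidHom.ofInjective hinj).trans (MulEquiv.subgroupCongr hT.symm)

theorem realEquiv_coe {Ω : Type*} [Group Ω] {S : Subgroup Ω} {H : Type*} [Group H]
    (ι : S →* H) (hinj : Function.Injective ι) (T : Subgroup H) (hT : T = ι.range) (x : S) :
    ((realEquiv ι hinj T hT x : T) : H) = ι x := rfl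

/-- A system realized by `ι` corresponds, along `ι`, to the group fusion system on the range. -/
theorem sysCorr_of_realized {Ω : Type*} [Group Ω] {S : Subgroup Ω}
    (E : Cfsg.FusionSystem S) {H : Type*} [Group H] (ι : S →* H) (hR : E.IsRealizedBy ι)
    (T : Subgroup H) (hT : T = ι.range) :
    SysCorr (realEquiv ι hR.1 T hT) E (Cfsg.groupFusionSystem T) := by
  have hS : SubCorr (realEquiv ι hR.1 T hT) S T :=
    ⟨le_rfl, le_rfl, fun x => ⟨fun _ => (realEquiv ι hR.1 T hT x).2, fun _ => x.2⟩⟩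
  refine ⟨hS, ?_, ?_⟩
  · intro P φ hφ P' φ' hc
    have hle := E.le_of_mem hφ
    obtain ⟨g, hg⟩ := (hR.2 P hle.1 φ hle.2).1 hφ
    have key : ∀ x' : P', ∃ (x : S) (hx : (x : Ω) ∈ P) (y : S),
        ((realEquiv ι hR.1 T hT x : T) : H) = (x' : H) ∧ φ ⟨x, hx⟩ = (y : Ω) ∧
          φ' x' = ((realEquiv ι hR.1 T hT y : T) : H) := by
      intro x'
      have hx'T : (x' : H) ∈ T := hc.1.2.1 x'.2
      have hx : (((realEquiv ι hR.1 T hT).symm ⟨x', hx'T⟩ : S) : Ω) ∈ P :=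
        (hc.1.mem_symm ⟨x', hx'T⟩).1 x'.2
      have he : realEquiv ι hR.1 T hT ((realEquiv ι hR.1 T hT).symm ⟨x', hx'T⟩) = ⟨x', hx'T⟩ :=
        (realEquiv ι hR.1 T hT).apply_symm_apply _
      have hx'' : ((realEquiv ι hR.1 T hT ((realEquiv ι hR.1 T hT).symm ⟨x', hx'T⟩) : T) : H)
          ∈ P' := by
        rw [he]
        exact x'.2
      obtain ⟨y, hy1, hy2⟩ := hc.2 ((realEquiv ι hR.1 T hT).symm ⟨x', hx'T⟩) hx hx''
      refine ⟨(realEquiv ι hR.1 T hT).symm ⟨x', hx'T⟩, hx, y, ?_, hy1, ?_⟩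
      · rw [he]
      · rw [← hy2]
        congr 1
        apply Subtype.ext
        show (x' : H) = ((realEquiv ι hR.1 T hT ((realEquiv ι hR.1 T hT).symm ⟨x', hx'T⟩) : T) : H)
        rw [he]
    refine ⟨hc.1.2.1, fun x' => ?_, g, fun x' => ?_⟩
    · obtain ⟨x, hx, y, -, -, h3⟩ := key x'
      rw [h3]
      exact (realEquiv ι hR.1 T hT y).2
    · obtain ⟨x, hx, y, h1, h2, h3⟩ := key x'
      rw [h3, realEquiv_coe, ← h1, realEquiv_coe]
      have h4 := hg ⟨x, hx⟩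
      have h5 : (⟨φ ⟨x, hx⟩, hle.2 ⟨x, hx⟩⟩ : S) = y := Subtype.ext h2
      rw [h5] at h4
      exact h4
  · intro P' φ' hφ' P φ hc
    obtain ⟨-, -, g, hg⟩ := hφ'
    have hP : P ≤ S := hc.1.1
    have key : ∀ x : P, ∃ (hx' : ((realEquiv ι hR.1 T hT ⟨x, hP x.2⟩ : T) : H) ∈ P') (y : S),
        φ x = (y : Ω) ∧
          φ' ⟨realEquiv ι hR.1 T hT ⟨x, hP x.2⟩, hx'⟩ = ((realEquiv ι hR.1 T hT y : T) : H) := by
      intro x
      have hx' : ((realEquiv ι hR.1 T hT ⟨x, hP x.2⟩ : T) : H) ∈ P' :=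
        (hc.1.2.2 ⟨x, hP x.2⟩).1 x.2
      obtain ⟨y, hy1, hy2⟩ := hc.2 ⟨x, hP x.2⟩ x.2 hx'
      exact ⟨hx', y, hy1, hy2⟩
    have hφS : ∀ x : P, φ x ∈ S := by
      intro x
      obtain ⟨-, y, hy1, -⟩ := key x
      rw [hy1]
      exact y.2
    refine (hR.2 P hP φ hφS).2 ⟨g, fun x => ?_⟩
    obtain ⟨hx', y, hy1, hy2⟩ := key x
    have h5 : (⟨φ x, hφS x⟩ : S) = y := Subtype.ext hy1
    rw [h5, ← realEquiv_coe ι hR.1 T hT y, ← hy2, hg]
    rfl

/-- PIECE RS-D1: the hyperfocal subgroup theorem in realized form. -/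
theorem mem_hyperfocal_iff_of_realized {Ω : Type*} [Group Ω] {S : Subgroup Ω} [Finite S] (p : ℕ)
    [Fact p.Prime] (E : Cfsg.FusionSystem S)
    {H : Type*} [Group H] [Finite H] (ι : S →* H) (hR : E.IsRealizedBy ι)
    (hSyl : ∃ T : Sylow p H, (T : Subgroup H) = ι.range) (x : S) :
    (x : Ω) ∈ E.hyperfocalSubgroup p ↔ ι x ∈ Cfsg.pResidual p H := by
  obtain ⟨T, hT⟩ := hSyl
  have hX := sysCorr_of_realized E ι hR (T : Subgroup H) hT
  have h1 := (hX.hyperfocal p).2.2 x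
  rw [h1, realEquiv_coe, Cfsg.Agent.S5093.result p T, Subgroup.mem_inf]
  constructor
  · exact fun h => h.2
  · intro h
    refine ⟨?_, h⟩
    rw [hT]
    exact ⟨x, rfl⟩

end Cfsg.Agent.Lib.helper39.RS
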