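import Mathlib
import Cfsg.Prelude.Def_LocalStructure
import Cfsg.Agent.Lib.helper21.BRLDefs

/-!
helper39: S3875 piece E1 (`exists_frobenius`): the Frobenius group `F ⋊ ⟨ζ⟩` of order `p * m`
(`F` the field with `m` elements, `ζ` a unit of order `p`) has a non-normal Sylow `p`-subgroup.
-/

set_option autoImplicit false

namespace Cfsg.Agent.Lib.helper21.BRL

open Cfsg

/-- multiplication by a unit, as an automorphism of the additive group (written multiplicatively) -/
def h39_mulAut (F : Type*) [Field F] : Fˣ →* MulAut (Multiplicative F) where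
  toFun u :=
    { toFun := fun x => Multiplicative.ofAdd ((u : F) * Multiplicative.toAdd x)
      invFun := fun x => Multiplicative.ofAdd (((u⁻¹ : Fˣ) : F) * Multiplicative.toAdd x)
      left_inv := fun x => by simp
      right_inv := fun x => by simp
      map_mul' := fun x y => by simp [mul_add] }
  map_one' := by ext x; simp
  map_mul' u v := by ext x; simp [mul_assoc]

theorem h39_mulAut_apply (F : Type*) [Field F] (u : Fˣ) (x : Multiplicative F) :
    h39_mulAut F u x = Multiplicative.ofAdd ((u : F) * Multiplicative.toAdd x) := rfl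

/-- E1 -/
theorem exists_frobenius (p : ℕ) [Fact p.Prime] (m : ℕ) (hm : IsPrimePow m) (hm1 : m % p = 1) :
    ∃ (H : Type) (_ : Group H) (_ : Finite H), Nat.card H = p * m ∧ ¬ IsPClosed p H := by
  classical
  have hp : p.Prime := Fact.out
  obtain ⟨r, k, hr, hk, rfl⟩ := (isPrimePow_nat_iff _).1 hm
  have hrF : Fact r.Prime := ⟨hr⟩
  have hF : Nat.card (GaloisField r k) = r ^ k := GaloisField.card r k hk.ne'
  have hpos : 1 ≤ r ^ k := Nat.one_le_pow _ _ hr.pos
  have hU : Nat.card (GaloisField r k)ˣ = r ^ k - 1 := by rw [Nat.card_units, hF]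
  have hpdvd : p ∣ Nat.card (GaloisField r k)ˣ := by
    rw [hU]
    have h1 : (r ^ k - 1) % p = 0 := by
      have h2 : r ^ k = (r ^ k - 1) + 1 := by omega
      have h3 : ((r ^ k - 1) + 1) % p = 1 := by rw [← h2]; exact hm1
      have hp2 : 2 ≤ p := hp.two_le
      have h4 := Nat.add_mod (r ^ k - 1) 1 p
      rw [h3, Nat.mod_eq_of_lt (show 1 < p by omega)] at h4
      have h5 : (r ^ k - 1) % p < p := Nat.mod_lt _ hp.pos
      by_contra hne
      have h6 : ((r ^ k - 1) % p + 1) % p = 1 := h4.symm
      rcases Nat.lt_or_ge ((r ^ k - 1) % p + 1) p with hlt | hge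
      · rw [Nat.mod_eq_of_lt hlt] at h6
        omega
      · have h7 : (r ^ k - 1) % p + 1 = p := by omega
        rw [h7, Nat.mod_self] at h6
        omega
    exact Nat.dvd_of_mod_eq_zero h1
  obtain ⟨ζ, hζ⟩ := exists_prime_orderOf_dvd_card' p hpdvd
  have hζ1 : ζ ≠ 1 := by
    rintro rfl
    rw [orderOf_one] at hζ
    exact hp.one_lt.ne hζ
  let φ : ↥(Subgroup.zpowers ζ) →* MulAut (Multiplicative (GaloisField r k)) :=
    (h39_mulAut (GaloisField r k)).comp (Subgroup.zpowers ζ).subtype
  have hfin : Finite (Multiplicative (GaloisField r k) ⋊[φ] ↥(Subgroup.zpowers ζ)) :=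
    Finite.of_equiv _ SemidirectProduct.equivProd.symm
  have hcard : Nat.card (Multiplicative (GaloisField r k) ⋊[φ] ↥(Subgroup.zpowers ζ)) =
      p * r ^ k := by
    rw [SemidirectProduct.card, Nat.card_zpowers, hζ, mul_comm]
    congr 1
  have hpm : ¬ p ∣ r ^ k := by
    intro hd
    have := Nat.mod_eq_zero_of_dvd hd
    omega
  refine ⟨Multiplicative (GaloisField r k) ⋊[φ] ↥(Subgroup.zpowers ζ), inferInstance, hfin,
    hcard, ?_⟩
  intro hcl
  -- the complement is a Sylow `p`-subgroup
  have hrange : Nat.card (SemidirectProduct.inr (φ := φ)).range =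
      p ^ (Nat.card (Multiplicative (GaloisField r k) ⋊[φ] ↥(Subgroup.zpowers ζ))).factorization p := by
    rw [hcard, Nat.factorization_mul hp.ne_zero (pow_ne_zero _ hr.ne_zero), Finsupp.add_apply,
      hp.factorization_self, Nat.factorization_eq_zero_of_not_dvd hpm, pow_one]
    rw [Nat.card_congr (MonoidHom.ofInjective SemidirectProduct.inr_injective).toEquiv.symm,
      Nat.card_zpowers, hζ]
  have hnorm := hcl (Sylow.ofCard _ hrange)
  rw [Sylow.coe_ofCard] at hnorm
  -- conjugate `inr ζ` by `inl 1`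
  let g : ↥(Subgroup.zpowers ζ) := ⟨ζ, Subgroup.mem_zpowers ζ⟩
  let n₀ : Multiplicative (GaloisField r k) := Multiplicative.ofAdd 1
  have hmem := hnorm.conj_mem (SemidirectProduct.inr g) ⟨g, rfl⟩ (SemidirectProduct.inl n₀)
  obtain ⟨g', hg'⟩ := hmem
  have hgg : g' = g := by
    have := congrArg SemidirectProduct.rightHom hg'
    simpa using this
  rw [hgg] at hg'
  have h0 : (SemidirectProduct.inr g * SemidirectProduct.inl n₀ :
      Multiplicative (GaloisField r k) ⋊[φ] ↥(Subgroup.zpowers ζ)) =
      SemidirectProduct.inl n₀ * SemidirectProduct.inr g := by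
    calc (SemidirectProduct.inr g * SemidirectProduct.inl n₀ :
          Multiplicative (GaloisField r k) ⋊[φ] ↥(Subgroup.zpowers ζ))
        = (SemidirectProduct.inl n₀ * SemidirectProduct.inr g * (SemidirectProduct.inl n₀)⁻¹) *
            SemidirectProduct.inl n₀ := by rw [← hg']
      _ = SemidirectProduct.inl n₀ * SemidirectProduct.inr g := by group
  have h1 : (SemidirectProduct.inr g * SemidirectProduct.inl n₀ * SemidirectProduct.inr g⁻¹ :
      Multiplicative (GaloisField r k) ⋊[φ] ↥(Subgroup.zpowers ζ)) = SemidirectProduct.inl n₀ := by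
    rw [map_inv, h0]; group
  rw [← SemidirectProduct.inl_aut] at h1
  have h2 : φ g n₀ = n₀ := SemidirectProduct.inl_injective h1
  have h3 : φ g n₀ = Multiplicative.ofAdd ((ζ : GaloisField r k) * 1) := rfl
  rw [h3, mul_one] at h2
  have h4 : ((ζ : (GaloisField r k)ˣ) : GaloisField r k) = 1 := Multiplicative.ofAdd.injective h2
  exact hζ1 (Units.ext h4)

end Cfsg.Agent.Lib.helper21.BRL
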