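import Cfsg.Agent.Lib.helper48.LBRefl
import Cfsg.Agent.Lib.helper50.PSUTransfer
import Cfsg.Agent.Lib.helper50.PSUF4
import Cfsg.Agent.Lib.helper48.PSUOut
import Cfsg.Agent.S0283

/-!
# S2687 piece FC-CNT (for helper95)

The number of fixed points of a field automorphism of odd prime order of `PSU_n(q)`, `q = q₀ ^ p`,
divides `|GU_n(q₀)|`.
-/

set_option autoImplicit false

namespace Cfsg.Agent.Lib.helper39.S2687

open Matrix Cfsg
open Cfsg.Agent.Lib.helper50
open Cfsg.Agent.Lib.helper48.LB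
open Cfsg.Agent.Lib.helper48.AbsBal (fixG)
open Cfsg.Agent.Lib.helper99 (suMat)

universe u v

variable {n q : ℕ} {F : Type u} [Field F] [Fintype F]

/-- conjugation is injective on `PSU_n`, `n ≥ 3` (the centre of `PSU_n` is trivial) -/
theorem conj_injective_PSU (hF : Fintype.card F = q ^ 2) (hn : 3 ≤ n) :
    Function.Injective (MulAut.conj : PSU n F q →* MulAut (PSU n F q)) := by
  rw [injective_iff_map_eq_one]
  intro k hk
  induction k using QuotientGroup.induction_on with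
  | H t =>
    obtain ⟨g, hg⟩ := Cfsg.Agent.Lib.helper17.exists_gu_of_preserves hF n (suMat t)
      (Cfsg.Agent.Lib.helper99.suMat_isIsom t)
    have h1 : MulAut.conj (QuotientGroup.mk t : PSU n F q) = phiPSU g :=
      Cfsg.Agent.Lib.helper50.PSUF.conj_eq_phi' hF t g hg
    rw [h1, phiPSU_eq_one_iff hF hn g, Geo.mem_scalars_iff] at hk
    obtain ⟨μ, hμ⟩ := hk
    rw [QuotientGroup.eq_one_iff, Subgroup.mem_center_iff]
    intro k
    apply Cfsg.Agent.Lib.helper99.suMat_inj
    rw [Cfsg.Agent.Lib.helper99.suMat_mul, Cfsg.Agent.Lib.helper99.suMat_mul]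
    have h2 : suMat t = (μ : F) • (1 : Matrix (Fin n) (Fin n) F) := by
      rw [← hg]; exact hμ
    rw [h2, Matrix.mul_smul, Matrix.smul_mul, Matrix.mul_one, Matrix.one_mul]

/-- FC-CNT -/
theorem card_fix_dvd (hF : Fintype.card F = q ^ 2) (hn : 3 ≤ n) {q₀ p : ℕ} (hp : p.Prime)
    (hp2 : p ≠ 2) (hq₀ : q = q₀ ^ p) (σ : F ≃+* F) (hσ : orderOf σ = p) :
    Nat.card (fixG (fieldPSU σ : MulAut (PSU n F q))) ∣
      q₀ ^ (n * (n - 1) / 2)
        * ∏ i ∈ Finset.range n, (if Even i then q₀ ^ (i + 1) + 1 else q₀ ^ (i + 1) - 1) := by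
  classical
  let _ : Fintype (PSUF.fixF σ) := Fintype.ofFinite _
  obtain ⟨hK₀, -⟩ := PSUF.fixed_data hF hp hp2 hq₀ σ hσ
  have hK₀' : Fintype.card (PSUF.fixF σ) = q₀ ^ 2 := by
    rw [← Nat.card_eq_fintype_card]; exact hK₀
  obtain ⟨e⟩ := PSUF.cent_field_equiv hF hn hp hp2 hq₀ σ hσ (PSUF.fixF σ) hK₀'
  -- the embedding of the fixed points into the centralizer
  have hmem : ∀ k : ↥(fixG (fieldPSU σ : MulAut (PSU n F q))),
      MulAut.conj (k : PSU n F q) ∈ inndiagPSU n F q ⊓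
        Subgroup.centralizer {(fieldPSU σ : MulAut (PSU n F q))} := by
    rintro ⟨k, hk⟩
    rw [Subgroup.mem_inf, Subgroup.mem_centralizer_singleton_iff, inndiagPSU_eq]
    refine ⟨?_, ?_⟩
    · induction k using QuotientGroup.induction_on with
      | H t =>
        obtain ⟨g, hg⟩ := PSUA.conj_eq_phi hF t
        exact ⟨g, hg.symm⟩
    · exact conj_comm_of_fixed (fieldPSU σ) hk
  let φ : ↥(fixG (fieldPSU σ : MulAut (PSU n F q))) →*
      ↥(inndiagPSU n F q ⊓ Subgroup.centralizer {(fieldPSU σ : MulAut (PSU n F q))}) :=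
    { toFun := fun k => ⟨MulAut.conj (k : PSU n F q), hmem k⟩
      map_one' := Subtype.ext (map_one _)
      map_mul' := fun a b => Subtype.ext (map_mul _ _ _) }
  have hφ : Function.Injective φ := by
    intro a b hab
    have h1 : MulAut.conj (a : PSU n F q) = MulAut.conj (b : PSU n F q) := congrArg Subtype.val hab
    exact Subtype.ext (conj_injective_PSU hF hn h1)
  have h1 : Nat.card (fixG (fieldPSU σ : MulAut (PSU n F q))) ∣
      Nat.card ↥(inndiagPSU n F q ⊓ Subgroup.centralizer {(fieldPSU σ : MulAut (PSU n F q))}) :=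
    Subgroup.card_dvd_of_injective φ hφ
  have h2 : Nat.card ↥(inndiagPSU n F q ⊓ Subgroup.centralizer {(fieldPSU σ : MulAut (PSU n F q))})
      = Nat.card (PGU n (PSUF.fixF σ) q₀) := Nat.card_congr e.toEquiv
  have h3 : Nat.card (PGU n (PSUF.fixF σ) q₀) ∣ Nat.card ↥(GU n (PSUF.fixF σ) q₀) :=
    Subgroup.card_quotient_dvd_card _
  have h4 := Cfsg.Agent.Lib.helper7.card_GU hK₀' n
  rw [h2] at h1
  rw [h4] at h3
  exact h1.trans h3

end Cfsg.Agent.Lib.helper39.S2687
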