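import Mathlib
import Cfsg.Agent.Lib.helper24.SfuDefs

/-!
# S5982, piece ORDS: core lemmas (block extension, conjugation of stabilisers)
-/

set_option autoImplicit false

namespace Cfsg.Agent.Lib.helper24

open Module Matrix Cfsg.Geo

/-- The block extension `diag(A, 1)` of a square matrix. -/
def h39_ext {F : Type*} [Field F] {m : ℕ} (A : Matrix (Fin m) (Fin m) F) :
    Matrix (Fin (m + 1)) (Fin (m + 1)) F :=
  Matrix.of fun i j => Fin.lastCases (Fin.lastCases (1 : F) (fun _ => 0) j)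
    (fun i' => Fin.lastCases (0 : F) (fun j' => A i' j') j) i

theorem h39_ext_cc {F : Type*} [Field F] {m : ℕ} (A : Matrix (Fin m) (Fin m) F) (i j : Fin m) :
    h39_ext A (Fin.castSucc i) (Fin.castSucc j) = A i j := by
  simp [h39_ext]

theorem h39_ext_cl {F : Type*} [Field F] {m : ℕ} (A : Matrix (Fin m) (Fin m) F) (i : Fin m) :
    h39_ext A (Fin.castSucc i) (Fin.last m) = 0 := by
  simp [h39_ext]

theorem h39_ext_lc {F : Type*} [Field F] {m : ℕ} (A : Matrix (Fin m) (Fin m) F) (j : Fin m) :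
    h39_ext A (Fin.last m) (Fin.castSucc j) = 0 := by
  simp [h39_ext]

theorem h39_ext_ll {F : Type*} [Field F] {m : ℕ} (A : Matrix (Fin m) (Fin m) F) :
    h39_ext A (Fin.last m) (Fin.last m) = 1 := by
  simp [h39_ext]

theorem h39_ext_mulVec_c {F : Type*} [Field F] {m : ℕ} (A : Matrix (Fin m) (Fin m) F)
    (u : Fin (m + 1) → F) (i : Fin m) :
    (h39_ext A *ᵥ u) (Fin.castSucc i) = (A *ᵥ (fun k => u (Fin.castSucc k))) i := by
  simp [Matrix.mulVec, dotProduct, Fin.sum_univ_castSucc, h39_ext_cc, h39_ext_cl]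

theorem h39_ext_mulVec_l {F : Type*} [Field F] {m : ℕ} (A : Matrix (Fin m) (Fin m) F)
    (u : Fin (m + 1) → F) :
    (h39_ext A *ᵥ u) (Fin.last m) = u (Fin.last m) := by
  simp [Matrix.mulVec, dotProduct, Fin.sum_univ_castSucc, h39_ext_lc, h39_ext_ll]

theorem h39_ext_mul {F : Type*} [Field F] {m : ℕ} (A B : Matrix (Fin m) (Fin m) F) :
    h39_ext (A * B) = h39_ext A * h39_ext B := by
  ext i j
  refine Fin.lastCases ?_ (fun i' => ?_) i <;> refine Fin.lastCases ?_ (fun j' => ?_) j <;>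
    simp [Matrix.mul_apply, Fin.sum_univ_castSucc, h39_ext_cc, h39_ext_cl, h39_ext_lc, h39_ext_ll]

theorem h39_ext_one {F : Type*} [Field F] {m : ℕ} :
    h39_ext (1 : Matrix (Fin m) (Fin m) F) = 1 := by
  ext i j
  refine Fin.lastCases ?_ (fun i' => ?_) i <;> refine Fin.lastCases ?_ (fun j' => ?_) j <;>
    simp [Matrix.one_apply, h39_ext_cc, h39_ext_cl, h39_ext_lc, h39_ext_ll,
      (Fin.castSucc_lt_last _).ne, (Fin.castSucc_lt_last _).ne']

theorem h39_ext_inj {F : Type*} [Field F] {m : ℕ} :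
    Function.Injective (h39_ext : Matrix (Fin m) (Fin m) F → Matrix (Fin (m + 1)) (Fin (m + 1)) F) := by
  intro A B h
  ext i j
  have := congrFun (congrFun h (Fin.castSucc i)) (Fin.castSucc j)
  rwa [h39_ext_cc, h39_ext_cc] at this

/-- The block extension as a monoid homomorphism. -/
def h39_extHom (F : Type*) [Field F] (m : ℕ) :
    Matrix (Fin m) (Fin m) F →* Matrix (Fin (m + 1)) (Fin (m + 1)) F where
  toFun := h39_ext
  map_one' := h39_ext_one
  map_mul' := h39_ext_mul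

theorem h39_std_succ {F : Type*} [Field F] {m : ℕ} (q₀ : ℕ) (u w : Fin (m + 1) → F) :
    sfuStd F q₀ (m + 1) u w =
      sfuStd F q₀ m (fun k => u (Fin.castSucc k)) (fun k => w (Fin.castSucc k)) +
        u (Fin.last m) * w (Fin.last m) ^ q₀ := by
  simp [sfuStd, Fin.sum_univ_castSucc]

theorem h39_std_last {F : Type*} [Field F] {m : ℕ} (q₀ : ℕ) (hq : q₀ ≠ 0) (u : Fin (m + 1) → F) :
    sfuStd F q₀ (m + 1) u (Pi.single (Fin.last m) 1) = u (Fin.last m) := by
  simp [sfuStd, Fin.sum_univ_castSucc, hq]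

theorem h39_mulVec_single {F : Type*} [Field F] {n : ℕ} (M : Matrix (Fin n) (Fin n) F)
    (i j : Fin n) : (M *ᵥ Pi.single j 1) i = M i j := by
  simp [Matrix.mulVec, dotProduct, Pi.single_apply]

/-- A matrix preserving the standard form and fixing the last basis vector is a block extension. -/
theorem h39_eq_ext {F : Type*} [Field F] {m : ℕ} (q₀ : ℕ) (hq : q₀ ≠ 0)
    (M : Matrix (Fin (m + 1)) (Fin (m + 1)) F)
    (hM : ∀ u w, sfuStd F q₀ (m + 1) (M *ᵥ u) (M *ᵥ w) = sfuStd F q₀ (m + 1) u w)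
    (hfix : M *ᵥ Pi.single (Fin.last m) 1 = Pi.single (Fin.last m) 1) :
    M = h39_ext (M.submatrix Fin.castSucc Fin.castSucc) := by
  have hcol : ∀ i, M i (Fin.last m) = (Pi.single (Fin.last m) (1 : F) : Fin (m + 1) → F) i := by
    intro i
    rw [← h39_mulVec_single M i (Fin.last m), hfix]
  have hrow : ∀ j : Fin m, M (Fin.last m) (Fin.castSucc j) = 0 := by
    intro j
    have h := hM (Pi.single (Fin.castSucc j) 1) (Pi.single (Fin.last m) 1)
    rw [hfix, h39_std_last q₀ hq, h39_std_last q₀ hq, h39_mulVec_single] at h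
    rw [h]
    simp
  ext i j
  refine Fin.lastCases ?_ (fun i' => ?_) i <;> refine Fin.lastCases ?_ (fun j' => ?_) j
  · rw [h39_ext_ll, hcol]; simp
  · rw [h39_ext_lc, hrow]
  · rw [h39_ext_cl, hcol]; simp [Pi.single_apply]
  · rw [h39_ext_cc]; rfl

/-- Stabiliser of the last basis vector in the isometry group of the standard form. -/
theorem h39_std_stab_card {F : Type*} [Field F] {m : ℕ} (q₀ : ℕ) (hq : q₀ ≠ 0) :
    Nat.card {g : GL (Fin (m + 1)) F // g ∈ sfuIsom (sfuStd F q₀ (m + 1)) ∧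
      (g : Matrix (Fin (m + 1)) (Fin (m + 1)) F) *ᵥ Pi.single (Fin.last m) 1 =
        Pi.single (Fin.last m) 1} = Nat.card (sfuIsom (sfuStd F q₀ m)) := by
  symm
  have hmem : ∀ h : GL (Fin m) F, h ∈ sfuIsom (sfuStd F q₀ m) →
      Units.map (h39_extHom F m) h ∈ sfuIsom (sfuStd F q₀ (m + 1)) := by
    intro h hh u w
    change sfuStd F q₀ (m + 1) (h39_ext (h : Matrix (Fin m) (Fin m) F) *ᵥ u)
      (h39_ext (h : Matrix (Fin m) (Fin m) F) *ᵥ w) = _
    rw [h39_std_succ, h39_std_succ q₀ u w, h39_ext_mulVec_l, h39_ext_mulVec_l]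
    congr 1
    have e1 : (fun k => (h39_ext (h : Matrix (Fin m) (Fin m) F) *ᵥ u) (Fin.castSucc k)) =
        (h : Matrix (Fin m) (Fin m) F) *ᵥ (fun k => u (Fin.castSucc k)) := by
      funext k; rw [h39_ext_mulVec_c]
    have e2 : (fun k => (h39_ext (h : Matrix (Fin m) (Fin m) F) *ᵥ w) (Fin.castSucc k)) =
        (h : Matrix (Fin m) (Fin m) F) *ᵥ (fun k => w (Fin.castSucc k)) := by
      funext k; rw [h39_ext_mulVec_c]
    rw [e1, e2]
    exact hh _ _
  have hfix : ∀ h : GL (Fin m) F,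
      ((Units.map (h39_extHom F m) h : GL (Fin (m + 1)) F) : Matrix (Fin (m + 1)) (Fin (m + 1)) F) *ᵥ
        Pi.single (Fin.last m) 1 = Pi.single (Fin.last m) 1 := by
    intro h
    change h39_ext (h : Matrix (Fin m) (Fin m) F) *ᵥ Pi.single (Fin.last m) 1 = _
    funext i
    refine Fin.lastCases ?_ (fun i' => ?_) i
    · rw [h39_ext_mulVec_l]
    · rw [h39_ext_mulVec_c]
      have : (fun k : Fin m => (Pi.single (Fin.last m) (1 : F) : Fin (m + 1) → F) (Fin.castSucc k)) = 0 := by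
        funext k; simp
      rw [this]; simp
  refine Nat.card_congr (Equiv.ofBijective
    (fun h : sfuIsom (sfuStd F q₀ m) =>
      (⟨Units.map (h39_extHom F m) h.1, hmem h.1 h.2, hfix h.1⟩ :
        {g : GL (Fin (m + 1)) F // g ∈ sfuIsom (sfuStd F q₀ (m + 1)) ∧
          (g : Matrix (Fin (m + 1)) (Fin (m + 1)) F) *ᵥ Pi.single (Fin.last m) 1 =
            Pi.single (Fin.last m) 1})) ⟨?_, ?_⟩)
  · intro h₁ h₂ h12
    have h3 : (Units.map (h39_extHom F m) h₁.1 : GL (Fin (m + 1)) F) =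
        Units.map (h39_extHom F m) h₂.1 := congrArg Subtype.val h12
    have h4 : h39_ext (h₁.1 : Matrix (Fin m) (Fin m) F) = h39_ext (h₂.1 : Matrix (Fin m) (Fin m) F) :=
      congrArg Units.val h3
    exact Subtype.ext (Units.ext (h39_ext_inj h4))
  · rintro ⟨g, hg, hgfix⟩
    have hginv : g⁻¹ ∈ sfuIsom (sfuStd F q₀ (m + 1)) := inv_mem hg
    have hginvfix : ((g⁻¹ : GL (Fin (m + 1)) F) : Matrix (Fin (m + 1)) (Fin (m + 1)) F) *ᵥ
        Pi.single (Fin.last m) 1 = Pi.single (Fin.last m) 1 := by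
      conv_lhs => rw [← hgfix]
      rw [Matrix.mulVec_mulVec, Units.inv_mul, Matrix.one_mulVec]
    have hA := h39_eq_ext q₀ hq (g : Matrix (Fin (m + 1)) (Fin (m + 1)) F) hg hgfix
    have hB := h39_eq_ext q₀ hq ((g⁻¹ : GL (Fin (m + 1)) F) : Matrix (Fin (m + 1)) (Fin (m + 1)) F)
      hginv hginvfix
    set A := (g : Matrix (Fin (m + 1)) (Fin (m + 1)) F).submatrix Fin.castSucc Fin.castSucc with hAdef
    set B := ((g⁻¹ : GL (Fin (m + 1)) F) : Matrix (Fin (m + 1)) (Fin (m + 1)) F).submatrix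
      Fin.castSucc Fin.castSucc with hBdef
    have hAB : A * B = 1 := by
      apply h39_ext_inj
      rw [h39_ext_mul, ← hA, ← hB, Units.mul_inv, h39_ext_one]
    have hBA : B * A = 1 := by
      apply h39_ext_inj
      rw [h39_ext_mul, ← hA, ← hB, Units.inv_mul, h39_ext_one]
    have hgeq : Units.map (h39_extHom F m) (⟨A, B, hAB, hBA⟩ : GL (Fin m) F) = g :=
      Units.ext hA.symm
    have hhmem : (⟨A, B, hAB, hBA⟩ : GL (Fin m) F) ∈ sfuIsom (sfuStd F q₀ m) := by
      intro u' w'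
      have h := hg (Fin.snoc (α := fun _ => F) u' 0) (Fin.snoc (α := fun _ => F) w' 0)
      rw [hA, h39_std_succ, h39_std_succ q₀ (Fin.snoc (α := fun _ => F) u' 0), h39_ext_mulVec_l,
        h39_ext_mulVec_l] at h
      have e1 : (fun k => (h39_ext A *ᵥ (Fin.snoc (α := fun _ => F) u' 0 : Fin (m + 1) → F))
          (Fin.castSucc k)) = A *ᵥ u' := by
        funext k; rw [h39_ext_mulVec_c]; simp
      have e2 : (fun k => (h39_ext A *ᵥ (Fin.snoc (α := fun _ => F) w' 0 : Fin (m + 1) → F))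
          (Fin.castSucc k)) = A *ᵥ w' := by
        funext k; rw [h39_ext_mulVec_c]; simp
      rw [e1, e2] at h
      simpa using h
    exact ⟨⟨⟨A, B, hAB, hBA⟩, hhmem⟩, Subtype.ext hgeq⟩

/-- Conjugating by a matrix that transports one form to another transports stabilisers. -/
theorem h39_conj_stab_card {F : Type*} [Field F] {n : ℕ}
    (f s : (Fin n → F) → (Fin n → F) → F) (E : GL (Fin n) F)
    (hE : ∀ u w, f ((E : Matrix (Fin n) (Fin n) F) *ᵥ u) ((E : Matrix (Fin n) (Fin n) F) *ᵥ w) = s u w)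
    (v₀ : Fin n → F) :
    Nat.card {g : GL (Fin n) F // g ∈ sfuIsom f ∧
      (g : Matrix (Fin n) (Fin n) F) *ᵥ ((E : Matrix (Fin n) (Fin n) F) *ᵥ v₀) =
        (E : Matrix (Fin n) (Fin n) F) *ᵥ v₀} =
    Nat.card {g : GL (Fin n) F // g ∈ sfuIsom s ∧ (g : Matrix (Fin n) (Fin n) F) *ᵥ v₀ = v₀} := by
  have key : ∀ (g : GL (Fin n) F) (u : Fin n → F),
      (E : Matrix (Fin n) (Fin n) F) *ᵥ (((E⁻¹ * g * E : GL (Fin n) F) : Matrix (Fin n) (Fin n) F) *ᵥ u) =
        (g : Matrix (Fin n) (Fin n) F) *ᵥ ((E : Matrix (Fin n) (Fin n) F) *ᵥ u) := by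
    intro g u
    rw [Matrix.mulVec_mulVec, Matrix.mulVec_mulVec, ← Units.val_mul, ← Units.val_mul]
    congr 2
    group
  have hEE : ∀ x : Fin n → F, (E : Matrix (Fin n) (Fin n) F) *ᵥ
      (((E⁻¹ : GL (Fin n) F) : Matrix (Fin n) (Fin n) F) *ᵥ x) = x := by
    intro x
    rw [Matrix.mulVec_mulVec, Units.mul_inv, Matrix.one_mulVec]
  have hEinj : Function.Injective (fun x : Fin n → F => (E : Matrix (Fin n) (Fin n) F) *ᵥ x) := by
    intro x y hxy
    have h := congrArg (fun z => ((E⁻¹ : GL (Fin n) F) : Matrix (Fin n) (Fin n) F) *ᵥ z) hxy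
    simpa [Matrix.mulVec_mulVec, Units.inv_mul] using h
  refine Nat.card_congr (Equiv.subtypeEquiv (MulAut.conj (E⁻¹ : GL (Fin n) F)).toEquiv ?_)
  intro g
  have hconj : (MulAut.conj (E⁻¹ : GL (Fin n) F)).toEquiv g = E⁻¹ * g * E := by
    simp
  rw [hconj]
  constructor
  · rintro ⟨hg, hgv⟩
    refine ⟨?_, ?_⟩
    · intro u w
      rw [← hE, key, key, hg, hE]
    · apply hEinj
      change (E : Matrix (Fin n) (Fin n) F) *ᵥ _ = (E : Matrix (Fin n) (Fin n) F) *ᵥ v₀
      rw [key, hgv]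
  · rintro ⟨hg, hgv⟩
    refine ⟨?_, ?_⟩
    · intro x y
      have h := hg (((E⁻¹ : GL (Fin n) F) : Matrix (Fin n) (Fin n) F) *ᵥ x)
        (((E⁻¹ : GL (Fin n) F) : Matrix (Fin n) (Fin n) F) *ᵥ y)
      rw [← hE, ← hE, key, key, hEE, hEE] at h
      exact h
    · rw [← key, hgv]

/-- ORDS, from SESQ and EXT given as hypotheses. -/
theorem h39_sfu_isom_stab_of {F : Type*} [Field F] [Fintype F] {m : ℕ} (q₀ : ℕ)
    (hcard : Fintype.card F = q₀ ^ 2) (f : (Fin (m + 1) → F) → (Fin (m + 1) → F) → F)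
    (hf : IsUnitaryFormPow q₀ f) (v : Fin (m + 1) → F)
    (hadd2 : ∀ v x y, f v (x + y) = f v x + f v y)
    (hsm2 : ∀ (c : F) (v x : Fin (m + 1) → F), f v (c • x) = c ^ q₀ * f v x)
    (e : Fin (m + 1) → (Fin (m + 1) → F))
    (he : ∀ i j, f (e i) (e j) = if i = j then 1 else 0) (hlast : e (Fin.last m) = v) :
    Nat.card {g : GL (Fin (m + 1)) F // g ∈ sfuIsom f ∧
      (g : Matrix (Fin (m + 1)) (Fin (m + 1)) F) *ᵥ v = v} =
      Nat.card (sfuIsom (sfuStd F q₀ m)) := by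
  classical
  have hq : q₀ ≠ 0 := by
    rintro rfl
    simp at hcard
  set E : Matrix (Fin (m + 1)) (Fin (m + 1)) F := Matrix.of fun i j => e j i with hEdef
  have hEmv : ∀ u : Fin (m + 1) → F, E *ᵥ u = ∑ j, u j • e j := by
    intro u
    funext i
    simp [E, Matrix.mulVec, dotProduct, mul_comm]
  have hf0l : ∀ w, f 0 w = 0 := by
    intro w
    have := hf.smul_left 0 0 w
    simpa using this
  have hf0r : ∀ w, f w 0 = 0 := by
    intro w
    have := hadd2 w 0 0
    simpa using this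
  have hsumL : ∀ (s : Finset (Fin (m + 1))) (g : Fin (m + 1) → (Fin (m + 1) → F)) w,
      f (∑ j ∈ s, g j) w = ∑ j ∈ s, f (g j) w := by
    intro s g w
    induction s using Finset.induction_on with
    | empty => simp [hf0l]
    | insert a s ha ih => rw [Finset.sum_insert ha, Finset.sum_insert ha, hf.add_left, ih]
  have hsumR : ∀ (s : Finset (Fin (m + 1))) (g : Fin (m + 1) → (Fin (m + 1) → F)) w,
      f w (∑ j ∈ s, g j) = ∑ j ∈ s, f w (g j) := by
    intro s g w
    induction s using Finset.induction_on with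
    | empty => simp [hf0r]
    | insert a s ha ih => rw [Finset.sum_insert ha, Finset.sum_insert ha, hadd2, ih]
  have hstd : ∀ u w, f (E *ᵥ u) (E *ᵥ w) = sfuStd F q₀ (m + 1) u w := by
    intro u w
    rw [hEmv, hEmv, hsumL]
    unfold sfuStd
    refine Finset.sum_congr rfl fun j _ => ?_
    rw [hf.smul_left, hsumR]
    simp only [hsm2, he]
    simp
  have hinj : Function.Injective E.mulVec := by
    intro u u' huu
    have h0 : E *ᵥ (u - u') = 0 := by rw [Matrix.mulVec_sub, huu, sub_self]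
    funext k
    have h1 := hstd (u - u') (Pi.single k 1)
    rw [h0, hf0l] at h1
    have h2 : sfuStd F q₀ (m + 1) (u - u') (Pi.single k 1) = (u - u') k := by
      simp [sfuStd, Pi.single_apply, hq]
    rw [h2] at h1
    exact sub_eq_zero.mp h1.symm
  have hunit : IsUnit E := Matrix.mulVec_injective_iff_isUnit.mp hinj
  obtain ⟨Eu, hEu⟩ := hunit
  have hvE : E *ᵥ (Pi.single (Fin.last m) 1) = v := by
    rw [hEmv]
    simp [Pi.single_apply, hlast]
  have h1 := h39_conj_stab_card f (sfuStd F q₀ (m + 1)) Eu (by rw [hEu]; exact hstd)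
    (Pi.single (Fin.last m) 1)
  rw [hEu, hvE] at h1
  rw [h1]
  exact h39_std_stab_card q₀ hq

end Cfsg.Agent.Lib.helper24
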