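import Mathlib
import Cfsg.Agent.Lib.helper24.SfuDefs
import Cfsg.Agent.Lib.helper39.SfuORDScore
import Cfsg.Agent.Lib.helper9.SfuSESQ
import Cfsg.Agent.Lib.helper32.SfuEXT

/-!
# S5982, piece ORDS (race copy): the stabiliser of a norm-one vector
-/

set_option autoImplicit false

namespace Cfsg.Agent.Lib.helper24

open Module Matrix Cfsg.Geo

/-- ORDS (race copy of `sfu_isom_stab`). -/
theorem h39_sfu_isom_stab {F : Type*} [Field F] [Fintype F] {m : ℕ} (q₀ : ℕ)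
    (hcard : Fintype.card F = q₀ ^ 2) (f : (Fin (m + 1) → F) → (Fin (m + 1) → F) → F)
    (hf : IsUnitaryFormPow q₀ f) (v : Fin (m + 1) → F) (hv : f v v = 1) :
    Nat.card {g : GL (Fin (m + 1)) F // g ∈ sfuIsom f ∧
      (g : Matrix (Fin (m + 1)) (Fin (m + 1)) F) *ᵥ v = v} =
      Nat.card (sfuIsom (sfuStd F q₀ m)) := by
  obtain ⟨hadd2, hsm2, -, -, -⟩ := sfu_sesq q₀ hcard f hf
  obtain ⟨e, -, he, hlast⟩ := sfu_onb_extend q₀ hcard f hf v hv
  exact h39_sfu_isom_stab_of q₀ hcard f hf v hadd2 hsm2 e he hlast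

end Cfsg.Agent.Lib.helper24
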