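import Mathlib
import Cfsg.Agent.Lib.helper62.IrredField2

/-!
helper39: hand-off H9 of helper62's split of S3360 (Huppert): a semiregular abelian group of
linear maps is cyclic, and the order of a semiregular group divides `q ^ dim W - 1` for every
invariant subspace `W`.
-/

set_option autoImplicit false
set_option linter.unusedSectionVars false

namespace Cfsg.Agent.Lib.helper39.Hup

/-- A finite group acting freely on a finite type: its order divides the cardinality. -/
theorem card_dvd_of_free_action {C X : Type*} [Group C] [MulAction C X] [Finite C] [Finite X]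
    (hfree : ∀ (c : C) (x : X), c • x = x → c = 1) : Nat.card C ∣ Nat.card X := by
  classical
  have := Fintype.ofFinite C
  have := Fintype.ofFinite X
  have h := MulAction.sum_card_fixedBy_eq_card_orbits_mul_card_group C X
  have h1 : ∑ c : C, Fintype.card (MulAction.fixedBy X c) = Fintype.card X := by
    rw [Finset.sum_eq_single (1 : C)]
    · apply Fintype.card_congr
      exact
        { toFun := fun x => x.1
          invFun := fun x => ⟨x, by simp⟩
          left_inv := fun x => rfl
          right_inv := fun x => rfl }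
    · intro c _ hc
      rw [Fintype.card_eq_zero_iff]
      exact ⟨fun x => hc (hfree c x.1 x.2)⟩
    · intro h0
      exact absurd (Finset.mem_univ _) h0
  rw [h1] at h
  rw [Nat.card_eq_fintype_card, Nat.card_eq_fintype_card, h]
  exact dvd_mul_left _ _

variable {q : ℕ} [Fact q.Prime] {V : Type*} [AddCommGroup V] [Module (ZMod q) V] [Finite V]
  {G : Type*} [Group G] [Finite G] (ρ : G →* (V ≃ₗ[ZMod q] V))

theorem isCyclic_of_semiregular_abelian [Nontrivial V] (A : Subgroup G)
    (hAab : ∀ a ∈ A, ∀ b ∈ A, a * b = b * a)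
    (hfree : ∀ a ∈ A, ∀ v : V, v ≠ 0 → ρ a v = v → a = 1) : IsCyclic A := by
  classical
  -- `A` is finite since it embeds in the finite group of linear automorphisms
  have hfinE : Finite (V ≃ₗ[ZMod q] V) :=
    Finite.of_injective (fun e : V ≃ₗ[ZMod q] V => (e : V → V)) DFunLike.coe_injective
  obtain ⟨v₀, hv₀⟩ := exists_ne (0 : V)
  have hinjA : Function.Injective (fun a : A => ρ (a : G)) := by
    intro a b hab
    have h1 : ρ ((a : G) * (b : G)⁻¹) v₀ = v₀ := by
      have hab' : ρ (a : G) = ρ (b : G) := hab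
      rw [map_mul, hab', ← map_mul, mul_inv_cancel, map_one]
      rfl
    have h2 := hfree _ (A.mul_mem a.2 (A.inv_mem b.2)) v₀ hv₀ h1
    exact Subtype.ext (mul_inv_eq_one.mp h2)
  have hfinA : Finite A := Finite.of_injective _ hinjA
  -- a minimal nonzero invariant additive subgroup
  let P : AddSubgroup V → Prop := fun W => W ≠ ⊥ ∧ ∀ a ∈ A, ∀ w ∈ W, ρ a w ∈ W
  have hex : ∃ n, ∃ W, P W ∧ Nat.card W = n :=
    ⟨_, ⊤, ⟨top_ne_bot, fun _ _ _ _ => AddSubgroup.mem_top _⟩, rfl⟩
  obtain ⟨W₀, ⟨hW₀ne, hW₀inv⟩, hW₀card⟩ := Nat.find_spec hex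
  have hmin : ∀ W : AddSubgroup V, P W → W ≤ W₀ → W = W₀ := by
    intro W hPW hle
    have h1 : Nat.find hex ≤ Nat.card W := Nat.find_min' hex ⟨W, hPW, rfl⟩
    rw [← hW₀card] at h1
    exact AddSubgroup.eq_of_le_of_card_ge hle h1
  -- the restricted action
  let ρ' : A →* AddMonoid.End W₀ :=
    { toFun := fun a =>
        { toFun := fun w => ⟨ρ (a : G) (w : V), hW₀inv a a.2 w w.2⟩
          map_zero' := by
            apply Subtype.ext
            simp
          map_add' := by
            intro x y
            apply Subtype.ext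
            simp }
      map_one' := by
        apply AddMonoidHom.ext
        intro w
        apply Subtype.ext
        show ρ ((1 : A) : G) (w : V) = (w : V)
        simp
      map_mul' := by
        intro a b
        apply AddMonoidHom.ext
        intro w
        apply Subtype.ext
        show ρ ((a * b : A) : G) (w : V) = ρ (a : G) (ρ (b : G) (w : V))
        simp }
  have hρ'app : ∀ (a : A) (w : W₀), ((ρ' a) w : V) = ρ (a : G) (w : V) := fun _ _ => rfl
  have hnt : Nontrivial W₀ := by
    obtain ⟨w, hw⟩ := (AddSubgroup.ne_bot_iff_exists_ne_zero).mp hW₀ne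
    exact ⟨⟨w, 0, hw⟩⟩
  have hinj : Function.Injective ρ' := by
    rw [injective_iff_map_eq_one]
    intro a ha
    obtain ⟨w, hw⟩ := exists_ne (0 : W₀)
    have h1 : ρ (a : G) (w : V) = (w : V) := by
      rw [← hρ'app, ha]
      rfl
    have hw' : (w : V) ≠ 0 := fun h => hw (Subtype.ext h)
    exact Subtype.ext (hfree _ a.2 _ hw' h1)
  have hcomm : ∀ a b : A, a * b = b * a := fun a b => Subtype.ext (hAab _ a.2 _ b.2)
  have hirr : ∀ W : AddSubgroup W₀, (∀ m : A, ∀ w ∈ W, ρ' m w ∈ W) → W = ⊥ ∨ W = ⊤ := by
    intro W hWinv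
    by_cases hWb : W = ⊥
    · exact Or.inl hWb
    · right
      have hPW : P (W.map W₀.subtype) := by
        refine ⟨?_, ?_⟩
        · intro h
          apply hWb
          rw [eq_bot_iff]
          intro w hw
          have : (w : V) ∈ W.map W₀.subtype := ⟨w, hw, rfl⟩
          rw [h, AddSubgroup.mem_bot] at this
          rw [AddSubgroup.mem_bot]
          exact Subtype.ext this
        · rintro a ha _ ⟨w, hw, rfl⟩
          exact ⟨ρ' ⟨a, ha⟩ w, hWinv ⟨a, ha⟩ w hw, rfl⟩
      have hle : W.map W₀.subtype ≤ W₀ := by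
        rintro _ ⟨w, _, rfl⟩
        exact w.2
      have heq := hmin _ hPW hle
      rw [eq_top_iff]
      intro w _
      have : (w : V) ∈ W.map W₀.subtype := by rw [heq]; exact w.2
      obtain ⟨w', hw', hww'⟩ := this
      have : w' = w := Subtype.ext hww'
      rwa [← this]
  exact Cfsg.Agent.Lib.helper62.isCyclic_of_irreducible_comm ρ' hinj hcomm hirr

theorem card_dvd_of_semiregular (A : Subgroup G)
    (hfree : ∀ a ∈ A, ∀ v : V, v ≠ 0 → ρ a v = v → a = 1)
    (W : Submodule (ZMod q) V) (hW : ∀ a ∈ A, ∀ v ∈ W, ρ a v ∈ W) :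
    Nat.card A ∣ q ^ Module.finrank (ZMod q) W - 1 := by
  classical
  have hne : NeZero q := ⟨(Fact.out : q.Prime).ne_zero⟩
  let act : MulAction A {w : W // w ≠ 0} :=
    { smul := fun a w => ⟨⟨ρ (a : G) (w.1 : V), hW a a.2 _ w.1.2⟩, by
        intro h
        apply w.2
        have h' : ρ (a : G) (w.1 : V) = 0 := congrArg Subtype.val h
        exact Subtype.ext ((LinearEquiv.map_eq_zero_iff _).mp h')⟩
      one_smul := fun w => by
        apply Subtype.ext
        apply Subtype.ext
        show ρ ((1 : A) : G) (w.1 : V) = (w.1 : V)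
        simp
      mul_smul := fun a b w => by
        apply Subtype.ext
        apply Subtype.ext
        show ρ ((a * b : A) : G) (w.1 : V) = ρ (a : G) (ρ (b : G) (w.1 : V))
        simp }
  have hsm : ∀ (a : A) (w : {w : W // w ≠ 0}), ((a • w).1 : V) = ρ (a : G) (w.1 : V) :=
    fun _ _ => rfl
  by_cases hemp : IsEmpty {w : W // w ≠ 0}
  · -- `W = 0`: then `q ^ 0 - 1 = 0`
    have hWbot : W = ⊥ := by
      rw [eq_bot_iff]
      intro w hw
      by_contra hw0
      exact hemp.false ⟨⟨w, hw⟩, fun h => hw0 (congrArg Subtype.val h)⟩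
    subst hWbot
    simp
  · rw [not_isEmpty_iff] at hemp
    obtain ⟨w₀⟩ := hemp
    have hinjA : Function.Injective (fun a : A => a • w₀) := by
      intro a b hab
      have hab' : ρ (a : G) (w₀.1 : V) = ρ (b : G) (w₀.1 : V) := by
        have := congrArg (fun x : {w : W // w ≠ 0} => (x.1 : V)) hab
        simpa [hsm] using this
      have h1 : ρ ((b : G)⁻¹ * (a : G)) (w₀.1 : V) = (w₀.1 : V) := by
        rw [map_mul, LinearEquiv.mul_apply, hab', ← LinearEquiv.mul_apply, ← map_mul,
          inv_mul_cancel, map_one]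
        rfl
      have hw0 : (w₀.1 : V) ≠ 0 := fun h => w₀.2 (Subtype.ext h)
      have h2 := hfree _ (A.mul_mem (A.inv_mem b.2) a.2) _ hw0 h1
      exact Subtype.ext (inv_mul_eq_one.mp h2).symm
    have hfinA : Finite A := Finite.of_injective _ hinjA
    have hdvd : Nat.card A ∣ Nat.card {w : W // w ≠ 0} := by
      apply card_dvd_of_free_action
      intro a w haw
      have h1 : ρ (a : G) (w.1 : V) = (w.1 : V) := by
        have := congrArg (fun x : {w : W // w ≠ 0} => (x.1 : V)) haw
        simpa [hsm] using this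
      have hw0 : (w.1 : V) ≠ 0 := fun h => w.2 (Subtype.ext h)
      exact Subtype.ext (hfree _ a.2 _ hw0 h1)
    have hcard : Nat.card {w : W // w ≠ 0} + 1 = q ^ Module.finrank (ZMod q) W := by
      rw [← Finite.card_option, Nat.card_congr (Equiv.optionSubtypeNe (0 : W)),
        Module.natCard_eq_pow_finrank (K := ZMod q), Nat.card_zmod]
    have hcard' : q ^ Module.finrank (ZMod q) W - 1 = Nat.card {w : W // w ≠ 0} := by omega
    rw [hcard']
    exact hdvd

end Cfsg.Agent.Lib.helper39.Hup
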