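import Cfsg.Agent.Lib.helper39.SecTools

set_option autoImplicit false

namespace Cfsg.Agent.Lib.helper39

open Cfsg

open scoped commutatorElement

section general

variable {G : Type*} [Group G]

theorem Real.mono_K {K K' : Set G} {T T' B : Subgroup G} {g : G} (hK : K ⊆ K') (hT : T ≤ T')
    (h : Real K T B g) : Real K' T' B g := by
  obtain ⟨c, hc, hca⟩ := h
  exact ⟨c, hc.mono_K hK hT, hca⟩

theorem Reach.mem {K : Set G} {T B H : Subgroup G} (hK : K ⊆ (H : Set G)) {c : G}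
    (h : Reach K T B c) : c ∈ H := by
  induction h with
  | one _ => exact one_mem H
  | step c k _ hk _ ih => exact H.mul_mem (hK hk) ih

/-- A chain whose steps are realized is realized. -/
theorem Reach.toRel {S : Subgroup G} {R : Subgroup G → G → Prop} (hR : AdmRel S R) {K : Set G}
    {T B : Subgroup G} (hTS : T ≤ S)
    (hK : ∀ k ∈ K, ∀ B' : Subgroup G, B' ≤ T → cj k B' ≤ T → R B' k) {c : G}
    (h : Reach K T B c) : R B c := by
  induction h with
  | one h => exact hR.one B (h.trans hTS)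
  | step c k hc hk hle ih =>
    refine hR.mul B c k ih (hK k hk _ hc.le ?_)
    rw [← cj_mul]
    exact hle

theorem le_normalizer_of_forall_cj_le {H K : Subgroup G} (h : ∀ x ∈ H, cj x K ≤ K) :
    H ≤ Subgroup.normalizer (K : Set G) := by
  intro x hx
  apply cj_eq_self_iff.mp
  refine le_antisymm (h x hx) ?_
  rw [le_cj_iff]
  exact h x⁻¹ (inv_mem hx)

/-- The elements of `N(B)` acting trivially on `B` modulo the normal subgroup `P`. -/
def stabMod (B P : Subgroup G) [hP : P.Normal] : Subgroup G where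
  carrier := {n | n ∈ Subgroup.normalizer (B : Set G) ∧ ∀ b ∈ B, b⁻¹ * (n * b * n⁻¹) ∈ P}
  one_mem' := ⟨one_mem _, fun b _ => by simp⟩
  mul_mem' := by
    rintro n m ⟨hn, hn'⟩ ⟨hm, hm'⟩
    refine ⟨mul_mem hn hm, fun b hb => ?_⟩
    have e : b⁻¹ * (n * m * b * (n * m)⁻¹) =
        b⁻¹ * (n * b * n⁻¹) * (n * (b⁻¹ * (m * b * m⁻¹)) * n⁻¹) := by group
    rw [e]
    exact P.mul_mem (hn' b hb) (hP.conj_mem _ (hm' b hb) n)
  inv_mem' := by
    rintro n ⟨hn, hn'⟩
    refine ⟨inv_mem hn, fun b hb => ?_⟩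
    have hb' : n⁻¹ * b * n ∈ B := by
      have := (Subgroup.mem_normalizer_iff.mp (inv_mem hn) b).mp hb
      simpa using this
    have h1 := hn' _ hb'
    have e : b⁻¹ * (n⁻¹ * b * n⁻¹⁻¹) =
        ((n⁻¹ * b * n)⁻¹ * (n * (n⁻¹ * b * n) * n⁻¹))⁻¹ := by group
    rw [e]
    exact P.inv_mem h1

theorem mem_stabMod {B P : Subgroup G} [P.Normal] {n : G} :
    n ∈ stabMod B P ↔
      n ∈ Subgroup.normalizer (B : Set G) ∧ ∀ b ∈ B, b⁻¹ * (n * b * n⁻¹) ∈ P := Iff.rfl

theorem normalizer_le_normalizer_stabMod (B P : Subgroup G) [hP : P.Normal] :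
    Subgroup.normalizer (B : Set G) ≤ Subgroup.normalizer ((stabMod B P : Subgroup G) : Set G) := by
  apply le_normalizer_of_forall_cj_le
  intro m hm z hz
  rw [mem_cj] at hz
  have hzN : z ∈ Subgroup.normalizer (B : Set G) := by
    have e : z = m * (m⁻¹ * z * m) * m⁻¹ := by group
    rw [e]
    exact mul_mem (mul_mem hm hz.1) (inv_mem hm)
  refine ⟨hzN, fun b hb => ?_⟩
  have hb' : m⁻¹ * b * m ∈ B := by
    have := (Subgroup.mem_normalizer_iff.mp (inv_mem hm) b).mp hb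
    simpa using this
  have h1 := hz.2 _ hb'
  have e : b⁻¹ * (z * b * z⁻¹) =
      m * ((m⁻¹ * b * m)⁻¹ * (m⁻¹ * z * m * (m⁻¹ * b * m) * (m⁻¹ * z * m)⁻¹)) * m⁻¹ := by group
  rw [e]
  exact hP.conj_mem _ h1 m

/-- An element of order prime to `p` centralizing the normal `p`-subgroup `P` and acting trivially
on `B` modulo `P` centralizes `B`. -/
theorem pprime_centralizes {p : ℕ} (P : Subgroup G) (hP : IsPGroup p P) {B : Subgroup G} {n : G}
    (hnP : n ∈ Subgroup.centralizer (P : Set G)) (hco : (orderOf n).Coprime p)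
    (h : ∀ b ∈ B, b⁻¹ * (n * b * n⁻¹) ∈ P) : n ∈ Subgroup.centralizer (B : Set G) := by
  rw [Subgroup.mem_centralizer_iff]
  intro b hb
  have hz := h b hb
  have hcomm : b⁻¹ * (n * b * n⁻¹) * n = n * (b⁻¹ * (n * b * n⁻¹)) :=
    (Subgroup.mem_centralizer_iff.mp hnP) _ hz
  have key : ∀ z : G, n * b * n⁻¹ = b * z → z * n = n * z →
      ∀ j : ℕ, n ^ j * b * (n ^ j)⁻¹ = b * z ^ j := by
    intro z hnb hzn j
    induction j with
    | zero => simp
    | succ j ih =>
      have hc : n * z ^ j = z ^ j * n := (Commute.pow_right (show Commute n z from hzn.symm) j)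
      have e1 : n ^ (j + 1) * b * (n ^ (j + 1))⁻¹ = n * (n ^ j * b * (n ^ j)⁻¹) * n⁻¹ := by
        rw [pow_succ']; group
      have e2 : n * (b * z ^ j) * n⁻¹ = n * b * n⁻¹ * (n * z ^ j * n⁻¹) := by group
      rw [e1, ih, e2, hc, mul_inv_cancel_right, hnb, pow_succ', mul_assoc]
  have hpow : ∀ j : ℕ, n ^ j * b * (n ^ j)⁻¹ = b * (b⁻¹ * (n * b * n⁻¹)) ^ j :=
    key _ (by group) hcomm
  have h1 := hpow (orderOf n)
  rw [pow_orderOf_eq_one, one_mul, inv_one, mul_one] at h1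
  have h2 : (b⁻¹ * (n * b * n⁻¹)) ^ orderOf n = 1 := by
    have := congrArg (fun t => b⁻¹ * t) h1
    simpa using this.symm
  obtain ⟨k, hk⟩ := hP ⟨_, hz⟩
  have hk' : (b⁻¹ * (n * b * n⁻¹)) ^ p ^ k = 1 := by
    have := congrArg Subtype.val hk
    simpa using this
  have h3 : orderOf (b⁻¹ * (n * b * n⁻¹)) ∣ Nat.gcd (orderOf n) (p ^ k) :=
    Nat.dvd_gcd (orderOf_dvd_of_pow_eq_one h2) (orderOf_dvd_of_pow_eq_one hk')
  rw [Nat.Coprime.pow_right k hco] at h3
  have h4 : b⁻¹ * (n * b * n⁻¹) = 1 := orderOf_eq_one_iff.mp (Nat.dvd_one.mp h3)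
  have h5 : n * b * n⁻¹ = b := by
    have := congrArg (fun t => b * t) h4
    simpa using this
  calc b * n = n * b * n⁻¹ * n := by rw [h5]
    _ = n * b := by group

end general

section finite

variable {G : Type*} [Group G] [Finite G] {p : ℕ} [Fact p.Prime]

theorem exists_pow_pprime (p : ℕ) [Fact p.Prime] (x : G) :
    ∃ k, (orderOf (x ^ p ^ k)).Coprime p := by
  refine ⟨(orderOf x).factorization p, ?_⟩
  have h0 : orderOf x ≠ 0 := (orderOf_pos x).ne'
  rw [orderOf_pow, Nat.gcd_eq_right (Nat.ordProj_dvd _ _)]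
  exact (Nat.coprime_ordCompl Fact.out h0).symm

/-- A Sylow subgroup of `M` meets a subgroup normalized by `M` in a Sylow subgroup. -/
theorem isSylIn_inf_of_le_normalizer {E M N₁ : Subgroup G} (hE : IsSylIn p E M) (hN₁ : N₁ ≤ M)
    (hn : M ≤ Subgroup.normalizer (N₁ : Set G)) : IsSylIn p (E ⊓ N₁) N₁ := by
  have hp : IsPGroup p (E ⊓ N₁ : Subgroup G) := hE.2.1.to_le inf_le_left
  obtain ⟨T, hT, hle⟩ := exists_isSylIn_ge hp (inf_le_right : E ⊓ N₁ ≤ N₁)
  obtain ⟨h, hhM, hh⟩ := hE.exists_cj_le hT.2.1 (hT.1.trans hN₁)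
  have h1 : cj h T ≤ E ⊓ N₁ := le_inf hh (by
    have := cj_le_cj (g := h) |>.mpr hT.1
    rwa [cj_eq_self_iff.mpr (hn hhM)] at this)
  have h2 : Nat.card T ≤ Nat.card (E ⊓ N₁ : Subgroup G) := by
    rw [← card_cj h T]; exact Subgroup.card_le_of_le h1
  have : E ⊓ N₁ = T := Subgroup.eq_of_le_of_card_ge hle h2
  rw [this]; exact hT

/-- If every element of `N₁` of order prime to `p` lies in the subgroup `C` normalized by `N₁`,
then `C` has `p`-power index in `N₁`. -/
theorem relIndex_pow_of_pprime_mem {C N₁ : Subgroup G} (hC : C ≤ N₁)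
    (hn : N₁ ≤ Subgroup.normalizer (C : Set G))
    (h : ∀ n ∈ N₁, (orderOf n).Coprime p → n ∈ C) : ∃ k, C.relIndex N₁ = p ^ k := by
  have : (C.subgroupOf N₁).Normal := (Subgroup.normal_subgroupOf_iff_le_normalizer hC).mpr hn
  have hq : IsPGroup p (↥N₁ ⧸ C.subgroupOf N₁) := by
    intro q
    induction q using QuotientGroup.induction_on with
    | H n =>
      obtain ⟨k, hk⟩ := exists_pow_pprime p n
      refine ⟨k, ?_⟩
      rw [← QuotientGroup.mk_pow, QuotientGroup.eq_one_iff, Subgroup.mem_subgroupOf]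
      have h1 : (orderOf ((n ^ p ^ k : ↥N₁) : G)).Coprime p := by
        rw [Subgroup.orderOf_coe]; exact hk
      exact h _ (n ^ p ^ k).2 h1
  obtain ⟨k, hk⟩ := IsPGroup.iff_card.mp hq
  refine ⟨k, ?_⟩
  rw [← hk]
  exact Subgroup.index_eq_card _

omit [Finite G] in
theorem le_sup_of_relIndex {C T N₁ : Subgroup G} {k : ℕ} (hk : C.relIndex N₁ = p ^ k)
    (hT : ¬ p ∣ T.relIndex N₁) : N₁ ≤ C ⊔ T := by
  have h1 : (C ⊔ T).relIndex N₁ ∣ C.relIndex N₁ := Subgroup.relIndex_dvd_of_le_left N₁ le_sup_left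
  have h3 : (C ⊔ T).relIndex N₁ ∣ T.relIndex N₁ := Subgroup.relIndex_dvd_of_le_left N₁ le_sup_right
  rw [hk] at h1
  obtain ⟨j, -, hj⟩ := (Nat.dvd_prime_pow Fact.out).mp h1
  rw [← Subgroup.relIndex_eq_one, hj]
  cases j with
  | zero => rfl
  | succ j =>
    exfalso
    apply hT
    refine dvd_trans ?_ h3
    rw [hj]
    exact dvd_pow_self p (Nat.succ_ne_zero j)

end finite

section lemmaL

variable {G : Type*} [Group G] [Finite G] {p : ℕ} [Fact p.Prime]

/-- Realization descends from a quotient by a normal `p`-subgroup `P` with `G = S C(P)`: if every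
conjugation in `N` between subgroups of the Sylow subgroup `R₀` of `N` is realized modulo `P`,
then it is realized. -/
theorem good_of_quotient_chain (S : Sylow p G) {R : Subgroup G → G → Prop}
    (hR : AdmRel (S : Subgroup G) R) (P : Subgroup G) [hPn : P.Normal]
    (hPS : P ≤ (S : Subgroup G))
    (hSC : (S : Subgroup G) ⊔ Subgroup.centralizer (P : Set G) = ⊤)
    (hs : Good R (S : Subgroup G) (S : Subgroup G))
    {N R₀ : Subgroup G} (hsyl : IsSylIn p R₀ N) (hR₀S : R₀ ≤ (S : Subgroup G)) (hPR₀ : P ≤ R₀)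
    (hq : ∀ B : Subgroup G, B ≤ R₀ → ∀ x ∈ N, cj x B ≤ R₀ →
      ∃ c ∈ N, R B c ∧ ∀ b ∈ B, (c * b * c⁻¹)⁻¹ * (x * b * x⁻¹) ∈ P) :
    Good R N R₀ := by
  have hSp : IsPGroup p (S : Subgroup G) := S.2
  have hPp : IsPGroup p P := hSp.to_le hPS
  have hR₀p : IsPGroup p R₀ := hsyl.2.1
  have main : ∀ B : Subgroup G, P ≤ B → B ≤ R₀ → ∀ x ∈ N, cj x B ≤ R₀ → R B x := by
    intro B
    generalize hd : Nat.card R₀ - Nat.card B = d
    induction d using Nat.strong_induction_on generalizing B with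
    | _ d ih =>
    intro hPB hB x hx hxB
    obtain ⟨c, hcN, hc, hcx⟩ := hq B hB x hx hxB
    obtain ⟨y, hy_def⟩ : ∃ y, y = c⁻¹ * x := ⟨_, rfl⟩
    have hyN : y ∈ N := by rw [hy_def]; exact N.mul_mem (N.inv_mem hcN) hx
    have hyb : ∀ b ∈ B, b⁻¹ * (y * b * y⁻¹) ∈ P := by
      intro b hb
      have e : b⁻¹ * (y * b * y⁻¹) =
          c⁻¹ * ((c * b * c⁻¹)⁻¹ * (x * b * x⁻¹)) * c⁻¹⁻¹ := by rw [hy_def]; group
      rw [e]
      exact hPn.conj_mem _ (hcx b hb) c⁻¹
    have hyB : cj y B = B := by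
      refine Subgroup.eq_of_le_of_card_ge ?_ (le_of_eq (card_cj _ _).symm)
      intro z hz
      rw [mem_cj] at hz
      have h1 := hyb _ hz
      have e : z = (y⁻¹ * z * y) * ((y⁻¹ * z * y)⁻¹ * (y * (y⁻¹ * z * y) * y⁻¹)) := by group
      rw [e]
      exact B.mul_mem hz (hPB h1)
    have hyst : y ∈ stabMod B P := ⟨cj_eq_self_iff.mp hyB, hyb⟩
    suffices hRy : R B y by
      have h1 := hR.mul B y c hRy (by rw [hyB]; exact hc)
      have e : c * y = x := by rw [hy_def]; group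
      rwa [e] at h1
    -- the relevant subgroups
    have hN₁M : N ⊓ stabMod B P ≤ N ⊓ Subgroup.normalizer (B : Set G) :=
      inf_le_inf_left _ (fun n hn => hn.1)
    have hMN₁ : N ⊓ Subgroup.normalizer (B : Set G) ≤
        Subgroup.normalizer ((N ⊓ stabMod B P : Subgroup G) : Set G) := by
      intro m hm
      apply cj_eq_self_iff.mp
      rw [cj_inf, cj_eq_self_of_mem hm.1,
        cj_eq_self_iff.mpr (normalizer_le_normalizer_stabMod B P hm.2)]
    have hpp : ∀ n ∈ N ⊓ stabMod B P, (orderOf n).Coprime p →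
        n ∈ Subgroup.centralizer (B : Set G) := by
      intro n hn hco
      obtain ⟨k, hk⟩ := index_pow_of_sup_eq_top S (Subgroup.centralizer (P : Set G)) hSC
      have h1 : n ^ p ^ k ∈ Subgroup.centralizer (P : Set G) := by
        rw [← hk]; exact Subgroup.pow_index_mem _ n
      obtain ⟨m, hm⟩ := exists_pow_eq_self_of_coprime (x := n) (Nat.Coprime.pow_left k hco.symm)
      have h2 : n ∈ Subgroup.centralizer (P : Set G) := by
        rw [← hm]; exact Subgroup.pow_mem _ h1 m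
      exact pprime_centralizes P hPp h2 hco hn.2.2
    have hC₁n : N ⊓ stabMod B P ≤ Subgroup.normalizer
        ((N ⊓ stabMod B P ⊓ Subgroup.centralizer (B : Set G) : Subgroup G) : Set G) := by
      intro m hm
      apply cj_eq_self_iff.mp
      rw [cj_inf, cj_eq_self_of_mem hm, cj_centralizer, cj_eq_self_iff.mpr hm.2.1]
    obtain ⟨k, hk⟩ := relIndex_pow_of_pprime_mem (p := p) inf_le_left hC₁n
      (fun n hn hco => ⟨hn, hpp n hn hco⟩)
    have hR₁p : IsPGroup p (R₀ ⊓ Subgroup.normalizer (B : Set G) : Subgroup G) :=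
      hR₀p.to_le inf_le_left
    obtain ⟨E₀, hE₀, hR₁E⟩ := exists_isSylIn_ge hR₁p
      (inf_le_inf_right _ hsyl.1 : R₀ ⊓ Subgroup.normalizer (B : Set G) ≤
        N ⊓ Subgroup.normalizer (B : Set G))
    have hT₁ := isSylIn_inf_of_le_normalizer hE₀ hN₁M hMN₁
    have hle := le_sup_of_relIndex hk hT₁.2.2
    have hy' := hle ⟨hyN, hyst⟩
    rw [← SetLike.mem_coe, Subgroup.coe_mul_of_right_le_normalizer_left _ _
      (inf_le_right.trans hC₁n)] at hy'
    obtain ⟨z, hz, e, he, hze⟩ := Set.mem_mul.mp hy'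
    have heN : e ∈ Subgroup.normalizer (B : Set G) := he.2.2.1
    have heB : cj e B = B := cj_eq_self_iff.mpr heN
    have hagree : ∀ b ∈ B, e * b * e⁻¹ = y * b * y⁻¹ := by
      intro b hb
      have heb : e * b * e⁻¹ ∈ B := (Subgroup.mem_normalizer_iff.mp heN b).mp hb
      have hzc := (Subgroup.mem_centralizer_iff.mp hz.2) _ heb
      rw [← hze]
      calc e * b * e⁻¹ = e * b * e⁻¹ * z * z⁻¹ := by group
        _ = z * (e * b * e⁻¹) * z⁻¹ := by rw [hzc]
        _ = z * e * b * (z * e)⁻¹ := by group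
    refine hR.congr B e y hagree ?_
    have hBR₁ : B ≤ R₀ ⊓ Subgroup.normalizer (B : Set G) := le_inf hB Subgroup.le_normalizer
    by_cases hBR : B = R₀
    · have hE : E₀ = R₀ := by
        refine hsyl.eq_of_le hE₀.2.1 ?_ (hE₀.1.trans inf_le_left)
        refine le_trans (le_inf le_rfl ?_) hR₁E
        rw [← hBR]
        exact Subgroup.le_normalizer
      have heS : e ∈ (S : Subgroup G) := hR₀S (by rw [← hE]; exact he.1)
      exact hs e heS B (hB.trans hR₀S) (by rw [heB]; exact hB.trans hR₀S)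
    · have hlt : B < R₀ := lt_of_le_of_ne hB hBR
      have hlt1 : B < R₀ ⊓ Subgroup.normalizer (B : Set G) := lt_inf_normalizer_of_lt hR₀p hlt
      obtain ⟨g, hgN, hgE⟩ := hsyl.exists_cj_le hE₀.2.1 (hE₀.1.trans inf_le_left)
      have hc1 := card_lt_card_of_lt hlt1
      have hc2 : Nat.card (R₀ ⊓ Subgroup.normalizer (B : Set G) : Subgroup G) ≤ Nat.card R₀ :=
        Subgroup.card_le_of_le inf_le_left
      have hRg1 := ih (Nat.card R₀ - Nat.card (R₀ ⊓ Subgroup.normalizer (B : Set G) : Subgroup G))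
        (by omega) (R₀ ⊓ Subgroup.normalizer (B : Set G)) rfl (hPB.trans hBR₁) inf_le_left g hgN
        ((cj_le_cj.mpr hR₁E).trans hgE)
      have hRg : R B g := hR.mono _ B g hBR₁ hRg1
      have hgB : cj g B ≤ (S : Subgroup G) :=
        ((cj_le_cj.mpr (hBR₁.trans hR₁E)).trans hgE).trans hR₀S
      refine hR.conj_step hRg le_rfl heB.le ?_
      refine hs (g * e * g⁻¹) (hR₀S (hgE (conj_mem_cj.mpr he.1))) (cj g B) hgB ?_
      rw [← cj_mul]
      have e' : g * e * g⁻¹ * g = g * e := by group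
      rw [e', cj_mul, heB]
      exact hgB
  intro x hx B hB hxB
  have h1 : cj x (B ⊔ P) ≤ R₀ := by
    show (B ⊔ P).map _ ≤ _
    rw [Subgroup.map_sup]
    refine sup_le hxB ?_
    show cj x P ≤ _
    rw [cj_normal]
    exact hPR₀
  exact hR.mono _ B x le_sup_left (main (B ⊔ P) le_sup_right (sup_le hB hPR₀) x hx h1)

end lemmaL

end Cfsg.Agent.Lib.helper39
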