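import Mathlib
import Cfsg.Agent.Lib.helper3.GfDefs

/-!
# S4395, piece GENN (race copy): in a cover with `N` non-generating, `N` is generated by the
commutators and `p`-th powers of `P`
-/

set_option autoImplicit false

namespace Cfsg.Agent.Lib.helper3.Gf

/-- GENN (race copy of `genn`). -/
theorem h39_genn (p q r : ℕ) [Fact p.Prime] [Fact q.Prime] (hpq : p ≠ q) {K : Type*} [Group K]
    [Finite K] (N P : Subgroup K) (y : K) (h : Cov p q r N P y) (hng : NonGen N) :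
    N ≤ Subgroup.closure (CP p P) := by
  classical
  have hPn : P.Normal := h.P_normal
  have hCPN : CP p P ⊆ N := by
    rintro g (⟨u, hu, v, hv, rfl⟩ | ⟨u, hu, rfl⟩)
    · exact h.comm_mem u hu v hv
    · exact h.pow_mem u hu
  have hCPinv : ∀ (c a : K), a ∈ CP p P → c * a * c⁻¹ ∈ CP p P := by
    rintro c a (⟨u, hu, v, hv, rfl⟩ | ⟨u, hu, rfl⟩)
    · left
      exact ⟨c * u * c⁻¹, hPn.conj_mem u hu c, c * v * c⁻¹, hPn.conj_mem v hv c, by group⟩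
    · right
      exact ⟨c * u * c⁻¹, hPn.conj_mem u hu c, by rw [conj_pow]⟩
  have hZeq : Subgroup.closure (CP p P) = Subgroup.normalClosure (CP p P) := by
    unfold Subgroup.normalClosure
    congr 1
    apply Set.Subset.antisymm Group.subset_conjugatesOfSet
    intro g hg
    rw [Group.mem_conjugatesOfSet_iff] at hg
    obtain ⟨a, ha, hconj⟩ := hg
    obtain ⟨c, hc⟩ := isConj_iff.1 hconj
    rw [← hc]
    exact hCPinv c a ha
  have hZnormal : (Subgroup.closure (CP p P)).Normal := by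
    rw [hZeq]
    exact Subgroup.normalClosure_normal
  set Z : Subgroup K := Subgroup.closure (CP p P) with hZ
  have hZN : Z ≤ N := (Subgroup.closure_le N).2 hCPN
  have hZP : Z ≤ P := hZN.trans h.N_le_P
  have hcommZ : ∀ u ∈ P, ∀ v ∈ P, u * v * u⁻¹ * v⁻¹ ∈ Z := fun u hu v hv =>
    Subgroup.subset_closure (Or.inl ⟨u, hu, v, hv, rfl⟩)
  -- the `q`-part of `y`
  obtain ⟨e, he⟩ : ∃ e, orderOf (y ^ (q ^ r)) = p ^ e := by
    obtain ⟨k, hk⟩ := h.P_pgroup ⟨y ^ (q ^ r), h.ord_mem⟩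
    have h1 : (y ^ (q ^ r)) ^ (p ^ k) = 1 := by
      have := congrArg Subtype.val hk
      simpa using this
    obtain ⟨e, -, he⟩ := (Nat.dvd_prime_pow (Fact.out : p.Prime)).1 (orderOf_dvd_of_pow_eq_one h1)
    exact ⟨e, he⟩
  set y₁ : K := y ^ (p ^ e) with hy₁
  have hy₁q : y₁ ^ (q ^ r) = 1 := by
    rw [hy₁, ← pow_mul, mul_comm, pow_mul, ← he, pow_orderOf_eq_one]
  have hcop : Nat.Coprime (p ^ e) (q ^ r) :=
    Nat.Coprime.pow _ _ ((Nat.coprime_primes (Fact.out : p.Prime) (Fact.out : q.Prime)).2 hpq)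
  have hyPQ : y ∈ P ⊔ Subgroup.zpowers y₁ := by
    have h1 : (1 : ℤ) = ((p ^ e : ℕ) : ℤ) * Nat.gcdA (p ^ e) (q ^ r) +
        ((q ^ r : ℕ) : ℤ) * Nat.gcdB (p ^ e) (q ^ r) := by
      have h0 := Nat.gcd_eq_gcd_ab (p ^ e) (q ^ r)
      rw [hcop.gcd_eq_one] at h0
      exact_mod_cast h0
    have h2 : y = (y ^ (q ^ r)) ^ (Nat.gcdB (p ^ e) (q ^ r)) * y₁ ^ (Nat.gcdA (p ^ e) (q ^ r)) := by
      calc y = y ^ (1 : ℤ) := (zpow_one y).symm
        _ = y ^ (((q ^ r : ℕ) : ℤ) * Nat.gcdB (p ^ e) (q ^ r) +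
            ((p ^ e : ℕ) : ℤ) * Nat.gcdA (p ^ e) (q ^ r)) := by rw [h1, add_comm]
        _ = (y ^ (q ^ r)) ^ (Nat.gcdB (p ^ e) (q ^ r)) * y₁ ^ (Nat.gcdA (p ^ e) (q ^ r)) := by
            rw [zpow_add, zpow_mul, zpow_mul, zpow_natCast, zpow_natCast]
    rw [h2]
    exact Subgroup.mul_mem _ (Subgroup.mem_sup_left (P.zpow_mem h.ord_mem _))
      (Subgroup.mem_sup_right (Subgroup.zpow_mem _ (Subgroup.mem_zpowers y₁) _))
  have hPQ : P ⊔ Subgroup.zpowers y₁ = ⊤ := by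
    rw [eq_top_iff, ← h.sup_top]
    exact sup_le le_sup_left ((Subgroup.zpowers_le).2 hyPQ)
  -- the quotient by `Z`
  let π : K →* K ⧸ Z := QuotientGroup.mk' Z
  have hπker : ∀ g : K, π g = 1 ↔ g ∈ Z := fun g => QuotientGroup.eq_one_iff g
  have hπeq : ∀ a b : K, π a = π b ↔ a⁻¹ * b ∈ Z := fun a b => QuotientGroup.eq
  set P' : Subgroup (K ⧸ Z) := P.map π with hP'
  have hP'comm : ∀ a ∈ P', ∀ b ∈ P', a * b = b * a := by
    rintro _ ⟨u, hu, rfl⟩ _ ⟨v, hv, rfl⟩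
    rw [← map_mul, ← map_mul, hπeq]
    have h1 : (u * v)⁻¹ * (v * u) = v⁻¹ * u⁻¹ * v⁻¹⁻¹ * u⁻¹⁻¹ := by group
    rw [h1]
    exact hcommZ _ (P.inv_mem hv) _ (P.inv_mem hu)
  have hP'conj : ∀ a ∈ P', π y₁ * a * (π y₁)⁻¹ ∈ P' := by
    rintro _ ⟨u, hu, rfl⟩
    exact ⟨y₁ * u * y₁⁻¹, hPn.conj_mem u hu y₁, by simp⟩
  have hP'conj' : ∀ a ∈ P', (π y₁)⁻¹ * a * π y₁ ∈ P' := by
    rintro _ ⟨u, hu, rfl⟩
    refine ⟨y₁⁻¹ * u * y₁, ?_, by simp⟩
    have := hPn.conj_mem u hu y₁⁻¹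
    rwa [inv_inv] at this
  let θ : ↥P' →* ↥P' :=
    { toFun := fun a => ⟨π y₁ * a * (π y₁)⁻¹ * (a : K ⧸ Z)⁻¹,
        P'.mul_mem (hP'conj a a.2) (P'.inv_mem a.2)⟩
      map_one' := by
        apply Subtype.ext
        simp
      map_mul' := by
        intro a b
        apply Subtype.ext
        have hB := hP'conj b b.2
        have hc1 : (a : K ⧸ Z)⁻¹ * (π y₁ * b * (π y₁)⁻¹ * (b : K ⧸ Z)⁻¹) =
            (π y₁ * b * (π y₁)⁻¹ * (b : K ⧸ Z)⁻¹) * (a : K ⧸ Z)⁻¹ :=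
          hP'comm _ (P'.inv_mem a.2) _ (P'.mul_mem hB (P'.inv_mem b.2))
        show π y₁ * ((a : K ⧸ Z) * b) * (π y₁)⁻¹ * ((a : K ⧸ Z) * b)⁻¹ =
          (π y₁ * a * (π y₁)⁻¹ * (a : K ⧸ Z)⁻¹) * (π y₁ * b * (π y₁)⁻¹ * (b : K ⧸ Z)⁻¹)
        calc π y₁ * ((a : K ⧸ Z) * b) * (π y₁)⁻¹ * ((a : K ⧸ Z) * b)⁻¹
            = (π y₁ * a * (π y₁)⁻¹) * ((π y₁ * b * (π y₁)⁻¹ * (b : K ⧸ Z)⁻¹) * (a : K ⧸ Z)⁻¹) := by
              group
          _ = (π y₁ * a * (π y₁)⁻¹) * ((a : K ⧸ Z)⁻¹ * (π y₁ * b * (π y₁)⁻¹ * (b : K ⧸ Z)⁻¹)) := by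
              rw [hc1]
          _ = _ := by group }
  have hθval : ∀ a : ↥P', ((θ a : ↥P') : K ⧸ Z) = π y₁ * a * (π y₁)⁻¹ * (a : K ⧸ Z)⁻¹ :=
    fun a => rfl
  -- the preimage `D₀` of the range of `θ`
  set D₀ : Subgroup K := (θ.range.map P'.subtype).comap π with hD₀
  have hD₀mem : ∀ g : K, g ∈ D₀ ↔ ∃ a : ↥P', π g = π y₁ * a * (π y₁)⁻¹ * (a : K ⧸ Z)⁻¹ := by
    intro g
    rw [hD₀, Subgroup.mem_comap, Subgroup.mem_map]
    constructor
    · rintro ⟨x, ⟨a, rfl⟩, hx⟩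
      exact ⟨a, by rw [← hx]; rfl⟩
    · rintro ⟨a, ha⟩
      exact ⟨θ a, ⟨a, rfl⟩, by rw [ha]; rfl⟩
  have hD₀P : D₀ ≤ P := by
    intro g hg
    obtain ⟨a, ha⟩ := (hD₀mem g).1 hg
    have h1 : π g ∈ P' := by
      rw [ha]
      exact P'.mul_mem (hP'conj a a.2) (P'.inv_mem a.2)
    obtain ⟨u, hu, hug⟩ := h1
    have h2 : u⁻¹ * g ∈ Z := (hπeq u g).1 hug
    have h3 : g = u * (u⁻¹ * g) := by group
    rw [h3]
    exact P.mul_mem hu (hZP h2)
  have hZD₀ : Z ≤ D₀ := by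
    intro g hg
    rw [hD₀mem]
    exact ⟨1, by rw [(hπker g).2 hg]; simp⟩
  have hcommD₀ : ∀ u ∈ P, y₁ * u * y₁⁻¹ * u⁻¹ ∈ D₀ := by
    intro u hu
    rw [hD₀mem]
    exact ⟨⟨π u, Subgroup.mem_map_of_mem π hu⟩, by simp⟩
  -- `D₀` is normal
  have hD₀conjP : ∀ g ∈ P, ∀ n ∈ D₀, g * n * g⁻¹ ∈ D₀ := by
    intro g hg n hn
    have h1 : g * n * g⁻¹ = (g * n * g⁻¹ * n⁻¹) * n := by group
    rw [h1]
    exact D₀.mul_mem (hZD₀ (hcommZ g hg n (hD₀P hn))) hn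
  have hD₀conjy : ∀ n ∈ D₀, y₁ * n * y₁⁻¹ ∈ D₀ := by
    intro n hn
    obtain ⟨a, ha⟩ := (hD₀mem n).1 hn
    rw [hD₀mem]
    refine ⟨⟨π y₁ * a * (π y₁)⁻¹, hP'conj a a.2⟩, ?_⟩
    rw [map_mul, map_mul, map_inv, ha]
    show _ = π y₁ * (π y₁ * (a : K ⧸ Z) * (π y₁)⁻¹) * (π y₁)⁻¹ * (π y₁ * (a : K ⧸ Z) * (π y₁)⁻¹)⁻¹
    group
  have hD₀conjy' : ∀ n ∈ D₀, y₁⁻¹ * n * y₁ ∈ D₀ := by
    intro n hn
    obtain ⟨a, ha⟩ := (hD₀mem n).1 hn
    rw [hD₀mem]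
    refine ⟨⟨(π y₁)⁻¹ * a * π y₁, hP'conj' a a.2⟩, ?_⟩
    rw [map_mul, map_mul, map_inv, ha]
    show _ = π y₁ * ((π y₁)⁻¹ * (a : K ⧸ Z) * π y₁) * (π y₁)⁻¹ * ((π y₁)⁻¹ * (a : K ⧸ Z) * π y₁)⁻¹
    group
  let NN : Subgroup K :=
    { carrier := {g | ∀ n ∈ D₀, g * n * g⁻¹ ∈ D₀ ∧ g⁻¹ * n * g ∈ D₀}
      one_mem' := by
        intro n hn
        simp [hn]
      mul_mem' := by
        intro a b ha hb n hn
        refine ⟨?_, ?_⟩
        · have h1 : a * b * n * (a * b)⁻¹ = a * (b * n * b⁻¹) * a⁻¹ := by group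
          rw [h1]
          exact (ha _ (hb n hn).1).1
        · have h1 : (a * b)⁻¹ * n * (a * b) = b⁻¹ * (a⁻¹ * n * a) * b := by group
          rw [h1]
          exact (hb _ (ha n hn).2).2
      inv_mem' := by
        intro a ha n hn
        refine ⟨?_, ?_⟩
        · rw [inv_inv]
          exact (ha n hn).2
        · rw [inv_inv]
          exact (ha n hn).1 }
  have hNNtop : NN = ⊤ := by
    rw [eq_top_iff, ← hPQ]
    refine sup_le ?_ ((Subgroup.zpowers_le).2 ?_)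
    · intro g hg n hn
      refine ⟨hD₀conjP g hg n hn, ?_⟩
      have := hD₀conjP g⁻¹ (P.inv_mem hg) n hn
      rwa [inv_inv] at this
    · intro n hn
      exact ⟨hD₀conjy n hn, hD₀conjy' n hn⟩
  have hD₀normal : D₀.Normal := by
    refine ⟨fun n hn g => ?_⟩
    have hg : g ∈ NN := by rw [hNNtop]; trivial
    exact (hg n hn).1
  have hNnormal : N.Normal := by
    refine ⟨fun n hn g => ?_⟩
    have h1 := (Subgroup.mem_center_iff.1 (h.N_central hn)) g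
    have h2 : g * n * g⁻¹ = n := by rw [h1]; group
    rw [h2]
    exact hn
  -- apply irreducibility to `D₀ ⊔ N`
  have hDNnormal : (D₀ ⊔ N).Normal := inferInstance
  have hDNP : D₀ ⊔ N ≤ P := sup_le hD₀P h.N_le_P
  rcases h.irr (D₀ ⊔ N) le_sup_right hDNP (fun w hw => hDNnormal.conj_mem w hw y) with hcase | hcase
  · -- `D₀ ≤ N`: then `y` acts trivially on `P / N`
    exfalso
    have hD₀N : D₀ ≤ N := by rw [← hcase]; exact le_sup_left
    let M : Subgroup K :=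
      { carrier := {g | ∀ u ∈ P, g * u * g⁻¹ * u⁻¹ ∈ N}
        one_mem' := by
          intro u hu
          simp [N.one_mem]
        mul_mem' := by
          intro a b ha hb u hu
          have h1 : a * b * u * (a * b)⁻¹ * u⁻¹ =
              (a * (b * u * b⁻¹) * a⁻¹ * (b * u * b⁻¹)⁻¹) * (b * u * b⁻¹ * u⁻¹) := by group
          rw [h1]
          exact N.mul_mem (ha _ (hPn.conj_mem u hu b)) (hb u hu)
        inv_mem' := by
          intro a ha u hu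
          have hu' : a⁻¹ * u * a ∈ P := by
            have := hPn.conj_mem u hu a⁻¹
            rwa [inv_inv] at this
          have h1 := ha _ hu'
          have h2 : a⁻¹ * u * a⁻¹⁻¹ * u⁻¹ = (a * (a⁻¹ * u * a) * a⁻¹ * (a⁻¹ * u * a)⁻¹)⁻¹ := by group
          rw [h2]
          exact N.inv_mem h1 }
    have hMtop : M = ⊤ := by
      rw [eq_top_iff, ← hPQ]
      refine sup_le ?_ ((Subgroup.zpowers_le).2 ?_)
      · intro g hg u hu
        exact h.comm_mem g hg u hu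
      · intro u hu
        exact hD₀N (hcommD₀ u hu)
    obtain ⟨u, hu, hnot⟩ := h.nontriv
    have hyM : y ∈ M := by rw [hMtop]; trivial
    exact hnot (hyM u hu)
  · -- `D₀ ⊔ N = P`
    have htop : (D₀ ⊔ Subgroup.zpowers y₁) ⊔ N = ⊤ := by
      rw [sup_right_comm, hcase, hPQ]
    have hDQ : D₀ ⊔ Subgroup.zpowers y₁ = ⊤ := hng _ htop
    have hPD₀ : P ≤ D₀ := by
      intro g hg
      have hg' : g ∈ (↑(D₀ ⊔ Subgroup.zpowers y₁) : Set K) := by rw [hDQ]; trivial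
      rw [Subgroup.normal_mul] at hg'
      obtain ⟨d, hd, c, hc, rfl⟩ := Set.mem_mul.1 hg'
      have hcP : c ∈ P := by
        have h1 : c = d⁻¹ * (d * c) := by group
        rw [h1]
        exact P.mul_mem (P.inv_mem (hD₀P hd)) hg
      have hcq : c ^ (q ^ r) = 1 := by
        obtain ⟨k, rfl⟩ := Subgroup.mem_zpowers_iff.1 hc
        rw [← zpow_natCast, ← zpow_mul, mul_comm, zpow_mul, zpow_natCast, hy₁q, one_zpow]
      obtain ⟨j, hj⟩ := h.P_pgroup ⟨c, hcP⟩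
      have hcp : c ^ (p ^ j) = 1 := by
        have := congrArg Subtype.val hj
        simpa using this
      have hc1 : c = 1 := by
        have h1 : orderOf c ∣ Nat.gcd (q ^ r) (p ^ j) :=
          Nat.dvd_gcd (orderOf_dvd_of_pow_eq_one hcq) (orderOf_dvd_of_pow_eq_one hcp)
        have h2 : Nat.gcd (q ^ r) (p ^ j) = 1 :=
          Nat.Coprime.pow _ _ ((Nat.coprime_primes (Fact.out : q.Prime) (Fact.out : p.Prime)).2
            (Ne.symm hpq))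
        rw [h2, Nat.dvd_one] at h1
        exact orderOf_eq_one_iff.1 h1
      rw [hc1, mul_one]
      exact hd
    have hsurj : Function.Surjective θ := by
      rintro ⟨b, u, hu, rfl⟩
      obtain ⟨a, ha⟩ := (hD₀mem u).1 (hPD₀ hu)
      exact ⟨a, Subtype.ext (by rw [hθval]; exact ha.symm)⟩
    have hinj : Function.Injective θ := Finite.injective_iff_surjective.2 hsurj
    intro n hn
    have hnP : n ∈ P := h.N_le_P hn
    have h1 : θ ⟨π n, Subgroup.mem_map_of_mem π hnP⟩ = θ 1 := by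
      apply Subtype.ext
      rw [hθval, map_one]
      show π y₁ * π n * (π y₁)⁻¹ * (π n)⁻¹ = 1
      rw [← map_inv, ← map_inv, ← map_mul, ← map_mul, ← map_mul, hπker]
      have h2 := (Subgroup.mem_center_iff.1 (h.N_central hn)) y₁
      have h3 : y₁ * n * y₁⁻¹ * n⁻¹ = 1 := by rw [h2]; group
      rw [h3]
      exact Z.one_mem
    have h4 := congrArg Subtype.val (hinj h1)
    exact (hπker n).1 h4

end Cfsg.Agent.Lib.helper3.Gf
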