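import Mathlib
import Cfsg.Agent.Lib.helper68.HallPet

/-!
# S5238 block G, piece K5 (F3), core version (helper39)

The statements of the pieces K1 (`pg_card`), K3 (`pg_com_surj`, only `w = 1`), K9b (`pg_lcs_sub_add`)
and HP (`pg_hp`) are hypotheses here; the wrapper `pg_F3` supplies them.
-/

set_option autoImplicit false

namespace Cfsg.Agent.Lib.helper65.PearlG

open Cfsg.Agent.Lib.helper68

open scoped Pointwise

theorem h39_pg_F3_core {G : Type*} [Group G] [Finite G]
    (p : ℕ) [Fact p.Prime] (n : ℕ) (hG : Nat.card G = p ^ n) (x : G)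
    (hx : x ^ p = 1) (hC : Nat.card (Subgroup.centralizer ({x} : Set G)) = p ^ 2)
    (hcard : ∀ i, 2 ≤ i → i ≤ n → Nat.card (gam G i) = p ^ (n - i))
    (hsurj : 2 ≤ n → ∀ m ∈ gam G 2, ∃ g : G, m = com x g)
    (hadd : ∀ (T : Subgroup G) (j : ℕ),
      (∀ a b : ↥T, com (a : G) (b : G) ∈ gam G (j + 1)) →
        ∀ k, 2 ≤ k → ∀ a : ↥T, a ∈ gam ↥T k → (a : G) ∈ gam G (j + k - 1))
    (hhp : ∀ (T N : Subgroup G),
      (∀ k, 2 ≤ k → ∀ a : ↥T, a ∈ gam ↥T k → (a : G) ^ (p.choose k) ∈ N) →
        ∀ a b : G, a ∈ T → b ∈ T → ∃ z ∈ N, (a * b) ^ p = a ^ p * b ^ p * z)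
    (i : ℕ) (hi : 2 ≤ i) (m : G) (hm : m ∈ gam G i) : m ^ p ∈ gam G (i + p - 1) := by
  have hp := (Fact.out : p.Prime)
  have hn2 : 2 ≤ n := by
    have h1 : Nat.card (Subgroup.centralizer ({x} : Set G)) ∣ Nat.card G :=
      Subgroup.card_subgroup_dvd_card _
    rw [hC, hG] at h1
    exact (Nat.pow_dvd_pow_iff_le_right hp.one_lt).mp h1
  have hbot : gam G n = ⊥ := by
    have h1 := hcard n hn2 le_rfl
    rw [Nat.sub_self, pow_zero] at h1
    exact Subgroup.card_eq_one.mp h1
  have key : ∀ d i, 2 ≤ i → n ≤ i + d → ∀ m ∈ gam G i, m ^ p ∈ gam G (i + p - 1) := by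
    intro d
    induction d with
    | zero =>
      intro i hi hin m hm
      have h1 : m ∈ gam G n := gam_antitone (by omega) hm
      rw [hbot, Subgroup.mem_bot] at h1
      rw [h1, one_pow]
      exact one_mem _
    | succ d ih =>
      intro i hi hin m hm
      have ih1 := ih (i + 1) (by omega) (by omega)
      obtain ⟨T, hT⟩ : ∃ T : Subgroup G, T = Subgroup.zpowers x ⊔ gam G i := ⟨_, rfl⟩
      have hxT : x ∈ T := by
        rw [hT]
        exact (le_sup_left : Subgroup.zpowers x ≤ _) (Subgroup.mem_zpowers x)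
      have hgT : gam G i ≤ T := by
        rw [hT]
        exact le_sup_right
      -- commutators of `T` lie in `gam G (i + 1)`
      have hcomT : ∀ a b : ↥T, com (a : G) (b : G) ∈ gam G (i + 1) := by
        have hcomm_of : ∀ a b : G,
            Commute ((a : G ⧸ gam G (i + 1))) (b : G ⧸ gam G (i + 1)) → com a b ∈ gam G (i + 1) := by
          intro a b hab
          rw [← QuotientGroup.eq_one_iff]
          unfold com
          simp only [QuotientGroup.mk_mul, QuotientGroup.mk_inv]
          have h := hab.eq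
          rw [mul_assoc, h]
          group
        have hcen : ∀ g ∈ gam G i, ∀ s : G,
            Commute ((g : G ⧸ gam G (i + 1))) (s : G ⧸ gam G (i + 1)) := by
          intro g hg s
          have hs : s ∈ gam G 1 := by
            show s ∈ (⊤ : Subgroup G).lowerCentralSeries 0
            rw [Subgroup.lowerCentralSeries_zero]
            exact Subgroup.mem_top _
          have h1 : com g s ∈ gam G (i + 1) := com_mem hg hs
          rw [← QuotientGroup.eq_one_iff] at h1
          unfold com at h1
          simp only [QuotientGroup.mk_mul, QuotientGroup.mk_inv] at h1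
          show (g : G ⧸ gam G (i + 1)) * s = s * g
          have h2 : (g : G ⧸ gam G (i + 1)) * s =
              s * g * ((g : G ⧸ gam G (i + 1))⁻¹ * (s : G ⧸ gam G (i + 1))⁻¹ * g * s) := by group
          rw [h2, h1, mul_one]
        have hmemT : ∀ t ∈ T, ∃ k : ℤ, ∃ g ∈ gam G i, t = x ^ k * g := by
          intro t ht
          rw [hT] at ht
          have h1 : t ∈ ((Subgroup.zpowers x : Set G) * (gam G i : Set G)) := by
            rw [← Subgroup.mul_normal]
            exact ht
          obtain ⟨y, hy, g, hg, rfl⟩ := Set.mem_mul.mp h1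
          obtain ⟨k, rfl⟩ := Subgroup.mem_zpowers_iff.mp hy
          exact ⟨k, g, hg, rfl⟩
        intro a b
        obtain ⟨k, g, hg, ha⟩ := hmemT a a.2
        obtain ⟨l, h, hh, hb⟩ := hmemT b b.2
        apply hcomm_of
        rw [ha, hb]
        have e1 : ((x ^ k * g : G) : G ⧸ gam G (i + 1)) =
            (x : G ⧸ gam G (i + 1)) ^ k * (g : G ⧸ gam G (i + 1)) := by
          rw [QuotientGroup.mk_mul, QuotientGroup.mk_zpow]
        have e2 : ((x ^ l * h : G) : G ⧸ gam G (i + 1)) =
            (x : G ⧸ gam G (i + 1)) ^ l * (h : G ⧸ gam G (i + 1)) := by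
          rw [QuotientGroup.mk_mul, QuotientGroup.mk_zpow]
        rw [e1, e2]
        have c1 : Commute ((x : G ⧸ gam G (i + 1)) ^ k) ((x : G ⧸ gam G (i + 1)) ^ l) :=
          Commute.zpow_zpow_self _ k l
        have c2 : Commute ((x : G ⧸ gam G (i + 1)) ^ k) (h : G ⧸ gam G (i + 1)) := by
          have h0 := (hcen h hh (x ^ k)).symm
          rwa [QuotientGroup.mk_zpow] at h0
        have c3 : Commute (g : G ⧸ gam G (i + 1)) ((x : G ⧸ gam G (i + 1)) ^ l) := by
          have h0 := hcen g hg (x ^ l)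
          rwa [QuotientGroup.mk_zpow] at h0
        have c4 : Commute (g : G ⧸ gam G (i + 1)) (h : G ⧸ gam G (i + 1)) := hcen g hg h
        exact Commute.mul_left (Commute.mul_right c1 c2) (Commute.mul_right c3 c4)
      have hM : ∀ k, 2 ≤ k → ∀ a : ↥T, a ∈ gam ↥T k →
          (a : G) ^ (p.choose k) ∈ gam G (i + p - 1) := by
        intro k hk a ha
        have ha1 : (a : G) ∈ gam G (i + k - 1) := hadd T i hcomT k hk a ha
        rcases lt_trichotomy k p with hkp | hkp | hkp
        · obtain ⟨c, hc⟩ := hp.dvd_choose_self (by omega) hkp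
          rw [hc, pow_mul]
          have h2 : (a : G) ∈ gam G (i + 1) := gam_antitone (by omega) ha1
          have h3 : (a : G) ^ p ∈ gam G (i + 1 + p - 1) := ih1 _ h2
          have h4 : (a : G) ^ p ∈ gam G (i + p - 1) := gam_antitone (by omega) h3
          exact Subgroup.pow_mem _ h4 c
        · subst hkp
          rw [Nat.choose_self, pow_one]
          exact ha1
        · rw [Nat.choose_eq_zero_of_lt hkp, pow_zero]
          exact one_mem _
      obtain ⟨g, hg⟩ := hsurj hn2 m (gam_antitone hi hm)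
      have hxm : x * m = g⁻¹ * x * g⁻¹⁻¹ := by
        rw [hg]
        unfold com
        group
      have hxmp : (x * m) ^ p = 1 := by
        rw [hxm, conj_pow, hx]
        group
      obtain ⟨z, hz, hzeq⟩ := hhp T (gam G (i + p - 1)) hM x⁻¹ (x * m) (T.inv_mem hxT)
        (T.mul_mem hxT (hgT hm))
      have e : x⁻¹ * (x * m) = m := by group
      rw [e, hxmp, inv_pow, hx] at hzeq
      rw [hzeq]
      simpa using hz
  exact key (n - i) i hi (by omega) m hm

end Cfsg.Agent.Lib.helper65.PearlG
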