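import Mathlib
import Cfsg.Prelude.Def_Solvable
import Cfsg.Agent.Lib.helper38.RO1

/-!
# S4330 piece EX-T (for helper38): transport of the EX induction hypothesis to an invariant
subgroup
-/

set_option autoImplicit false
open Pointwise

namespace Cfsg.Agent.Lib.helper38.RO

universe u v

theorem ex_transport (p : ℕ) [Fact p.Prime] {M : Type v} [CommGroup M] [Finite M]
    (hcop : ¬ p ∣ Nat.card M) (k : ℕ) (ih : EXGoal.{v} p k)
    (E₁ Z : Subgroup (MulAut M)) (hZE : Z ≤ E₁) (hZcard : Nat.card ↥Z = p)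
    (hZc : ∀ z ∈ Z, ∀ e ∈ E₁, z * e = e * z) (hEp : ∀ e ∈ E₁, e ^ p = 1)
    (hEcomm : ∀ e ∈ E₁, ∀ f ∈ E₁, e * f * e⁻¹ * f⁻¹ ∈ Z) (hZfix : fixedPts Z = ⊥)
    (M₁ : Subgroup M) (hinv : ∀ e ∈ E₁, ∀ m ∈ M₁, e m ∈ M₁) (hM₁ : M₁ ≠ ⊥)
    (hk : Nat.card ↥E₁ ≤ k ∨
      (Nat.card ↥E₁ ≤ k + 1 ∧ ∃ c ∈ E₁, c ≠ 1 ∧ ∀ m ∈ M₁, c m = m)) :
    ∃ w ∈ M₁, ∀ e ∈ E₁, e w = w → ∀ m ∈ M₁, e m = m := by
  classical
  have hp : p.Prime := Fact.out
  let ρ : ↥E₁ →* MulAut ↥M₁ := restrictHom E₁ M₁ hinv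
  have hρ : ∀ (e : ↥E₁) (m : ↥M₁), ((ρ e) m : M) = (e : MulAut M) (m : M) := fun e m => rfl
  let ψ : ↥Z →* MulAut ↥M₁ := ρ.comp (Subgroup.inclusion hZE)
  have hψ : ∀ (z : ↥Z) (m : ↥M₁), ((ψ z) m : M) = (z : MulAut M) (m : M) := fun z m => rfl
  -- `ψ` is injective
  have hψinj : Function.Injective ψ := by
    rw [injective_iff_map_eq_one]
    intro z hz
    by_contra hz1
    apply hM₁
    rw [eq_bot_iff]
    intro m hm
    have hzp : Subgroup.zpowers z = ⊤ := zpowers_eq_top_of_prime_card hZcard hz1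
    have hmfix : m ∈ fixedPts Z := by
      intro y hy
      have hy' : (⟨y, hy⟩ : ↥Z) ∈ Subgroup.zpowers z := by rw [hzp]; trivial
      obtain ⟨j, hj⟩ := hy'
      have h1 : ψ (⟨y, hy⟩ : ↥Z) = 1 := by rw [← hj, map_zpow, hz, one_zpow]
      have h2 := hψ ⟨y, hy⟩ ⟨m, hm⟩
      rw [h1] at h2
      exact h2.symm
    rw [hZfix] at hmfix
    exact hmfix
  -- cardinalities
  have hcop₁ : ¬ p ∣ Nat.card ↥M₁ := fun h => hcop (h.trans (Subgroup.card_subgroup_dvd_card M₁))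
  have hZ''card : Nat.card ↥ψ.range = p := by
    rw [← hZcard]
    exact (Nat.card_congr (MonoidHom.ofInjective hψinj).toEquiv).symm
  have hE''card : Nat.card ↥ρ.range ≤ k := by
    have hle : Nat.card ↥ρ.range ≤ Nat.card ↥E₁ :=
      Nat.card_le_card_of_surjective ρ.rangeRestrict ρ.rangeRestrict_surjective
    rcases hk with hk | ⟨hk, c, hc, hc1, hcfix⟩
    · exact hle.trans hk
    · have hlt : Nat.card ↥ρ.range < Nat.card ↥E₁ := by
        letI : Fintype ↥E₁ := Fintype.ofFinite _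
        letI : Fintype ↥ρ.range := Fintype.ofFinite _
        rw [Nat.card_eq_fintype_card, Nat.card_eq_fintype_card]
        apply Fintype.card_lt_of_surjective_not_injective ρ.rangeRestrict ρ.rangeRestrict_surjective
        intro hinj
        have h1 : ρ.rangeRestrict ⟨c, hc⟩ = ρ.rangeRestrict 1 := by
          apply Subtype.ext
          rw [map_one]
          show ρ ⟨c, hc⟩ = 1
          ext m
          rw [hρ]
          exact hcfix m m.2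
        have h2 := hinj h1
        exact hc1 (congrArg Subtype.val h2)
      omega
  have hZE'' : ψ.range ≤ ρ.range := by
    rintro _ ⟨z, rfl⟩
    exact ⟨Subgroup.inclusion hZE z, rfl⟩
  have hcent : ∀ z ∈ ψ.range, ∀ e ∈ ρ.range, z * e = e * z := by
    rintro _ ⟨z, rfl⟩ _ ⟨e, rfl⟩
    show ρ (Subgroup.inclusion hZE z) * ρ e = ρ e * ρ (Subgroup.inclusion hZE z)
    rw [← map_mul, ← map_mul]
    congr 1
    exact Subtype.ext (hZc z z.2 e e.2)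
  have hexp : ∀ e ∈ ρ.range, e ^ p = 1 := by
    rintro _ ⟨e, rfl⟩
    rw [← map_pow]
    have : e ^ p = 1 := Subtype.ext (hEp e e.2)
    rw [this, map_one]
  have hcomm : ∀ e ∈ ρ.range, ∀ f ∈ ρ.range, e * f * e⁻¹ * f⁻¹ ∈ ψ.range := by
    rintro _ ⟨e, rfl⟩ _ ⟨f, rfl⟩
    refine ⟨⟨(e : MulAut M) * f * (e : MulAut M)⁻¹ * (f : MulAut M)⁻¹, hEcomm e e.2 f f.2⟩, ?_⟩
    show ρ (Subgroup.inclusion hZE _) = _
    rw [← map_inv, ← map_inv, ← map_mul, ← map_mul, ← map_mul]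
    congr 1
  have hfix : fixedPts ψ.range = ⊥ := by
    rw [eq_bot_iff]
    intro m hm
    have h1 : (m : M) ∈ fixedPts Z := by
      intro y hy
      have h2 := hm (ψ ⟨y, hy⟩) ⟨⟨y, hy⟩, rfl⟩
      have h3 := hψ ⟨y, hy⟩ m
      rw [h2] at h3
      exact h3.symm
    rw [hZfix] at h1
    exact Subtype.ext h1
  obtain ⟨m₁, hm₁⟩ := ih ↥M₁ hcop₁ ρ.range ψ.range hE''card hZE'' hZ''card hcent hexp hcomm hfix
  refine ⟨(m₁ : M), m₁.2, ?_⟩
  intro e he hew m hm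
  have h1 : (ρ ⟨e, he⟩) m₁ = m₁ := Subtype.ext (by rw [hρ]; exact hew)
  have h2 := hm₁ (ρ ⟨e, he⟩) ⟨⟨e, he⟩, rfl⟩ h1
  have h3 := hρ ⟨e, he⟩ ⟨m, hm⟩
  rw [h2] at h3
  exact h3.symm

end Cfsg.Agent.Lib.helper38.RO
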