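import Mathlib
import Cfsg.Prelude.Def_Solvable
import Cfsg.Agent.Lib.helper38.RO1
import Cfsg.Agent.Lib.helper38.RONorm
import Cfsg.Agent.Lib.helper72.ROSub

/-!
# S4330 piece STEP2 (for helper38): a normal subgroup `Y` with nontrivial fixed points
-/

set_option autoImplicit false
open Pointwise

namespace Cfsg.Agent.Lib.helper38.RO

universe u v

/-- In a finite group of order prime to `p`, an element killed by a power of `p` is trivial. -/
theorem h39_eq_one_of_pow_prime_pow {p : ℕ} [Fact p.Prime] {M : Type v} [Group M] [Finite M]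
    (hcop : ¬ p ∣ Nat.card M) (g : M) (k : ℕ) (h : g ^ p ^ k = 1) : g = 1 := by
  have hp : p.Prime := Fact.out
  have h1 : orderOf g ∣ p ^ k := orderOf_dvd_of_pow_eq_one h
  obtain ⟨j, -, hj⟩ := (Nat.dvd_prime_pow hp).mp h1
  have h2 : orderOf g ∣ Nat.card M := orderOf_dvd_natCard g
  rcases Nat.eq_zero_or_pos j with rfl | hjpos
  · rw [pow_zero] at hj
    exact orderOf_eq_one_iff.mp hj
  · exfalso
    apply hcop
    refine Dvd.dvd.trans ?_ h2
    rw [hj]
    exact dvd_pow_self p hjpos.ne'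

theorem step_fix (p : ℕ) [Fact p.Prime] {M : Type v} [CommGroup M] [Finite M]
    (hcop : ¬ p ∣ Nat.card M) (ih : IHyp p M)
    (N Q X : Subgroup (MulAut M)) (hQN : Q ≤ N)
    (hnorm : ∀ n ∈ N, ∀ q ∈ Q, n * q * n⁻¹ ∈ Q) (hQ : IsPGroup p ↥Q) (hXQ : X ≤ Q) (hX : X ≠ ⊥)
    (Y : Subgroup (MulAut M)) (hYQ : Y ≤ Q) (hYn : ∀ n ∈ N, ∀ y ∈ Y, n * y * n⁻¹ ∈ Y)
    (hY : Y ≠ ⊥) (hYfix : fixedPts Y ≠ ⊥) :
    ∃ m : M, ∀ n ∈ N, ∃ x ∈ X, (n * x * n⁻¹) m ≠ m := by
  classical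
  -- `|Y|` is a power of `p`
  have hYp : IsPGroup p ↥Y := hQ.to_le hYQ
  obtain ⟨k, hk⟩ := IsPGroup.iff_card.mp hYp
  -- conjugation by `n ∈ N` fixes `Y`
  have hconj : ∀ n ∈ N, conjSub n Y = Y := by
    intro n hn
    refine conjSub_eq_self_of_normal (hYn n hn) ?_
    intro d hd
    have := hYn n⁻¹ (inv_mem hn) d hd
    rwa [inv_inv] at this
  -- the two invariant subgroups
  have hinv₁ : ∀ n ∈ N, ∀ m ∈ fixedPts Y, n m ∈ fixedPts Y := by
    intro n hn m hm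
    have := map_mem_fixedPts_conjSub (n := n) hm
    rwa [hconj n hn] at this
  have hinv₂ : ∀ n ∈ N, ∀ m ∈ (normHom Y).ker, n m ∈ (normHom Y).ker := by
    intro n hn m hm
    rw [MonoidHom.mem_ker, normHom_apply] at hm ⊢
    have h1 := map_normMap n Y m
    rw [hconj n hn, hm, map_one] at h1
    exact h1.symm
  have hlt₁ : Nat.card ↥(fixedPts Y) < Nat.card M := card_fixedPts_lt Y hY
  have hlt₂ : Nat.card ↥(normHom Y).ker < Nat.card M := by
    refine lt_of_le_of_ne (Subgroup.card_le_card_group _) (fun h => ?_)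
    have htop : (normHom Y).ker = ⊤ := Subgroup.eq_top_of_card_eq _ h
    apply hYfix
    rw [eq_bot_iff]
    intro m hm
    have h1 : m ∈ (normHom Y).ker := by rw [htop]; trivial
    rw [MonoidHom.mem_ker, normHom_apply, normMap_of_mem_fixedPts Y m hm, hk] at h1
    exact h39_eq_one_of_pow_prime_pow hcop m k h1
  -- `X` acts nontrivially on one of them
  obtain ⟨x, hx, hx1⟩ : ∃ x ∈ X, x ≠ 1 := by
    by_contra hcon
    apply hX
    rw [eq_bot_iff]
    intro x hx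
    by_contra hx1
    exact hcon ⟨x, hx, hx1⟩
  obtain ⟨m, hm⟩ : ∃ m : M, x m ≠ m := by
    by_contra hcon
    apply hx1
    ext m
    by_contra hne
    exact hcon ⟨m, hne⟩
  have hcase : (∃ m' ∈ fixedPts Y, x m' ≠ m') ∨ (∃ m' ∈ (normHom Y).ker, x m' ≠ m') := by
    by_contra hcon
    rw [not_or] at hcon
    obtain ⟨hc1, hc2⟩ := hcon
    have ha : x (normMap Y m) = normMap Y m := by
      by_contra hne
      exact hc1 ⟨_, normMap_mem_fixedPts Y m, hne⟩
    have hbmem : m ^ Nat.card ↥Y * (normMap Y m)⁻¹ ∈ (normHom Y).ker := by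
      rw [MonoidHom.mem_ker, map_mul, map_inv, map_pow, normHom_apply, normHom_apply,
        normMap_of_mem_fixedPts Y _ (normMap_mem_fixedPts Y m), mul_inv_cancel]
    have hb : x (m ^ Nat.card ↥Y * (normMap Y m)⁻¹) = m ^ Nat.card ↥Y * (normMap Y m)⁻¹ := by
      by_contra hne
      exact hc2 ⟨_, hbmem, hne⟩
    rw [map_mul, map_inv, ha, mul_left_inj, map_pow] at hb
    apply hm
    have h3 : (x m * m⁻¹) ^ p ^ k = 1 := by
      rw [mul_pow, inv_pow, ← hk, hb, mul_inv_cancel]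
    have h4 := h39_eq_one_of_pow_prime_pow hcop _ k h3
    exact mul_inv_eq_one.mp h4
  rcases hcase with ⟨m', hm', hne⟩ | ⟨m', hm', hne⟩
  · obtain ⟨u, -, hu⟩ := sub_goal p hcop ih N Q X hQN hnorm hQ hXQ (fixedPts Y) hinv₁ hlt₁
      ⟨x, hx, m', hm', hne⟩
    exact ⟨u, hu⟩
  · obtain ⟨u, -, hu⟩ := sub_goal p hcop ih N Q X hQN hnorm hQ hXQ (normHom Y).ker hinv₂ hlt₂
      ⟨x, hx, m', hm', hne⟩
    exact ⟨u, hu⟩

end Cfsg.Agent.Lib.helper38.RO
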