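import Mathlib
import Cfsg.Agent.Lib.helper42.AICDefs

/-!
helper39: core of S2202 piece INVM (number of involutions), with the structure facts as hypotheses.
-/

set_option autoImplicit false

open Cfsg.Agent.Lib.helper42.AIC

namespace Cfsg.Agent.Lib.helper39.AIC

/-- number of non-identity elements of a finite subgroup -/
theorem h39_card_ne_one {X : Type*} [Group X] [Finite X] (R : Subgroup X) :
    Nat.card {x : X // x ∈ R ∧ x ≠ 1} = Nat.card R - 1 := by
  have h1 : {x : X | x ∈ R ∧ x ≠ 1} = (R : Set X) \ {1} := by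
    ext x; simp
  have h2 : Nat.card {x : X // x ∈ R ∧ x ≠ 1} = ((R : Set X) \ {1}).ncard := by
    rw [← h1]; rfl
  rw [h2, Set.ncard_sdiff_singleton_of_mem (R.one_mem)]
  rfl

/-- INVM core -/
theorem h39_card_inv_core {X : Type*} [Group X] [Finite X]
    (hTI : ∀ P Q : Sylow 2 X, ∀ x : X, x ∈ (P : Subgroup X) → x ∈ (Q : Subgroup X) → x ≠ 1 → P = Q)
    (hS1 : ∀ P : Sylow 2 X, Nat.card (Sylow 2 X) = Nat.card (P : Subgroup X) + 1)
    (hS2 : ∀ P : Sylow 2 X, ∀ x ∈ (P : Subgroup X), x ^ 2 = 1) (P : Sylow 2 X) :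
    Nat.card {t : X // orderOf t = 2} =
      (Nat.card (P : Subgroup X) + 1) * (Nat.card (P : Subgroup X) - 1) := by
  classical
  letI : Fintype (Sylow 2 X) := Fintype.ofFinite _
  have hcardR : ∀ R : Sylow 2 X, Nat.card (R : Subgroup X) = Nat.card (P : Subgroup X) := by
    intro R
    have h1 := hS1 R
    have h2 := hS1 P
    omega
  let f : (Σ R : Sylow 2 X, {x : X // x ∈ (R : Subgroup X) ∧ x ≠ 1}) → {t : X // orderOf t = 2} :=
    fun p => ⟨p.2.1, orderOf_eq_prime (hS2 p.1 p.2.1 p.2.2.1) p.2.2.2⟩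
  have hf : Function.Bijective f := by
    constructor
    · rintro ⟨R, x, hxR, hx1⟩ ⟨R', x', hxR', hx1'⟩ h
      have hxx : x = x' := congrArg Subtype.val h
      subst hxx
      have hRR : R = R' := hTI R R' x hxR hxR' hx1
      subst hRR
      rfl
    · rintro ⟨t, ht⟩
      have ht1 : t ≠ 1 := by
        rintro rfl
        simp at ht
      have hpg : IsPGroup 2 (Subgroup.zpowers t) := by
        have : Fact (Nat.Prime 2) := ⟨Nat.prime_two⟩
        refine IsPGroup.of_card (n := 1) ?_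
        rw [Nat.card_zpowers, ht]; rfl
      obtain ⟨R, hR⟩ := hpg.exists_le_sylow
      exact ⟨⟨R, t, hR (Subgroup.mem_zpowers t), ht1⟩, rfl⟩
  rw [← Nat.card_eq_of_bijective f hf, Nat.card_sigma]
  have : ∀ R : Sylow 2 X, Nat.card {x : X // x ∈ (R : Subgroup X) ∧ x ≠ 1} =
      Nat.card (P : Subgroup X) - 1 := by
    intro R
    rw [h39_card_ne_one, hcardR R]
  simp only [this]
  rw [Finset.sum_const, Finset.card_univ, smul_eq_mul, ← Nat.card_eq_fintype_card, hS1 P]

end Cfsg.Agent.Lib.helper39.AIC
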