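import Mathlib
import Cfsg.Agent.Lib.helper42.AICDefs
import Cfsg.Agent.Lib.helper49.AIC_NOIDX
import Cfsg.Agent.Lib.helper39.AIC_INVMcore

/-!
helper39: core of S2202 piece HALL, with the structure facts and A8, A9 as hypotheses.
-/

set_option autoImplicit false

open Cfsg.Agent.Lib.helper42.AIC

namespace Cfsg.Agent.Lib.helper39.AIC

/-- HALL core -/
theorem h39_no_hall_core {X : Type*} [Group X] [Finite X] (hnc : NCyc X) (hE : KEq X)
    (Z : Subgroup X) (hZ : IsKsub Z) (hKS : KStruct Z)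
    (hA8 : ∀ P : Sylow 2 X, Nat.card (NP P) =
      Nat.card {t : X // orderOf t = 2 ∧ t ∈ (P : Subgroup X)} * Nat.card (CP P))
    (hA9 : ∀ P : Sylow 2 X, Nat.card (CP P) =
      Nat.card (P : Subgroup X) * Nat.card {x : X // Odd (orderOf x) ∧ x ∈ CP P})
    (P : Sylow 2 X) (Y : Subgroup X) (hYodd : Odd (Nat.card Y))
    (hY : (Nat.card (P : Subgroup X) + 1) * (Nat.card (P : Subgroup X) - 1) * Nat.card ↥(Y ⊓ Z) ≤
      Nat.card Y) : False := by
  classical
  obtain ⟨hS1, hS2, hS3, -, -, -⟩ := hKS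
  have hp2 : Fact (Nat.Prime 2) := ⟨Nat.prime_two⟩
  obtain ⟨a, ha⟩ := (IsPGroup.iff_card (p := 2) (G := ↥(P : Subgroup X))).1 P.isPGroup'
  have ha2 : 2 ≤ a := by
    by_contra hlt
    apply hnc P
    have ha01 : a = 0 ∨ a = 1 := by omega
    rcases ha01 with rfl | rfl
    · have : Subsingleton ↥(P : Subgroup X) := by
        rw [← Finite.card_le_one_iff_subsingleton, ha]; simp
      exact isCyclic_of_subsingleton
    · exact isCyclic_of_prime_card (p := 2) (by rw [ha]; rfl)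
  have hinv : Nat.card {t : X // orderOf t = 2 ∧ t ∈ (P : Subgroup X)} = 2 ^ a - 1 := by
    rw [← ha, ← h39_card_ne_one]
    refine Nat.card_congr (Equiv.subtypeEquivRight (fun x => ?_))
    constructor
    · rintro ⟨ho, hx⟩
      refine ⟨hx, ?_⟩
      rintro rfl
      simp at ho
    · rintro ⟨hx, h1⟩
      exact ⟨orderOf_eq_prime (hS2 P x hx) h1, hx⟩
  have hodd : Nat.card {x : X // Odd (orderOf x) ∧ x ∈ CP P} = Nat.card Z := by
    refine Nat.card_congr (Equiv.subtypeEquivRight (fun x => ?_))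
    rw [hZ x]
    constructor
    · rintro ⟨ho, hx⟩
      exact ⟨ho, fun R => hE P R x ho hx⟩
    · rintro ⟨ho, h⟩
      exact ⟨ho, h P⟩
  have hX : Nat.card X = (2 ^ a + 1) * 2 ^ a * (2 ^ a - 1) * Nat.card Z := by
    have h1 : Nat.card (Sylow 2 X) = (NP P).index := Sylow.card_eq_index_normalizer P
    have h2 : Nat.card (NP P) * (NP P).index = Nat.card X := Subgroup.card_mul_index (NP P)
    rw [← h2, ← h1, hS1 P, hA8 P, hA9 P, hinv, hodd, ha]
    ring
  have hKfix : ∀ k ∈ Z, ∀ R : Sylow 2 X, k • R = R := by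
    intro k hk R
    rw [Sylow.smul_eq_iff_mem_normalizer]
    exact Subgroup.centralizer_le_normalizer _ (((hZ k).1 hk).2 R)
  have h3 : ∀ g : X, ∀ x y z : Sylow 2 X, x ≠ y → x ≠ z → y ≠ z → g • x = x → g • y = y →
      g • z = z → g ∈ Z := by
    intro g x y z hxy hxz hyz hx hy hz
    rw [Sylow.smul_eq_iff_mem_normalizer] at hx hy hz
    exact hS3 x y z hxy hxz hyz g hx hy hz
  refine Cfsg.Agent.Lib.helper49.AIC.no_odd_index (Λ := Sylow 2 X) Z hKfix a ha2
    (by rw [hS1 P, ha]) hX inferInstance h3 Y hYodd ?_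
  rw [← ha]
  exact hY

end Cfsg.Agent.Lib.helper39.AIC
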