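import Mathlib
import Cfsg.Agent.Lib.helper42.AICDefs

/-!
helper39: core of S2202 piece SP1 (`Z` is central), with the structure facts as hypotheses.
-/

set_option autoImplicit false

open Cfsg.Agent.Lib.helper42.AIC

namespace Cfsg.Agent.Lib.helper39.AIC

/-- an element of square one lies in a Sylow 2-subgroup -/
theorem h39_mem_sylow_of_sq {G : Type*} [Group G] [Finite G] (i : G) (hi : i ^ 2 = 1) :
    ∃ R : Sylow 2 G, i ∈ (R : Subgroup G) := by
  have hpg : IsPGroup 2 (Subgroup.zpowers i) := by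
    rintro ⟨g, hg⟩
    obtain ⟨n, rfl⟩ := Subgroup.mem_zpowers_iff.1 hg
    refine ⟨1, Subtype.ext ?_⟩
    simp only [pow_one, Subgroup.coe_pow, Subgroup.coe_one]
    rw [← zpow_natCast, ← zpow_mul, mul_comm, zpow_mul, zpow_natCast, hi, one_zpow]
  obtain ⟨R, hR⟩ := hpg.exists_le_sylow
  exact ⟨R, hR (Subgroup.mem_zpowers i)⟩

/-- a third point -/
theorem h39_exists_third {α : Type*} [Finite α] (h : 3 ≤ Nat.card α) (a b : α) :
    ∃ c : α, c ≠ a ∧ c ≠ b := by
  classical
  by_contra hcon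
  have hall : ∀ c : α, c = a ∨ c = b := by
    intro c
    by_contra h'
    exact hcon ⟨c, fun h1 => h' (Or.inl h1), fun h2 => h' (Or.inr h2)⟩
  let _ : Fintype α := Fintype.ofFinite α
  have hsub : (Finset.univ : Finset α) ⊆ {a, b} := by
    intro c _
    rcases hall c with rfl | rfl <;> simp
  have h1 := Finset.card_le_card hsub
  have h2 : ({a, b} : Finset α).card ≤ 2 := Finset.card_le_two
  rw [Finset.card_univ, ← Nat.card_eq_fintype_card] at h1
  omega

/-- the number of Sylow 2-subgroups is at least three -/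
theorem h39_three_le_sylow {G : Type*} [Group G] [Finite G] (hnc : NCyc G) (Z : Subgroup G)
    (hKS : KStruct Z) : 3 ≤ Nat.card (Sylow 2 G) := by
  obtain ⟨hS1, -⟩ := hKS
  let P : Sylow 2 G := Classical.arbitrary _
  rw [hS1 P]
  have h2 : ¬ Nat.card (P : Subgroup G) ≤ 1 := by
    intro hle
    apply hnc P
    have : Subsingleton ↥(P : Subgroup G) := by
      rw [← Finite.card_le_one_iff_subsingleton]; exact hle
    exact isCyclic_of_subsingleton
  omega

/-- an involution mapping `P` to `Q`, lying in a third Sylow 2-subgroup -/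
theorem h39_exists_swap {G : Type*} [Group G] [Finite G] (hnc : NCyc G) (Z : Subgroup G)
    (hKS : KStruct Z) (P Q : Sylow 2 G) (hPQ : P ≠ Q) :
    ∃ (R : Sylow 2 G) (w : G), w ∈ (R : Subgroup G) ∧ orderOf w = 2 ∧ w • P = Q := by
  have h3 := h39_three_le_sylow hnc Z hKS
  obtain ⟨-, hS2, -, hS4, -, -⟩ := hKS
  obtain ⟨R, hRP, hRQ⟩ := h39_exists_third h3 P Q
  obtain ⟨s, hsR, hs⟩ := hS4 R P Q hRP.symm hRQ.symm
  refine ⟨R, s, hsR, orderOf_eq_prime (hS2 R s hsR) ?_, hs⟩
  rintro rfl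
  rw [one_smul] at hs
  exact hPQ hs

/-- SP1 core -/
theorem h39_ksub_central_core {G : Type*} [Group G] [Finite G] (hnc : NCyc G)
    (Z : Subgroup G) (hZ : IsKsub Z) (hKS : KStruct Z)
    (hcomm : ∀ P : Sylow 2 G, ∀ x ∈ CP P, ∀ y ∈ CP P, x * y = y * x) :
    ∀ z ∈ Z, ∀ g : G, z * g = g * z := by
  have h3 := h39_three_le_sylow hnc Z hKS
  have hswap := h39_exists_swap hnc Z hKS
  obtain ⟨hS1, hS2, hS3, hS4, hS5, hS6⟩ := hKS
  -- the centralizer of `Z`
  have hC : ∀ g : G, g ∈ Subgroup.centralizer (Z : Set G) ↔ ∀ z ∈ Z, z * g = g * z := by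
    intro g
    rw [Subgroup.mem_centralizer_iff]
    rfl
  suffices hall : ∀ g : G, g ∈ Subgroup.centralizer (Z : Set G) by
    intro z hz g
    exact (hC g).1 (hall g) z hz
  set C := Subgroup.centralizer (Z : Set G) with hCdef
  have F1 : ∀ R : Sylow 2 G, ∀ s ∈ (R : Subgroup G), s ∈ C := by
    intro R s hs
    rw [hC]
    intro z hz
    have hzR : z ∈ CP R := ((hZ z).1 hz).2 R
    exact (Subgroup.mem_centralizer_iff.1 hzR s hs).symm
  have F2 : ∀ z ∈ Z, z ∈ C := by
    intro z hz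
    rw [hC]
    intro z' hz'
    let P : Sylow 2 G := Classical.arbitrary _
    exact hcomm P z' (((hZ z').1 hz').2 P) z (((hZ z).1 hz).2 P)
  have F3 : ∀ i : G, i ^ 2 = 1 → i ∈ C := by
    intro i hi
    obtain ⟨R, hR⟩ := h39_mem_sylow_of_sq i hi
    exact F1 R i hR
  have F6 : ∀ P Q : Sylow 2 G, P ≠ Q → ∀ d ∈ NP P ⊓ NP Q, d ∈ C := by
    intro P Q hPQ d hd
    obtain ⟨R, w, hwR, hw, hwP⟩ := hswap P Q hPQ
    have hwC : w ∈ C := F1 R w hwR
    have hww : w * w = 1 := by
      have := pow_orderOf_eq_one w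
      rw [hw, pow_two] at this
      exact this
    have hwinv : w⁻¹ = w := inv_eq_of_mul_eq_one_left hww
    obtain ⟨z, hz, hzd⟩ := hS5 P Q hPQ w hw hwP d hd
    have huu : (d * w) * (d * w) = z := by
      have : (d * w) * (d * w) = d * (w * d * w⁻¹) := by
        rw [hwinv]; group
      rw [this, hzd]; group
    obtain ⟨m, hm⟩ := ((hZ z).1 hz).1
    have hi : ((d * w) ^ (orderOf z)) ^ 2 = 1 := by
      rw [← pow_mul, mul_comm, pow_mul, pow_two, huu, pow_orderOf_eq_one]
    have hiC := F3 _ hi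
    have hu : (d * w) ^ (orderOf z) = z ^ m * (d * w) := by
      rw [hm, pow_succ, pow_mul, pow_two, huu]
    have huC : d * w ∈ C := by
      have h1 : d * w = (z ^ m)⁻¹ * (d * w) ^ (orderOf z) := by
        rw [hu]; group
      rw [h1]
      exact C.mul_mem (C.inv_mem (C.pow_mem (F2 z hz) m)) hiC
    have : d = d * w * w⁻¹ := by group
    rw [this]
    exact C.mul_mem huC (C.inv_mem hwC)
  have F7 : ∀ P : Sylow 2 G, ∀ h ∈ NP P, h ∈ C := by
    intro P h hh
    obtain ⟨Q, hQP, -⟩ := h39_exists_third h3 P P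
    have hhP : h • P = P := Sylow.smul_eq_iff_mem_normalizer.2 hh
    have hne : h • Q ≠ P := by
      intro heq
      rw [← hhP] at heq
      exact hQP (smul_left_cancel h heq)
    obtain ⟨s, hsP, hs⟩ := hS4 P (h • Q) Q hne hQP
    have hsC : s ∈ C := F1 P s hsP
    have hshQ : s * h ∈ NP Q := by
      refine Sylow.smul_eq_iff_mem_normalizer.1 ?_
      rw [mul_smul]
      exact hs
    have hsN : s ∈ NP P := Subgroup.le_normalizer hsP
    have hshP : s * h ∈ NP P := (NP P).mul_mem hsN hh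
    have hD := F6 P Q hQP.symm (s * h) ⟨hshP, hshQ⟩
    have : h = s⁻¹ * (s * h) := by group
    rw [this]
    exact C.mul_mem (C.inv_mem hsC) hD
  intro g
  let P : Sylow 2 G := Classical.arbitrary _
  by_cases hgP : g • P = P
  · exact F7 P g (Sylow.smul_eq_iff_mem_normalizer.1 hgP)
  · obtain ⟨R, w, hwR, hw, hwP⟩ := hswap P (g • P) (fun h => hgP h.symm)
    have hwC : w ∈ C := F1 R w hwR
    have h1 : (w⁻¹ * g) • P = P := by
      rw [mul_smul, ← hwP, inv_smul_smul]
    have h2 := F7 P _ (Sylow.smul_eq_iff_mem_normalizer.1 h1)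
    have : g = w * (w⁻¹ * g) := by group
    rw [this]
    exact C.mul_mem hwC h2

end Cfsg.Agent.Lib.helper39.AIC
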