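import Mathlib
import Cfsg.Agent.Lib.helper42.AICDefs
import Cfsg.Agent.Lib.helper49.AIC_CYC
import Cfsg.Agent.Lib.helper39.AIC_SP1core

/-!
helper39: core of S2202 piece SP2 (`D = N(P) ∩ N(Q)` is commutative), with the structure facts
and SP1, A1, A2, A5 as hypotheses.
-/

set_option autoImplicit false

open Cfsg.Agent.Lib.helper42.AIC

namespace Cfsg.Agent.Lib.helper39.AIC

/-- a map whose fibres are small and whose domain is large is surjective -/
theorem h39_surj_of_fibers {α β : Type*} [Finite α] [Finite β] (f : α → β) (n : ℕ) (hn : 0 < n)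
    (hfib : ∀ a : α, Nat.card {x : α // f x = f a} ≤ n) (hcard : Nat.card β * n ≤ Nat.card α) :
    Function.Surjective f := by
  classical
  let _ : Fintype α := Fintype.ofFinite α
  let _ : Fintype β := Fintype.ofFinite β
  have h1 : (Finset.univ : Finset α).card ≤ n * (Finset.univ.image f).card := by
    apply Finset.card_le_mul_card_image
    intro b hb
    obtain ⟨a, -, rfl⟩ := Finset.mem_image.1 hb
    have := hfib a
    rw [Nat.card_eq_fintype_card, Fintype.card_subtype] at this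
    exact this
  have h2 : (Finset.univ.image f).card ≤ Fintype.card β := Finset.card_le_univ _
  rw [Nat.card_eq_fintype_card, Nat.card_eq_fintype_card] at hcard
  rw [Finset.card_univ] at h1
  have h3 : Fintype.card β ≤ (Finset.univ.image f).card := by
    by_contra hlt
    rw [not_le] at hlt
    have := Nat.mul_lt_mul_of_pos_left hlt hn
    nlinarith
  have h4 : Finset.univ.image f = Finset.univ := Finset.eq_univ_of_card _ (le_antisymm h2 h3)
  intro b
  have hb : b ∈ Finset.univ.image f := by rw [h4]; exact Finset.mem_univ b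
  obtain ⟨a, -, rfl⟩ := Finset.mem_image.1 hb
  exact ⟨a, rfl⟩

/-- number of elements different from a given one -/
theorem h39_card_ne {α : Type*} [Finite α] (a : α) :
    Nat.card {x : α // x ≠ a} = Nat.card α - 1 := by
  have h1 : {x : α | x ≠ a} = (Set.univ : Set α) \ {a} := by
    ext x; simp
  have h2 : Nat.card {x : α // x ≠ a} = ((Set.univ : Set α) \ {a}).ncard := by
    rw [← h1]; rfl
  rw [h2, Set.ncard_sdiff_singleton_of_mem (Set.mem_univ a), Set.ncard_univ]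

/-- a group acting on a finite commutative group, with commutative image transitive on the
non-identity elements and central kernel, is commutative -/
theorem h39_comm_of_action {D V : Type*} [Group D] [Group V] [Finite V]
    (hV : ∀ x y : V, x * y = y * x) (φ : D →* MulAut V)
    (hcomm : ∀ d e : D, φ (d * e) = φ (e * d))
    (htr : ∀ v w : V, v ≠ 1 → w ≠ 1 → ∃ d : D, φ d v = w)
    (hker : ∀ d : D, φ d = 1 → ∀ e : D, d * e = e * d) : ∀ d e : D, d * e = e * d := by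
  have hcyc : IsCyclic φ.range := by
    refine @Cfsg.Agent.Lib.helper49.AIC.cyclic_of_regular V (CommGroup.mk hV) _ φ.range ?_ ?_
    · rintro a ⟨d, rfl⟩ b ⟨e, rfl⟩
      rw [← map_mul, ← map_mul, hcomm]
    · intro v w hv hw
      obtain ⟨d, hd⟩ := htr v w hv hw
      exact ⟨φ d, ⟨d, rfl⟩, hd⟩
  obtain ⟨⟨g₀, d₀, rfl⟩, hg⟩ := hcyc.exists_generator
  have key : ∀ d : D, ∃ n : ℤ, ∀ e : D, (d * d₀ ^ (-n)) * e = e * (d * d₀ ^ (-n)) := by
    intro d
    obtain ⟨n, hn⟩ := Subgroup.mem_zpowers_iff.1 (hg ⟨φ d, d, rfl⟩)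
    refine ⟨n, hker _ ?_⟩
    have h1 : (φ d₀) ^ n = φ d := by
      have := congrArg Subtype.val hn
      simpa using this
    rw [map_mul, map_zpow, zpow_neg, h1, mul_inv_cancel]
  intro d e
  obtain ⟨n, hn⟩ := key d
  obtain ⟨m, hm⟩ := key e
  have hd : d = (d * d₀ ^ (-n)) * d₀ ^ n := by group
  have he : e = (e * d₀ ^ (-m)) * d₀ ^ m := by group
  generalize d * d₀ ^ (-n) = c at hn hd
  generalize e * d₀ ^ (-m) = c' at hm he
  calc d * e = (c * d₀ ^ n) * (c' * d₀ ^ m) := by rw [← hd, ← he]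
    _ = c * (d₀ ^ n * c') * d₀ ^ m := by group
    _ = c * (c' * d₀ ^ n) * d₀ ^ m := by rw [hm (d₀ ^ n)]
    _ = (c * c') * (d₀ ^ n * d₀ ^ m) := by group
    _ = (c' * c) * (d₀ ^ m * d₀ ^ n) := by rw [hn c', ← zpow_add, ← zpow_add, add_comm]
    _ = c' * (c * d₀ ^ m) * d₀ ^ n := by group
    _ = c' * (d₀ ^ m * c) * d₀ ^ n := by rw [hn (d₀ ^ m)]
    _ = (c' * d₀ ^ m) * (c * d₀ ^ n) := by group
    _ = e * d := by rw [← hd, ← he]

/-- SP2 core -/
theorem h39_D_comm_core {G : Type*} [Group G] [Finite G] (hnc : NCyc G) (hE : KEq G)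
    (Z : Subgroup G) (hZ : IsKsub Z) (hKS : KStruct Z)
    (hcen : ∀ z ∈ Z, ∀ g : G, z * g = g * z)
    (hA1 : ∀ P : Sylow 2 G, ∀ x ∈ (P : Subgroup G), ∀ y ∈ (P : Subgroup G), x * y = y * x)
    (hA2 : ∀ (P : Sylow 2 G) (t : G), orderOf t = 2 → t ∈ (P : Subgroup G) →
      Subgroup.centralizer ({t} : Set G) = CP P)
    (hA5 : ∀ P Q : Sylow 2 G, P ≠ Q → ∀ x : G, x ∈ CP P → x ∈ NP Q → Odd (orderOf x))
    (P Q : Sylow 2 G) (hPQ : P ≠ Q) :
    ∀ d ∈ NP P ⊓ NP Q, ∀ e ∈ NP P ⊓ NP Q, d * e = e * d := by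
  classical
  obtain ⟨R, w, hwR, hw, hwP⟩ := h39_exists_swap hnc Z hKS P Q hPQ
  obtain ⟨hS1, hS2, hS3, hS4, hS5, hS6⟩ := hKS
  have hww : w * w = 1 := by
    have := pow_orderOf_eq_one w
    rw [hw, pow_two] at this
    exact this
  have hwinv : w⁻¹ = w := inv_eq_of_mul_eq_one_left hww
  -- commutators of `D` lie in `Z`
  have step1 : ∀ d ∈ NP P ⊓ NP Q, ∀ e ∈ NP P ⊓ NP Q, ∃ z ∈ Z, d * e = e * d * z := by
    intro d hd e he
    obtain ⟨z₁, hz₁, h1⟩ := hS5 P Q hPQ w hw hwP d hd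
    obtain ⟨z₂, hz₂, h2⟩ := hS5 P Q hPQ w hw hwP e he
    obtain ⟨z₃, hz₃, h3⟩ := hS5 P Q hPQ w hw hwP (d * e) ((NP P ⊓ NP Q).mul_mem hd he)
    have h4 : (d * e)⁻¹ * z₃ = d⁻¹ * z₁ * (e⁻¹ * z₂) := by
      rw [← h3, ← h1, ← h2]; group
    have h5 : z₁ * e⁻¹ = e⁻¹ * z₁ := hcen z₁ hz₁ e⁻¹
    have h6 : (d * e)⁻¹ * z₃ = (e * d)⁻¹ * (z₁ * z₂) := by
      rw [h4]
      calc d⁻¹ * z₁ * (e⁻¹ * z₂) = d⁻¹ * (z₁ * e⁻¹) * z₂ := by group
        _ = d⁻¹ * (e⁻¹ * z₁) * z₂ := by rw [h5]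
        _ = (e * d)⁻¹ * (z₁ * z₂) := by group
    have hzz : z₃ * (z₁ * z₂)⁻¹ ∈ Z := Z.mul_mem hz₃ (Z.inv_mem (Z.mul_mem hz₁ hz₂))
    refine ⟨z₃ * (z₁ * z₂)⁻¹, hzz, ?_⟩
    have h7 : z₃ * (z₁ * z₂)⁻¹ = (d * e) * (e * d)⁻¹ := by
      have h8 : z₃ = (d * e) * ((e * d)⁻¹ * (z₁ * z₂)) := by rw [← h6]; group
      rw [h8]; group
    rw [← hcen _ hzz (e * d), h7]; group
  have hDZ : ∀ x ∈ NP P ⊓ NP Q, x ∈ CP P → x ∈ Z := by
    intro x hx hxC
    have ho := hA5 P Q hPQ x hxC hx.2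
    exact (hZ x).2 ⟨ho, fun R' => hE P R' x ho hxC⟩
  let φ : ↥(NP P ⊓ NP Q) →* MulAut ↥(P : Subgroup G) :=
    (P : Subgroup G).normalizerMonoidHom.comp (Subgroup.inclusion inf_le_left)
  have hφ : ∀ (d : ↥(NP P ⊓ NP Q)) (x : ↥(P : Subgroup G)),
      ((φ d x : ↥(P : Subgroup G)) : G) = (d : G) * (x : G) * (d : G)⁻¹ := fun d x => rfl
  have hV : ∀ x y : ↥(P : Subgroup G), x * y = y * x :=
    fun x y => Subtype.ext (hA1 P x x.2 y y.2)
  have hcomm : ∀ d e : ↥(NP P ⊓ NP Q), φ (d * e) = φ (e * d) := by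
    intro d e
    obtain ⟨z, hz, hde⟩ := step1 d d.2 e e.2
    refine MulEquiv.ext (fun x => Subtype.ext ?_)
    rw [hφ, hφ]
    simp only [Subgroup.coe_mul]
    rw [hde]
    have hzx : z * (x : G) = (x : G) * z := hcen z hz x
    calc (e : G) * d * z * x * ((e : G) * d * z)⁻¹
        = (e : G) * d * (z * x) * z⁻¹ * ((e : G) * d)⁻¹ := by group
      _ = (e : G) * d * (x * z) * z⁻¹ * ((e : G) * d)⁻¹ := by rw [hzx]
      _ = (e : G) * d * x * ((e : G) * d)⁻¹ := by group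
  have hker : ∀ d : ↥(NP P ⊓ NP Q), φ d = 1 → ∀ e : ↥(NP P ⊓ NP Q), d * e = e * d := by
    intro d hd e
    have hdC : (d : G) ∈ CP P := by
      rw [Subgroup.mem_centralizer_iff]
      intro h hh
      have h1 : ((φ d ⟨h, hh⟩ : ↥(P : Subgroup G)) : G) = h := by rw [hd]; rfl
      rw [hφ] at h1
      have h2 : (d : G) * h = (d : G) * h * (d : G)⁻¹ * d := by group
      rw [h2, h1]
    exact Subtype.ext (hcen d (hDZ d d.2 hdC) e)
  have htr : ∀ v w' : ↥(P : Subgroup G), v ≠ 1 → w' ≠ 1 → ∃ d : ↥(NP P ⊓ NP Q), φ d v = w' := by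
    intro v w' hv hw'
    have hvinv : orderOf (v : G) = 2 :=
      orderOf_eq_prime (hS2 P v v.2) (fun h => hv (Subtype.ext h))
    have hcent := hA2 P v hvinv v.2
    let f : ↥(NP P ⊓ NP Q) → {x : ↥(P : Subgroup G) // x ≠ 1} := fun d =>
      ⟨φ d v, fun h => hv ((φ d).injective (h.trans (map_one (φ d)).symm))⟩
    have hsurj : Function.Surjective f := by
      apply h39_surj_of_fibers f (Nat.card Z) Nat.card_pos
      · intro a
        have hmem : ∀ x : {x : ↥(NP P ⊓ NP Q) // f x = f a},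
            (a : G)⁻¹ * ((x : ↥(NP P ⊓ NP Q)) : G) ∈ Z := by
          intro x
          refine hDZ _ ((NP P ⊓ NP Q).mul_mem ((NP P ⊓ NP Q).inv_mem a.2) x.1.2) ?_
          rw [← hcent, Subgroup.mem_centralizer_iff]
          intro h hh
          rw [Set.mem_singleton_iff] at hh
          subst hh
          have h1 : ((φ x.1 v : ↥(P : Subgroup G)) : G) = ((φ a v : ↥(P : Subgroup G)) : G) :=
            congrArg (fun y => ((y : {x : ↥(P : Subgroup G) // x ≠ 1}) : G)) x.2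
          rw [hφ, hφ] at h1
          have h2 : (v : G) = (a : G)⁻¹ * ((x.1 : G) * v * (x.1 : G)⁻¹) * a := by
            rw [h1]; group
          calc (v : G) * ((a : G)⁻¹ * (x.1 : G))
              = ((a : G)⁻¹ * ((x.1 : G) * v * (x.1 : G)⁻¹) * a) * ((a : G)⁻¹ * (x.1 : G)) := by
                rw [← h2]
            _ = (a : G)⁻¹ * (x.1 : G) * v := by group
        let g : {x : ↥(NP P ⊓ NP Q) // f x = f a} → ↥Z := fun x => ⟨_, hmem x⟩
        have hg : Function.Injective g := by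
          intro x y hxy
          have h1 : (a : G)⁻¹ * ((x : ↥(NP P ⊓ NP Q)) : G) = (a : G)⁻¹ * ((y : ↥(NP P ⊓ NP Q)) : G) :=
            congrArg Subtype.val hxy
          exact Subtype.ext (Subtype.ext (mul_left_cancel h1))
        exact Nat.card_le_card_of_injective g hg
      · rw [hS6 P Q hPQ, h39_card_ne]
    obtain ⟨d, hd⟩ := hsurj ⟨w', hw'⟩
    exact ⟨d, congrArg Subtype.val hd⟩
  have main := h39_comm_of_action hV φ hcomm htr hker
  intro d hd e he
  exact congrArg Subtype.val (main ⟨d, hd⟩ ⟨e, he⟩)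

end Cfsg.Agent.Lib.helper39.AIC
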