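import Cfsg.Agent.Lib.helper39.APB0core
import Cfsg.Agent.Lib.helper29.APINTV

/-!
S2276 split (helper95), piece B0 (race copy by helper39): two full cycles on `Fin (p ^ e)`,
`p ^ e ≥ 5`, forming a `GoodBoth` pair; verbatim Skel statement under the prefixed name.
-/

set_option autoImplicit false

namespace Cfsg.Agent.Lib.helper95.AP

open Equiv

/-- [B0] two full cycles; uses GPC (and PERF for `p^e = 5`) -/
theorem h39_b0 (p : ℕ) (hp : p.Prime) (hp3 : 3 ≤ p) (e : ℕ) (h5 : 5 ≤ p ^ e) :
    ∃ b : Perm (Fin (p ^ e)), b.cycleType = {p ^ e} ∧ GoodBoth p (finRotate (p ^ e)) b := by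
  have he : 1 ≤ e := by
    rcases Nat.eq_zero_or_pos e with h | h
    · subst h
      norm_num at h5
    · exact h
  exact h39_b0_core p hp hp3 e h5
    (fun b x y hxy hbxy f hf hf2 hfp => h29_gpc p hp hp3 e he b x y hxy hbxy f hf hf2 hfp)

end Cfsg.Agent.Lib.helper95.AP
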