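import Cfsg.Agent.Lib.helper95.APDefs
import Cfsg.Agent.Lib.helper30.APPERF

/-!
S2276 split (helper95), piece B0 (race copy by helper39), the case `p ^ e = 5`: an explicit pair
of 5-cycles on `Fin 5`.
-/

set_option autoImplicit false

namespace Cfsg.Agent.Lib.helper95.AP

open Equiv

theorem h39_not_pow5_two : ¬ ∃ k : ℕ, 2 = 5 ^ k := by
  rintro ⟨k, hk⟩
  rcases Nat.eq_zero_or_pos k with h | h
  · subst h
    norm_num at hk
  · have h5 : (5 : ℕ) ∣ 2 := by
      rw [hk]
      exact dvd_pow_self 5 (by omega)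
    omega

theorem h39_not_pow5_three : ¬ ∃ k : ℕ, 3 = 5 ^ k := by
  rintro ⟨k, hk⟩
  rcases Nat.eq_zero_or_pos k with h | h
  · subst h
    norm_num at hk
  · have h5 : (5 : ℕ) ∣ 3 := by
      rw [hk]
      exact dvd_pow_self 5 (by omega)
    omega

set_option maxRecDepth 100000 in
theorem h39_b0_five : ∃ b : Perm (Fin 5), b.cycleType = {5} ∧ GoodBoth 5 (finRotate 5) b := by
  let a : Perm (Fin 5) := finRotate 5
  let s : Perm (Fin 5) := swap 0 2
  let b : Perm (Fin 5) := s * a⁻¹ * s
  let τ : Perm (Fin 5) := swap 0 1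
  let b2 : Perm (Fin 5) := τ * b * τ⁻¹
  have hgood : Good 5 a b := by
    refine ⟨?_, ?_⟩
    · have h2 : orderOf (a * b) = 2 := by
        haveI : Fact (Nat.Prime 2) := ⟨by norm_num⟩
        exact orderOf_eq_prime (by decide) (by decide)
      rw [h2]
      exact h39_not_pow5_two
    · have haK : a ∈ Subgroup.closure ({a, b} : Set (Perm (Fin 5))) :=
        Subgroup.subset_closure (by simp)
      have hbK : b ∈ Subgroup.closure ({a, b} : Set (Perm (Fin 5))) :=
        Subgroup.subset_closure (by simp)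
      have hai := Subgroup.inv_mem _ haK
      have hbi := Subgroup.inv_mem _ hbK
      exact perf a b (by decide) (b * a⁻¹) (b * b) (a * b⁻¹) (a * a)
        (Subgroup.mul_mem _ hbK hai) (Subgroup.mul_mem _ hbK hbK)
        (Subgroup.mul_mem _ haK hbi) (Subgroup.mul_mem _ haK haK) (by decide) (by decide)
  have hgood2 : Good 5 a b2 := by
    refine ⟨?_, ?_⟩
    · have h3 : orderOf (a * b2) = 3 := by
        haveI : Fact (Nat.Prime 3) := ⟨by norm_num⟩
        exact orderOf_eq_prime (by decide) (by decide)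
      rw [h3]
      exact h39_not_pow5_three
    · have haK : a ∈ Subgroup.closure ({a, b2} : Set (Perm (Fin 5))) :=
        Subgroup.subset_closure (by simp)
      have hbK : b2 ∈ Subgroup.closure ({a, b2} : Set (Perm (Fin 5))) :=
        Subgroup.subset_closure (by simp)
      have hai := Subgroup.inv_mem _ haK
      have hbi := Subgroup.inv_mem _ hbK
      exact perf a b2 (by decide) b2 (b2 * a⁻¹) a (a * b2⁻¹)
        hbK (Subgroup.mul_mem _ hbK hai)
        haK (Subgroup.mul_mem _ haK hbi) (by decide) (by decide)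
  refine ⟨b, ?_, hgood, τ, ?_, hgood2⟩
  · have e : b = s * a⁻¹ * s⁻¹ := by
      show s * a⁻¹ * s = s * a⁻¹ * s⁻¹
      rw [show s⁻¹ = s from Equiv.swap_inv _ _]
    rw [e, Equiv.Perm.cycleType_conj, Equiv.Perm.cycleType_inv]
    exact cycleType_finRotate_of_le (by norm_num)
  · exact Equiv.Perm.sign_swap (by decide)

end Cfsg.Agent.Lib.helper95.AP
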