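import Cfsg.Agent.Lib.helper39.APB0gen
import Cfsg.Agent.Lib.helper39.APB0five

/-!
S2276 split (helper95), piece B0 (race copy by helper39), core: the statement of B0 with the
good pair criterion GPC as a hypothesis.
-/

set_option autoImplicit false

namespace Cfsg.Agent.Lib.helper95.AP

open Equiv

theorem h39_b0_core (p : ℕ) (hp : p.Prime) (hp3 : 3 ≤ p) (e : ℕ) (h5 : 5 ≤ p ^ e)
    (hgpc : ∀ (b : Perm (Fin (p ^ e))) (x y : Fin (p ^ e)),
      ((p ^ (e - 1) : ℕ) : ℤ) ∣ ((x : ℕ) : ℤ) - ((y : ℕ) : ℤ) →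
      ¬ (p : ℤ) ∣ (((b x : Fin (p ^ e)) : ℕ) : ℤ) - (((b y : Fin (p ^ e)) : ℕ) : ℤ) →
      ∀ f : ℕ,
      (Finset.univ.filter (fun z : Fin (p ^ e) => (finRotate (p ^ e) * b) z = z)).card = f →
      2 ≤ f → ¬ p ∣ f → Good p (finRotate (p ^ e)) b) :
    ∃ b : Perm (Fin (p ^ e)), b.cycleType = {p ^ e} ∧ GoodBoth p (finRotate (p ^ e)) b := by
  have he : 1 ≤ e := by
    rcases Nat.eq_zero_or_pos e with h | h
    · subst h
      norm_num at h5
    · exact h
  by_cases hM5 : p ^ e = 5
  · have hp5 : p = 5 := by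
      have hdvd : p ∣ 5 := by
        rw [← hM5]
        exact dvd_pow_self p (by omega)
      exact (Nat.prime_dvd_prime_iff_eq hp (by norm_num)).mp hdvd
    subst hp5
    rw [hM5]
    exact h39_b0_five
  · have hodd : Odd (p ^ e) := (hp.odd_of_ne_two (by omega)).pow
    have hM7 : 7 ≤ p ^ e := by
      rcases hodd with ⟨k, hk⟩
      omega
    obtain ⟨b, τ, hct, hsign, hf1, hf2, hval⟩ := h39_b0_gen (p ^ e) hM7
    have hpM : p ∣ p ^ e := dvd_pow_self p (by omega)
    have hn4 : ¬ p ∣ 4 := by
      intro h4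
      have hle := Nat.le_of_dvd (by norm_num) h4
      interval_cases p
      · omega
      · norm_num at hp
    have hf4 : ¬ p ∣ p ^ e - 4 := by
      intro h
      apply hn4
      have h' := Nat.dvd_sub hpM h
      have e4 : p ^ e - (p ^ e - 4) = 4 := by omega
      rwa [e4] at h'
    have key : ∀ c : Perm (Fin (p ^ e)),
        (Finset.univ.filter (fun z : Fin (p ^ e) => (finRotate (p ^ e) * c) z = z)).card
          = p ^ e - 4 →
        (∀ (q : ℕ) (_ : 3 ≤ q) (hq : 4 + q < p ^ e),
          ((c ⟨4, by omega⟩ : Fin (p ^ e)) : ℕ) = p ^ e - 1 ∧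
          ((c ⟨4 + q, hq⟩ : Fin (p ^ e)) : ℕ) = 3 + q) →
        Good p (finRotate (p ^ e)) c := by
      intro c hfc hvc
      rcases Nat.lt_or_ge e 2 with he2 | he2
      · have he1 : e = 1 := by omega
        have hpe : p ^ e = p := by rw [he1, pow_one]
        refine hgpc c ⟨0, by omega⟩ ⟨1, by omega⟩ ?_ ?_ (p ^ e - 4) hfc (by omega) hf4
        · have h10 : p ^ (e - 1) = 1 := by
            rw [he1]
            simp
          rw [h10]
          exact one_dvd _
        · intro hdvd
          have hne : c ⟨0, by omega⟩ ≠ c ⟨1, by omega⟩ := by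
            intro h
            have h' := c.injective h
            simp at h'
          have hlt1 := (c ⟨0, by omega⟩).2
          have hlt2 := (c ⟨1, by omega⟩).2
          have h0 := Int.eq_zero_of_abs_lt_dvd hdvd (by
            rw [abs_lt]
            constructor <;> omega)
          apply hne
          apply Fin.ext
          omega
      · obtain ⟨q, hq⟩ : ∃ q, q = p ^ (e - 1) := ⟨_, rfl⟩
        have hMq : p ^ e = p * q := by
          rw [hq, ← pow_succ']
          congr 1
          omega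
        have hpq : p ∣ q := by
          rw [hq]
          exact dvd_pow_self p (by omega)
        have hqpos : 0 < q := by
          rw [hq]
          exact pow_pos hp.pos _
        have hq3 : 3 ≤ q := le_trans hp3 (Nat.le_of_dvd hqpos hpq)
        have hqM : 4 + q < p ^ e := by
          rw [hMq]
          nlinarith
        obtain ⟨hv1, hv2⟩ := hvc q hq3 hqM
        refine hgpc c ⟨4, by omega⟩ ⟨4 + q, hqM⟩ ?_ ?_ (p ^ e - 4) hfc (by omega) hf4
        · rw [← hq]
          refine ⟨-1, ?_⟩
          push_cast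
          ring
        · rw [hv1, hv2]
          intro hdvd
          have h1 : (p : ℤ) ∣ ((p ^ e : ℕ) : ℤ) := by exact_mod_cast hpM
          have h2 : (p : ℤ) ∣ (q : ℤ) := by exact_mod_cast hpq
          have h3 : ((p ^ e - 1 : ℕ) : ℤ) = ((p ^ e : ℕ) : ℤ) - 1 := by
            rw [Nat.cast_sub (by omega : 1 ≤ p ^ e)]
            simp
          have h4 : (p : ℤ) ∣ 4 := by
            have e4 : (4 : ℤ) = ((p ^ e : ℕ) : ℤ) - (q : ℤ)
                - (((p ^ e - 1 : ℕ) : ℤ) - ((3 + q : ℕ) : ℤ)) := by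
              rw [h3]
              push_cast
              ring
            rw [e4]
            exact dvd_sub (dvd_sub h1 h2) hdvd
          apply hn4
          exact_mod_cast h4
    exact ⟨b, hct, key b hf1 (fun q h3 hq => ⟨(hval q h3 hq).1, (hval q h3 hq).2.1⟩), τ, hsign,
      key _ hf2 (fun q h3 hq => ⟨(hval q h3 hq).2.2.1, (hval q h3 hq).2.2.2⟩)⟩

end Cfsg.Agent.Lib.helper95.AP
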