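import Cfsg.Agent.Lib.helper95.APDefs

/-!
S2276 split (helper95), piece B0 (race copy by helper39), general part: on `Fin M`, `M ≥ 7`,
with `a = finRotate M`, `s = swap 0 4`, the conjugate `b = s * a⁻¹ * s` of `a⁻¹` and the odd
`τ = swap 1 5` satisfy: `a * b` and `a * (τ * b * τ⁻¹)` are products of two disjoint
transpositions, and explicit values at `4` and `4 + q`.
-/

set_option autoImplicit false

namespace Cfsg.Agent.Lib.helper95.AP

open Equiv

theorem h39_rot_val {M : ℕ} (z : Fin M) (h : z.val + 1 < M) :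
    ((finRotate M z : Fin M) : ℕ) = z.val + 1 := by
  cases M with
  | zero => exact absurd h (by omega)
  | succ n =>
    obtain ⟨k, hk⟩ := z
    have hk' : k < n := by simpa using h
    rw [finRotate_of_lt hk']

theorem h39_rotinv_val {M : ℕ} (z : Fin M) (h : 1 ≤ z.val) :
    (((finRotate M)⁻¹ z : Fin M) : ℕ) = z.val - 1 := by
  have hw : z.val - 1 < M := lt_of_le_of_lt (Nat.sub_le _ _) z.2
  have h1 : (finRotate M)⁻¹ z = ⟨z.val - 1, hw⟩ := by
    rw [Equiv.Perm.inv_eq_iff_eq]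
    apply Fin.ext
    rw [h39_rot_val _ (by show z.val - 1 + 1 < M; have := z.2; omega)]
    show z.val = z.val - 1 + 1
    omega
  rw [h1]

theorem h39_rotinv_zero {M : ℕ} (z : Fin M) (h : z.val = 0) :
    (((finRotate M)⁻¹ z : Fin M) : ℕ) = M - 1 := by
  cases M with
  | zero => exact z.elim0
  | succ n =>
    have h1 : (finRotate (n + 1))⁻¹ z = ⟨n, by omega⟩ := by
      rw [Equiv.Perm.inv_eq_iff_eq, finRotate_last']
      exact Fin.ext h
    rw [h1]
    rfl

theorem h39_swap_val {M : ℕ} (u v z : Fin M) (h1 : z.val ≠ u.val) (h2 : z.val ≠ v.val) :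
    swap u v z = z :=
  Equiv.swap_apply_of_ne_of_ne (fun h => h1 (congrArg Fin.val h)) (fun h => h2 (congrArg Fin.val h))

theorem h39_fix_two_swaps {M : ℕ} (x y z w : Fin M) (hxy : x ≠ y) (hzw : z ≠ w) (hxz : x ≠ z)
    (hxw : x ≠ w) (hyz : y ≠ z) (hyw : y ≠ w) :
    (Finset.univ.filter (fun c : Fin M => (swap x y * swap z w) c = c)).card = M - 4 := by
  have hd : Perm.Disjoint (swap x y) (swap z w) := by
    rw [Perm.disjoint_iff_disjoint_support, Perm.support_swap hxy, Perm.support_swap hzw]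
    rw [Finset.disjoint_left]
    intro c hc hc'
    simp only [Finset.mem_insert, Finset.mem_singleton] at hc hc'
    rcases hc with rfl | rfl <;> rcases hc' with h | h
    · exact hxz h
    · exact hxw h
    · exact hyz h
    · exact hyw h
  have hc : (swap x y * swap z w).support.card = 4 := by
    rw [hd.card_support_mul, Perm.card_support_swap hxy, Perm.card_support_swap hzw]
  have h1 : Finset.univ.filter (fun c : Fin M => (swap x y * swap z w) c = c)
      = (swap x y * swap z w).supportᶜ := by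
    ext c
    rw [Finset.mem_filter, Finset.mem_compl, Perm.mem_support]
    constructor
    · intro h h'
      exact h' h.2
    · intro h
      exact ⟨Finset.mem_univ _, not_not.mp h⟩
  rw [h1, Finset.card_compl, hc, Fintype.card_fin]

theorem h39_b0_gen (M : ℕ) (hM : 7 ≤ M) :
    ∃ (b τ : Perm (Fin M)), b.cycleType = {M} ∧ Perm.sign τ = -1 ∧
      (Finset.univ.filter (fun z : Fin M => (finRotate M * b) z = z)).card = M - 4 ∧
      (Finset.univ.filter (fun z : Fin M => (finRotate M * (τ * b * τ⁻¹)) z = z)).card = M - 4 ∧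
      (∀ (q : ℕ) (_ : 3 ≤ q) (hq : 4 + q < M),
         ((b ⟨4, by omega⟩ : Fin M) : ℕ) = M - 1 ∧ ((b ⟨4 + q, hq⟩ : Fin M) : ℕ) = 3 + q ∧
         (((τ * b * τ⁻¹) ⟨4, by omega⟩ : Fin M) : ℕ) = M - 1 ∧
         (((τ * b * τ⁻¹) ⟨4 + q, hq⟩ : Fin M) : ℕ) = 3 + q) := by
  obtain ⟨a, ha⟩ : ∃ a : Perm (Fin M), a = finRotate M := ⟨_, rfl⟩
  obtain ⟨x0, hx0⟩ : ∃ x0 : Fin M, x0.val = 0 := ⟨⟨0, by omega⟩, rfl⟩
  obtain ⟨x4, hx4⟩ : ∃ x4 : Fin M, x4 = ⟨4, by omega⟩ := ⟨_, rfl⟩
  have hx4v : x4.val = 4 := by rw [hx4]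
  have hav : ∀ z : Fin M, z.val + 1 < M → (a z).val = z.val + 1 := by
    intro z hz; rw [ha]; exact h39_rot_val z hz
  have hinv : ∀ z : Fin M, 1 ≤ z.val → (a⁻¹ z).val = z.val - 1 := by
    intro z hz; rw [ha]; exact h39_rotinv_val z hz
  have hinv0 : (a⁻¹ x0).val = M - 1 := by rw [ha]; exact h39_rotinv_zero x0 hx0
  have h1 : (a x0).val = 1 := by rw [hav x0 (by omega), hx0]
  have h5 : (a x4).val = 5 := by rw [hav x4 (by omega), hx4v]
  have h2 : (a (a x0)).val = 2 := by rw [hav _ (by omega), h1]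
  have h6 : (a (a x4)).val = 6 := by rw [hav _ (by omega), h5]
  have ne_of_val : ∀ u v : Fin M, u.val ≠ v.val → u ≠ v := fun u v h h' => h (congrArg Fin.val h')
  obtain ⟨s, hs⟩ : ∃ s : Perm (Fin M), s = swap x0 x4 := ⟨_, rfl⟩
  obtain ⟨t, ht0⟩ : ∃ t : Perm (Fin M), t = swap (a x0) (a x4) := ⟨_, rfl⟩
  obtain ⟨r, hr0⟩ : ∃ r : Perm (Fin M), r = swap (a (a x0)) (a (a x4)) := ⟨_, rfl⟩
  have ht : t = a * s * a⁻¹ := by rw [ht0, hs]; exact Equiv.swap_apply_apply a x0 x4
  have hr : r = a * t * a⁻¹ := by rw [hr0, ht0]; exact Equiv.swap_apply_apply a _ _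
  have hss : s * s = 1 := by rw [hs]; exact Equiv.swap_mul_self _ _
  have htt : t * t = 1 := by rw [ht0]; exact Equiv.swap_mul_self _ _
  have hsinv : s⁻¹ = s := by rw [hs]; exact Equiv.swap_inv _ _
  have htinv : t⁻¹ = t := by rw [ht0]; exact Equiv.swap_inv _ _
  have hts : t * s = s * t := by
    have hd : Perm.Disjoint t s := by
      rw [ht0, hs, Perm.disjoint_iff_disjoint_support,
        Perm.support_swap (ne_of_val _ _ (by omega)), Perm.support_swap (ne_of_val _ _ (by omega))]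
      rw [Finset.disjoint_left]
      intro c hc hc'
      simp only [Finset.mem_insert, Finset.mem_singleton] at hc hc'
      rcases hc with rfl | rfl <;> rcases hc' with h | h <;>
        · have := congrArg Fin.val h
          omega
    exact hd.commute.eq
  have hab : a * (s * a⁻¹ * s) = t * s := by rw [ht]; group
  have hab2 : a * (t * (s * a⁻¹ * s) * t⁻¹) = r * s := by
    have e1 : a * (t * (s * a⁻¹ * s) * t⁻¹) = (a * t * a⁻¹) * (a * s * a⁻¹) * s * t⁻¹ := by group
    rw [e1, ← ht, ← hr, htinv, mul_assoc r t s, hts, ← mul_assoc, mul_assoc (r * s) t t, htt,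
      mul_one]
  refine ⟨s * a⁻¹ * s, t, ?_, ?_, ?_, ?_, ?_⟩
  · have e : s * a⁻¹ * s = s * a⁻¹ * s⁻¹ := by rw [hsinv]
    rw [e, Equiv.Perm.cycleType_conj, Equiv.Perm.cycleType_inv, ha,
      cycleType_finRotate_of_le (by omega)]
  · rw [ht0]
    exact Equiv.Perm.sign_swap (ne_of_val _ _ (by omega))
  · rw [← ha, hab, ht0, hs]
    exact h39_fix_two_swaps _ _ _ _ (ne_of_val _ _ (by omega)) (ne_of_val _ _ (by omega))
      (ne_of_val _ _ (by omega)) (ne_of_val _ _ (by omega)) (ne_of_val _ _ (by omega))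
      (ne_of_val _ _ (by omega))
  · rw [← ha, hab2, hr0, hs]
    exact h39_fix_two_swaps _ _ _ _ (ne_of_val _ _ (by omega)) (ne_of_val _ _ (by omega))
      (ne_of_val _ _ (by omega)) (ne_of_val _ _ (by omega)) (ne_of_val _ _ (by omega))
      (ne_of_val _ _ (by omega))
  · intro q hq3 hq
    obtain ⟨y, hy⟩ : ∃ y : Fin M, y = ⟨4 + q, hq⟩ := ⟨_, rfl⟩
    have hyv : y.val = 4 + q := by rw [hy]
    rw [← hx4, ← hy]
    have hb_apply : ∀ z : Fin M, (s * a⁻¹ * s) z = s (a⁻¹ (s z)) := fun z => rfl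
    have hs4 : s x4 = x0 := by rw [hs]; exact Equiv.swap_apply_right x0 x4
    have hsw : ∀ z : Fin M, z.val ≠ 0 → z.val ≠ 4 → s z = z := by
      intro z h0 h4
      rw [hs]
      exact h39_swap_val _ _ _ (by omega) (by omega)
    have htw : ∀ z : Fin M, z.val ≠ 1 → z.val ≠ 5 → t z = z := by
      intro z h0 h4
      rw [ht0]
      exact h39_swap_val _ _ _ (by omega) (by omega)
    have hb4 : (s * a⁻¹ * s) x4 = a⁻¹ x0 := by
      rw [hb_apply, hs4, hsw _ (by omega) (by omega)]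
    have hby : (s * a⁻¹ * s) y = a⁻¹ y := by
      have hiy : (a⁻¹ y).val = 3 + q := by rw [hinv y (by omega), hyv]; omega
      rw [hb_apply, hsw y (by omega) (by omega), hsw _ (by omega) (by omega)]
    have hiy : (a⁻¹ y).val = 3 + q := by rw [hinv y (by omega), hyv]; omega
    have hτ_apply : ∀ z : Fin M, (t * (s * a⁻¹ * s) * t⁻¹) z = t ((s * a⁻¹ * s) (t z)) := by
      intro z; rw [htinv]; rfl
    refine ⟨?_, ?_, ?_, ?_⟩
    · rw [hb4, hinv0]
    · rw [hby, hiy]
    · rw [hτ_apply, htw x4 (by omega) (by omega), hb4, htw _ (by omega) (by omega), hinv0]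
    · rw [hτ_apply, htw y (by omega) (by omega), hby, htw _ (by omega) (by omega), hiy]

end Cfsg.Agent.Lib.helper95.AP
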