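import Mathlib
import Cfsg.Agent.Lib.helper2.BGDefs
import Cfsg.Agent.Lib.helper81.CharOrtho
import Cfsg.Agent.Lib.helper82.CharQuot

/-! S4504 R sub-split, piece R01 (race copy by helper39). -/

set_option autoImplicit false

open Cfsg

namespace Cfsg.Agent.Lib.helper2.BG

universe u

open scoped commutatorElement

/-- R1 (V0): `p ≥ 5`. -/
theorem h39_R_p_ge_five {G : Type u} [Group G] [Finite G] (p : ℕ) [Fact p.Prime]
    (hdiv : p ∣ Nat.card G) (hsq : ¬ p ^ 2 ∣ Nat.card G)
    (hnn : ∀ H : Subgroup G, H.Normal → Nat.card H ≠ p) (χ : G → ℂ)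
    (hχ : Cfsg.IsCharacter G χ) (hfaith : ∀ g : G, χ g = χ 1 → g = 1)
    (hdeg : 2 * Cfsg.charDegree χ + 1 = p) : 5 ≤ p := by
  have hp : p.Prime := Fact.out
  by_contra hlt
  have h2 : 2 ≤ p := hp.two_le
  have hne4 : p ≠ 4 := by
    intro h4
    rw [h4] at hp
    exact absurd hp (by norm_num)
  have hd1 : Cfsg.charDegree χ = 1 := by omega
  have hχ1 : χ 1 = 1 := by
    rw [Cfsg.Agent.Lib.helper81.isCharacter_one_eq_charDegree hχ, hd1]
    norm_num
  have hcomm : ∀ g h : G, g * h = h * g := by
    intro g h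
    have hmem : ⁅g, h⁆ ∈ commutator G := by
      rw [commutator_def]
      exact Subgroup.commutator_mem_commutator (Subgroup.mem_top g) (Subgroup.mem_top h)
    have := hfaith _ (Cfsg.Agent.Lib.helper82.linear_commutator hχ hχ1 _ hmem)
    exact commutatorElement_eq_one_iff_mul_comm.mp this
  obtain ⟨P⟩ : Nonempty (Sylow p G) := inferInstance
  have hPn : (P : Subgroup G).Normal :=
    ⟨fun n hn g => by rw [hcomm g n, mul_inv_cancel_right]; exact hn⟩
  apply hnn (P : Subgroup G) hPn
  have hn0 : Nat.card G ≠ 0 := Nat.card_pos.ne'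
  have hk1 : 1 ≤ (Nat.card G).factorization p := (hp.dvd_iff_one_le_factorization hn0).1 hdiv
  have hk2 : (Nat.card G).factorization p < 2 := by
    by_contra hcon
    exact hsq ((hp.pow_dvd_iff_le_factorization hn0).2 (by omega))
  have hk : (Nat.card G).factorization p = 1 := by omega
  have := Sylow.card_eq_multiplicity P
  rw [hk, pow_one] at this
  exact this

end Cfsg.Agent.Lib.helper2.BG
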