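import Mathlib

/-! S4504 R sub-split, piece R04 (race copy by helper39). -/

set_option autoImplicit false

namespace Cfsg.Agent.Lib.helper2.BG

universe u

open scoped Pointwise

/-- when `p² ∤ |K|`, a normal subgroup containing one element of order `p` contains all of them. -/
theorem h39_mem_of_order_p {K : Type u} [Group K] [Finite K] (p : ℕ) [Fact p.Prime]
    (hsq : ¬ p ^ 2 ∣ Nat.card K) (Δ : Subgroup K) [Δ.Normal] (x y : K) (hx : orderOf x = p)
    (hy : orderOf y = p) (hxΔ : x ∈ Δ) : y ∈ Δ := by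
  have hp : p.Prime := Fact.out
  have hcard : ∀ Q : Sylow p K, Nat.card Q ≤ p := by
    intro Q
    rw [Sylow.card_eq_multiplicity]
    have hle : (Nat.card K).factorization p ≤ 1 := by
      by_contra hcon
      apply hsq
      exact (hp.pow_dvd_iff_le_factorization Nat.card_pos.ne').2 (by omega)
    calc p ^ (Nat.card K).factorization p ≤ p ^ 1 := Nat.pow_le_pow_right hp.pos hle
      _ = p := pow_one p
  have hz : ∀ z : K, orderOf z = p → ∃ Q : Sylow p K, (Q : Subgroup K) = Subgroup.zpowers z := by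
    intro z hzo
    have hc : Nat.card (Subgroup.zpowers z) = p := by rw [Nat.card_zpowers, hzo]
    have hpg : IsPGroup p (Subgroup.zpowers z) := IsPGroup.of_card (n := 1) (by rw [hc, pow_one])
    obtain ⟨Q, hQ⟩ := hpg.exists_le_sylow
    refine ⟨Q, (Subgroup.eq_of_le_of_card_ge hQ ?_).symm⟩
    rw [hc]
    exact hcard Q
  obtain ⟨Q, hQ⟩ := hz x hx
  obtain ⟨Q', hQ'⟩ := hz y hy
  obtain ⟨g, hg⟩ := MulAction.exists_smul_eq K Q Q'
  have hyQ' : y ∈ (Q' : Subgroup K) := by rw [hQ']; exact Subgroup.mem_zpowers y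
  rw [← hg, Sylow.coe_subgroup_smul, Subgroup.mem_pointwise_smul_iff_inv_smul_mem] at hyQ'
  have h1 : (MulAut.conj g)⁻¹ • y = g⁻¹ * y * g := by
    rw [← map_inv, MulAut.smul_def, MulAut.conj_apply, inv_inv]
  rw [h1, hQ] at hyQ'
  have h2 : g⁻¹ * y * g ∈ Δ := (Subgroup.zpowers_le.mpr hxΔ) hyQ'
  have h3 := (inferInstance : Δ.Normal).conj_mem _ h2 g
  simpa [mul_assoc] using h3

/-- R4 (V2): inside `Γ = normalClosure {x}`, the normal closure of `x` is everything. -/
theorem h39_R_nc_top {G : Type u} [Group G] [Finite G] (p : ℕ) [Fact p.Prime]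
    (hsq : ¬ p ^ 2 ∣ Nat.card G) (x : G) (hx : orderOf x = p) :
    Subgroup.normalClosure ({(⟨x, Subgroup.subset_normalClosure (Set.mem_singleton x)⟩ :
      ↥(Subgroup.normalClosure ({x} : Set G)))} :
        Set ↥(Subgroup.normalClosure ({x} : Set G))) = ⊤ := by
  set Γ := Subgroup.normalClosure ({x} : Set G) with hΓ
  set x' : Γ := ⟨x, Subgroup.subset_normalClosure (Set.mem_singleton x)⟩ with hx'
  set Δ := Subgroup.normalClosure ({x'} : Set Γ) with hΔ
  have hsqΓ : ¬ p ^ 2 ∣ Nat.card Γ := fun h => hsq (h.trans (Subgroup.card_subgroup_dvd_card Γ))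
  have hxo : orderOf x' = p := by
    rw [← hx]
    exact Subgroup.orderOf_mk x _
  have hxΔ : x' ∈ Δ := Subgroup.subset_normalClosure (Set.mem_singleton x')
  have hle : Γ ≤ Δ.map Γ.subtype := by
    refine (show Γ ≤ Subgroup.closure (Group.conjugatesOfSet ({x} : Set G)) from
      le_of_eq rfl).trans ((Subgroup.closure_le _).mpr ?_)
    intro a ha
    rw [Group.mem_conjugatesOfSet_iff] at ha
    obtain ⟨b, hb, hconj⟩ := ha
    rw [Set.mem_singleton_iff] at hb
    subst hb
    obtain ⟨g, hg⟩ := isConj_iff.mp hconj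
    have haΓ : a ∈ Γ := by
      rw [← hg]
      exact (inferInstance : Γ.Normal).conj_mem _ x'.2 g
    have hao : orderOf (⟨a, haΓ⟩ : Γ) = p := by
      have hs : SemiconjBy g b a := by
        unfold SemiconjBy
        rw [← hg]
        group
      rw [Subgroup.orderOf_mk, ← hs.orderOf_eq, hx]
    have := h39_mem_of_order_p p hsqΓ Δ x' ⟨a, haΓ⟩ hxo hao hxΔ
    exact ⟨⟨a, haΓ⟩, this, rfl⟩
  rw [eq_top_iff]
  intro γ _
  obtain ⟨δ, hδ, hδγ⟩ := hle γ.2
  have : δ = γ := Subtype.ext hδγ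
  rw [← this]
  exact hδ

end Cfsg.Agent.Lib.helper2.BG
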