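import Mathlib

/-! S4504 R sub-split, piece R11 (race copy by helper39). -/

set_option autoImplicit false

namespace Cfsg.Agent.Lib.helper2.BG

universe u

/-- R11: if `N` is perfect and `G = N Z(G)` then `G / Z(G)` is perfect. -/
theorem h39_R_quot_perfect {G : Type u} [Group G] (N : Subgroup G) (hN : commutator ↥N = ⊤)
    (hsup : N ⊔ Subgroup.center G = ⊤) : commutator (G ⧸ Subgroup.center G) = ⊤ := by
  have h1 : N ≤ commutator G := by
    have h0 : (commutator ↥N).map N.subtype = N := by
      rw [hN, ← MonoidHom.range_eq_map, Subgroup.range_subtype]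
    rw [← h0, commutator_def, Subgroup.map_commutator, commutator_def]
    exact Subgroup.commutator_mono le_top le_top
  have h2 : commutator G ⊔ Subgroup.center G = ⊤ :=
    top_le_iff.mp (hsup ▸ sup_le_sup_right h1 _)
  have h3 : (commutator G).map (QuotientGroup.mk' (Subgroup.center G)) = ⊤ := by
    have h := congrArg (Subgroup.map (QuotientGroup.mk' (Subgroup.center G))) h2
    rw [Subgroup.map_sup, QuotientGroup.map_mk'_self, sup_bot_eq,
      Subgroup.map_top_of_surjective _ (QuotientGroup.mk'_surjective _)] at h
    exact h
  have h4 : commutator (G ⧸ Subgroup.center G)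
      = (commutator G).map (QuotientGroup.mk' (Subgroup.center G)) := by
    rw [commutator_def, commutator_def, Subgroup.map_commutator,
      Subgroup.map_top_of_surjective _ (QuotientGroup.mk'_surjective _)]
  rw [h4, h3]

end Cfsg.Agent.Lib.helper2.BG
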