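import Mathlib
import Cfsg.Agent.Lib.helper2.BGDefs
import Cfsg.Agent.Lib.helper20.Basic

/-! S4504 R sub-split, piece R14 (race copy by helper39). -/

set_option autoImplicit false

open Cfsg

namespace Cfsg.Agent.Lib.helper2.BG

universe u

/-- R14 (V4): fusion of `x` in `G` is already realised in `Γ = normalClosure {x}`. -/
theorem h39_R_conj_gamma {G : Type u} [Group G] [Finite G] (p : ℕ) [Fact p.Prime] (P : Sylow p G)
    (hP : Nat.card P = p) (x : G) (hx : x ∈ (P : Subgroup G)) (hx1 : x ≠ 1) (χ : G → ℂ)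
    (hχ : Cfsg.IsCharacter G χ) (HΓ : Subgroup (ZMod p)ˣ)
    (hHΓ : ∀ r : (ZMod p)ˣ, r ∈ HΓ ↔ ∃ γ ∈ Subgroup.normalClosure ({x} : Set G),
      γ * x * γ⁻¹ = x ^ ((r : ZMod p).val))
    (hne : ∀ c : (ZMod p)ˣ, c ∉ HΓ → χ (x ^ ((c : ZMod p).val)) ≠ χ x) :
    (∀ n : G, n * x * n⁻¹ ∈ (P : Subgroup G) →
      ∃ γ ∈ Subgroup.normalClosure ({x} : Set G), γ * x * γ⁻¹ = n * x * n⁻¹) ∧
    ∀ HG : Subgroup (ZMod p)ˣ,
      (∀ r : (ZMod p)ˣ, r ∈ HG ↔ ∃ n : G, n * x * n⁻¹ = x ^ ((r : ZMod p).val)) → HG = HΓ := by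
  have hp : p.Prime := Fact.out
  have hxo : orderOf x = p := by
    have h1 := orderOf_dvd_natCard (⟨x, hx⟩ : (P : Subgroup G))
    rw [Subgroup.orderOf_mk] at h1
    have h2 : Nat.card (P : Subgroup G) = p := hP
    rw [h2] at h1
    rcases (Nat.dvd_prime hp).1 h1 with h | h
    · exact absurd (orderOf_eq_one_iff.mp h) hx1
    · exact h
  have hPz : Subgroup.zpowers x = (P : Subgroup G) := by
    apply Subgroup.eq_of_le_of_card_ge (Subgroup.zpowers_le.mpr hx)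
    rw [Nat.card_zpowers, hxo]
    exact le_of_eq hP
  have hcls : ∀ n : G, χ (n * x * n⁻¹) = χ x := fun n =>
    (Cfsg.Agent.Lib.helper20.isCharacter_conj hχ x (n * x * n⁻¹) (isConj_iff.mpr ⟨n, rfl⟩)).symm
  have hmem : ∀ r : (ZMod p)ˣ, (∃ n : G, n * x * n⁻¹ = x ^ ((r : ZMod p).val)) → r ∈ HΓ := by
    intro r ⟨n, hn⟩
    by_contra hr
    apply hne r hr
    rw [← hn]
    exact hcls n
  refine ⟨?_, ?_⟩
  · intro n hn
    rw [← hPz, Subgroup.mem_zpowers_iff] at hn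
    obtain ⟨k, hk⟩ := hn
    have hval : x ^ ((k : ZMod p).val) = n * x * n⁻¹ := by
      rw [← hk, ← zpow_natCast, ZMod.val_intCast, ← hxo, zpow_mod_orderOf]
    have hc0 : (k : ZMod p) ≠ 0 := by
      intro h0
      rw [h0, ZMod.val_zero, pow_zero] at hval
      apply hx1
      have : n * x * n⁻¹ = 1 := hval.symm
      have h2 : x = n⁻¹ * (n * x * n⁻¹) * n := by group
      rw [h2, this]
      group
    have hc := hmem (Units.mk0 (k : ZMod p) hc0) ⟨n, by rw [Units.val_mk0]; exact hval.symm⟩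
    obtain ⟨γ, hγ, hγx⟩ := (hHΓ _).1 hc
    refine ⟨γ, hγ, ?_⟩
    rw [hγx, Units.val_mk0]
    exact hval
  · intro HG hHG
    ext r
    constructor
    · intro hr
      exact hmem r ((hHG r).1 hr)
    · intro hr
      obtain ⟨γ, -, hγx⟩ := (hHΓ r).1 hr
      exact (hHG r).2 ⟨γ, hγx⟩

end Cfsg.Agent.Lib.helper2.BG
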