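import Mathlib
import Cfsg.Agent.Lib.helper1.Coprime

/-!
# Pulling back characteristic subgroups, and transporting them along embeddings
-/

set_option autoImplicit false

namespace Cfsg.Agent.Lib.helper39

open Subgroup

/-- The preimage of a characteristic subgroup under a surjection with characteristic kernel is
characteristic. -/
theorem characteristic_comap_of_surjective {A B : Type*} [Group A] [Group B] [Finite B]
    (f : A →* B) (hf : Function.Surjective f) (hker : f.ker.Characteristic)
    (K : Subgroup B) (hK : K.Characteristic) : (K.comap f).Characteristic := by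
  rw [characteristic_iff_comap_eq]
  intro φ
  have hle : f.ker ≤ (f.comp φ.toMonoidHom).ker := by
    intro x hx
    have h1 := characteristic_iff_comap_eq.mp hker φ
    rw [← h1] at hx
    rw [MonoidHom.mem_ker]
    exact hx
  let h : B →* B := f.liftOfSurjective hf ⟨f.comp φ.toMonoidHom, hle⟩
  have hh : ∀ x, h (f x) = f (φ x) := fun x => by
    simp [h]
  have hsurj : Function.Surjective h := by
    intro b
    obtain ⟨a, rfl⟩ := hf b
    exact ⟨f (φ.symm a), by rw [hh]; simp⟩
  have hbij : Function.Bijective h := ⟨Finite.injective_iff_surjective.mpr hsurj, hsurj⟩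
  let ψ : B ≃* B := MulEquiv.ofBijective h hbij
  have hψ := characteristic_iff_comap_eq.mp hK ψ
  ext x
  simp only [mem_comap]
  have h2 : h (f x) ∈ K ↔ f x ∈ K := by
    conv_rhs => rw [← hψ]
    rfl
  rw [← h2, hh]
  rfl

/-- Pullback of a characteristic subgroup of the image `f(R)` to `R`, when the kernel of `f` on `R`
is characteristic in `R`. -/
theorem char_pullback {Y Z : Type*} [Group Y] [Group Z] (f : Y →* Z) (R : Subgroup Y) [Finite R]
    (K : Subgroup Z) (hK : (K.subgroupOf (R.map f)).Characteristic)
    (hker : (f.ker.subgroupOf R).Characteristic) :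
    ((K.comap f).subgroupOf R).Characteristic := by
  have hfin : Finite ↥(R.map f) := by
    have : Function.Surjective (f.subgroupMap R) := f.subgroupMap_surjective R
    exact Finite.of_surjective _ this
  have hk : (f.subgroupMap R).ker = f.ker.subgroupOf R := by
    ext x
    rw [MonoidHom.mem_ker, mem_subgroupOf, MonoidHom.mem_ker]
    constructor
    · intro h
      have := congrArg Subtype.val h
      simpa using this
    · intro h
      apply Subtype.ext
      simpa using h
  have hker' : (f.subgroupMap R).ker.Characteristic := by rw [hk]; exact hker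
  have h1 := characteristic_comap_of_surjective (f.subgroupMap R) (f.subgroupMap_surjective R)
    hker' _ hK
  have h2 : (K.comap f).subgroupOf R = (K.subgroupOf (R.map f)).comap (f.subgroupMap R) := by
    ext x
    simp [mem_subgroupOf]
  rw [h2]
  exact h1

/-- A characteristic subgroup of `R`, carried along an embedding `f`, is normalized by the
normalizer of `f(R)`. -/
theorem normalizer_map_le_of_char {Y G : Type*} [Group Y] [Group G] (f : Y →* G)
    (hf : Function.Injective f) (R K : Subgroup Y) (hKR : K ≤ R)
    (hchar : (K.subgroupOf R).Characteristic) :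
    normalizer ((R.map f : Subgroup G) : Set G) ≤ normalizer ((K.map f : Subgroup G) : Set G) := by
  let e : ↥R ≃* ↥(R.map f) := R.equivMapOfInjective f hf
  let K₂ : Subgroup ↥(R.map f) := (K.subgroupOf R).comap e.symm.toMonoidHom
  have hK₂ : K₂.Characteristic := by
    rw [characteristic_iff_comap_eq]
    intro ψ
    ext x
    simp only [K₂, mem_comap]
    have h1 := characteristic_iff_comap_eq.mp hchar ((e.trans ψ).trans e.symm)
    have h2 : e.symm x ∈ (K.subgroupOf R).comap ((e.trans ψ).trans e.symm).toMonoidHom ↔
        e.symm x ∈ K.subgroupOf R := by rw [h1]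
    rw [mem_comap] at h2
    have h3 : ((e.trans ψ).trans e.symm).toMonoidHom (e.symm x) = e.symm (ψ x) := by
      simp
    rw [h3] at h2
    exact h2
  have h4 := Cfsg.Agent.Lib.helper1.normalizer_le_normalizer_map_of_characteristic (R.map f) K₂
  have h5 : K₂.map (R.map f).subtype = K.map f := by
    ext g
    constructor
    · rintro ⟨x, hx, rfl⟩
      have hx' : ((e.symm x : ↥R) : Y) ∈ K := hx
      refine ⟨(e.symm x : Y), hx', ?_⟩
      have : e (e.symm x) = x := e.apply_symm_apply x
      have h6 := congrArg Subtype.val this
      exact (show f ↑(e.symm x) = ((e (e.symm x) : ↥(R.map f)) : G) from rfl).trans h6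
    · rintro ⟨y, hy, rfl⟩
      refine ⟨e ⟨y, hKR hy⟩, ?_, rfl⟩
      have : e.symm (e ⟨y, hKR hy⟩) = ⟨y, hKR hy⟩ := e.symm_apply_apply _
      change ((e.symm (e ⟨y, hKR hy⟩) : ↥R) : Y) ∈ K
      rw [this]
      exact hy
  rw [h5] at h4
  exact h4

end Cfsg.Agent.Lib.helper39
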