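import Mathlib
import Cfsg.Prelude.Def_LocalEven
import Cfsg.Agent.Lib.helper39.EngelHom
import Cfsg.Agent.Lib.helper39.QuarticSeries

/-!
# Chief series inductions and the relative Engel lemma

* `engel_hom_rel`: relative version of `engel_hom`.
* `ChiefEngelN`: the Engel condition of length `n` on the chief factors.
* `chief_induction_up`, `chief_induction_down`: induction along chief series.
* `commutator_le_of_chief_pgroup`: a normal `p`-subgroup centralizes the chief factors below it.
* `chief_engel_of_series`: the main consequence.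
-/

set_option autoImplicit false

namespace Cfsg.Agent.Lib.helper39

open Cfsg

open scoped commutatorElement

section rel

variable {L : Type*} [Group L]

/-- **Relative Engel lemma for stability groups.** Let `X` act on `U` with `[U, X] ≤ V` and
`[U', X] ≤ V'`, where `X` and `U` act trivially on `V / V'`. If `Γ` pushes `U` into `U'` after `a + 1`
commutations and `V` into `V'` after `b` commutations, then `[X, Γ; a + b]` acts trivially on `U`
modulo `V'`. -/
theorem engel_hom_rel (Γ X U U' V V' : Subgroup L) [V'.Normal] (hV'V : V' ≤ V)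
    (hXΓ : ⁅X, Γ⁆ ≤ X) (hUΓ : ⁅U, Γ⁆ ≤ U) (hVΓ : ⁅V, Γ⁆ ≤ V)
    (hXU : ⁅X, U⁆ ≤ V) (hVX : ⁅V, X⁆ ≤ V') (hVU : ⁅V, U⁆ ≤ V') (hXU' : ⁅X, U'⁆ ≤ V')
    (a b : ℕ) (ha : iterCommutator U Γ (a + 1) ≤ U') (hb : iterCommutator V Γ b ≤ V') :
    ⁅iterCommutator X Γ (a + b), U⁆ ≤ V' := by
  have hXk : ∀ k, iterCommutator X Γ k ≤ X := iterCommutator_le_of_le hXΓ
  have hUl : ∀ l, iterCommutator U Γ l ≤ U := iterCommutator_le_of_le hUΓ
  have hVm : ∀ m, iterCommutator V Γ m ≤ V := iterCommutator_le_of_le hVΓ
  have hWV : ∀ n, iterCommutator V Γ (n - a) ⊔ V' ≤ V := fun n => sup_le (hVm _) hV'V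
  have hWΓ : ∀ n, ⁅iterCommutator V Γ (n - a) ⊔ V', Γ⁆ ≤ iterCommutator V Γ (n + 1 - a) ⊔ V' := by
    intro n
    refine le_trans (commutator_sup_normal_le _ _ _) (sup_le_sup_right ?_ _)
    rw [← iterCommutator_succ]
    exact iterCommutator_antitone hVΓ (by omega)
  have hWn : ∀ n, ∀ H : Subgroup L, (H ≤ X ∨ H ≤ U ∨ H = Γ) →
      H ≤ Subgroup.normalizer ((iterCommutator V Γ (n - a) ⊔ V' : Subgroup L) : Set L) := by
    intro n H hH
    rw [Subgroup.le_normalizer_iff_commutator_le_left]
    rcases hH with hH | hH | hH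
    · exact le_trans (Subgroup.commutator_mono (hWV n) hH) (hVX.trans le_sup_right)
    · exact le_trans (Subgroup.commutator_mono (hWV n) hH) (hVU.trans le_sup_right)
    · rw [hH]
      refine le_trans (hWΓ n) (sup_le_sup_right ?_ _)
      exact iterCommutator_antitone hVΓ (by omega)
  have P : ∀ k l, ⁅iterCommutator X Γ k, iterCommutator U Γ l⁆ ≤
      iterCommutator V Γ (k + l - a) ⊔ V' := by
    intro k
    induction k with
    | zero =>
      intro l
      by_cases hl : l ≤ a
      · have e : 0 + l - a = 0 := by omega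
        rw [e]
        exact le_trans (Subgroup.commutator_mono le_rfl (hUl l)) (hXU.trans le_sup_left)
      · have h1 : iterCommutator U Γ l ≤ U' :=
          le_trans (iterCommutator_antitone hUΓ (by omega : a + 1 ≤ l)) ha
        exact le_trans (Subgroup.commutator_mono le_rfl h1) (hXU'.trans le_sup_right)
    | succ k ih =>
      intro l
      rw [iterCommutator_succ]
      apply commutator_commutator_le_of_rotate
        (hWn _ _ (Or.inl (hXk k))) (hWn _ _ (Or.inr (Or.inr rfl))) (hWn _ _ (Or.inr (Or.inl (hUl l))))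
      · have h1 := ih (l + 1)
        rw [iterCommutator_succ, Subgroup.commutator_comm] at h1
        have e : k + (l + 1) - a = k + 1 + l - a := by omega
        rw [e] at h1
        rw [Subgroup.commutator_comm Γ]
        exact h1
      · have h1 := ih l
        rw [Subgroup.commutator_comm] at h1
        refine le_trans (Subgroup.commutator_mono h1 le_rfl) ?_
        have h2 := hWΓ (k + l)
        have e : k + l + 1 - a = k + 1 + l - a := by omega
        rw [e] at h2
        exact h2
  have h1 := P (a + b) 0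
  have e : a + b + 0 - a = b := by omega
  rw [e] at h1
  exact h1.trans (sup_le hb le_rfl)

end rel

section chiefN

variable {G : Type*} [Group G]

/-- The Engel condition of length `n` for `Γ` on the part in `M` of each chief factor. -/
def ChiefEngelN (Γ : Subgroup G) (n : ℕ) (M : Subgroup G) : Prop :=
  ∀ U V : Subgroup G, IsChiefFactor U V → iterCommutator (U ⊓ M) Γ n ≤ V

theorem chiefEngelN_bot (Γ : Subgroup G) (n : ℕ) : ChiefEngelN Γ n ⊥ := by
  intro U V _
  rw [inf_bot_eq, iterCommutator_bot]
  exact bot_le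

theorem ChiefEngelN.ext {Γ N M : Subgroup G} {n : ℕ} [N.Normal] [M.Normal]
    (hN : ChiefEngelN Γ n N) (h : iterCommutator M Γ n ≤ N) : ChiefEngelN Γ n M := by
  intro U V hUV
  have hUV' := hUV
  obtain ⟨hlt, hUn, hVn, hmax⟩ := hUV
  have hn : (V ⊔ (U ⊓ N)).Normal := inferInstance
  rcases hmax (V ⊔ (U ⊓ N)) hn le_sup_left (sup_le hlt.le inf_le_left) with h1 | h1
  · have h2 : U ⊓ N ≤ V := by rw [← h1]; exact le_sup_right
    refine le_trans (le_inf ?_ ?_) h2
    · exact le_trans (iterCommutator_normal_le (U ⊓ M) Γ n) inf_le_left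
    · exact le_trans (iterCommutator_mono inf_le_right n) h
  · have h2 : iterCommutator (U ⊓ M) Γ n ≤ iterCommutator ((U ⊓ N) ⊔ V) Γ n := by
      rw [sup_comm, h1]
      exact iterCommutator_mono inf_le_left n
    refine le_trans h2 (le_trans (iterCommutator_sup_normal_le _ _ _ n) (sup_le ?_ le_rfl))
    exact hN U V hUV'

theorem ChiefEngelN.of_eq {Γ N M : Subgroup G} {n : ℕ} (hN : ChiefEngelN Γ n N) (h : M = N) :
    ChiefEngelN Γ n M := h ▸ hN

/-- Upward induction along chief series below `B`. -/
theorem chief_induction_up [Finite G] (Pr : Subgroup G → Prop) (B : Subgroup G)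
    (h0 : Pr ⊥)
    (hstep : ∀ N M : Subgroup G, IsChiefFactor M N → M ≤ B → Pr N → Pr M) :
    ∀ M : Subgroup G, M.Normal → M ≤ B → Pr M := by
  have key : ∀ k : ℕ, ∀ M : Subgroup G, Nat.card M = k → M.Normal → M ≤ B → Pr M := by
    intro k
    induction k using Nat.strong_induction_on with
    | _ k ih =>
    intro M hk hMn hMB
    by_cases hbot : M = ⊥
    · rw [hbot]; exact h0
    have hne : ({N : Subgroup G | N.Normal ∧ N < M}).Nonempty :=
      ⟨⊥, inferInstance, bot_lt_iff_ne_bot.mpr hbot⟩
    obtain ⟨N, hN, hmax⟩ := (Set.toFinite {N : Subgroup G | N.Normal ∧ N < M}).exists_maximal hne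
    have hchief : IsChiefFactor M N := by
      refine ⟨hN.2, hMn, hN.1, ?_⟩
      intro L hLn hNL hLM
      by_cases hL : L = M
      · exact Or.inr hL
      · left
        have hL' : L ∈ {N : Subgroup G | N.Normal ∧ N < M} := ⟨hLn, lt_of_le_of_ne hLM hL⟩
        exact le_antisymm (hmax hL' hNL) hNL
    have hcard : Nat.card N < k := by
      rw [← hk]
      exact Set.ncard_lt_ncard (show (N : Set G) ⊂ (M : Set G) from hN.2) (Set.toFinite _)
    exact hstep N M hchief hMB (ih _ hcard N rfl hN.1 (hN.2.le.trans hMB))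
  intro M hMn hMB
  exact key _ M rfl hMn hMB

/-- Downward induction along chief series below `B`. -/
theorem chief_induction_down [Finite G] (Pr : Subgroup G → Prop) (B : Subgroup G) [hBn : B.Normal]
    (h0 : Pr B)
    (hstep : ∀ N M : Subgroup G, IsChiefFactor M N → M ≤ B → Pr M → Pr N) :
    ∀ N : Subgroup G, N.Normal → N ≤ B → Pr N := by
  have key : ∀ k : ℕ, ∀ N : Subgroup G, Nat.card B - Nat.card N = k → N.Normal → N ≤ B → Pr N := by
    intro k
    induction k using Nat.strong_induction_on with
    | _ k ih =>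
    intro N hk hNn hNB
    by_cases htop : N = B
    · rw [htop]; exact h0
    have hlt : N < B := lt_of_le_of_ne hNB htop
    have hne : ({M : Subgroup G | M.Normal ∧ N < M ∧ M ≤ B}).Nonempty := ⟨B, hBn, hlt, le_rfl⟩
    obtain ⟨M, hM, hmin⟩ :=
      (Set.toFinite {M : Subgroup G | M.Normal ∧ N < M ∧ M ≤ B}).exists_minimal hne
    have hchief : IsChiefFactor M N := by
      refine ⟨hM.2.1, hM.1, hNn, ?_⟩
      intro L hLn hNL hLM
      by_cases hL : L = N
      · exact Or.inl hL
      · right
        have hL' : L ∈ {M : Subgroup G | M.Normal ∧ N < M ∧ M ≤ B} :=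
          ⟨hLn, lt_of_le_of_ne hNL (Ne.symm hL), hLM.trans hM.2.2⟩
        exact le_antisymm hLM (hmin hL' hLM)
    have hc1 : Nat.card N < Nat.card M :=
      Set.ncard_lt_ncard (show (N : Set G) ⊂ (M : Set G) from hM.2.1) (Set.toFinite _)
    have hc2 : Nat.card M ≤ Nat.card B := Subgroup.card_le_of_le hM.2.2
    have hcard : Nat.card B - Nat.card M < k := by omega
    exact hstep N M hchief hM.2.2 (ih _ hcard M rfl hM.1 hM.2.2)
  intro N hNn hNB
  exact key _ N rfl hNn hNB

/-- A normal `p`-subgroup acts trivially on every chief factor below it. -/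
theorem commutator_le_of_chief_pgroup [Finite G] {p : ℕ} [Fact p.Prime] (P : Subgroup G)
    [hPn : P.Normal] (hP : IsPGroup p P) {M N : Subgroup G} (h : IsChiefFactor M N)
    (hMP : M ≤ P) : ⁅M, P⁆ ≤ N := by
  obtain ⟨hlt, hMn, hNn, hmax⟩ := h
  have hLn : (N ⊔ ⁅M, P⁆).Normal := inferInstance
  rcases hmax (N ⊔ ⁅M, P⁆) hLn le_sup_left (sup_le hlt.le (Subgroup.commutator_le_left M P))
    with h1 | h1
  · rw [← h1]; exact le_sup_right
  · exfalso
    have hnil : Group.IsNilpotent P := hP.isNilpotent
    obtain ⟨m, hm⟩ := exists_iterCommutator_eq_bot (T := P) hMP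
    have key : ∀ k, M ≤ N ⊔ iterCommutator M P k := by
      intro k
      induction k with
      | zero => exact le_sup_right
      | succ k ih =>
        have h2 : ⁅M, P⁆ ≤ ⁅iterCommutator M P k ⊔ N, P⁆ :=
          Subgroup.commutator_mono (by rw [sup_comm]; exact ih) le_rfl
        have h3 := h2.trans (commutator_sup_normal_le _ _ _)
        rw [← iterCommutator_succ] at h3
        calc M = N ⊔ ⁅M, P⁆ := h1.symm
          _ ≤ N ⊔ (iterCommutator M P (k + 1) ⊔ N) := sup_le_sup_left h3 N
          _ = N ⊔ iterCommutator M P (k + 1) := by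
            rw [sup_comm (iterCommutator M P (k + 1)) N, ← sup_assoc, sup_idem]
    have h4 := key m
    rw [hm, sup_bot_eq] at h4
    exact absurd (le_antisymm hlt.le h4) hlt.ne

end chiefN

end Cfsg.Agent.Lib.helper39
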