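import Cfsg.Agent.Lib.helper39.PMod

set_option autoImplicit false

namespace Cfsg.Agent.Lib.helper39

open Cfsg

open scoped commutatorElement

section

variable {G : Type*} [Group G]

/-- Subgroups between `Z ⊇ [U, U]` and `U` are normalized by `U`. -/
theorem le_normalizer_of_commutator_le {U Z X : Subgroup G} (hab : ⁅U, U⁆ ≤ Z) (hZX : Z ≤ X)
    (hXU : X ≤ U) : U ≤ Subgroup.normalizer (X : Set G) := by
  rw [Subgroup.le_normalizer_iff_commutator_le_left]
  exact (Subgroup.commutator_mono hXU le_rfl).trans (hab.trans hZX)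

theorem le_normalizer_inf {K I M : Subgroup G} (hI : K ≤ Subgroup.normalizer (I : Set G))
    (hM : K ≤ Subgroup.normalizer (M : Set G)) :
    K ≤ Subgroup.normalizer ((I ⊓ M : Subgroup G) : Set G) := by
  intro k hk
  apply cj_eq_self_iff.mp
  rw [cj_inf, cj_eq_self_iff.mpr (hI hk), cj_eq_self_iff.mpr (hM hk)]

variable [Finite G]

/-- **A Clifford complement.** Let `U/Z` be an abelian chief factor of `G` and `K` a normal
subgroup of `G`. Every `K`-invariant subgroup `V` between `Z` and `U` has a `K`-invariant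
complement modulo `Z`. -/
theorem clifford_complement (U Z K V : Subgroup G) [hUn : U.Normal] [hZn : Z.Normal]
    [hKn : K.Normal] (hZU : Z ≤ U) (hab : ⁅U, U⁆ ≤ Z)
    (hchief : ∀ V₁ : Subgroup G, V₁.Normal → V₁ ≤ U → V₁ ≠ U → V₁ ≤ Z)
    (hZV : Z ≤ V) (hVU : V ≤ U) (hKV : K ≤ Subgroup.normalizer (V : Set G)) :
    ∃ V' : Subgroup G, Z ≤ V' ∧ V' ≤ U ∧ K ≤ Subgroup.normalizer (V' : Set G) ∧ V ⊓ V' ≤ Z ∧
      U ≤ V ⊔ V' := by
  let 𝒱 : Set (Subgroup G) :=
    {V' | Z ≤ V' ∧ V' ≤ U ∧ K ≤ Subgroup.normalizer (V' : Set G) ∧ V ⊓ V' ≤ Z}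
  have h𝒱ne : 𝒱.Nonempty := ⟨Z, le_rfl, hZU, Subgroup.le_normalizer_of_normal, inf_le_right⟩
  obtain ⟨V', hV'mem, hV'max⟩ := Set.exists_max_image 𝒱 (fun V' => Nat.card V')
    (Set.toFinite 𝒱) h𝒱ne
  obtain ⟨hZV', hV'U, hKV', hVV'⟩ := hV'mem
  refine ⟨V', hZV', hV'U, hKV', hVV', ?_⟩
  by_contra hcon
  have hZM : Z ≤ V ⊔ V' := hZV.trans le_sup_left
  have hKM : K ≤ Subgroup.normalizer ((V ⊔ V' : Subgroup G) : Set G) :=
    (le_inf hKV hKV').trans (Subgroup.normalizer_inf_normalizer_le_normalizer_sup V V')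
  have hZneU : Z ≠ U := fun h => hcon (by rw [← h]; exact hZM)
  let ℐ : Set (Subgroup G) :=
    {I | Z ≤ I ∧ I ≤ U ∧ K ≤ Subgroup.normalizer (I : Set G) ∧ I ≠ Z}
  have hℐne : ℐ.Nonempty :=
    ⟨U, hZU, le_rfl, Subgroup.le_normalizer_of_normal, fun h => hZneU h.symm⟩
  obtain ⟨I₀, hI₀mem, hI₀min⟩ := Set.exists_min_image ℐ (fun I => Nat.card I)
    (Set.toFinite ℐ) hℐne
  obtain ⟨hZI₀, hI₀U, hKI₀, hI₀Z⟩ := hI₀mem
  have hconj : ∀ g : G, cj g I₀ ∈ ℐ := by
    intro g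
    refine ⟨?_, ?_, ?_, ?_⟩
    · have h1 := cj_le_cj (g := g) |>.mpr hZI₀
      rwa [cj_normal g Z] at h1
    · have h1 := cj_le_cj (g := g) |>.mpr hI₀U
      rwa [cj_normal g U] at h1
    · have h1 := cj_le_cj (g := g) |>.mpr hKI₀
      rwa [cj_normal g K, cj_normalizer] at h1
    · intro h
      apply hI₀Z
      apply cj_injective g
      rw [h, cj_normal g Z]
  have hSgn : (⨆ g : G, cj g I₀).Normal := by
    apply Subgroup.normalizer_eq_top_iff.mp
    apply top_le_iff.mp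
    apply le_normalizer_of_forall_cj_le
    intro x _
    show (⨆ g : G, cj g I₀).map (MulAut.conj x).toMonoidHom ≤ _
    rw [Subgroup.map_iSup]
    refine iSup_le fun g => ?_
    show cj x (cj g I₀) ≤ _
    rw [← cj_mul]
    exact le_iSup (fun g => cj g I₀) (x * g)
  have hSgU : (⨆ g : G, cj g I₀) ≤ U := iSup_le fun g => (hconj g).2.1
  have hSg : (⨆ g : G, cj g I₀) = U := by
    by_contra hne
    have h1 := hchief _ hSgn hSgU hne
    have h2 : I₀ ≤ Z := by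
      have h3 := le_iSup (fun g => cj g I₀) 1
      simp only [cj_one] at h3
      exact h3.trans h1
    exact hI₀Z (le_antisymm h2 hZI₀)
  obtain ⟨g, hg⟩ : ∃ g : G, ¬ cj g I₀ ≤ V ⊔ V' := by
    by_contra hall
    apply hcon
    rw [← hSg]
    refine iSup_le fun g => ?_
    by_contra h
    exact hall ⟨g, h⟩
  obtain ⟨hZI, hIU, hKI, hIZ⟩ := hconj g
  have hIM : cj g I₀ ⊓ (V ⊔ V') ≤ Z := by
    by_contra hne
    have hmem : cj g I₀ ⊓ (V ⊔ V') ∈ ℐ :=
      ⟨le_inf hZI hZM, inf_le_left.trans hIU, le_normalizer_inf hKI hKM,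
        fun h => hne (le_of_eq h)⟩
    have h1 := hI₀min _ hmem
    have h2 : cj g I₀ ⊓ (V ⊔ V') = cj g I₀ := by
      refine Subgroup.eq_of_le_of_card_ge inf_le_left ?_
      rw [card_cj]
      exact h1
    exact hg (by rw [← h2]; exact inf_le_right)
  have hV''mem : V' ⊔ cj g I₀ ∈ 𝒱 := by
    refine ⟨hZV'.trans le_sup_left, sup_le hV'U hIU, (le_inf hKV' hKI).trans
      (Subgroup.normalizer_inf_normalizer_le_normalizer_sup _ _), ?_⟩
    rintro x ⟨hxV, hxs⟩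
    have hIn : cj g I₀ ≤ Subgroup.normalizer (V' : Set G) :=
      hIU.trans (le_normalizer_of_commutator_le hab hZV' hV'U)
    have hxs' : x ∈ (V' ⊔ cj g I₀ : Subgroup G) := hxs
    rw [← SetLike.mem_coe, Subgroup.coe_mul_of_right_le_normalizer_left V' (cj g I₀) hIn] at hxs'
    obtain ⟨v', hv', i, hi, rfl⟩ := Set.mem_mul.mp hxs'
    have hiM : i ∈ V ⊔ V' := by
      have e : i = v'⁻¹ * (v' * i) := by group
      rw [e]
      exact mul_mem (inv_mem (Subgroup.mem_sup_right hv')) (Subgroup.mem_sup_left hxV)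
    have hiZ : i ∈ Z := hIM ⟨hi, hiM⟩
    have hx' : v' * i ∈ V' := V'.mul_mem hv' (hZV' hiZ)
    exact hVV' ⟨hxV, hx'⟩
  have h1 := hV'max _ hV''mem
  have h2 : V' = V' ⊔ cj g I₀ := Subgroup.eq_of_le_of_card_ge le_sup_left h1
  have h3 : cj g I₀ ≤ V' := by
    rw [h2]
    exact le_sup_right
  exact hg (h3.trans le_sup_right)

end

end Cfsg.Agent.Lib.helper39
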