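import Cfsg.Agent.Lib.helper39.CliffordC

/-!
# Clifford's theorem along subnormal chains

* `SecSS K U Z`: every `K`-invariant subgroup between `Z` and `U` has a `K`-invariant complement
  modulo `Z`.
* `secSS_of_normal`: the property passes to normal subgroups of `K`.
* `exists_normalizer_growth`: normalizers grow in `L` above `L₀` when `L / L₀` is a `p`-group.
* `secSS_of_pMod`: the property passes from `L` to every subgroup between `L₀` and `L`.
-/

set_option autoImplicit false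

namespace Cfsg.Agent.Lib.helper39

open Cfsg

open scoped commutatorElement

section

variable {G : Type*} [Group G]

/-- Every `K`-invariant subgroup between `Z` and `U` has a `K`-invariant complement modulo `Z`. -/
def SecSS (K U Z : Subgroup G) : Prop :=
  ∀ V : Subgroup G, Z ≤ V → V ≤ U → K ≤ Subgroup.normalizer (V : Set G) →
    ∃ V' : Subgroup G, Z ≤ V' ∧ V' ≤ U ∧ K ≤ Subgroup.normalizer (V' : Set G) ∧ V ⊓ V' ≤ Z ∧
      U ≤ V ⊔ V'

variable [Finite G]

/-- **Clifford's theorem, one step.** Complete reducibility of the abelian section `U/Z` passes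
from `K` to a normal subgroup `H` of `K`. -/
theorem secSS_of_normal {H K U Z : Subgroup G} [hUn : U.Normal] [hZn : Z.Normal]
    (hZU : Z ≤ U) (hab : ⁅U, U⁆ ≤ Z) (hHK : H ≤ K)
    (hKH : K ≤ Subgroup.normalizer (H : Set G)) (hK : SecSS K U Z) : SecSS H U Z := by
  intro V hZV hVU hHV
  let 𝒱 : Set (Subgroup G) :=
    {V' | Z ≤ V' ∧ V' ≤ U ∧ H ≤ Subgroup.normalizer (V' : Set G) ∧ V ⊓ V' ≤ Z}
  have h𝒱ne : 𝒱.Nonempty := ⟨Z, le_rfl, hZU, Subgroup.le_normalizer_of_normal, inf_le_right⟩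
  obtain ⟨V', hV'mem, hV'max⟩ := Set.exists_max_image 𝒱 (fun V' => Nat.card V')
    (Set.toFinite 𝒱) h𝒱ne
  obtain ⟨hZV', hV'U, hHV', hVV'⟩ := hV'mem
  refine ⟨V', hZV', hV'U, hHV', hVV', ?_⟩
  by_contra hcon
  have hZM : Z ≤ V ⊔ V' := hZV.trans le_sup_left
  have hHM : H ≤ Subgroup.normalizer ((V ⊔ V' : Subgroup G) : Set G) :=
    (le_inf hHV hHV').trans (Subgroup.normalizer_inf_normalizer_le_normalizer_sup V V')
  let ℐ : Set (Subgroup G) :=
    {I | Z ≤ I ∧ I ≤ U ∧ H ≤ Subgroup.normalizer (I : Set G) ∧ I ≠ Z}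
  let 𝒥 : Set (Subgroup G) := {I | I ∈ ℐ ∧ ∀ I' ∈ ℐ, I' ≤ I → I' = I}
  have hconjℐ : ∀ k ∈ K, ∀ I ∈ ℐ, cj k I ∈ ℐ := by
    intro k hk I hI
    obtain ⟨h1, h2, h3, h4⟩ := hI
    refine ⟨?_, ?_, ?_, ?_⟩
    · have h5 := cj_le_cj (g := k) |>.mpr h1
      rwa [cj_normal k Z] at h5
    · have h5 := cj_le_cj (g := k) |>.mpr h2
      rwa [cj_normal k U] at h5
    · have h5 := cj_le_cj (g := k) |>.mpr h3
      rwa [cj_eq_self_iff.mpr (hKH hk), cj_normalizer] at h5
    · intro h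
      apply h4
      apply cj_injective k
      rw [h, cj_normal k Z]
  have hconj𝒥 : ∀ k ∈ K, ∀ I ∈ 𝒥, cj k I ∈ 𝒥 := by
    intro k hk I hI
    refine ⟨hconjℐ k hk I hI.1, ?_⟩
    intro I' hI' hle
    have h1 : cj k⁻¹ I' ∈ ℐ := hconjℐ k⁻¹ (K.inv_mem hk) I' hI'
    have h2 : cj k⁻¹ I' ≤ I := by
      have h3 := cj_le_cj (g := k⁻¹) |>.mpr hle
      rwa [cj_inv_cj] at h3
    have h3 := hI.2 _ h1 h2
    rw [← h3, cj_cj_inv]
  -- the socle
  have hSocU : Z ⊔ sSup 𝒥 ≤ U := sup_le hZU (sSup_le fun I hI => hI.1.2.1)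
  have hSocK : K ≤ Subgroup.normalizer ((Z ⊔ sSup 𝒥 : Subgroup G) : Set G) := by
    apply le_normalizer_of_forall_cj_le
    intro k hk
    show (Z ⊔ sSup 𝒥).map (MulAut.conj k).toMonoidHom ≤ _
    rw [Subgroup.map_le_iff_le_comap]
    refine sup_le ?_ (sSup_le fun I hI => ?_)
    · rw [← Subgroup.map_le_iff_le_comap]
      show cj k Z ≤ _
      rw [cj_normal k Z]
      exact le_sup_left
    · rw [← Subgroup.map_le_iff_le_comap]
      show cj k I ≤ _
      exact (le_sSup (hconj𝒥 k hk I hI)).trans le_sup_right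
  obtain ⟨C, hZC, hCU, hKC, hSC, hUSC⟩ := hK (Z ⊔ sSup 𝒥) le_sup_left hSocU hSocK
  have hCZ : C = Z := by
    by_contra hCZ
    have hne : ({I : Subgroup G | I ∈ ℐ ∧ I ≤ C}).Nonempty :=
      ⟨C, ⟨hZC, hCU, hHK.trans hKC, hCZ⟩, le_rfl⟩
    obtain ⟨I₁, hI₁mem, hI₁min⟩ := Set.exists_min_image {I : Subgroup G | I ∈ ℐ ∧ I ≤ C}
      (fun I => Nat.card I) (Set.toFinite _) hne
    obtain ⟨hI₁ℐ, hI₁C⟩ := hI₁mem
    have hI₁𝒥 : I₁ ∈ 𝒥 := by
      refine ⟨hI₁ℐ, ?_⟩
      intro I' hI' hle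
      exact Subgroup.eq_of_le_of_card_ge hle (hI₁min I' ⟨hI', hle.trans hI₁C⟩)
    have h1 : I₁ ≤ Z := (le_inf ((le_sSup hI₁𝒥).trans le_sup_right) hI₁C).trans hSC
    exact hI₁ℐ.2.2.2 (le_antisymm h1 hI₁ℐ.1)
  have hUSoc : U ≤ Z ⊔ sSup 𝒥 := by
    rw [hCZ] at hUSC
    exact hUSC.trans (sup_le le_rfl le_sup_left)
  obtain ⟨I, hI𝒥, hIM'⟩ : ∃ I ∈ 𝒥, ¬ I ≤ V ⊔ V' := by
    by_contra hall
    apply hcon
    refine hUSoc.trans (sup_le hZM (sSup_le fun I hI => ?_))
    by_contra h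
    exact hall ⟨I, hI, h⟩
  obtain ⟨⟨hZI, hIU, hHI, hIZ⟩, hImin⟩ := hI𝒥
  have hIM : I ⊓ (V ⊔ V') ≤ Z := by
    by_contra hne
    have hmem : I ⊓ (V ⊔ V') ∈ ℐ :=
      ⟨le_inf hZI hZM, inf_le_left.trans hIU, le_normalizer_inf hHI hHM,
        fun h => hne (le_of_eq h)⟩
    have h2 := hImin _ hmem inf_le_left
    exact hIM' (by rw [← h2]; exact inf_le_right)
  have hV''mem : V' ⊔ I ∈ 𝒱 := by
    refine ⟨hZV'.trans le_sup_left, sup_le hV'U hIU, (le_inf hHV' hHI).trans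
      (Subgroup.normalizer_inf_normalizer_le_normalizer_sup _ _), ?_⟩
    rintro x ⟨hxV, hxs⟩
    have hIn : I ≤ Subgroup.normalizer (V' : Set G) :=
      hIU.trans (le_normalizer_of_commutator_le hab hZV' hV'U)
    have hxs' : x ∈ (V' ⊔ I : Subgroup G) := hxs
    rw [← SetLike.mem_coe, Subgroup.coe_mul_of_right_le_normalizer_left V' I hIn] at hxs'
    obtain ⟨v', hv', i, hi, rfl⟩ := Set.mem_mul.mp hxs'
    have hiM : i ∈ V ⊔ V' := by
      have e : i = v'⁻¹ * (v' * i) := by group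
      rw [e]
      exact mul_mem (inv_mem (Subgroup.mem_sup_right hv')) (Subgroup.mem_sup_left hxV)
    have hiZ : i ∈ Z := hIM ⟨hi, hiM⟩
    have hx' : v' * i ∈ V' := V'.mul_mem hv' (hZV' hiZ)
    exact hVV' ⟨hxV, hx'⟩
  have h1 := hV'max _ hV''mem
  have h2 : V' = V' ⊔ I := Subgroup.eq_of_le_of_card_ge le_sup_left h1
  have h3 : I ≤ V' := by
    rw [h2]
    exact le_sup_right
  exact hIM' (h3.trans le_sup_right)

/-- **Normalizer growth.** If all elements of `L` of order prime to `p` lie in the normal subgroup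
`L₀`, every proper subgroup `K` of `L` containing `L₀` is properly contained in its normalizer
in `L`. -/
theorem exists_normalizer_growth {p : ℕ} [Fact p.Prime] {L L₀ K : Subgroup G} [hL₀n : L₀.Normal]
    (hPM : PMod p L L₀) (hL₀K : L₀ ≤ K) (hKL : K ≤ L) (hne : K ≠ L) :
    ∃ x ∈ L, x ∉ K ∧ x ∈ Subgroup.normalizer (K : Set G) := by
  have hp : p.Prime := Fact.out
  have hQp : IsPGroup p (↥L ⧸ L₀.subgroupOf L) := by
    intro q
    induction q using QuotientGroup.induction_on with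
    | H y =>
      have hpos : orderOf (y : G) ≠ 0 := (orderOf_pos (y : G)).ne'
      obtain ⟨k, m, hm, hn⟩ := Nat.exists_eq_pow_mul_and_not_dvd hpos p hp.ne_one
      refine ⟨k, ?_⟩
      have h1 : ((y : G) ^ p ^ k) ^ m = 1 := by
        rw [← pow_mul, ← hn]
        exact pow_orderOf_eq_one _
      have h2 : (orderOf ((y : G) ^ p ^ k)).Coprime p :=
        Nat.Coprime.coprime_dvd_left (orderOf_dvd_of_pow_eq_one h1)
          ((Nat.Prime.coprime_iff_not_dvd hp).mpr hm).symm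
      have h3 : (y : G) ^ p ^ k ∈ L₀ := hPM _ (L.pow_mem y.2 _) h2
      rw [← QuotientGroup.mk_pow]
      exact (QuotientGroup.eq_one_iff _).mpr (Subgroup.mem_subgroupOf.mpr (by simpa using h3))
  have hnil : Group.IsNilpotent (↥L ⧸ L₀.subgroupOf L) := hQp.isNilpotent
  have hNC := Group.normalizerCondition_of_isNilpotent (G := ↥L ⧸ L₀.subgroupOf L)
  obtain ⟨Kb, hKb⟩ : ∃ Kb, Kb = (K.subgroupOf L).map (QuotientGroup.mk' (L₀.subgroupOf L)) :=
    ⟨_, rfl⟩
  have hmemKb : ∀ y : ↥L, QuotientGroup.mk' (L₀.subgroupOf L) y ∈ Kb → (y : G) ∈ K := by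
    intro y hy
    rw [hKb] at hy
    obtain ⟨k', hk', hk'y⟩ := hy
    have h1 : k'⁻¹ * y ∈ L₀.subgroupOf L := QuotientGroup.eq.mp hk'y
    have h2 : ((k' : G))⁻¹ * (y : G) ∈ L₀ := by
      have h3 := Subgroup.mem_subgroupOf.mp h1
      simpa using h3
    have e : (y : G) = (k' : G) * (((k' : G))⁻¹ * (y : G)) := by group
    rw [e]
    exact K.mul_mem (Subgroup.mem_subgroupOf.mp hk') (hL₀K h2)
  have hKbtop : Kb < ⊤ := by
    refine lt_top_iff_ne_top.mpr ?_
    intro htop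
    apply hne
    refine le_antisymm hKL ?_
    intro y hy
    exact hmemKb ⟨y, hy⟩ (by rw [htop]; exact Subgroup.mem_top _)
  obtain ⟨q, hqN, hqK⟩ := SetLike.exists_of_lt (hNC Kb hKbtop)
  have key : ∀ y : ↥L, QuotientGroup.mk' (L₀.subgroupOf L) y ∈ Subgroup.normalizer (Kb : Set _) →
      ∀ k ∈ K, (y : G) * k * (y : G)⁻¹ ∈ K := by
    intro y hy k hk
    have h1 : QuotientGroup.mk' (L₀.subgroupOf L) ⟨k, hKL hk⟩ ∈ Kb := by
      rw [hKb]
      exact ⟨⟨k, hKL hk⟩, Subgroup.mem_subgroupOf.mpr hk, rfl⟩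
    have h2 := (Subgroup.mem_normalizer_iff.mp hy _).mp h1
    have h3 : QuotientGroup.mk' (L₀.subgroupOf L) (y * ⟨k, hKL hk⟩ * y⁻¹) ∈ Kb := by
      rw [map_mul, map_mul, map_inv]
      exact h2
    have h4 := hmemKb _ h3
    simpa using h4
  induction q using QuotientGroup.induction_on with
  | H y =>
    refine ⟨(y : G), y.2, ?_, ?_⟩
    · intro hyK
      apply hqK
      rw [hKb]
      exact ⟨y, Subgroup.mem_subgroupOf.mpr hyK, rfl⟩
    · rw [Subgroup.mem_normalizer_iff]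
      intro h
      constructor
      · exact key y hqN h
      · intro hh
        have hinv : QuotientGroup.mk' (L₀.subgroupOf L) y⁻¹ ∈ Subgroup.normalizer (Kb : Set _) := by
          rw [map_inv]
          exact inv_mem hqN
        have h5 := key y⁻¹ hinv _ hh
        have e : ((y⁻¹ : ↥L) : G) * ((y : G) * h * (y : G)⁻¹) * ((y⁻¹ : ↥L) : G)⁻¹ = h := by
          simp only [Subgroup.coe_inv]
          group
        rwa [e] at h5

/-- **Clifford's theorem along a subnormal chain.** If all elements of `L` of order prime to `p`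
lie in the normal subgroup `L₀`, complete reducibility of the abelian section `U/Z` passes from
`L` to every subgroup between `L₀` and `L`. -/
theorem secSS_of_pMod {p : ℕ} [Fact p.Prime] {L L₀ H U Z : Subgroup G} [hL₀n : L₀.Normal]
    [hUn : U.Normal] [hZn : Z.Normal] (hZU : Z ≤ U) (hab : ⁅U, U⁆ ≤ Z) (hPM : PMod p L L₀)
    (hL₀H : L₀ ≤ H) (hHL : H ≤ L) (hL : SecSS L U Z) : SecSS H U Z := by
  by_contra hH
  obtain ⟨K, hKmem, hKmax⟩ := Set.exists_max_image
    {K : Subgroup G | H ≤ K ∧ K ≤ L ∧ ¬ SecSS K U Z} (fun K => Nat.card K) (Set.toFinite _)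
    ⟨H, le_rfl, hHL, hH⟩
  obtain ⟨hHK, hKL, hKss⟩ := hKmem
  have hne : K ≠ L := fun h => hKss (h ▸ hL)
  obtain ⟨x, hxL, hxK, hxN⟩ := exists_normalizer_growth hPM (hL₀H.trans hHK) hKL hne
  have hle : K ≤ L ⊓ Subgroup.normalizer (K : Set G) := le_inf hKL Subgroup.le_normalizer
  have hK₁ : SecSS (L ⊓ Subgroup.normalizer (K : Set G)) U Z := by
    by_contra h
    have h1 := hKmax (L ⊓ Subgroup.normalizer (K : Set G)) ⟨hHK.trans hle, inf_le_left, h⟩
    have h2 : K = L ⊓ Subgroup.normalizer (K : Set G) := Subgroup.eq_of_le_of_card_ge hle h1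
    apply hxK
    rw [h2]
    exact ⟨hxL, hxN⟩
  exact hKss (secSS_of_normal hZU hab hle inf_le_right hK₁)

end

end Cfsg.Agent.Lib.helper39
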