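import Mathlib
import Cfsg.Prelude.Def_Local
import Cfsg.Prelude.Def_PLocal
import Cfsg.Agent.Lib.helper28.Fitting
import Cfsg.Agent.Lib.helper53.PCore
import Cfsg.Agent.Lib.helper54.FStarQuot

/-!
# Quadratic action on the Fitting subgroup

If `C_G(F(G)) ≤ F(G)` and `G` is `p`-stable on every `O_p(G) ≠ 1`, then a subgroup `B` with
`[F(G), B, B] = 1` lies in `F(G)`.
-/

set_option autoImplicit false

namespace Cfsg.Agent.Lib.helper39

open Subgroup
open scoped commutatorElement

/-- A finite group in which every element of order prime to `q` is central is nilpotent. -/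
theorem isNilpotent_of_coprime_central {M : Type*} [Group M] [Finite M] (q : ℕ) [hq : Fact q.Prime]
    (h : ∀ y : M, (orderOf y).Coprime q → y ∈ Subgroup.center M) : Group.IsNilpotent M := by
  have hP : IsPGroup q (M ⧸ Subgroup.center M) := by
    intro g
    obtain ⟨y, rfl⟩ := QuotientGroup.mk_surjective g
    obtain ⟨k, m, hm, hkm⟩ :=
      Nat.exists_eq_pow_mul_and_not_dvd (orderOf_pos y).ne' q hq.out.ne_one
    refine ⟨k, ?_⟩
    rw [← QuotientGroup.mk_pow, QuotientGroup.eq_one_iff]
    apply h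
    have h1 : orderOf (y ^ q ^ k) ∣ m := by
      apply orderOf_dvd_of_pow_eq_one
      rw [← pow_mul, ← hkm]; exact pow_orderOf_eq_one y
    exact Nat.Coprime.coprime_dvd_left h1 (((Nat.Prime.coprime_iff_not_dvd hq.out).mpr hm).symm)
  have := hP.isNilpotent
  exact Subgroup.isNilpotent_of_ker_le_center (QuotientGroup.mk' (Subgroup.center M)) (by simp)

/-- If `x ^ n ∈ H` and `n` is prime to the order of `x` then `x ∈ H`. -/
theorem mem_of_pow_mem_coprime {G : Type*} [Group G] {H : Subgroup G} {x : G} {n : ℕ}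
    (h : x ^ n ∈ H) (hc : n.Coprime (orderOf x)) : x ∈ H := by
  obtain ⟨j, hj⟩ := exists_pow_eq_self_of_coprime (x := x) (n := n) hc
  rw [← hj]; exact pow_mem h j

/-- Single-prime criterion for membership in the Fitting subgroup. -/
theorem mem_fitting_of_pCore_quot {G : Type*} [Group G] [Finite G]
    (hF : centralizer (Cfsg.fittingSubgroup G : Set G) ≤ Cfsg.fittingSubgroup G)
    (q : ℕ) [hq : Fact q.Prime] [hn : (Cfsg.pCore q G).Normal] (c : G)
    (h1 : ∀ p : ℕ, p.Prime → p ≠ q → c ∈ centralizer (Cfsg.pCore p G : Set G))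
    (h2 : (QuotientGroup.mk c : G ⧸ centralizer (Cfsg.pCore q G : Set G)) ∈
      Cfsg.pCore q (G ⧸ centralizer (Cfsg.pCore q G : Set G))) :
    c ∈ Cfsg.fittingSubgroup G := by
  classical
  let E : Subgroup G := sSup {N : Subgroup G | ∃ p : ℕ, p.Prime ∧ p ≠ q ∧ N = Cfsg.pCore p G}
  have hEn : E.Normal := Subgroup.sSup_normal _ (by
    rintro N ⟨p, hp, -, rfl⟩
    exact Cfsg.Agent.Lib.helper53.pCore_normal p G)
  have hQn : (Cfsg.pCore q (G ⧸ centralizer (Cfsg.pCore q G : Set G))).Normal :=
    Cfsg.Agent.Lib.helper53.pCore_normal q _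
  let Kq : Subgroup G := (Cfsg.pCore q (G ⧸ centralizer (Cfsg.pCore q G : Set G))).comap
    (QuotientGroup.mk' (centralizer (Cfsg.pCore q G : Set G)))
  have hKn : Kq.Normal := hQn.comap _
  let M : Subgroup G := Kq ⊓ centralizer (E : Set G)
  have hMn : M.Normal := Subgroup.normal_inf_normal _ _
  have hcE : c ∈ centralizer (E : Set G) := by
    have hE : E ≤ centralizer ({c} : Set G) := by
      apply sSup_le
      rintro N ⟨p, hp, hpq, rfl⟩
      intro u hu
      rw [Subgroup.mem_centralizer_iff]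
      intro x hx
      rw [Set.mem_singleton_iff] at hx
      subst hx
      exact (h1 p hp hpq u hu).symm
    rw [Subgroup.mem_centralizer_iff]
    intro e he
    have := hE he
    rw [Subgroup.mem_centralizer_iff] at this
    exact (this c rfl).symm
  have hcM : c ∈ M := ⟨h2, hcE⟩
  have hFle : Cfsg.fittingSubgroup G ≤ Cfsg.pCore q G ⊔ E := by
    apply Cfsg.Agent.Lib.helper54.fittingSubgroup_le_of_pCore_le
    intro p hp
    by_cases hpq : p = q
    · subst hpq; exact le_sup_left
    · exact le_sup_of_le_right (le_sSup ⟨p, hp, hpq, rfl⟩)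
  have hnil : Group.IsNilpotent M := by
    apply isNilpotent_of_coprime_central q
    intro y hy
    have hyK : (y : G) ∈ Kq := y.2.1
    have hyE : (y : G) ∈ centralizer (E : Set G) := y.2.2
    have hy' : (orderOf (y : G)).Coprime q := by rwa [Subgroup.orderOf_coe]
    -- `y` centralizes `O_q(G)`
    have hyC : (y : G) ∈ centralizer (Cfsg.pCore q G : Set G) := by
      have hpg : IsPGroup q (Cfsg.pCore q (G ⧸ centralizer (Cfsg.pCore q G : Set G))) :=
        Cfsg.Agent.Lib.helper53.pCore_isPGroup q _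
      obtain ⟨k, hk⟩ := hpg ⟨QuotientGroup.mk (y : G), hyK⟩
      have hk1 : ((QuotientGroup.mk (y : G) : G ⧸ centralizer (Cfsg.pCore q G : Set G))) ^ q ^ k
          = 1 := by
        have := congrArg Subtype.val hk
        simpa using this
      have hk' : ((y : G) ^ q ^ k) ∈ centralizer (Cfsg.pCore q G : Set G) := by
        rwa [← QuotientGroup.mk_pow, QuotientGroup.eq_one_iff] at hk1
      exact mem_of_pow_mem_coprime hk' (Nat.Coprime.pow_left k hy'.symm)
    -- `y` centralizes `F(G)`
    have hyF : Cfsg.fittingSubgroup G ≤ centralizer ({(y : G)} : Set G) := by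
      apply Cfsg.Agent.Lib.helper54.fittingSubgroup_le_of_pCore_le
      intro p hp u hu
      rw [Subgroup.mem_centralizer_iff]
      intro x hx
      rw [Set.mem_singleton_iff] at hx
      subst hx
      by_cases hpq : p = q
      · subst hpq
        exact (hyC u hu).symm
      · have hle : Cfsg.pCore p G ≤ E := le_sSup ⟨p, hp, hpq, rfl⟩
        exact (hyE u (hle hu)).symm
    have hyFm : (y : G) ∈ Cfsg.fittingSubgroup G := by
      apply hF
      rw [Subgroup.mem_centralizer_iff]
      intro u hu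
      have := hyF hu
      rw [Subgroup.mem_centralizer_iff] at this
      exact (this _ rfl).symm
    -- hence `y ∈ E`
    have hyEm : (y : G) ∈ E := by
      have h3 : (y : G) ∈ ((Cfsg.pCore q G ⊔ E : Subgroup G) : Set G) := hFle hyFm
      rw [Subgroup.mul_normal] at h3
      obtain ⟨u, hu, e, he, hue⟩ := Set.mem_mul.mp h3
      have hpg : IsPGroup q (Cfsg.pCore q G) := Cfsg.Agent.Lib.helper53.pCore_isPGroup q G
      obtain ⟨a, ha⟩ := hpg ⟨u, hu⟩
      have ha' : u ^ q ^ a = 1 := by
        have := congrArg Subtype.val ha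
        simpa using this
      have hmk : (QuotientGroup.mk (y : G) : G ⧸ E) = QuotientGroup.mk u := by
        rw [← hue, QuotientGroup.mk_mul]
        have : (QuotientGroup.mk e : G ⧸ E) = 1 := (QuotientGroup.eq_one_iff e).mpr he
        rw [this, mul_one]
      have e1 : (QuotientGroup.mk (y : G) : G ⧸ E) ^ q ^ a = 1 := by
        rw [hmk, ← QuotientGroup.mk_pow, ha', QuotientGroup.mk_one]
      have e2 : (QuotientGroup.mk (y : G) : G ⧸ E) ^ orderOf (y : G) = 1 := by
        rw [← QuotientGroup.mk_pow, pow_orderOf_eq_one, QuotientGroup.mk_one]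
      have e3 := pow_gcd_eq_one.mpr ⟨e1, e2⟩
      have hg : (q ^ a).gcd (orderOf (y : G)) = 1 := Nat.Coprime.pow_left a hy'.symm
      rw [hg, pow_one] at e3
      exact (QuotientGroup.eq_one_iff _).mp e3
    rw [Subgroup.mem_center_iff]
    intro m
    apply Subtype.ext
    simp only [Subgroup.coe_mul]
    have hm2 : (m : G) ∈ centralizer (E : Set G) := m.2.2
    rw [Subgroup.mem_centralizer_iff] at hm2
    exact (hm2 (y : G) hyEm).symm
  exact Cfsg.Agent.Lib.helper28.le_fittingSubgroup hMn hnil hcM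

/-- A `q`-element acting quadratically on a normal `p`-subgroup, `p ≠ q`, centralizes it. -/
theorem centralizes_of_quadratic_coprime {G : Type*} [Group G] {p q : ℕ}
    (hp : p.Prime) (hq : q.Prime) (hpq : p ≠ q) (P : Subgroup G) [hPn : P.Normal]
    (hP : IsPGroup p P) (x : G) (k : ℕ) (hx : x ^ q ^ k = 1)
    (hquad : ∀ u ∈ P, (u * x * u⁻¹ * x⁻¹) * x = x * (u * x * u⁻¹ * x⁻¹)) :
    x ∈ centralizer (P : Set G) := by
  rw [Subgroup.mem_centralizer_iff]
  intro u hu
  set z : G := u * x * u⁻¹ * x⁻¹ with hz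
  have hzc : Commute z x := hquad u hu
  have hzP : z ∈ P := by
    have h1 : x * u⁻¹ * x⁻¹ ∈ P := hPn.conj_mem _ (inv_mem hu) x
    have h2 : z = u * (x * u⁻¹ * x⁻¹) := by rw [hz]; group
    rw [h2]; exact mul_mem hu h1
  have h3 : u * x * u⁻¹ = z * x := by rw [hz]; group
  have h4 : ∀ n : ℕ, u * x ^ n * u⁻¹ = z ^ n * x ^ n := by
    intro n
    have : u * x ^ n * u⁻¹ = (u * x * u⁻¹) ^ n := by
      rw [conj_pow]
    rw [this, h3, hzc.mul_pow]
  have h5 := h4 (q ^ k)
  rw [hx] at h5
  have h6 : z ^ q ^ k = 1 := by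
    have : u * 1 * u⁻¹ = 1 := by group
    rw [this] at h5
    simpa using h5.symm
  obtain ⟨a, ha⟩ := hP ⟨z, hzP⟩
  have ha' : z ^ p ^ a = 1 := by
    have := congrArg Subtype.val ha
    simpa using this
  have e3 := pow_gcd_eq_one.mpr ⟨h6, ha'⟩
  have hg : (q ^ k).gcd (p ^ a) = 1 :=
    Nat.Coprime.pow k a ((Nat.coprime_primes hq hp).mpr (Ne.symm hpq))
  rw [hg, pow_one] at e3
  have : u * x * u⁻¹ = x := by rw [h3, e3, one_mul]
  have h7 : u * x = x * u := by
    calc u * x = (u * x * u⁻¹) * u := by group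
      _ = x * u := by rw [this]
  exact h7

/-- **Quadratic action on the Fitting subgroup.**  If `C_G(F(G)) ≤ F(G)` and `G` is `p`-stable on every
nontrivial `O_p(G)`, then a subgroup `B` with `[F(G), B, B] = 1` lies in `F(G)`. -/
theorem le_fitting_of_quadratic {G : Type*} [Group G] [Finite G]
    (hF : centralizer (Cfsg.fittingSubgroup G : Set G) ≤ Cfsg.fittingSubgroup G)
    (hst : ∀ (p : ℕ) [Fact p.Prime] (hn : (Cfsg.pCore p G).Normal), Cfsg.pCore p G ≠ ⊥ →
      @Cfsg.IsPStableOn G _ p (Cfsg.pCore p G) hn)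
    (B : Subgroup G) (hB : ⁅⁅Cfsg.fittingSubgroup G, B⁆, B⁆ = ⊥) :
    B ≤ Cfsg.fittingSubgroup G := by
  have key : ∀ n : ℕ, ∀ x ∈ B, orderOf x = n → x ∈ Cfsg.fittingSubgroup G := by
    intro n
    induction n using Nat.strong_induction_on with
    | _ n ih =>
    intro x hxB hxn
    have hn0 : n ≠ 0 := by rw [← hxn]; exact (orderOf_pos x).ne'
    by_cases hn1 : n = 1
    · rw [hn1, orderOf_eq_one_iff] at hxn
      rw [hxn]; exact one_mem _
    have hqp : (n.minFac).Prime := Nat.minFac_prime hn1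
    set q := n.minFac with hqdef
    haveI : Fact q.Prime := ⟨hqp⟩
    obtain ⟨k, m, hm, hkm⟩ := Nat.exists_eq_pow_mul_and_not_dvd hn0 q hqp.ne_one
    by_cases hm1 : m = 1
    · -- `x` is a `q`-element
      rw [hm1, mul_one] at hkm
      have hxq : x ^ q ^ k = 1 := by rw [← hkm, ← hxn]; exact pow_orderOf_eq_one x
      have hqn : (Cfsg.pCore q G).Normal := Cfsg.Agent.Lib.helper53.pCore_normal q G
      have hquadF : ∀ u ∈ Cfsg.fittingSubgroup G,
          (u * x * u⁻¹ * x⁻¹) * x = x * (u * x * u⁻¹ * x⁻¹) := by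
        intro u hu
        have h1 : ⁅u, x⁆ ∈ ⁅Cfsg.fittingSubgroup G, B⁆ := Subgroup.commutator_mem_commutator hu hxB
        have h2 : ⁅⁅u, x⁆, x⁆ ∈ ⁅⁅Cfsg.fittingSubgroup G, B⁆, B⁆ :=
          Subgroup.commutator_mem_commutator h1 hxB
        rw [hB, Subgroup.mem_bot] at h2
        have h3 := commutatorElement_eq_one_iff_mul_comm.mp h2
        rw [commutatorElement_def] at h3
        exact h3
      apply mem_fitting_of_pCore_quot hF q x
      · intro p hp hpq
        have hpn : (Cfsg.pCore p G).Normal := Cfsg.Agent.Lib.helper53.pCore_normal p G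
        haveI : Fact p.Prime := ⟨hp⟩
        exact centralizes_of_quadratic_coprime hp hqp hpq (Cfsg.pCore p G)
          (Cfsg.Agent.Lib.helper53.pCore_isPGroup p G) x k hxq
          (fun u hu => hquadF u (Cfsg.Agent.Lib.helper27.pCore_le_fittingSubgroup p hu))
      · by_cases hbot : Cfsg.pCore q G = ⊥
        · have hx1 : x ∈ centralizer (Cfsg.pCore q G : Set G) := by
            rw [Subgroup.mem_centralizer_iff]
            intro u hu
            have hu' : u ∈ Cfsg.pCore q G := hu
            rw [hbot, Subgroup.mem_bot] at hu'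
            rw [hu']; simp
          rw [(QuotientGroup.eq_one_iff x).mpr hx1]
          exact one_mem _
        · apply hst q hqn hbot x
          rw [eq_bot_iff, ← hB]
          have hz : zpowers x ≤ B := by rw [Subgroup.zpowers_le]; exact hxB
          exact Subgroup.commutator_mono (Subgroup.commutator_mono
            (Cfsg.Agent.Lib.helper27.pCore_le_fittingSubgroup q) hz) hz
    · -- split `x` into two powers of smaller order
      have hk0 : k ≠ 0 := by
        intro hk
        rw [hk, pow_zero, one_mul] at hkm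
        exact hm (hkm ▸ Nat.minFac_dvd n)
      have hm0 : m ≠ 0 := by
        intro h; rw [h, mul_zero] at hkm; exact hn0 hkm
      have hqk : 1 < q ^ k := Nat.one_lt_pow hk0 hqp.one_lt
      have hmlt : m < n := by
        rw [hkm]
        calc m = 1 * m := (one_mul m).symm
          _ < q ^ k * m := Nat.mul_lt_mul_of_pos_right hqk (Nat.pos_of_ne_zero hm0)
      have hqlt : q ^ k < n := by
        rw [hkm]
        have hm2 : 1 < m := by omega
        calc q ^ k = q ^ k * 1 := (mul_one _).symm
          _ < q ^ k * m := Nat.mul_lt_mul_of_pos_left hm2 (by omega)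
      have ho1 : orderOf (x ^ q ^ k) ∣ m := by
        apply orderOf_dvd_of_pow_eq_one
        rw [← pow_mul, ← hkm, ← hxn]; exact pow_orderOf_eq_one x
      have ho2 : orderOf (x ^ m) ∣ q ^ k := by
        apply orderOf_dvd_of_pow_eq_one
        rw [← pow_mul, mul_comm, ← hkm, ← hxn]; exact pow_orderOf_eq_one x
      have hx1 : x ^ q ^ k ∈ Cfsg.fittingSubgroup G :=
        ih _ (lt_of_le_of_lt (Nat.le_of_dvd (Nat.pos_of_ne_zero hm0) ho1) hmlt) _
          (pow_mem hxB _) rfl
      have hx2 : x ^ m ∈ Cfsg.fittingSubgroup G :=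
        ih _ (lt_of_le_of_lt (Nat.le_of_dvd (by omega) ho2) hqlt) _ (pow_mem hxB _) rfl
      have hcop : (q ^ k).Coprime m :=
        Nat.Coprime.pow_left k ((Nat.Prime.coprime_iff_not_dvd hqp).mpr hm)
      have hbez := Nat.gcd_eq_gcd_ab (q ^ k) m
      rw [hcop] at hbez
      have hxe : x = (x ^ q ^ k) ^ (Nat.gcdA (q ^ k) m) * (x ^ m) ^ (Nat.gcdB (q ^ k) m) := by
        rw [← zpow_natCast, ← zpow_natCast, ← zpow_mul, ← zpow_mul, ← zpow_add, ← hbez]
        simp
      rw [hxe]
      exact mul_mem (zpow_mem hx1 _) (zpow_mem hx2 _)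
  intro x hx
  exact key _ x hx rfl

end Cfsg.Agent.Lib.helper39
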