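import Mathlib
import Cfsg.Agent.Lib.helper86.IvDefs

/-!
# S3928, piece QC (core): `|ivI|` in quotients, with QM and QS as hypotheses
-/

set_option autoImplicit false

namespace Cfsg.Agent.Lib.helper86.IV

/-- QC with the conclusions of QM and QS as hypotheses. -/
theorem helper39_iv_quot_card_core {G : Type*} [Group G] [Finite G] (α : MulAut G)
    (h2 : ∀ g, α (α g) = g) (N : Subgroup G) [N.Normal] (hN : ∀ n ∈ N, α n ∈ N)
    (hQM : ∀ x ∈ ivI α, (QuotientGroup.mk x : G ⧸ N) ∈ ivI (ivQ α h2 N hN))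
    (hQS : ∀ y ∈ ivI (ivQ α h2 N hN), ∃ x ∈ ivI α, (QuotientGroup.mk x : G ⧸ N) = y) :
    Nat.card (ivI (ivQ α h2 N hN)) ≤ Nat.card (ivI α) ∧
    ((∃ x ∈ ivI α, ∃ x' ∈ ivI α, x ≠ x' ∧ x⁻¹ * x' ∈ N) →
      Nat.card (ivI (ivQ α h2 N hN)) < Nat.card (ivI α)) := by
  classical
  let φ : ivI α → ivI (ivQ α h2 N hN) := fun x => ⟨QuotientGroup.mk x.1, hQM x.1 x.2⟩
  have hsurj : Function.Surjective φ := by
    rintro ⟨y, hy⟩
    obtain ⟨x, hx, hxy⟩ := hQS y hy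
    exact ⟨⟨x, hx⟩, Subtype.ext hxy⟩
  have hle : Nat.card (ivI (ivQ α h2 N hN)) ≤ Nat.card (ivI α) :=
    Nat.card_le_card_of_surjective φ hsurj
  refine ⟨hle, ?_⟩
  rintro ⟨x, hx, x', hx', hne, hmem⟩
  by_contra hlt
  have heq : Nat.card (ivI α) = Nat.card (ivI (ivQ α h2 N hN)) := by omega
  have hbij : Function.Bijective φ :=
    (Nat.bijective_iff_surjective_and_card φ).2 ⟨hsurj, heq⟩
  have h1 : φ ⟨x, hx⟩ = φ ⟨x', hx'⟩ := Subtype.ext (QuotientGroup.eq.2 hmem)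
  exact hne (congrArg Subtype.val (hbij.1 h1))

end Cfsg.Agent.Lib.helper86.IV
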