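import Cfsg.Agent.Lib.helper39.StarCore
import Cfsg.Agent.Lib.helper39.KInfEngel

set_option autoImplicit false

namespace Cfsg.Agent.Lib.helper39

open Cfsg

open scoped commutatorElement

universe u

section pgroup

variable {P : Type*} [Group P]

/-- If the subgroups acting quadratically on `A/Z(A)` and `Z(A)`, and the class-two subgroups
normalized by `A` satisfying the lower-star condition relative to the subgroups of `A`, all lie in
`T`, where `[T, A] ≤ Z(A)`, then every term of the K-sequence of nonnegative index lies in `T`. -/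
theorem kSeq_le_of_star (T A : Subgroup P) [hAn : A.Normal]
    (hA2 : ⁅⁅A, A⁆, A⁆ = ⊥) (hTA : ⁅T, A⁆ ≤ A ⊓ Subgroup.centralizer (A : Set P))
    (Hq : ∀ B : Subgroup P, ⁅⁅A, B⁆, B⁆ ≤ A ⊓ Subgroup.centralizer (A : Set P) →
      ⁅⁅A ⊓ Subgroup.centralizer (A : Set P), B⁆, B⁆ = ⊥ → B ≤ T)
    (Hlow : ∀ B : Subgroup P, ⁅⁅B, B⁆, B⁆ = ⊥ → ⁅A, B⁆ ≤ B →
      (∀ A₁ : Subgroup P, A₁ ≤ A → ⁅A₁, B⁆ ≤ A₁ → ⁅B, ⁅A₁, A₁⁆⁆ = ⊥ →
        ⁅⁅B ⊓ Subgroup.centralizer (B : Set P), A₁⁆, A₁⁆ = ⊥ →
        (⁅B, A₁⁆ ≤ B ∧ ⁅⁅B, A₁⁆, B⁆ = ⊥)) → B ≤ T) :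
    ∀ n : ℕ, kSeqEven P n ≤ T ∧ kSeqOdd P (n + 1) ≤ T := by
  obtain ⟨Z, hZ⟩ : ∃ Z, Z = A ⊓ Subgroup.centralizer (A : Set P) := ⟨_, rfl⟩
  rw [← hZ] at hTA Hq
  have hZA : Z ≤ A := by rw [hZ]; exact inf_le_left
  have hZcA : ⁅Z, A⁆ = ⊥ := by
    rw [Subgroup.commutator_eq_bot_iff_le_centralizer, hZ]; exact inf_le_right
  -- `A` lies in every lower-star family
  have hAlow : ∀ Y : Subgroup P, A ∈ kLowerStarFamily Y := by
    intro Y
    rw [mem_kLowerStarFamily_iff]
    refine ⟨hA2, Subgroup.commutator_le_left A Y, ?_⟩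
    intro A₁ _ _ h3 h4 h5
    have hA₁T : A₁ ≤ T := by
      refine Hq A₁ ?_ (by rw [hZ]; exact h5)
      rw [hZ]
      refine le_inf ((Subgroup.commutator_mono (Subgroup.commutator_le_left A A₁) le_rfl).trans
        (Subgroup.commutator_le_left A A₁)) ?_
      have h6 : ⁅A, A₁⁆ ≤ A₁ := by rw [Subgroup.commutator_comm]; exact h3
      refine (Subgroup.commutator_mono h6 le_rfl).trans ?_
      rw [Subgroup.commutator_comm] at h4
      exact Subgroup.commutator_eq_bot_iff_le_centralizer.mp h4
    have h7 : ⁅A, A₁⁆ ≤ Z := by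
      rw [Subgroup.commutator_comm]
      exact le_trans (Subgroup.commutator_mono hA₁T le_rfl) hTA
    refine ⟨h7.trans hZA, ?_⟩
    apply le_bot_iff.mp
    rw [← hZcA]
    exact Subgroup.commutator_mono h7 le_rfl
  have hAeven : ∀ n, A ≤ kSeqEven P n := fun n => le_sSup (hAlow _)
  have hodd : ∀ n, kSeqOdd P (n + 1) ≤ T := by
    intro n
    rw [kSeqOdd_succ']
    apply sSup_le
    intro B hB
    rw [mem_kUpperStarFamily_iff] at hB
    obtain ⟨-, -, h3⟩ := hB
    have h4 : ⁅⁅A, B⁆, B⁆ = ⊥ := by
      apply le_bot_iff.mp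
      rw [← h3, Subgroup.commutator_comm A B]
      exact Subgroup.commutator_mono (Subgroup.commutator_mono le_rfl (hAeven n)) le_rfl
    refine Hq B (by rw [h4]; exact bot_le) ?_
    apply le_bot_iff.mp
    rw [← h4]
    exact Subgroup.commutator_mono (Subgroup.commutator_mono hZA le_rfl) le_rfl
  have heven_of : ∀ n, A ≤ kSeqOdd P n → kSeqEven P n ≤ T := by
    intro n hAn'
    rw [kSeqEven_def]
    apply sSup_le
    intro B hB
    rw [mem_kLowerStarFamily_iff] at hB
    obtain ⟨h1, h2, h3⟩ := hB
    have hBA : ⁅A, B⁆ ≤ B := by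
      rw [Subgroup.commutator_comm]
      exact le_trans (Subgroup.commutator_mono le_rfl hAn') h2
    refine Hlow B h1 hBA ?_
    intro A₁ hA₁ hA₁B h4 h5
    refine h3 A₁ ?_ (hA₁.trans hAn') hA₁B h4 h5
    apply le_bot_iff.mp
    rw [← hA2]
    exact Subgroup.commutator_mono (Subgroup.commutator_mono hA₁ hA₁) hA₁
  have hAodd : ∀ n, A ≤ kSeqOdd P n := by
    intro n
    induction n with
    | zero => rw [kSeqOdd_zero]; exact le_top
    | succ n ih =>
      rw [kSeqOdd_succ']
      apply le_sSup
      rw [mem_kUpperStarFamily_iff]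
      refine ⟨hA2, Subgroup.commutator_le_left A _, ?_⟩
      apply le_bot_iff.mp
      rw [← hZcA]
      refine Subgroup.commutator_mono ?_ le_rfl
      rw [Subgroup.commutator_comm]
      exact le_trans (Subgroup.commutator_mono (heven_of n ih) le_rfl) hTA
  exact fun n => ⟨heven_of n (hAodd n), hodd n⟩

end pgroup

section main

variable {G : Type u} [Group G] [Finite G] {p : ℕ} [Fact p.Prime]

/-- **Glauberman's K-infinity theorem, normality form.** If `C_G(O_p(G)) ≤ O_p(G)` and `G` is
`QStable` (for instance, if every quotient of `G` is `p`-stable in the normalizer form), then the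
lower and the upper K-infinity subgroups of a Sylow `p`-subgroup of `G` are normal in `G`. -/
theorem kInf_normal_of_qStable (hst : QStable p G)
    (hC : Subgroup.centralizer ((pCore p G : Subgroup G) : Set G) ≤ pCore p G) (S : Sylow p G) :
    (inducedFunctor kInfLower (S : Subgroup G)).Normal ∧
      (inducedFunctor kInfUpper (S : Subgroup G)).Normal := by
  have hTn := pCore_normal p G
  have hTp := pCore_isPGroup p G
  have hTS : pCore p G ≤ (S : Subgroup G) := pCore_le_sylow S
  obtain ⟨A, hAn, hAT, hTA, hCA⟩ := exists_critical (pCore p G) hTp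
  have hC0 := centralizer_crit_le A hTA hCA hC
  have hAS : A ≤ (S : Subgroup G) := hAT.trans hTS
  have hinj : Function.Injective (S : Subgroup G).subtype := Subtype.val_injective
  have hmapA : (A.subgroupOf (S : Subgroup G)).map (S : Subgroup G).subtype = A :=
    Subgroup.map_subgroupOf_eq_of_le hAS
  have hmapT : ((pCore p G).subgroupOf (S : Subgroup G)).map (S : Subgroup G).subtype =
      pCore p G := Subgroup.map_subgroupOf_eq_of_le hTS
  have hmapZ : ((A.subgroupOf (S : Subgroup G)) ⊓ Subgroup.centralizer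
      ((A.subgroupOf (S : Subgroup G) : Subgroup (S : Subgroup G)) : Set (S : Subgroup G))).map
        (S : Subgroup G).subtype = A ⊓ Subgroup.centralizer (A : Set G) := by
    rw [map_inf_centralizer hinj, hmapA]
  have hA2 : ⁅⁅A, A⁆, A⁆ = ⊥ := by
    have h1 : ⁅A ⊓ Subgroup.centralizer (A : Set G), A⁆ = ⊥ := by
      rw [Subgroup.commutator_eq_bot_iff_le_centralizer]; exact inf_le_right
    apply le_bot_iff.mp
    rw [← h1]
    exact Subgroup.commutator_mono (le_trans (Subgroup.commutator_mono hAT le_rfl) hTA) le_rfl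
  have hseq := kSeq_le_of_star ((pCore p G).subgroupOf (S : Subgroup G))
    (A.subgroupOf (S : Subgroup G))
    (by
      apply (Subgroup.map_eq_bot_iff_of_injective _ hinj).mp
      rw [Subgroup.map_commutator, Subgroup.map_commutator, hmapA]
      exact hA2)
    (by
      apply (Subgroup.map_le_map_iff_of_injective hinj).mp
      rw [Subgroup.map_commutator, hmapZ, hmapT, hmapA]
      exact hTA)
    (by
      intro B h1 h2
      apply Subgroup.map_le_iff_le_comap.mp
      refine le_pCore_of_quadratic hst A hAT hC0 (B.map (S : Subgroup G).subtype) ?_ ?_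
      · have h3 := Subgroup.map_mono (f := (S : Subgroup G).subtype) h1
        rwa [Subgroup.map_commutator, Subgroup.map_commutator, hmapA, hmapZ] at h3
      · have h3 := congrArg (Subgroup.map (S : Subgroup G).subtype) h2
        rwa [Subgroup.map_commutator, Subgroup.map_commutator, hmapZ, Subgroup.map_bot] at h3)
    (by
      intro B hB2 hAB hc
      apply Subgroup.map_le_iff_le_comap.mp
      refine le_pCore_of_lowerStar hst A hAT hTA hC0 (B.map (S : Subgroup G).subtype)
        ((IsPGroup.to_subgroup S.2 B).map _) ?_ ?_ ?_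
      · have h3 := congrArg (Subgroup.map (S : Subgroup G).subtype) hB2
        rwa [Subgroup.map_commutator, Subgroup.map_commutator, Subgroup.map_bot] at h3
      · have h3 := Subgroup.map_mono (f := (S : Subgroup G).subtype) hAB
        rwa [Subgroup.map_commutator, hmapA] at h3
      · intro A₁' hA₁' hBN h4 h5
        have hmapA₁ : (A₁'.subgroupOf (S : Subgroup G)).map (S : Subgroup G).subtype = A₁' :=
          Subgroup.map_subgroupOf_eq_of_le (hA₁'.trans hAS)
        have hres := hc (A₁'.subgroupOf (S : Subgroup G))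
          (by
            apply (Subgroup.map_le_map_iff_of_injective hinj).mp
            rw [hmapA₁, hmapA]
            exact hA₁')
          (by
            apply (Subgroup.map_le_map_iff_of_injective hinj).mp
            rw [Subgroup.map_commutator, hmapA₁]
            exact Subgroup.le_normalizer_iff_commutator_le_left.mp hBN)
          (by
            apply (Subgroup.map_eq_bot_iff_of_injective _ hinj).mp
            rw [Subgroup.map_commutator, Subgroup.map_commutator, hmapA₁]
            exact h4)
          (by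
            apply (Subgroup.map_eq_bot_iff_of_injective _ hinj).mp
            rw [Subgroup.map_commutator, Subgroup.map_commutator, hmapA₁,
              map_inf_centralizer hinj]
            exact h5)
        rw [← hmapA₁, ← Subgroup.map_commutator, ← map_inf_centralizer hinj]
        exact Subgroup.map_mono
          (le_inf hres.1 (Subgroup.commutator_eq_bot_iff_le_centralizer.mp hres.2)))
  obtain ⟨hlow, hupp⟩ := kInf_restrict hseq
  have hTp' : IsPGroup p ((pCore p G).subgroupOf (S : Subgroup G)) :=
    IsPGroup.to_subgroup S.2 _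
  have key : ∀ W : ∀ (Q : Type u) [Group Q], Subgroup Q, IsCharPFunctor.{u} p W →
      (W ↥((pCore p G).subgroupOf (S : Subgroup G))).map
        ((pCore p G).subgroupOf (S : Subgroup G)).subtype = W ↥(S : Subgroup G) →
      (inducedFunctor (G := G) W (S : Subgroup G)).Normal := by
    intro W hW hWeq
    have h1 : inducedFunctor (G := G) W (S : Subgroup G) =
        inducedFunctor (G := G) W (pCore p G) := by
      have h2 := ind_map hW (S : Subgroup G).subtype
        ((pCore p G).subgroupOf (S : Subgroup G)) hTp' hinj.injOn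
      rw [hmapT] at h2
      rw [← h2]
      show (W ↥(S : Subgroup G)).map (S : Subgroup G).subtype = _
      rw [← hWeq]
      rfl
    rw [h1]
    exact ind_normal hW (pCore p G) hTp
  exact ⟨key kInfLower (isCharPFunctor_kInfLower p) hlow,
    key kInfUpper (isCharPFunctor_kInfUpper p) hupp⟩

end main

end Cfsg.Agent.Lib.helper39
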