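import Cfsg.Agent.Lib.helper39.PMod

set_option autoImplicit false

namespace Cfsg.Agent.Lib.helper39

open Cfsg

open scoped commutatorElement

/-- Stability of all quotients, in the form used for the K-infinity subgroups: if `g ∈ H ≤ N(P)`
acts quadratically on the `p`-group `P` modulo the normal subgroup `N ≤ P`, then every element of
order prime to `p` of the normal closure of `g` in `H` centralizes `P` modulo `N`. -/
def QStable (p : ℕ) (G : Type*) [Group G] : Prop :=
  ∀ (N P H : Subgroup G), N.Normal → N ≤ P → IsPGroup p P →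
    H ≤ Subgroup.normalizer (P : Set G) → ∀ g ∈ H,
      ⁅⁅P, Subgroup.zpowers g⁆, Subgroup.zpowers g⁆ ≤ N →
        ∀ x ∈ nclIn H g, (orderOf x).Coprime p → ⁅P, Subgroup.zpowers x⁆ ≤ N

section

variable {p : ℕ}

/-- In a group that is `p`-stable in the normalizer form, the elements of order prime to `p` of
the normal closure of a quadratically acting element centralize. -/
theorem centralizes_of_isNormalizerPStable {Γ : Type*} [Group Γ]
    (hst : IsNormalizerPStable p Γ) (Q : Subgroup Γ) (hQ : IsPGroup p Q) (H : Subgroup Γ)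
    (hH : H ≤ Subgroup.normalizer (Q : Set Γ)) (g : Γ) (hg : g ∈ H)
    (hquad : ⁅⁅Q, Subgroup.zpowers g⁆, Subgroup.zpowers g⁆ = ⊥) (x : Γ) (hx : x ∈ nclIn H g)
    (hco : (orderOf x).Coprime p) : ⁅Q, Subgroup.zpowers x⁆ = ⊥ := by
  have h1 := hst Q hQ g (hH hg) hquad
  have hOn := pCore_normal p (↥(Subgroup.normalizer (Q : Set Γ)) ⧸
    (Subgroup.centralizer (Q : Set Γ)).subgroupOf (Subgroup.normalizer (Q : Set Γ)))
  have hle : nclIn H g ≤ ((pCore p (↥(Subgroup.normalizer (Q : Set Γ)) ⧸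
      (Subgroup.centralizer (Q : Set Γ)).subgroupOf (Subgroup.normalizer (Q : Set Γ)))).comap
      (QuotientGroup.mk' ((Subgroup.centralizer (Q : Set Γ)).subgroupOf
        (Subgroup.normalizer (Q : Set Γ))))).map (Subgroup.normalizer (Q : Set Γ)).subtype := by
    apply (Subgroup.closure_le _).mpr
    rintro _ ⟨h, hh, rfl⟩
    refine ⟨⟨h, hH hh⟩ * ⟨g, hH hg⟩ * (⟨h, hH hh⟩)⁻¹, ?_, rfl⟩
    refine Subgroup.mem_comap.mpr ?_
    rw [map_mul, map_mul, map_inv]
    exact hOn.conj_mem _ h1 _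
  obtain ⟨n, hn, rfl⟩ := hle hx
  have hn' : QuotientGroup.mk' ((Subgroup.centralizer (Q : Set Γ)).subgroupOf
      (Subgroup.normalizer (Q : Set Γ))) n ∈ pCore p (↥(Subgroup.normalizer (Q : Set Γ)) ⧸
      (Subgroup.centralizer (Q : Set Γ)).subgroupOf (Subgroup.normalizer (Q : Set Γ))) := hn
  have hco' : (orderOf (QuotientGroup.mk' ((Subgroup.centralizer (Q : Set Γ)).subgroupOf
      (Subgroup.normalizer (Q : Set Γ))) n)).Coprime p := by
    refine Nat.Coprime.coprime_dvd_left (orderOf_map_dvd _ n) ?_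
    rw [← Subgroup.orderOf_coe]
    exact hco
  have h2 := eq_one_of_pprime_of_mem (pCore_isPGroup p _) hn' hco'
  have h3 : n ∈ (Subgroup.centralizer (Q : Set Γ)).subgroupOf (Subgroup.normalizer (Q : Set Γ)) :=
    (QuotientGroup.eq_one_iff n).mp h2
  have h4 : (n : Γ) ∈ Subgroup.centralizer (Q : Set Γ) := Subgroup.mem_subgroupOf.mp h3
  rw [Subgroup.commutator_comm, Subgroup.commutator_eq_bot_iff_le_centralizer]
  exact (Subgroup.zpowers_le).mpr h4

theorem map_nclIn_le {G Γ : Type*} [Group G] [Group Γ] (f : G →* Γ) (H : Subgroup G) (g : G) :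
    (nclIn H g).map f ≤ nclIn (H.map f) (f g) := by
  unfold nclIn
  rw [MonoidHom.map_closure, Subgroup.closure_le]
  rintro _ ⟨_, ⟨h, hh, rfl⟩, rfl⟩
  refine Subgroup.subset_closure ⟨f h, ⟨h, hh, rfl⟩, ?_⟩
  rw [map_mul, map_mul, map_inv]

/-- If every quotient of `G` is `p`-stable in the normalizer form, `G` is `QStable`. -/
theorem qStable_of_quotients {G : Type*} [Group G]
    (hst : ∀ (N : Subgroup G) [N.Normal], IsNormalizerPStable p (G ⧸ N)) : QStable p G := by
  intro N P H hN hNP hP hHP g hgH hquad x hx hco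
  have hquad' : ⁅⁅P.map (QuotientGroup.mk' N), Subgroup.zpowers (QuotientGroup.mk' N g)⁆,
      Subgroup.zpowers (QuotientGroup.mk' N g)⁆ = ⊥ := by
    rw [← MonoidHom.map_zpowers, ← Subgroup.map_commutator, ← Subgroup.map_commutator,
      Subgroup.map_eq_bot_iff, QuotientGroup.ker_mk']
    exact hquad
  have hH' : H.map (QuotientGroup.mk' N) ≤ Subgroup.normalizer
      ((P.map (QuotientGroup.mk' N) : Subgroup (G ⧸ N)) : Set (G ⧸ N)) :=
    (Subgroup.map_mono hHP).trans (Subgroup.le_normalizer_map _)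
  have h1 := centralizes_of_isNormalizerPStable (hst N) (P.map (QuotientGroup.mk' N)) (hP.map _)
    (H.map (QuotientGroup.mk' N)) hH' (QuotientGroup.mk' N g) ⟨g, hgH, rfl⟩ hquad'
    (QuotientGroup.mk' N x) (map_nclIn_le _ H g ⟨x, hx, rfl⟩)
    (Nat.Coprime.coprime_dvd_left (orderOf_map_dvd _ x) hco)
  rw [← MonoidHom.map_zpowers, ← Subgroup.map_commutator, Subgroup.map_eq_bot_iff,
    QuotientGroup.ker_mk'] at h1
  exact h1

end

end Cfsg.Agent.Lib.helper39
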