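import Cfsg.Agent.S2005
import Cfsg.Agent.Lib.lead.PStable
import Cfsg.Agent.Lib.helper40.PNil
import Cfsg.Agent.Lib.helper39.KInfStable
import Cfsg.Agent.Lib.helper39.QStable
import Cfsg.Agent.Lib.helper39.SecTools
import Cfsg.Agent.Lib.helper39.FusTools
import Cfsg.Agent.Lib.helper39.SelfCent
import Cfsg.Agent.Lib.helper39.KSeq

/-!
# Normal `p`-complements from the lower K-infinity subgroup

Glauberman's normal `p`-complement criteria for `K_∞` (odd `p`).
-/

set_option autoImplicit false
universe u
open Cfsg

namespace Cfsg.Agent.Lib.helper39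

section npc

variable {p : ℕ} [Fact p.Prime]

/-- If `N_G(K_∞(S))` has a normal `p`-complement (`p` odd), so has `G`. -/
theorem npc_of_kInfLower_normalizer_npc {G : Type u} [Group G] [Finite G] (hp : p ≠ 2)
    (S : Sylow p G)
    (hN : HasNormalPComplement p ↥(Subgroup.normalizer
      ((inducedFunctor kInfLower (S : Subgroup G) : Subgroup G) : Set G))) :
    HasNormalPComplement p G := by
  refine Cfsg.Agent.S2005.result kInfLower (isCharPFunctor_kInfLower p) S hN ?_
  intro K R hR hcen hnpc T hT
  have hInC : Lib.lead.InC p (↥K ⧸ R.subgroupOf K) := Lib.lead.inC_of_coatom hnpc T hT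
  have hst : ∀ (N : Subgroup (↥K ⧸ R.subgroupOf K)) [N.Normal],
      IsNormalizerPStable p ((↥K ⧸ R.subgroupOf K) ⧸ N) := by
    intro N hN
    exact Lib.lead.isNormalizerPStable_of_inC hp
      (hInC.of_surjective (QuotientGroup.mk' N) (QuotientGroup.mk'_surjective N))
  exact (kInf_normal_of_qStable (qStable_of_quotients hst) hcen T).1

/-- The lower K-infinity subgroup of a finite `p`-group contains its own centralizer. -/
theorem centralizer_kInfLower_le {P : Type u} [Group P] [Finite P] (hP : IsPGroup p P) :
    Subgroup.centralizer ((kInfLower P : Subgroup P) : Set P) ≤ kInfLower P := by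
  obtain ⟨A, hAn, hAc, hCA⟩ := exists_normal_abelian_selfcent hP
  have hA : A ≤ kInfLower P := normal_abelian_le_kInfLower A hAc
  exact (Subgroup.centralizer_le hA).trans (hCA.trans hA)

/-- `C_S(K_∞(S)) ≤ K_∞(S)` inside an ambient group. -/
theorem inf_centralizer_inducedFunctor_kInfLower_le {G : Type u} [Group G] (T : Subgroup G)
    [Finite T] (hT : IsPGroup p T) :
    T ⊓ Subgroup.centralizer ((inducedFunctor kInfLower T : Subgroup G) : Set G) ≤
      inducedFunctor kInfLower T := by
  rintro x ⟨hxT, hxC⟩
  have hxC' : x ∈ Subgroup.centralizer ((inducedFunctor kInfLower T : Subgroup G) : Set G) := hxC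
  rw [Subgroup.mem_centralizer_iff] at hxC'
  have h1 : (⟨x, hxT⟩ : ↥T) ∈ Subgroup.centralizer ((kInfLower ↥T : Subgroup ↥T) : Set ↥T) := by
    rw [Subgroup.mem_centralizer_iff]
    intro k hk
    apply Subtype.ext
    exact hxC' (k : G) ⟨k, hk, rfl⟩
  exact ⟨⟨x, hxT⟩, centralizer_kInfLower_le hT h1, rfl⟩

theorem npc_of_kInfLower_pprime_aux (hp : p ≠ 2) :
    ∀ (n : ℕ) (X : Type u) [Group X] [Finite X], Nat.card X ≤ n → ∀ S : Sylow p X,
      (∀ g ∈ Subgroup.normalizer
          ((inducedFunctor kInfLower (S : Subgroup X) : Subgroup X) : Set X),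
        (orderOf g).Coprime p → g ∈ Subgroup.centralizer
          ((inducedFunctor kInfLower (S : Subgroup X) : Subgroup X) : Set X)) →
      HasNormalPComplement p X := by
  intro n
  induction n with
  | zero =>
    intro X _ _ hcard
    exact absurd hcard (by have := Nat.card_pos (α := X); omega)
  | succ n ih =>
    intro X _ _ hcard S h
    by_cases hH : Subgroup.normalizer
        ((inducedFunctor kInfLower (S : Subgroup X) : Subgroup X) : Set X) = ⊤
    · -- `K` is normal in `X`
      have hKn : (inducedFunctor kInfLower (S : Subgroup X) : Subgroup X).Normal :=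
        Subgroup.normalizer_eq_top_iff.mp hH
      have hall : ∀ g : X, (orderOf g).Coprime p → g ∈ Subgroup.centralizer
          ((inducedFunctor kInfLower (S : Subgroup X) : Subgroup X) : Set X) := by
        intro g hg
        exact h g (by rw [hH]; exact Subgroup.mem_top g) hg
      have hZ := isSylIn_inf_normal S (Subgroup.centralizer
          ((inducedFunctor kInfLower (S : Subgroup X) : Subgroup X) : Set X))
      have hZK : (S : Subgroup X) ⊓ Subgroup.centralizer
          ((inducedFunctor kInfLower (S : Subgroup X) : Subgroup X) : Set X) ≤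
            inducedFunctor kInfLower (S : Subgroup X) :=
        inf_centralizer_inducedFunctor_kInfLower_le (S : Subgroup X) S.2
      have hc : Subgroup.centralizer
          ((inducedFunctor kInfLower (S : Subgroup X) : Subgroup X) : Set X) ≤
          Subgroup.centralizer ((((S : Subgroup X) ⊓ Subgroup.centralizer
          ((inducedFunctor kInfLower (S : Subgroup X) : Subgroup X) : Set X) : Subgroup X)) :
            Set X) := Subgroup.centralizer_le hZK
      obtain ⟨N, hNn, hNco, hCN⟩ := exists_normal_pprime_of_central_sylow hZ hc
      refine Lib.helper40.hasNPC_of_normal_coprime N hNco ?_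
      have hq : IsPGroup p (X ⧸ N) := by
        intro q
        induction q using QuotientGroup.induction_on with
        | H x =>
          obtain ⟨a, ha⟩ := exists_pow_pprime p x
          have hy := hCN (hall _ ha)
          have hy' : QuotientGroup.mk' N (x ^ p ^ a) ∈
              (((S : Subgroup X) ⊓ Subgroup.centralizer
                ((inducedFunctor kInfLower (S : Subgroup X) : Subgroup X) : Set X)) ⊔ N).map
                  (QuotientGroup.mk' N) := Subgroup.mem_map_of_mem _ hy
          rw [Subgroup.map_sup, (Subgroup.map_eq_bot_iff N).mpr (by rw [QuotientGroup.ker_mk']),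
            sup_bot_eq] at hy'
          have hpg : IsPGroup p ((((S : Subgroup X) ⊓ Subgroup.centralizer
                ((inducedFunctor kInfLower (S : Subgroup X) : Subgroup X) : Set X)).map
                  (QuotientGroup.mk' N) : Subgroup (X ⧸ N))) :=
            (S.2.to_le inf_le_left).map _
          obtain ⟨b, hb⟩ := hpg ⟨_, hy'⟩
          have hb' : (QuotientGroup.mk' N (x ^ p ^ a)) ^ p ^ b = 1 := by
            have := congrArg Subtype.val hb
            simpa using this
          refine ⟨a + b, ?_⟩
          rw [pow_add, pow_mul]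
          rw [map_pow] at hb'
          exact hb'
      obtain ⟨k, hk⟩ := IsPGroup.iff_card.mp hq
      exact ⟨k, by rw [Subgroup.index_eq_card]; exact hk⟩
    · -- `N_X(K) < X`: induct
      apply npc_of_kInfLower_normalizer_npc hp S
      have hSH : (S : Subgroup X) ≤ Subgroup.normalizer
          ((inducedFunctor kInfLower (S : Subgroup X) : Subgroup X) : Set X) :=
        Lib.lead.le_normalizer_inducedFunctor (isCharPFunctor_kInfLower p) (S : Subgroup X) S.2
      have hlt : Nat.card ↥(Subgroup.normalizer
          ((inducedFunctor kInfLower (S : Subgroup X) : Subgroup X) : Set X)) < Nat.card X := by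
        by_contra hcon
        exact hH (Subgroup.eq_top_of_card_eq _
          (le_antisymm (Subgroup.card_le_card_group _) (not_lt.mp hcon)))
      have hmap : (inducedFunctor kInfLower ((S.subtype hSH : Sylow p _) : Subgroup _)).map
          (Subgroup.normalizer
            ((inducedFunctor kInfLower (S : Subgroup X) : Subgroup X) : Set X)).subtype =
          inducedFunctor kInfLower (S : Subgroup X) := by
        rw [ind_map (isCharPFunctor_kInfLower p) _ _ (S.subtype hSH).2
          (Subtype.val_injective.injOn)]
        rw [Sylow.coe_subtype, Subgroup.map_subgroupOf_eq_of_le hSH]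
      refine ih _ (by omega) (S.subtype hSH) ?_
      intro g _ hgo
      have hgX : (g : X) ∈ Subgroup.centralizer
          ((inducedFunctor kInfLower (S : Subgroup X) : Subgroup X) : Set X) :=
        h (g : X) g.2 (by rwa [Subgroup.orderOf_coe])
      rw [Subgroup.mem_centralizer_iff] at hgX ⊢
      intro k hk
      apply Subtype.ext
      have hkX : (k : X) ∈ inducedFunctor kInfLower (S : Subgroup X) :=
        hmap.le (Subgroup.mem_map_of_mem _ hk)
      exact hgX _ hkX

/-- If every `p'`-element of `N_G(K_∞(S))` centralizes `K_∞(S)` (`p` odd), then `G` has a normal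
`p`-complement. -/
theorem npc_of_kInfLower_pprime {G : Type u} [Group G] [Finite G] (hp : p ≠ 2) (S : Sylow p G)
    (h : ∀ g ∈ Subgroup.normalizer
          ((inducedFunctor kInfLower (S : Subgroup G) : Subgroup G) : Set G),
        (orderOf g).Coprime p → g ∈ Subgroup.centralizer
          ((inducedFunctor kInfLower (S : Subgroup G) : Subgroup G) : Set G)) :
    HasNormalPComplement p G :=
  npc_of_kInfLower_pprime_aux hp (Nat.card G) G le_rfl S h

end npc

end Cfsg.Agent.Lib.helper39
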