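import Mathlib
import Cfsg.Agent.Lib.helper9.LcDefs

/-!
Piece B of S0406: the coordinate map of a frame multiplies the form by 8.
-/

set_option autoImplicit false
open Matrix

namespace Cfsg.Agent.Lib.helper39

open Cfsg Cfsg.Agent.Lib.helper9

/-- For rectangular matrices over `ℤ` with index types of the same size, `A * C = 8` implies
`C * A = 8`. -/
theorem lcB_comm {m n : Type*} [Fintype m] [Fintype n] [DecidableEq m] [DecidableEq n]
    (e : m ≃ n) (A : Matrix m n ℤ) (C : Matrix n m ℤ)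
    (h : A * C = (8 : ℤ) • (1 : Matrix m m ℤ)) : C * A = (8 : ℤ) • (1 : Matrix n n ℤ) := by
  have hinj : Function.Injective (Int.castRingHom ℚ) := Int.cast_injective
  have h8m : ((8 : ℤ) • (1 : Matrix m m ℤ)).map (Int.castRingHom ℚ)
      = (8 : ℚ) • (1 : Matrix m m ℚ) := by
    ext i j
    rw [Matrix.map_apply, Matrix.smul_apply, Matrix.smul_apply, Matrix.one_apply,
      Matrix.one_apply]
    split_ifs <;> simp
  have h8n : ((8 : ℤ) • (1 : Matrix n n ℤ)).map (Int.castRingHom ℚ)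
      = (8 : ℚ) • (1 : Matrix n n ℚ) := by
    ext i j
    rw [Matrix.map_apply, Matrix.smul_apply, Matrix.smul_apply, Matrix.one_apply,
      Matrix.one_apply]
    split_ifs <;> simp
  have h1 : (A.map (Int.castRingHom ℚ)) * (((8 : ℚ)⁻¹) • C.map (Int.castRingHom ℚ)) = 1 := by
    have h2 : (A * C).map (Int.castRingHom ℚ)
        = ((8 : ℤ) • (1 : Matrix m m ℤ)).map (Int.castRingHom ℚ) := by
      rw [h]
    rw [Matrix.map_mul, h8m] at h2
    rw [Matrix.mul_smul, h2, smul_smul]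
    norm_num
  have h3 := (Matrix.mul_eq_one_comm_of_equiv e).1 h1
  apply Matrix.map_injective hinj
  show (C * A).map (Int.castRingHom ℚ) = ((8 : ℤ) • (1 : Matrix n n ℤ)).map (Int.castRingHom ℚ)
  rw [Matrix.map_mul, h8n]
  rw [Matrix.smul_mul] at h3
  have h4 : (8 : ℚ) • ((8 : ℚ)⁻¹ • (C.map (Int.castRingHom ℚ) * A.map (Int.castRingHom ℚ)))
      = (8 : ℚ) • (1 : Matrix n n ℚ) := by
    rw [h3]
  rw [smul_smul] at h4
  norm_num at h4
  exact h4

/-- PIECE B: the coordinate map of an orthogonal frame of norm 8 multiplies the form by 8. -/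
theorem lc_frame_dot (B : Matrix (Fin 24) (Fin 24) ℤ) (hsymm : B.IsSymm)
    (v : GolayPt → Fin 24 → ℤ) (hv : ∀ p q, v p ⬝ᵥ (B *ᵥ v q) = if p = q then 8 else 0)
    (x y : Fin 24 → ℤ) :
    dotInt (lcMap B v x) (lcMap B v y) = 8 * (x ⬝ᵥ (B *ᵥ y)) := by
  classical
  set V : Matrix GolayPt (Fin 24) ℤ := Matrix.of v with hV
  have hVB : (V * B) * Vᵀ = (8 : ℤ) • (1 : Matrix GolayPt GolayPt ℤ) := by
    ext p q
    have h1 : ((V * B) * Vᵀ) p q = v p ⬝ᵥ (B *ᵥ v q) := by
      rw [Matrix.mul_assoc, Matrix.mul_apply, dotProduct]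
      refine Finset.sum_congr rfl fun k _ => ?_
      rw [hV, Matrix.of_apply, Matrix.mul_apply, Matrix.mulVec, dotProduct]
      rfl
    rw [h1, hv p q, Matrix.smul_apply, Matrix.one_apply]
    split_ifs <;> simp
  have e : GolayPt ≃ Fin 24 := Fintype.equivFinOfCardEq (by decide)
  have hcomm : Vᵀ * (V * B) = (8 : ℤ) • (1 : Matrix (Fin 24) (Fin 24) ℤ) := lcB_comm e _ _ hVB
  have hmap : ∀ z : Fin 24 → ℤ, lcMap B v z = z ᵥ* (B * Vᵀ) := by
    intro z
    funext p
    rw [lcMap_apply, Matrix.vecMul, dotProduct, dotProduct]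
    refine Finset.sum_congr rfl fun k _ => ?_
    congr 1
  have hMM : (B * Vᵀ) * (B * Vᵀ)ᵀ = (8 : ℤ) • B := by
    rw [Matrix.transpose_mul, Matrix.transpose_transpose, hsymm.eq, Matrix.mul_assoc, hcomm,
      Matrix.mul_smul, Matrix.mul_one]
  have hdot : dotInt (lcMap B v x) (lcMap B v y) = (x ᵥ* (B * Vᵀ)) ⬝ᵥ (y ᵥ* (B * Vᵀ)) := by
    rw [hmap x, hmap y]
    rfl
  rw [hdot, ← Matrix.dotProduct_mulVec, ← Matrix.mulVec_transpose, Matrix.mulVec_mulVec, hMM,
    Matrix.smul_mulVec, dotProduct_smul, smul_eq_mul]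

end Cfsg.Agent.Lib.helper39
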