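import Mathlib
import Cfsg.Agent.Lib.helper51.LevDefs

/-!
# S2522: small matrix helpers (helper39) used by the pieces R1B and Q1
-/

set_option autoImplicit false

namespace Cfsg.Agent.Lib.helper51.Lev

open Matrix

variable {K : Type*} [Field K]

/-- Determinant of a conjugate by a rectangular invertible pair. -/
theorem helper39_det_conj_rect {ι κ : Type} [Fintype ι] [DecidableEq ι] [Fintype κ]
    [DecidableEq κ] (e : κ ≃ ι) (P : Matrix ι κ K) (P' : Matrix κ ι K) (h1 : P * P' = 1)
    (M : Matrix ι ι K) : (P' * M * P).det = M.det := by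
  have hQ : P.submatrix id e.symm * P'.submatrix e.symm id = 1 := by
    rw [Matrix.submatrix_mul_equiv, h1, Matrix.submatrix_id_id]
  have e2 : (P' * M * P).submatrix e.symm e.symm =
      P'.submatrix e.symm id * M * P.submatrix id e.symm := by
    ext i j
    simp [Matrix.mul_apply, Matrix.submatrix_apply]
  have h3 : (P.submatrix id e.symm).det * (P'.submatrix e.symm id).det = 1 := by
    rw [← Matrix.det_mul, hQ, Matrix.det_one]
  rw [← Matrix.det_submatrix_equiv_self e.symm (P' * M * P), e2, Matrix.det_mul, Matrix.det_mul]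
  linear_combination M.det * h3

theorem helper39_vecMulVec_mulVec {ι : Type} [Fintype ι] (u v w : ι → K) :
    vecMulVec u v *ᵥ w = (v ⬝ᵥ w) • u := by
  ext i
  simp only [mulVec, dotProduct, vecMulVec_apply, Pi.smul_apply, smul_eq_mul, Finset.sum_mul]
  apply Finset.sum_congr rfl
  intro j _
  ring

/-- A matrix is determined by its action on vectors. -/
theorem helper39_ext_mulVec {ι : Type} [Fintype ι] [DecidableEq ι] (A B : Matrix ι ι K)
    (h : ∀ w : ι → K, A *ᵥ w = B *ᵥ w) : A = B := by
  ext i j
  have h1 := congrFun (h (Pi.single j 1)) i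
  rw [Matrix.mulVec_single_one, Matrix.mulVec_single_one] at h1
  exact h1

/-- A non-scalar matrix has a non-eigenvector. -/
theorem helper39_exists_nonev {ι : Type} [Fintype ι] [DecidableEq ι] (g : Matrix ι ι K)
    (hns : NonScalar g) : ∃ z : ι → K, LinearIndependent K ![z, g *ᵥ z] := by
  classical
  by_contra hcon
  have heig : ∀ z : ι → K, z ≠ 0 → ∃ a : K, g *ᵥ z = a • z := by
    intro z hz
    by_contra hne
    apply hcon
    refine ⟨z, ?_⟩
    rw [LinearIndependent.pair_iff' hz]
    intro a h
    exact hne ⟨a, h.symm⟩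
  have hs : ∀ i : ι, (Pi.single i (1 : K) : ι → K) ≠ 0 := by
    intro i h
    have h1 := congrFun h i
    simp at h1
  choose a ha using fun i => heig (Pi.single i 1) (hs i)
  have hent : ∀ i j : ι, g j i = a i * (Pi.single i (1 : K) : ι → K) j := by
    intro i j
    have h1 := congrFun (ha i) j
    rw [Matrix.mulVec_single_one] at h1
    exact h1
  have hconst : ∀ i j : ι, a i = a j := by
    intro i j
    by_cases hij : i = j
    · rw [hij]
    have hz : (Pi.single i (1 : K) + Pi.single j (1 : K) : ι → K) ≠ 0 := by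
      intro h
      have h1 := congrFun h i
      simp [hij] at h1
    obtain ⟨b, hb⟩ := heig _ hz
    rw [Matrix.mulVec_add, ha i, ha j] at hb
    have h1 := congrFun hb i
    have h2 := congrFun hb j
    simp [hij] at h1
    have hji : ¬ j = i := fun h => hij h.symm
    simp [hji] at h2
    rw [h1, h2]
  apply hns
  rcases isEmpty_or_nonempty ι with hemp | ⟨⟨i0⟩⟩
  · exact ⟨0, by ext i; exact isEmptyElim i⟩
  · refine ⟨a i0, ?_⟩
    ext j i
    rw [hent i j, hconst i i0, Matrix.smul_apply, Matrix.one_apply, smul_eq_mul, Pi.single_apply]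

end Cfsg.Agent.Lib.helper51.Lev
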