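import Mathlib
import Cfsg.Agent.Lib.helper51.LevDefs
import Cfsg.Agent.Lib.helper39.LevH39
import Cfsg.Agent.Lib.helper6.LevBTRI

/-!
# S2522, piece Q1: matrices of type `IsQ1` are block triangular with a good `2 × 2` corner
-/

set_option autoImplicit false

namespace Cfsg.Agent.Lib.helper51.Lev

open Matrix

variable {K : Type*} [Field K]

/-- PIECE Q1: type `IsQ1` matrices are block triangular with a good `2 × 2` corner. -/
theorem q1_block {ι : Type} [Fintype ι] [DecidableEq ι]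
    (h3 : 3 ≤ Fintype.card ι) (g : Matrix ι ι K) (hdet : g.det = 1) (hinv : IsUnit (g - 1))
    (hns : NonScalar g) (s : K) (hq : g * g = s • g - 1) (hR1 : ¬ IsR1 g) :
    ∃ (m : ℕ) (P : Matrix ι (Fin 2 ⊕ Fin m) K) (P' : Matrix (Fin 2 ⊕ Fin m) ι K)
      (g₁ : Matrix (Fin 2) (Fin 2) K) (Z : Matrix (Fin 2) (Fin m) K)
      (g₂ : Matrix (Fin m) (Fin m) K),
      P * P' = 1 ∧ P' * P = 1 ∧ 2 + m = Fintype.card ι ∧ P' * g * P = fromBlocks g₁ Z 0 g₂ ∧
      g₁.det = 1 ∧ NonScalar g₁ ∧ IsUnit (g₁ - 1) ∧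
      g₂.det = 1 ∧ NonScalar g₂ ∧ IsUnit (g₂ - 1) := by
  classical
  have hne : Nonempty ι := Fintype.card_pos_iff.mp (by omega)
  obtain ⟨z, hz⟩ := helper39_exists_nonev g hns
  have hggz : g *ᵥ (g *ᵥ z) = s • (g *ᵥ z) - z := by
    rw [Matrix.mulVec_mulVec, hq, Matrix.sub_mulVec, Matrix.smul_mulVec, Matrix.one_mulVec]
  obtain ⟨m, P, P', g₁, Z, g₂, h1, h2, hm, hform, hcol, hsc⟩ :=
    block_tri g 2 ![z, g *ᵥ z] hz (by
      intro j
      fin_cases j
      · exact Submodule.subset_span ⟨1, rfl⟩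
      · show g *ᵥ (g *ᵥ z) ∈ _
        rw [hggz]
        exact Submodule.sub_mem _ (Submodule.smul_mem _ _ (Submodule.subset_span ⟨1, rfl⟩))
          (Submodule.subset_span ⟨0, rfl⟩))
  have hrange : Set.range ![z, g *ᵥ z] = ({z, g *ᵥ z} : Set (ι → K)) := by
    simp [Matrix.range_cons, Matrix.range_empty, Set.pair_comm]
  have hpair := LinearIndependent.pair_iff.mp hz
  -- the entries of `g₁`
  have hc0 : g *ᵥ z = g₁ 0 0 • z + g₁ 1 0 • (g *ᵥ z) := by
    have h := hcol 0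
    rw [Fin.sum_univ_two] at h
    exact h
  have hc1 : g *ᵥ (g *ᵥ z) = g₁ 0 1 • z + g₁ 1 1 • (g *ᵥ z) := by
    have h := hcol 1
    rw [Fin.sum_univ_two] at h
    exact h
  have h00 : g₁ 0 0 = 0 ∧ g₁ 1 0 - 1 = 0 := by
    apply hpair
    have e : g₁ 0 0 • z + (g₁ 1 0 - 1) • (g *ᵥ z) =
        (g₁ 0 0 • z + g₁ 1 0 • (g *ᵥ z)) - g *ᵥ z := by module
    rw [e, ← hc0, sub_self]
  have h01 : g₁ 0 1 + 1 = 0 ∧ g₁ 1 1 - s = 0 := by
    apply hpair
    have e : (g₁ 0 1 + 1) • z + (g₁ 1 1 - s) • (g *ᵥ z) =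
        (g₁ 0 1 • z + g₁ 1 1 • (g *ᵥ z)) - (s • (g *ᵥ z) - z) := by module
    rw [e, ← hc1, hggz, sub_self]
  have e00 : g₁ 0 0 = 0 := h00.1
  have e10 : g₁ 1 0 = 1 := sub_eq_zero.mp h00.2
  have e01 : g₁ 0 1 = -1 := eq_neg_of_add_eq_zero_left h01.1
  have e11 : g₁ 1 1 = s := sub_eq_zero.mp h01.2
  -- `s ≠ 2`
  have hs2 : s ≠ 2 := by
    intro hs
    have hsq : (g - 1) * (g - 1) = 0 := by
      have e : (g - 1) * (g - 1) = g * g - (2 : K) • g + 1 := by
        rw [two_smul]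
        noncomm_ring
      rw [e, hq, hs]
      abel
    have hd := (Matrix.isUnit_iff_isUnit_det (g - 1)).mp hinv
    have hd0 : (g - 1).det * (g - 1).det = 0 := by
      rw [← Matrix.det_mul, hsq, Matrix.det_zero]
    exact hd.ne_zero (mul_self_eq_zero.mp hd0)
  have hdet1 : g₁.det = 1 := by
    rw [Matrix.det_fin_two, e00, e10, e01, e11]
    ring
  have hns1 : NonScalar g₁ := by
    rintro ⟨a, ha⟩
    have h := congrFun (congrFun ha 1) 0
    rw [e10] at h
    simp at h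
  have hu1d : (g₁ - 1).det = 2 - s := by
    rw [Matrix.det_fin_two]
    simp only [Matrix.sub_apply, Matrix.one_apply_eq, Matrix.one_apply_ne, ne_eq,
      Fin.isValue, zero_ne_one, one_ne_zero, not_false_eq_true, e00, e10, e01, e11]
    ring
  have hu1d0 : (g₁ - 1).det ≠ 0 := by
    rw [hu1d]
    intro h
    exact hs2 (sub_eq_zero.mp h).symm
  have hu1 : IsUnit (g₁ - 1) := by
    rw [Matrix.isUnit_iff_isUnit_det]
    exact isUnit_iff_ne_zero.mpr hu1d0
  -- determinants of the conjugate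
  have hcard : Fintype.card (Fin 2 ⊕ Fin m) = Fintype.card ι := by
    rw [Fintype.card_sum, Fintype.card_fin, Fintype.card_fin, hm]
  obtain ⟨e⟩ : Nonempty (Fin 2 ⊕ Fin m ≃ ι) := ⟨Fintype.equivOfCardEq hcard⟩
  have hd1 : (fromBlocks g₁ Z 0 g₂).det = 1 := by
    rw [← hform, helper39_det_conj_rect e P P' h1 g, hdet]
  rw [Matrix.det_fromBlocks_zero₂₁, hdet1, one_mul] at hd1
  have hform1 : P' * (g - 1) * P = fromBlocks (g₁ - 1) Z 0 (g₂ - 1) := by
    rw [Matrix.mul_sub, Matrix.sub_mul, hform, Matrix.mul_one, h2]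
    ext (i | i) (j | j) <;> simp [Matrix.one_apply]
  have hd2 : (fromBlocks (g₁ - 1) Z 0 (g₂ - 1)).det = (g - 1).det := by
    rw [← hform1, helper39_det_conj_rect e P P' h1 (g - 1)]
  rw [Matrix.det_fromBlocks_zero₂₁] at hd2
  have hu2 : IsUnit (g₂ - 1) := by
    rw [Matrix.isUnit_iff_isUnit_det]
    apply isUnit_iff_ne_zero.mpr
    intro h0
    rw [h0, mul_zero] at hd2
    exact ((Matrix.isUnit_iff_isUnit_det (g - 1)).mp hinv).ne_zero hd2.symm
  refine ⟨m, P, P', g₁, Z, g₂, h1, h2, hm, hform, hdet1, hns1, hu1, hd1, ?_, hu2⟩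
  -- `g₂` is not scalar
  rintro ⟨a, ha⟩
  have hm1 : 0 < m := by omega
  -- the quadratic for `g₂`
  have hq2 : (P' * g * P) * (P' * g * P) = s • (P' * g * P) - 1 := by
    have e1 : (P' * g * P) * (P' * g * P) = P' * g * (P * P') * g * P := by
      simp only [Matrix.mul_assoc]
    rw [e1, h1, Matrix.mul_one, Matrix.mul_assoc P' g g, hq, Matrix.mul_sub, Matrix.sub_mul,
      Matrix.mul_smul, Matrix.smul_mul, Matrix.mul_one, h2]
  have haq : a * a = s * a - 1 := by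
    have h := congrFun (congrFun hq2 (Sum.inr ⟨0, hm1⟩)) (Sum.inr ⟨0, hm1⟩)
    rw [hform, Matrix.fromBlocks_multiply, ha] at h
    simpa using h
  have hall := hsc a ha
  rw [hrange] at hall
  have hprod : (g - (s - a) • (1 : Matrix ι ι K)) * (g - a • (1 : Matrix ι ι K)) = 0 := by
    have e1 : (g - (s - a) • (1 : Matrix ι ι K)) * (g - a • (1 : Matrix ι ι K)) =
        g * g - s • g + (a * (s - a)) • (1 : Matrix ι ι K) := by
      simp only [Matrix.sub_mul, Matrix.smul_mul, Matrix.mul_smul, Matrix.one_mul,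
        Matrix.mul_one, sub_smul, mul_sub]
      module
    rw [e1, hq]
    have e2 : a * (s - a) = 1 := by linear_combination -haq
    rw [e2, one_smul]
    abel
  obtain ⟨e', he'⟩ : ∃ e' : ι → K, e' = g *ᵥ z - a • z := ⟨_, rfl⟩
  have he'0 : e' ≠ 0 := by
    intro h0
    rw [he'] at h0
    have h4 := hpair (-a) 1 (by rw [one_smul, neg_smul, ← h0]; abel)
    exact one_ne_zero h4.2
  have hline : ∀ w : ι → K, ∃ β : K, (g - a • (1 : Matrix ι ι K)) *ᵥ w = β • e' := by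
    intro w
    obtain ⟨α, β, hαβ⟩ := Submodule.mem_span_pair.mp (hall w)
    refine ⟨β, ?_⟩
    have h5 : (g - (s - a) • (1 : Matrix ι ι K)) *ᵥ ((g - a • (1 : Matrix ι ι K)) *ᵥ w) = 0 := by
      rw [Matrix.mulVec_mulVec, hprod, Matrix.zero_mulVec]
    rw [← hαβ, Matrix.sub_mulVec, Matrix.smul_mulVec, Matrix.one_mulVec, Matrix.mulVec_add,
      Matrix.mulVec_smul, Matrix.mulVec_smul, hggz] at h5
    have h6 := hpair (-(α * (s - a) + β)) (α + β * a) (by
      rw [← h5]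
      module)
    have h7 : α = -(β * a) := by linear_combination h6.2
    rw [← hαβ, he', h7]
    module
  obtain ⟨i0, hi0⟩ : ∃ i0 : ι, e' i0 ≠ 0 := by
    by_contra hcon
    apply he'0
    funext i
    by_contra hi
    exact hcon ⟨i, hi⟩
  apply hR1
  refine ⟨a, e', (Pi.single i0 (e' i0)⁻¹ : ι → K) ᵥ* (g - a • (1 : Matrix ι ι K)), ?_⟩
  have hmat : g - a • (1 : Matrix ι ι K) =
      vecMulVec e' ((Pi.single i0 (e' i0)⁻¹ : ι → K) ᵥ* (g - a • (1 : Matrix ι ι K))) := by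
    apply helper39_ext_mulVec
    intro w
    obtain ⟨β, hβ⟩ := hline w
    rw [helper39_vecMulVec_mulVec, ← Matrix.dotProduct_mulVec, hβ, dotProduct_smul,
      single_dotProduct, inv_mul_cancel₀ hi0, smul_eq_mul, mul_one]
  rw [← hmat]
  abel

end Cfsg.Agent.Lib.helper51.Lev
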