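import Mathlib
import Cfsg.Agent.Lib.helper51.LevDefs
import Cfsg.Agent.Lib.helper80.LevUTIL

/-!
# S2522, piece R1A: the choice of `(x, lam)` for scalar-plus-rank-one matrices
-/

set_option autoImplicit false

namespace Cfsg.Agent.Lib.helper51.Lev

open Matrix

variable {K : Type*} [Field K]

/-- The hyperplane of vectors orthogonal to `φ`. -/
def helper39_perp {ι : Type} [Fintype ι] (φ : ι → K) : Submodule K (ι → K) where
  carrier := {x | φ ⬝ᵥ x = 0}
  add_mem' := by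
    intro a b ha hb
    have ha' : φ ⬝ᵥ a = 0 := ha
    have hb' : φ ⬝ᵥ b = 0 := hb
    show φ ⬝ᵥ (a + b) = 0
    rw [dotProduct_add, ha', hb', add_zero]
  zero_mem' := dotProduct_zero φ
  smul_mem' := by
    intro t a ha
    have ha' : φ ⬝ᵥ a = 0 := ha
    show φ ⬝ᵥ (t • a) = 0
    rw [dotProduct_smul, ha', smul_zero]

theorem helper39_mem_perp {ι : Type} [Fintype ι] (φ x : ι → K) :
    x ∈ helper39_perp φ ↔ φ ⬝ᵥ x = 0 := Iff.rfl

theorem helper39_perp_ne_top {ι : Type} [Fintype ι] [DecidableEq ι] (φ : ι → K) (hφ : φ ≠ 0) :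
    helper39_perp φ ≠ ⊤ := by
  intro h
  apply hφ
  funext i
  have h1 : Pi.single i (1 : K) ∈ helper39_perp φ := by
    rw [h]
    exact Submodule.mem_top
  rw [helper39_mem_perp, dotProduct_single, mul_one] at h1
  exact h1

theorem helper39_span_pair_ne_top {ι : Type} [Fintype ι] (h3 : 3 ≤ Fintype.card ι)
    (c v : ι → K) : Submodule.span K ({c, v} : Set (ι → K)) ≠ ⊤ := by
  classical
  intro h
  have h1 : Module.finrank K (Submodule.span K ((({c, v} : Finset (ι → K)) : Set (ι → K)))) ≤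
      ({c, v} : Finset (ι → K)).card := finrank_span_finset_le_card _
  rw [Finset.coe_pair, h, finrank_top, Module.finrank_fintype_fun_eq_card] at h1
  have h2 := Finset.card_le_two (a := c) (b := v)
  omega

theorem helper39_indep3 {ι : Type} [Fintype ι] (e x v : ι → K) (hx0 : x ≠ 0)
    (hvx : ∀ a : K, v ≠ a • x) (he : e ∉ Submodule.span K ({x, v} : Set (ι → K))) :
    LinearIndependent K ![e, x, v] := by
  have h1 : LinearIndependent K ![x, v] := by
    rw [LinearIndependent.pair_iff' hx0]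
    intro a h
    exact hvx a h.symm
  have h2 : (![e, x, v] : Fin 3 → ι → K) = Fin.cons e ![x, v] := rfl
  rw [h2, linearIndependent_finCons]
  refine ⟨h1, ?_⟩
  have h3 : Set.range ![x, v] = ({x, v} : Set (ι → K)) := by
    simp [Matrix.range_cons, Matrix.range_empty, Set.pair_comm]
  rw [h3]
  exact he

theorem helper39_r1_fin (hK : 3 ≤ Cardinal.mk K) {ι : Type} [Fintype ι] [DecidableEq ι]
    (v φ c r x e : ι → K) (β : K)
    (hind : LinearIndependent K ![e, x, v]) (hφx : φ ⬝ᵥ x ≠ 0) (hrx : r ⬝ᵥ x ≠ 0)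
    (hvx : ∀ a : K, v ≠ a • x)
    (hc : ∀ lam : ι → K, lam ⬝ᵥ v = β / (φ ⬝ᵥ x) → lam ⬝ᵥ e ≠ 0 → lam ⬝ᵥ c ≠ 0) :
    ∃ x lam : ι → K, lam ⬝ᵥ x = 1 ∧ (lam ⬝ᵥ v) * (φ ⬝ᵥ x) = β ∧ (∀ a : K, v ≠ a • x) ∧
      (∀ a : K, φ ≠ a • lam) ∧ lam ⬝ᵥ c ≠ 0 ∧ r ⬝ᵥ x ≠ 0 := by
  classical
  obtain ⟨a, ha⟩ := exists_notMem_of_card ({0, (φ ⬝ᵥ e) / (φ ⬝ᵥ x)} : Finset K) (by
    have h1 : (({0, (φ ⬝ᵥ e) / (φ ⬝ᵥ x)} : Finset K).card + 1 : ℕ) ≤ 3 := by
      have := Finset.card_le_two (a := (0 : K)) (b := (φ ⬝ᵥ e) / (φ ⬝ᵥ x))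
      omega
    exact le_trans (by exact_mod_cast h1) hK)
  have ha0 : a ≠ 0 := by
    intro h
    apply ha
    rw [h]
    simp
  have ha1 : a ≠ (φ ⬝ᵥ e) / (φ ⬝ᵥ x) := by
    intro h
    apply ha
    rw [← h]
    simp
  obtain ⟨lam, hlam⟩ := exists_dual ![e, x, v] hind ![a, 1, β / (φ ⬝ᵥ x)]
  have hl0 : lam ⬝ᵥ e = a := hlam 0
  have hl1 : lam ⬝ᵥ x = 1 := hlam 1
  have hl2 : lam ⬝ᵥ v = β / (φ ⬝ᵥ x) := hlam 2
  refine ⟨x, lam, hl1, ?_, hvx, ?_, hc lam hl2 (by rw [hl0]; exact ha0), hrx⟩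
  · rw [hl2]
    field_simp
  · intro b hb
    have h1 : φ ⬝ᵥ x = b := by
      rw [hb, smul_dotProduct, hl1, smul_eq_mul, mul_one]
    have h2 : φ ⬝ᵥ e = b * a := by
      rw [hb, smul_dotProduct, hl0, smul_eq_mul]
    have hb0 : b ≠ 0 := by
      rw [← h1]
      exact hφx
    apply ha1
    rw [h2, h1]
    field_simp

/-- PIECE R1A: the choice of `(x, lam)` for scalar-plus-rank-one matrices (`β = 1 - ζ`). -/
theorem r1_choice (hK : 3 ≤ Cardinal.mk K) {ι : Type} [Fintype ι] [DecidableEq ι]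
    (h3 : 3 ≤ Fintype.card ι) (v φ c r : ι → K) (hv : v ≠ 0) (hφ : φ ≠ 0) (hc : c ≠ 0)
    (hr : r ≠ 0) (β : K) (hβ : β ≠ 0) :
    ∃ x lam : ι → K, lam ⬝ᵥ x = 1 ∧ (lam ⬝ᵥ v) * (φ ⬝ᵥ x) = β ∧ (∀ a : K, v ≠ a • x) ∧
      (∀ a : K, φ ≠ a • lam) ∧ lam ⬝ᵥ c ≠ 0 ∧ r ⬝ᵥ x ≠ 0 := by
  classical
  obtain ⟨x, hx⟩ := avoid 3 (by exact_mod_cast hK)
    ![helper39_perp φ, helper39_perp r, Submodule.span K ({c, v} : Set (ι → K))] (by
      intro i
      fin_cases i
      · exact helper39_perp_ne_top φ hφ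
      · exact helper39_perp_ne_top r hr
      · exact helper39_span_pair_ne_top h3 c v)
  have hφx : φ ⬝ᵥ x ≠ 0 := hx 0
  have hrx : r ⬝ᵥ x ≠ 0 := hx 1
  have hxs : x ∉ Submodule.span K ({c, v} : Set (ι → K)) := hx 2
  have hx0 : x ≠ 0 := by
    rintro rfl
    exact hxs (Submodule.zero_mem _)
  have hxv : ∀ a : K, x ≠ a • v := by
    intro a h
    apply hxs
    rw [h]
    exact Submodule.smul_mem _ a (Submodule.subset_span (by simp))
  have hvx : ∀ a : K, v ≠ a • x := by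
    intro a h
    have ha : a ≠ 0 := by
      rintro rfl
      rw [zero_smul] at h
      exact hv h
    apply hxv a⁻¹
    rw [h, smul_smul, inv_mul_cancel₀ ha, one_smul]
  by_cases hcv : ∃ γ : K, c = γ • v
  · obtain ⟨γ, hγ⟩ := hcv
    have hγ0 : γ ≠ 0 := by
      rintro rfl
      rw [zero_smul] at hγ
      exact hc hγ
    obtain ⟨e, he⟩ : ∃ e : ι → K, e ∉ Submodule.span K ({x, v} : Set (ι → K)) := by
      by_contra hcon
      apply helper39_span_pair_ne_top h3 x v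
      rw [eq_top_iff]
      intro y _
      by_contra hy
      exact hcon ⟨y, hy⟩
    exact helper39_r1_fin hK v φ c r x e β (helper39_indep3 e x v hx0 hvx he) hφx hrx hvx (by
      intro lam hl2 _
      rw [hγ, dotProduct_smul, hl2, smul_eq_mul]
      exact mul_ne_zero hγ0 (div_ne_zero hβ hφx))
  · have he : c ∉ Submodule.span K ({x, v} : Set (ι → K)) := by
      intro hmem
      obtain ⟨a, b, hab⟩ := Submodule.mem_span_pair.mp hmem
      by_cases ha : a = 0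
      · apply hcv
        refine ⟨b, ?_⟩
        rw [← hab, ha, zero_smul, zero_add]
      · apply hxs
        have e1 : x = a⁻¹ • c + (-(a⁻¹ * b)) • v := by
          rw [← hab, smul_add, smul_smul, smul_smul, inv_mul_cancel₀ ha, one_smul, neg_smul]
          abel
        rw [e1]
        exact Submodule.add_mem _ (Submodule.smul_mem _ _ (Submodule.subset_span (by simp)))
          (Submodule.smul_mem _ _ (Submodule.subset_span (by simp)))
    exact helper39_r1_fin hK v φ c r x c β (helper39_indep3 c x v hx0 hvx he) hφx hrx hvx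
      (fun _ _ h => h)

end Cfsg.Agent.Lib.helper51.Lev
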