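import Mathlib
import Cfsg.Agent.Lib.helper51.LevDefs
import Cfsg.Agent.Lib.helper39.LevH39
import Cfsg.Agent.Lib.helper39.LevR1A
import Cfsg.Agent.Lib.helper6.LevCOMPL
import Cfsg.Agent.Lib.helper77.LevBORD
import Cfsg.Agent.Lib.helper46.LevCONJ

/-!
# S2522, piece R1B (core): scalar plus rank one, by induction on the size, with the
two-dimensional base case (piece BASE2) as a hypothesis.
-/

set_option autoImplicit false

namespace Cfsg.Agent.Lib.helper51.Lev

open Matrix

variable {K : Type*} [Field K]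

/-- The action of `ζ • 1 + vecMulVec v φ` on a vector. -/
theorem helper39_r1_mulVec {ι : Type} [Fintype ι] [DecidableEq ι] (ζ : K) (v φ w : ι → K) :
    (ζ • (1 : Matrix ι ι K) + vecMulVec v φ) *ᵥ w = ζ • w + (φ ⬝ᵥ w) • v := by
  rw [Matrix.add_mulVec, Matrix.smul_mulVec, Matrix.one_mulVec, helper39_vecMulVec_mulVec]

/-- In `ζ • 1 + vecMulVec v φ` of determinant one (size at least two), `ζ ≠ 0`. -/
theorem helper39_r1_zeta_ne_zero {ι : Type} [Fintype ι] [DecidableEq ι]
    (h2 : 2 ≤ Fintype.card ι) (g : Matrix ι ι K) (hdet : g.det = 1) (ζ : K) (v φ : ι → K)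
    (hg : g = ζ • (1 : Matrix ι ι K) + vecMulVec v φ) : ζ ≠ 0 := by
  rintro rfl
  rw [zero_smul, zero_add] at hg
  have hu : IsUnit g := by
    rw [Matrix.isUnit_iff_isUnit_det, hdet]
    exact isUnit_one
  have h1 := Matrix.rank_of_isUnit g hu
  have h2' := Matrix.rank_vecMulVec_le v φ
  rw [hg] at h1
  omega

/-- The determinant of a scalar plus rank one matrix (`ζ ≠ 0`). -/
theorem helper39_r1_det {ι : Type} [Fintype ι] [DecidableEq ι] (ζ : K) (hζ0 : ζ ≠ 0)
    (v φ : ι → K) :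
    (ζ • (1 : Matrix ι ι K) + vecMulVec v φ).det =
      ζ ^ Fintype.card ι * (1 + ζ⁻¹ * (φ ⬝ᵥ v)) := by
  have e : ζ • (1 : Matrix ι ι K) + vecMulVec v φ =
      ζ • ((1 : Matrix ι ι K) + replicateCol Unit (ζ⁻¹ • v) * replicateRow Unit φ) := by
    rw [← Matrix.vecMulVec_eq]
    ext i j
    simp only [Matrix.add_apply, Matrix.smul_apply, Matrix.vecMulVec_apply, Pi.smul_apply,
      smul_eq_mul]
    field_simp
  rw [e, Matrix.det_smul, Matrix.det_one_add_replicateCol_mul_replicateRow, dotProduct_smul,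
    smul_eq_mul]

/-- The two-dimensional case: `g - 1` is invertible. -/
theorem helper39_r1_unit_two {ι : Type} [Fintype ι] [DecidableEq ι]
    (h2 : Fintype.card ι = 2) (g : Matrix ι ι K) (hdet : g.det = 1) (ζ : K) (v φ : ι → K)
    (hg : g = ζ • (1 : Matrix ι ι K) + vecMulVec v φ) (hζ : ζ ≠ 1) : IsUnit (g - 1) := by
  have hζ0 : ζ ≠ 0 := helper39_r1_zeta_ne_zero (by omega) g hdet ζ v φ hg
  rw [Matrix.isUnit_iff_isUnit_det]
  apply isUnit_iff_ne_zero.mpr
  intro hd0
  obtain ⟨w, hw0, hw⟩ := Matrix.exists_mulVec_eq_zero_iff.mpr hd0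
  have hfix : ζ • w + (φ ⬝ᵥ w) • v = w := by
    rw [Matrix.sub_mulVec, Matrix.one_mulVec, hg, helper39_r1_mulVec] at hw
    exact sub_eq_zero.mp hw
  have h1ζ : (1 - ζ) ≠ 0 := sub_ne_zero.mpr hζ.symm
  have hwv : w = ((φ ⬝ᵥ w) / (1 - ζ)) • v := by
    have e1 : (φ ⬝ᵥ w) • v = (1 - ζ) • w := by
      rw [sub_smul, one_smul]
      exact eq_sub_of_add_eq' hfix
    rw [div_eq_inv_mul, ← smul_smul, e1, smul_smul, inv_mul_cancel₀ h1ζ, one_smul]
  have ht : (φ ⬝ᵥ w) / (1 - ζ) ≠ 0 := by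
    intro h0
    rw [h0, zero_smul] at hwv
    exact hw0 hwv
  have hφw : φ ⬝ᵥ w ≠ 0 := fun h0 => ht (by rw [h0, zero_div])
  have hφv : φ ⬝ᵥ v = 1 - ζ := by
    have e2 : φ ⬝ᵥ w = ((φ ⬝ᵥ w) / (1 - ζ)) * (φ ⬝ᵥ v) := by
      conv_lhs => rw [hwv]
      rw [dotProduct_smul, smul_eq_mul]
    field_simp at e2
    linear_combination -e2
  have hd : g.det = ζ := by
    rw [hg, helper39_r1_det ζ hζ0, h2, hφv]
    field_simp
    ring
  rw [hdet] at hd
  exact hζ hd.symm

/-- PIECE R1B (core): scalar plus rank one, with the two-dimensional base case as hypothesis. -/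
theorem helper39_rankone_core (hK : 4 ≤ Cardinal.mk K)
    (hbase : ∀ {ι : Type} [Fintype ι] [DecidableEq ι], Fintype.card ι = 2 →
      ∀ g : Matrix ι ι K, g.det = 1 → NonScalar g → IsUnit (g - 1) →
      ∀ c r : ι → K, c ≠ 0 → r ≠ 0 → PS g c r) :
    ∀ n : ℕ, 2 ≤ n → ∀ {ι : Type} [Fintype ι] [DecidableEq ι], Fintype.card ι = n →
      ∀ g : Matrix ι ι K, g.det = 1 → NonScalar g → ∀ (ζ : K) (v φ : ι → K),
      g = ζ • (1 : Matrix ι ι K) + vecMulVec v φ → ζ ≠ 1 →
      ∀ c r : ι → K, c ≠ 0 → r ≠ 0 → PS g c r := by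
  classical
  intro n
  induction n with
  | zero =>
    intro h
    omega
  | succ n ih =>
    intro hn ι _ _ hcard g hdet hns ζ v φ hg hζ c r hc hr
    by_cases h2 : n + 1 = 2
    · exact hbase (by omega) g hdet hns
        (helper39_r1_unit_two (by omega) g hdet ζ v φ hg hζ) c r hc hr
    have hn2 : 2 ≤ n := by omega
    have h3 : 3 ≤ Fintype.card ι := by omega
    have hK3 : 3 ≤ Cardinal.mk K := le_trans (by norm_num) hK
    have hζ0 : ζ ≠ 0 := helper39_r1_zeta_ne_zero (by omega) g hdet ζ v φ hg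
    have hv : v ≠ 0 := by
      rintro rfl
      apply hns
      refine ⟨ζ, ?_⟩
      rw [hg, (Matrix.vecMulVec_eq_zero).mpr (Or.inl rfl), add_zero]
    have hφ : φ ≠ 0 := by
      rintro rfl
      apply hns
      refine ⟨ζ, ?_⟩
      rw [hg, (Matrix.vecMulVec_eq_zero).mpr (Or.inr rfl), add_zero]
    have h1ζ : (1 - ζ) ≠ 0 := sub_ne_zero.mpr hζ.symm
    obtain ⟨x, lam, hlx, hβ, hvx, hφl, hlc, hrx⟩ := r1_choice hK3 h3 v φ c r hv hφ hc hr (1 - ζ) h1ζ
    obtain ⟨m, P, P', h1, h2', hm, hPx, hP'l⟩ := compl_basis x lam hlx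
    have hmn : m = n := by omega
    obtain ⟨V, hV⟩ : ∃ V : Unit ⊕ Fin m → K, V = P' *ᵥ v := ⟨_, rfl⟩
    obtain ⟨Φ, hΦ⟩ : ∃ Φ : Unit ⊕ Fin m → K, Φ = φ ᵥ* P := ⟨_, rfl⟩
    have hVinl : V (Sum.inl ()) = lam ⬝ᵥ v := by
      rw [hV]
      show (fun j => P' (Sum.inl ()) j) ⬝ᵥ v = lam ⬝ᵥ v
      congr 1
      funext i
      exact hP'l i
    have hΦinl : Φ (Sum.inl ()) = φ ⬝ᵥ x := by
      rw [hΦ]
      show φ ⬝ᵥ (fun i => P i (Sum.inl ())) = φ ⬝ᵥ x
      congr 1
      funext i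
      exact hPx i
    have hprod : V (Sum.inl ()) * Φ (Sum.inl ()) = 1 - ζ := by
      rw [hVinl, hΦinl]
      exact hβ
    have hVi0 : V (Sum.inl ()) ≠ 0 := by
      intro h0
      rw [h0, zero_mul] at hprod
      exact h1ζ hprod.symm
    have hΦi0 : Φ (Sum.inl ()) ≠ 0 := by
      intro h0
      rw [h0, mul_zero] at hprod
      exact h1ζ hprod.symm
    have hconj : P' * g * P = ζ • (1 : Matrix (Unit ⊕ Fin m) (Unit ⊕ Fin m) K) + vecMulVec V Φ := by
      rw [hg, Matrix.mul_add, Matrix.add_mul, Matrix.mul_smul, Matrix.smul_mul, Matrix.mul_one,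
        h2', Matrix.mul_vecMulVec, Matrix.vecMulVec_mul, hV, hΦ]
    obtain ⟨V₂, hV₂⟩ : ∃ V₂ : Fin m → K, V₂ = fun j => V (Sum.inr j) := ⟨_, rfl⟩
    obtain ⟨Φ₂, hΦ₂⟩ : ∃ Φ₂ : Fin m → K, Φ₂ = fun j => Φ (Sum.inr j) := ⟨_, rfl⟩
    obtain ⟨c₁, hc₁⟩ : ∃ c₁ : Fin m → K, c₁ = Φ (Sum.inl ()) • V₂ := ⟨_, rfl⟩
    obtain ⟨r₁, hr₁⟩ : ∃ r₁ : Fin m → K, r₁ = V (Sum.inl ()) • Φ₂ := ⟨_, rfl⟩
    obtain ⟨D, hD⟩ : ∃ D : Matrix (Fin m) (Fin m) K,
        D = ζ • (1 : Matrix (Fin m) (Fin m) K) + vecMulVec (ζ • V₂) Φ₂ := ⟨_, rfl⟩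
    have hblock : ζ • (1 : Matrix (Unit ⊕ Fin m) (Unit ⊕ Fin m) K) + vecMulVec V Φ =
        fromBlocks (1 : Matrix Unit Unit K) (replicateRow Unit r₁) (replicateCol Unit c₁)
          (D + vecMulVec c₁ r₁) := by
      ext (i | i) (j | j)
      · simp only [Matrix.add_apply, Matrix.smul_apply, Matrix.one_apply_eq, smul_eq_mul,
          Matrix.vecMulVec_apply, Matrix.fromBlocks_apply₁₁]
        linear_combination hprod
      · simp only [Matrix.add_apply, Matrix.smul_apply, smul_eq_mul,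
          Matrix.vecMulVec_apply, Matrix.fromBlocks_apply₁₂, Matrix.replicateRow_apply, hr₁, hΦ₂,
          Pi.smul_apply, Matrix.one_apply, reduceCtorEq, if_false, mul_zero, zero_add]
      · simp only [Matrix.add_apply, Matrix.smul_apply, smul_eq_mul,
          Matrix.vecMulVec_apply, Matrix.fromBlocks_apply₂₁, Matrix.replicateCol_apply, hc₁, hV₂,
          Pi.smul_apply, Matrix.one_apply, reduceCtorEq, if_false, mul_zero, zero_add]
        ring
      · simp only [Matrix.add_apply, Matrix.smul_apply, smul_eq_mul,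
          Matrix.vecMulVec_apply, Matrix.fromBlocks_apply₂₂, hc₁, hr₁, hV₂, hΦ₂, hD,
          Pi.smul_apply, Matrix.one_apply, Sum.inr.injEq]
        linear_combination (-(V (Sum.inr i) * Φ (Sum.inr j))) * hprod
    have hV₂0 : V₂ ≠ 0 := by
      intro h0
      apply hvx (V (Sum.inl ()))
      have e1 : v = P *ᵥ V := by
        rw [hV, Matrix.mulVec_mulVec, h1, Matrix.one_mulVec]
      rw [e1]
      funext i
      show (fun k => P i k) ⬝ᵥ V = _
      rw [dotProduct, Fintype.sum_sum_type]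
      have e2 : ∀ j : Fin m, P i (Sum.inr j) * V (Sum.inr j) = 0 := by
        intro j
        have := congrFun h0 j
        rw [hV₂] at this
        simp only [Pi.zero_apply] at this
        rw [this, mul_zero]
      simp only [Finset.univ_unique, Finset.sum_singleton, e2, Finset.sum_const_zero, add_zero,
        Pi.smul_apply, smul_eq_mul]
      rw [show (default : Unit) = () from rfl, hPx i, mul_comm]
    have hΦ₂0 : Φ₂ ≠ 0 := by
      intro h0
      apply hφl (Φ (Sum.inl ()))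
      have e1 : φ = Φ ᵥ* P' := by
        rw [hΦ, Matrix.vecMul_vecMul, h1, Matrix.vecMul_one]
      rw [e1]
      funext i
      show Φ ⬝ᵥ (fun k => P' k i) = _
      rw [dotProduct, Fintype.sum_sum_type]
      have e2 : ∀ j : Fin m, Φ (Sum.inr j) * P' (Sum.inr j) i = 0 := by
        intro j
        have := congrFun h0 j
        rw [hΦ₂] at this
        simp only [Pi.zero_apply] at this
        rw [this, zero_mul]
      simp only [Finset.univ_unique, Finset.sum_singleton, e2, Finset.sum_const_zero, add_zero,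
        Pi.smul_apply, smul_eq_mul]
      rw [show (default : Unit) = () from rfl, hP'l i]
    have hcardm : Fintype.card (Unit ⊕ Fin m) = Fintype.card ι := by
      rw [Fintype.card_sum, Fintype.card_unit, Fintype.card_fin]
      omega
    obtain ⟨e⟩ : Nonempty (Unit ⊕ Fin m ≃ ι) := ⟨Fintype.equivOfCardEq hcardm⟩
    have hdetD : D.det = 1 := by
      have hd := helper39_det_conj_rect e P P' h1 g
      rw [hconj, hblock, Matrix.det_fromBlocks_one₁₁, ← Matrix.vecMulVec_eq, add_sub_cancel_right,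
        hdet] at hd
      exact hd
    have hnsD : NonScalar D := by
      rintro ⟨a, ha⟩
      obtain ⟨i0, hi0⟩ : ∃ i0, V₂ i0 ≠ 0 := by
        by_contra hcon
        apply hV₂0
        funext i
        by_contra hi
        exact hcon ⟨i, hi⟩
      obtain ⟨j0, hj0⟩ : ∃ j0, Φ₂ j0 ≠ 0 := by
        by_contra hcon
        apply hΦ₂0
        funext i
        by_contra hi
        exact hcon ⟨i, hi⟩
      have hent : ∀ i j : Fin m, ζ * (if i = j then 1 else 0) + ζ * V₂ i * Φ₂ j =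
          a * (if i = j then 1 else 0) := by
        intro i j
        have h := congrFun (congrFun ha i) j
        rw [hD] at h
        simpa only [Matrix.add_apply, Matrix.smul_apply, Matrix.one_apply, smul_eq_mul,
          Matrix.vecMulVec_apply, Pi.smul_apply] using h
      have hzero : ∀ j : Fin m, j ≠ i0 → Φ₂ j = 0 := by
        intro j hj
        have h := hent i0 j
        rw [if_neg (fun h' => hj h'.symm)] at h
        simp only [mul_zero, zero_add] at h
        rcases mul_eq_zero.mp h with h' | h'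
        · exact absurd h' (mul_ne_zero hζ0 hi0)
        · exact h'
      have hj0i0 : j0 = i0 := by
        by_contra hne
        exact hj0 (hzero j0 hne)
      obtain ⟨k, hk⟩ := Fintype.exists_ne_of_one_lt_card (by rw [Fintype.card_fin]; omega) i0
      have hk1 := hent k k
      rw [if_pos rfl, hzero k hk] at hk1
      have hk2 := hent i0 i0
      rw [if_pos rfl] at hk2
      have haz : a = ζ := by linear_combination -hk1
      rw [haz] at hk2
      have hk3 : ζ * V₂ i0 * Φ₂ i0 = 0 := by linear_combination hk2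
      rw [← hj0i0] at hk3
      rcases mul_eq_zero.mp hk3 with h' | h'
      · rw [hj0i0] at h'
        exact absurd h' (mul_ne_zero hζ0 hi0)
      · exact hj0 h'
    have hc₁0 : c₁ ≠ 0 := by
      rw [hc₁]
      exact smul_ne_zero hΦi0 hV₂0
    have hr₁0 : r₁ ≠ 0 := by
      rw [hr₁]
      exact smul_ne_zero hVi0 hΦ₂0
    have hPS : PS D c₁ r₁ :=
      ih hn2 (by rw [Fintype.card_fin, hmn]) D hdetD hnsD ζ (ζ • V₂) Φ₂ hD hζ c₁ r₁ hc₁0 hr₁0
    apply ps_conj P P' h1 h2' g c r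
    rw [hconj, hblock]
    apply border D c₁ r₁ hPS
    · show (fun j => P' (Sum.inl ()) j) ⬝ᵥ c ≠ 0
      have e1 : (fun j => P' (Sum.inl ()) j) = lam := funext hP'l
      rw [e1]
      exact hlc
    · show r ⬝ᵥ (fun i => P i (Sum.inl ())) ≠ 0
      have e1 : (fun i => P i (Sum.inl ())) = x := funext hPx
      rw [e1]
      exact hrx

end Cfsg.Agent.Lib.helper51.Lev
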