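import Mathlib
import Cfsg.Agent.Lib.helper51.LevDefs
import Cfsg.Agent.Lib.helper39.LevR1Bcore
import Cfsg.Agent.Lib.helper51.LevBASE2

/-!
# S2522, piece R1B: scalar plus rank one (exact skeleton statement)
-/

set_option autoImplicit false

namespace Cfsg.Agent.Lib.helper51.Lev

open Matrix

variable {K : Type*} [Field K]

/-- PIECE R1: scalar plus rank one. -/
theorem rankone (hK : 4 ≤ Cardinal.mk K) {ι : Type} [Fintype ι] [DecidableEq ι]
    (h3 : 3 ≤ Fintype.card ι) (g : Matrix ι ι K) (hdet : g.det = 1) (hns : NonScalar g)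
    (ζ : K) (v φ : ι → K) (hg : g = ζ • (1 : Matrix ι ι K) + vecMulVec v φ) (hζ : ζ ≠ 1)
    (c r : ι → K) (hc : c ≠ 0) (hr : r ≠ 0) : PS g c r :=
  helper39_rankone_core hK
    (fun {_} _ _ h2 g hdet hns hinv c r hc hr => base2 hK h2 g hdet hns hinv c r hc hr)
    (Fintype.card ι) (by omega) rfl g hdet hns ζ v φ hg hζ c r hc hr

end Cfsg.Agent.Lib.helper51.Lev
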