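import Mathlib
import Cfsg.Agent.Lib.helper80.PSolv
import Cfsg.Agent.Lib.helper38.HallHigman2
import Cfsg.Agent.Lib.helper37.CoprimeGen
import Cfsg.Agent.Lib.helper13.Count

/-!
# Hall `{p, q}`-subgroups of `p`-solvable groups

Every Sylow `p`-subgroup of a finite `p`-solvable group lies in a `{p, q}`-subgroup of index
prime to `q`.
-/

set_option autoImplicit false

namespace Cfsg.Agent.Lib.helper39

open Subgroup

universe u

/-- The quotient step: a `{p,q}`-subgroup with the two properties in `X ⧸ N₂`, `N₂` having only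
elements of prime order `p` or `q`, pulls back. -/
theorem pq_hall_quot_step {X : Type u} [Group X] [Finite X] (p q : ℕ) [hp : Fact p.Prime]
    [hq : Fact q.Prime] (N₂ : Subgroup X) [N₂.Normal]
    (hN₂ : ∀ y ∈ N₂, ∀ r : ℕ, r.Prime → orderOf y = r → r = p ∨ r = q)
    (R : Sylow p X) (Ybar : Subgroup (X ⧸ N₂))
    (hR : (R : Subgroup X).map (QuotientGroup.mk' N₂) ≤ Ybar)
    (hprimes : ∀ r : ℕ, r.Prime → r ∣ Nat.card Ybar → r = p ∨ r = q)
    (hidx : ¬ q ∣ Ybar.index) :
    ∃ Y : Subgroup X, (R : Subgroup X) ≤ Y ∧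
      (∀ r : ℕ, r.Prime → r ∣ Nat.card Y → r = p ∨ r = q) ∧ ¬ q ∣ Y.index := by
  refine ⟨Ybar.comap (QuotientGroup.mk' N₂), ?_, ?_, ?_⟩
  · exact (Subgroup.le_comap_map _ _).trans (Subgroup.comap_mono hR)
  · intro r hr hdvd
    haveI : Fact r.Prime := ⟨hr⟩
    obtain ⟨y, hy⟩ := exists_prime_orderOf_dvd_card' r hdvd
    by_cases h1 : (QuotientGroup.mk' N₂ (y : X)) = 1
    · have hyN : (y : X) ∈ N₂ := by
        rwa [QuotientGroup.mk'_apply, QuotientGroup.eq_one_iff] at h1
      exact hN₂ _ hyN r hr (by rw [← hy]; exact Subgroup.orderOf_coe y)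
    · have h2 : (QuotientGroup.mk' N₂ (y : X)) ^ r = 1 := by
        rw [← map_pow, ← Subgroup.coe_pow, ← hy, pow_orderOf_eq_one]
        simp
      have h3 : orderOf (QuotientGroup.mk' N₂ (y : X)) = r := orderOf_eq_prime h2 h1
      have h4 : (QuotientGroup.mk' N₂ (y : X)) ∈ Ybar := y.2
      apply hprimes r hr
      have h5 := orderOf_dvd_natCard (⟨_, h4⟩ : Ybar)
      rwa [Subgroup.orderOf_mk, h3] at h5
  · rw [Subgroup.index_comap_of_surjective _ (QuotientGroup.mk'_surjective N₂)]
    exact hidx

/-- **Hall `{p,q}`-subgroups in `p`-solvable groups.** -/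
theorem exists_pq_hall (p q : ℕ) [hp : Fact p.Prime] [hq : Fact q.Prime] :
    ∀ (n : ℕ) (X : Type u) [Group X] [Finite X], Nat.card X = n → Cfsg.IsPSolvable p X →
      ∀ R : Sylow p X, ∃ Y : Subgroup X, (R : Subgroup X) ≤ Y ∧
        (∀ r : ℕ, r.Prime → r ∣ Nat.card Y → r = p ∨ r = q) ∧ ¬ q ∣ Y.index := by
  intro n
  induction n using Nat.strong_induction_on with
  | _ n ih =>
  intro X _ _ hcard hsol R
  by_cases hX : Subsingleton X
  · refine ⟨⊤, le_top, ?_, ?_⟩
    · intro r hr hdvd
      have h1 : Nat.card (⊤ : Subgroup X) = 1 := by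
        rw [Subgroup.card_top]
        exact Nat.card_eq_one_iff_unique.mpr ⟨hX, ⟨1⟩⟩
      rw [h1] at hdvd
      exact absurd hdvd hr.not_dvd_one
    · rw [Subgroup.index_top]
      exact hq.out.not_dvd_one
  · haveI : Nontrivial X := not_subsingleton_iff_nontrivial.mp hX
    have key : ∀ N₂ : Subgroup X, N₂.Normal → N₂ ≠ ⊥ →
        (∀ y ∈ N₂, ∀ r : ℕ, r.Prime → orderOf y = r → r = p ∨ r = q) →
        ∃ Y : Subgroup X, (R : Subgroup X) ≤ Y ∧
          (∀ r : ℕ, r.Prime → r ∣ Nat.card Y → r = p ∨ r = q) ∧ ¬ q ∣ Y.index := by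
      intro N₂ hN₂n hN₂ne hN₂o
      haveI := hN₂n
      have hlt : Nat.card (X ⧸ N₂) < n := by
        rw [← hcard, ← Subgroup.index_eq_card]
        have h1 := N₂.card_mul_index
        have h2 : 1 < Nat.card N₂ := (Subgroup.one_lt_card_iff_ne_bot N₂).mpr hN₂ne
        have h3 : 0 < N₂.index := Nat.pos_of_ne_zero Subgroup.index_ne_zero_of_finite
        nlinarith
      obtain ⟨Ybar, h1, h2, h3⟩ := ih _ hlt (X ⧸ N₂) rfl
        (Cfsg.Agent.Lib.helper38.isPSolvable_quotient N₂ hsol)
        (R.mapSurjective (QuotientGroup.mk'_surjective N₂))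
      exact pq_hall_quot_step p q N₂ hN₂o R Ybar h1 h2 h3
    obtain ⟨N₁, hN₁n, hN₁ne, hN₁⟩ := Cfsg.Agent.Lib.helper80.exists_normal_of_isPSolvable p hsol
    rcases hN₁ with hN₁p | hN₁c
    · apply key N₁ hN₁n hN₁ne
      intro y hy r hr hyo
      left
      obtain ⟨k, hk⟩ := hN₁p ⟨y, hy⟩
      have h1 : orderOf y ∣ p ^ k :=
        orderOf_dvd_of_pow_eq_one (by simpa using congrArg Subtype.val hk)
      rw [hyo] at h1
      exact (Nat.prime_dvd_prime_iff_eq hr hp.out).mp (hr.dvd_of_dvd_pow h1)
    · haveI := hN₁n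
      have hN₁p' : ¬ p ∣ Nat.card N₁ := fun h =>
        hp.out.one_lt.ne' (Nat.eq_one_of_dvd_coprimes hN₁c h (dvd_refl p))
      obtain ⟨Q₁, hQ₁N, hQ₁q, hRQ₁, hQ₁card⟩ :=
        Cfsg.Agent.Lib.helper37.exists_invariant_sylow p q (R : Subgroup X) N₁ R.isPGroup' hN₁p'
          (by rw [Subgroup.normalizer_eq_top_iff.mpr hN₁n]; exact le_top)
      have hN₁0 : Nat.card N₁ ≠ 0 := Nat.card_pos.ne'
      by_cases hM : normalizer (Q₁ : Set X) = ⊤
      · by_cases hQ₁ : Q₁ = ⊥
        · -- `q ∤ |N₁|`: Schur–Zassenhaus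
          have hqN₁ : ¬ q ∣ Nat.card N₁ := by
            intro hdvd
            have h1 : Nat.card Q₁ = 1 := by rw [hQ₁]; exact Subgroup.card_bot
            rw [h1] at hQ₁card
            have h2 : (Nat.card N₁).factorization q = 0 := by
              by_contra h0
              have : 1 < q ^ (Nat.card N₁).factorization q :=
                Nat.one_lt_pow h0 hq.out.one_lt
              omega
            rcases (Nat.factorization_eq_zero_iff _ _).mp h2 with h3 | h3 | h3
            · exact h3 hq.out
            · exact h3 hdvd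
            · exact hN₁0 h3
          have hlt : Nat.card (X ⧸ N₁) < n := by
            rw [← hcard, ← Subgroup.index_eq_card]
            have h1 := N₁.card_mul_index
            have h2 : 1 < Nat.card N₁ := (Subgroup.one_lt_card_iff_ne_bot N₁).mpr hN₁ne
            have h3 : 0 < N₁.index := Nat.pos_of_ne_zero Subgroup.index_ne_zero_of_finite
            nlinarith
          obtain ⟨Ybar, hb1, hb2, hb3⟩ := ih _ hlt (X ⧸ N₁) rfl
            (Cfsg.Agent.Lib.helper38.isPSolvable_quotient N₁ hsol)
            (R.mapSurjective (QuotientGroup.mk'_surjective N₁))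
          set Y₁ : Subgroup X := Ybar.comap (QuotientGroup.mk' N₁) with hY₁
          have hN₁Y₁ : N₁ ≤ Y₁ := by
            intro x hx
            rw [hY₁, mem_comap, QuotientGroup.mk'_apply, (QuotientGroup.eq_one_iff x).mpr hx]
            exact Ybar.one_mem
          have hRY₁ : (R : Subgroup X) ≤ Y₁ :=
            (Subgroup.le_comap_map _ _).trans (Subgroup.comap_mono hb1)
          have hprimes' : ∀ r : ℕ, r.Prime → r ∣ (N₁.subgroupOf Y₁).index → r = p ∨ r = q := by
            intro r hr hdvd
            haveI : Fact r.Prime := ⟨hr⟩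
            rw [Subgroup.index_eq_card] at hdvd
            obtain ⟨z, hz⟩ := exists_prime_orderOf_dvd_card' r hdvd
            obtain ⟨z₀, rfl⟩ := QuotientGroup.mk'_surjective (N₁.subgroupOf Y₁) z
            have hz1 : (QuotientGroup.mk' (N₁.subgroupOf Y₁) z₀) ≠ 1 := by
              intro h
              rw [h, orderOf_one] at hz
              exact hr.one_lt.ne hz
            have hz2 : (QuotientGroup.mk' (N₁.subgroupOf Y₁) z₀) ^ r = 1 := by
              rw [← hz]; exact pow_orderOf_eq_one _
            have h1 : (QuotientGroup.mk' N₁ (z₀ : X)) ≠ 1 := by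
              intro h
              apply hz1
              rw [QuotientGroup.mk'_apply, QuotientGroup.eq_one_iff] at h ⊢
              exact mem_subgroupOf.mpr h
            have h2 : (QuotientGroup.mk' N₁ (z₀ : X)) ^ r = 1 := by
              rw [← map_pow, QuotientGroup.mk'_apply, QuotientGroup.eq_one_iff]
              rw [← map_pow, QuotientGroup.mk'_apply, QuotientGroup.eq_one_iff] at hz2
              simpa [mem_subgroupOf] using hz2
            have h3 : orderOf (QuotientGroup.mk' N₁ (z₀ : X)) = r := orderOf_eq_prime h2 h1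
            have h4 : (QuotientGroup.mk' N₁ (z₀ : X)) ∈ Ybar := z₀.2
            apply hb2 r hr
            have h5 := orderOf_dvd_natCard (⟨_, h4⟩ : Ybar)
            rwa [Subgroup.orderOf_mk, h3] at h5
          have hcardN₁' : Nat.card (N₁.subgroupOf Y₁) = Nat.card N₁ :=
            Nat.card_congr (Subgroup.subgroupOfEquivOfLe hN₁Y₁).toEquiv
          have hcop : Nat.Coprime (Nat.card (N₁.subgroupOf Y₁)) (N₁.subgroupOf Y₁).index := by
            apply Nat.coprime_of_dvd
            intro r hr h1 h2
            rw [hcardN₁'] at h1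
            rcases hprimes' r hr h2 with rfl | rfl
            · exact hN₁p' h1
            · exact hqN₁ h1
          obtain ⟨Y₂, hY₂⟩ := Subgroup.exists_right_complement'_of_coprime hcop
          have hY₂card : (N₁.subgroupOf Y₁).index = Nat.card Y₂ := hY₂.symm.index_eq_card
          have hY₂idx : Y₂.index = Nat.card N₁ := by rw [hY₂.index_eq_card, hcardN₁']
          obtain ⟨P₀⟩ := (inferInstance : Nonempty (Sylow p Y₂))
          have hP₁p : IsPGroup p ((P₀ : Subgroup Y₂).map Y₂.subtype) := P₀.2.map _
          have hP₁i : ¬ p ∣ ((P₀ : Subgroup Y₂).map Y₂.subtype).index := by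
            rw [Subgroup.index_map_subtype, hY₂idx]
            exact fun h => (hp.out.dvd_mul.mp h).elim P₀.not_dvd_index hN₁p'
          obtain ⟨g, hg⟩ := MulAction.exists_smul_eq ↥Y₁ (hP₁p.toSylow hP₁i) (R.subtype hRY₁)
          refine ⟨(Y₂.map (MulAut.conj g).toMonoidHom).map Y₁.subtype, ?_, ?_, ?_⟩
          · intro x hx
            have h1 : (⟨x, hRY₁ hx⟩ : Y₁) ∈ ((R.subtype hRY₁ : Sylow p Y₁) : Subgroup Y₁) := by
              rw [Sylow.coe_subtype, mem_subgroupOf]; exact hx
            rw [← hg, Sylow.coe_subgroup_smul, Subgroup.mem_smul_pointwise_iff_exists] at h1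
            obtain ⟨s, hs, hs2⟩ := h1
            have hs' : s ∈ (P₀ : Subgroup Y₂).map Y₂.subtype := hs
            obtain ⟨t, _, rfl⟩ := hs'
            refine ⟨⟨x, hRY₁ hx⟩, ⟨(t : Y₁), t.2, ?_⟩, rfl⟩
            rw [← hs2]
            rfl
          · intro r hr hdvd
            rw [Subgroup.card_map_of_injective Y₁.subtype_injective,
              Subgroup.card_map_of_injective (MulAut.conj g).injective, ← hY₂card] at hdvd
            exact hprimes' r hr hdvd
          · rw [Subgroup.index_map_subtype]
            have h1 : (Y₂.map (MulAut.conj g).toMonoidHom).index = Y₂.index :=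
              Subgroup.index_map_equiv Y₂ (MulAut.conj g)
            rw [h1, hY₂idx, hY₁, Subgroup.index_comap_of_surjective _
              (QuotientGroup.mk'_surjective N₁)]
            exact fun h => (hq.out.dvd_mul.mp h).elim hqN₁ hb3
        · apply key Q₁ (Subgroup.normalizer_eq_top_iff.mp hM) hQ₁
          intro y hy r hr hyo
          right
          obtain ⟨k, hk⟩ := hQ₁q ⟨y, hy⟩
          have h1 : orderOf y ∣ q ^ k :=
            orderOf_dvd_of_pow_eq_one (by simpa using congrArg Subtype.val hk)
          rw [hyo] at h1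
          exact (Nat.prime_dvd_prime_iff_eq hr hq.out).mp (hr.dvd_of_dvd_pow h1)
      · -- induction inside the normalizer of `Q₁`
        set M : Subgroup X := normalizer (Q₁ : Set X) with hMdef
        have hRM : (R : Subgroup X) ≤ M := hRQ₁
        have hMlt : Nat.card M < n := by
          rw [← hcard]
          refine lt_of_le_of_ne (Subgroup.card_le_card_group M) ?_
          intro h
          exact hM (Subgroup.eq_top_of_card_eq M h)
        have hMidx : ¬ q ∣ M.index := by
          intro hdvd
          have hQ₁' : Nat.card (Q₁.subgroupOf N₁) = q ^ (Nat.card N₁).factorization q := by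
            rw [← hQ₁card]
            exact Nat.card_congr (Subgroup.subgroupOfEquivOfLe hQ₁N).toEquiv
          have hsup : normalizer ((((Sylow.ofCard (Q₁.subgroupOf N₁) hQ₁' : Sylow q N₁) :
              Subgroup N₁).map N₁.subtype : Subgroup X) : Set X) ⊔ N₁ = ⊤ :=
            Sylow.normalizer_sup_eq_top (Sylow.ofCard (Q₁.subgroupOf N₁) hQ₁')
          have hmap : ((Sylow.ofCard (Q₁.subgroupOf N₁) hQ₁' : Sylow q N₁) :
              Subgroup N₁).map N₁.subtype = Q₁ := by
            rw [Sylow.coe_ofCard, Subgroup.subgroupOf_map_subtype, inf_of_le_left hQ₁N]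
          rw [hmap] at hsup
          have h5 := Cfsg.Agent.Lib.helper13.card_sup_mul_card_inf M N₁
            (by rw [Subgroup.normalizer_eq_top_iff.mpr hN₁n]; exact le_top)
          rw [hsup, Subgroup.card_top] at h5
          have h6 := M.card_mul_index
          have hMpos : 0 < Nat.card M := Nat.card_pos
          have h7 : M.index * Nat.card (M ⊓ N₁ : Subgroup X) = Nat.card N₁ := by
            have : Nat.card M * (M.index * Nat.card (M ⊓ N₁ : Subgroup X)) =
                Nat.card M * Nat.card N₁ := by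
              rw [← mul_assoc, h6, h5]
            exact Nat.eq_of_mul_eq_mul_left hMpos this
          have h8 : Nat.card Q₁ ∣ Nat.card (M ⊓ N₁ : Subgroup X) :=
            Subgroup.card_dvd_of_le (le_inf Subgroup.le_normalizer hQ₁N)
          have h9 : q ^ ((Nat.card N₁).factorization q + 1) ∣
              M.index * Nat.card (M ⊓ N₁ : Subgroup X) := by
            rw [pow_succ, mul_comm, ← hQ₁card]
            exact mul_dvd_mul hdvd h8
          rw [h7] at h9
          exact Nat.pow_succ_factorization_not_dvd hN₁0 hq.out h9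
        obtain ⟨YM, h1, h2, h3⟩ := ih _ hMlt ↥M rfl
          (Cfsg.Agent.Lib.helper38.isPSolvable_subgroup M hsol) (R.subtype hRM)
        refine ⟨YM.map M.subtype, ?_, ?_, ?_⟩
        · intro x hx
          refine ⟨⟨x, hRM hx⟩, h1 ?_, rfl⟩
          rw [Sylow.coe_subtype, mem_subgroupOf]
          exact hx
        · intro r hr hdvd
          rw [Subgroup.card_map_of_injective M.subtype_injective] at hdvd
          exact h2 r hr hdvd
        · rw [Subgroup.index_map_subtype]
          exact fun h => (hq.out.dvd_mul.mp h).elim h3 hMidx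

end Cfsg.Agent.Lib.helper39
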