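import Mathlib

/-!
# Elements of prime power order: powers, lifts, and divisibility of automizer indices
-/

set_option autoImplicit false

namespace Cfsg.Agent.Lib.helper39

open Subgroup

/-- Every element of a finite group has a power with exponent prime to `q` that is a `q`-element. -/
theorem exists_qpart {Y : Type*} [Group Y] [Finite Y] (q : ℕ) [hq : Fact q.Prime] (y : Y) :
    ∃ m k : ℕ, m.Coprime q ∧ (y ^ m) ^ q ^ k = 1 := by
  have h0 : orderOf y ≠ 0 := (orderOf_pos y).ne'
  refine ⟨ordCompl[q] (orderOf y), (orderOf y).factorization q, ?_, ?_⟩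
  · exact (Nat.coprime_ordCompl hq.out h0).symm
  · rw [← pow_mul, mul_comm, Nat.ordProj_mul_ordCompl_eq_self]
    exact pow_orderOf_eq_one y

/-- A `q`-element lies in every subgroup containing one of its powers with exponent prime to `q`. -/
theorem mem_of_pow_mem_of_coprime {Y : Type*} [Group Y] {q : ℕ} {x : Y} {k m : ℕ}
    (hx : x ^ q ^ k = 1) (hm : m.Coprime q) (S : Subgroup Y) (h : x ^ m ∈ S) : x ∈ S := by
  have hdvd : orderOf x ∣ q ^ k := orderOf_dvd_of_pow_eq_one hx
  have hcop : m.Coprime (orderOf x) := (hm.pow_right k).coprime_dvd_right hdvd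
  obtain ⟨u, hu⟩ := exists_pow_eq_self_of_coprime hcop
  rw [← hu]
  exact S.pow_mem h u

/-- A `q`-element of `N_G(K)` outside `C_G(K)` shows that `q` divides `|N_G(K) : C_G(K)|`. -/
theorem dvd_index_of_qelt {G : Type*} [Group G] [Finite G] {q : ℕ} [hq : Fact q.Prime]
    (K : Subgroup G) {y : G} (hyN : y ∈ normalizer (K : Set G))
    (hyC : y ∉ centralizer (K : Set G)) {k : ℕ} (hyq : y ^ q ^ k = 1) :
    q ∣ ((centralizer (K : Set G)).subgroupOf (normalizer (K : Set G))).index := by
  set C' := (centralizer (K : Set G)).subgroupOf (normalizer (K : Set G)) with hC'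
  have hne : (QuotientGroup.mk' C' ⟨y, hyN⟩) ≠ 1 := by
    intro h
    rw [QuotientGroup.mk'_apply, QuotientGroup.eq_one_iff] at h
    exact hyC (by simpa [hC', mem_subgroupOf] using h)
  have hpow : (QuotientGroup.mk' C' ⟨y, hyN⟩) ^ q ^ k = 1 := by
    rw [← map_pow]
    have : (⟨y, hyN⟩ : normalizer (K : Set G)) ^ q ^ k = 1 := by
      apply Subtype.ext
      simpa using hyq
    rw [this, map_one]
  have hdvd : orderOf (QuotientGroup.mk' C' ⟨y, hyN⟩) ∣ q ^ k := orderOf_dvd_of_pow_eq_one hpow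
  have hne1 : orderOf (QuotientGroup.mk' C' ⟨y, hyN⟩) ≠ 1 := by
    rw [Ne, orderOf_eq_one_iff]; exact hne
  obtain ⟨j, hj, hjeq⟩ := (Nat.dvd_prime_pow hq.out).mp hdvd
  have hj0 : j ≠ 0 := by
    rintro rfl
    exact hne1 (by simpa using hjeq)
  have h1 : q ∣ orderOf (QuotientGroup.mk' C' ⟨y, hyN⟩) := by
    rw [hjeq]; exact dvd_pow_self q hj0
  rw [Subgroup.index_eq_card]
  exact h1.trans (orderOf_dvd_natCard _)

/-- If `q` divides `|N_G(K) : C_G(K)|` there is a `q`-element of `N_G(K)` outside `C_G(K)`. -/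
theorem exists_qelt_of_dvd_index {G : Type*} [Group G] [Finite G] {q : ℕ} [hq : Fact q.Prime]
    (K : Subgroup G)
    (h : q ∣ ((centralizer (K : Set G)).subgroupOf (normalizer (K : Set G))).index) :
    ∃ y : G, y ∈ normalizer (K : Set G) ∧ y ∉ centralizer (K : Set G) ∧ ∃ k : ℕ, y ^ q ^ k = 1 := by
  set C' := (centralizer (K : Set G)).subgroupOf (normalizer (K : Set G)) with hC'
  rw [Subgroup.index_eq_card] at h
  obtain ⟨z, hz⟩ := exists_prime_orderOf_dvd_card' q h
  obtain ⟨y₀, rfl⟩ := QuotientGroup.mk'_surjective C' z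
  obtain ⟨m, k, hm, hk⟩ := exists_qpart q y₀
  refine ⟨((y₀ ^ m : normalizer (K : Set G)) : G), (y₀ ^ m).2, ?_, k, ?_⟩
  · intro hc
    have h1 : (QuotientGroup.mk' C' y₀) ^ m = 1 := by
      rw [← map_pow, QuotientGroup.mk'_apply, QuotientGroup.eq_one_iff]
      simpa [hC', mem_subgroupOf] using hc
    have h2 : (QuotientGroup.mk' C' y₀) ^ q ^ 1 = 1 := by
      rw [pow_one, ← hz]; exact pow_orderOf_eq_one _
    have h3 := mem_of_pow_mem_of_coprime h2 hm (⊥ : Subgroup _) (by rw [h1]; exact Subgroup.one_mem _)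
    rw [Subgroup.mem_bot] at h3
    rw [h3, orderOf_one] at hz
    exact hq.out.one_lt.ne hz
  · have := congrArg (Subtype.val) hk
    simpa using this

end Cfsg.Agent.Lib.helper39
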