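import Mathlib
import Cfsg.Prelude.Def_PLocal
import Cfsg.Agent.Lib.helper40.Cores
import Cfsg.Agent.Lib.helper55.Basic
import Cfsg.Agent.Lib.helper13.Thompson
import Cfsg.Agent.Lib.helper1.Coprime
import Cfsg.Agent.Lib.helper39.QElt
import Cfsg.Agent.Lib.helper39.CharPull

/-!
# Tools for characteristic subgroups with a nontrivial `q`-automizer

`QActs q K`: some `q`-element of `N(K)` does not centralize `K`.
-/

set_option autoImplicit false

namespace Cfsg.Agent.Lib.helper39

open Subgroup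

universe u

/-- Some `q`-element of the normalizer of `K` does not centralize `K`. -/
def QActs (q : ℕ) {Y : Type*} [Group Y] (K : Subgroup Y) : Prop :=
  ∃ y : Y, y ∈ normalizer (K : Set Y) ∧ y ∉ centralizer (K : Set Y) ∧ ∃ k : ℕ, y ^ q ^ k = 1

theorem sl2_two_order_three :
    ∃ s : Matrix.SpecialLinearGroup (Fin 2) (ZMod 2), orderOf s = 3 := by
  refine ⟨⟨!![0, 1; 1, 1], by decide⟩, ?_⟩
  have : Fact (Nat.Prime 3) := ⟨by norm_num⟩
  apply orderOf_eq_prime
  · decide
  · intro h
    have h1 := congrArg (fun s : Matrix.SpecialLinearGroup (Fin 2) (ZMod 2) => s.1 0 1) h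
    revert h1
    decide

theorem sl2_three_order_two :
    ∃ s : Matrix.SpecialLinearGroup (Fin 2) (ZMod 3), orderOf s = 2 := by
  refine ⟨⟨!![2, 0; 0, 2], by decide⟩, ?_⟩
  have : Fact (Nat.Prime 2) := ⟨by norm_num⟩
  apply orderOf_eq_prime
  · decide
  · intro h
    have h1 := congrArg (fun s : Matrix.SpecialLinearGroup (Fin 2) (ZMod 3) => s.1 0 0) h
    revert h1
    decide

/-- In a `{p,q}`-group `A`, a subgroup of index prime to `p` and to `q` is everything. -/
theorem le_of_relIndex_not_dvd {Y : Type*} [Group Y] [Finite Y] (p q : ℕ) (A D : Subgroup Y)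
    (hprimes : ∀ r : ℕ, r.Prime → r ∣ Nat.card A → r = p ∨ r = q)
    (hp : ¬ p ∣ D.relIndex A) (hq : ¬ q ∣ D.relIndex A) : A ≤ D := by
  rw [← Subgroup.relIndex_eq_one]
  by_contra hne
  obtain ⟨r, hr, hrd⟩ := Nat.exists_prime_and_dvd hne
  rcases hprimes r hr (hrd.trans (Subgroup.relIndex_dvd_card D A)) with rfl | rfl
  · exact hp hrd
  · exact hq hrd

/-- `Ω₁(Z(R))`, as a subgroup of `R`, is characteristic. -/
theorem omegaOne_center_char {Y : Type*} [Group Y] (p : ℕ) (R : Subgroup Y) :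
    ((Cfsg.omegaOne p (R ⊓ centralizer (R : Set Y))).subgroupOf R).Characteristic := by
  have h1 : (Cfsg.omegaOne p (R ⊓ centralizer (R : Set Y))).subgroupOf R =
      Subgroup.closure {x : ↥R | x ∈ Subgroup.center ↥R ∧ x ^ p = 1} := by
    have h2 : {x : Y | x ∈ R ⊓ centralizer (R : Set Y) ∧ x ^ p = 1} =
        R.subtype '' {x : ↥R | x ∈ Subgroup.center ↥R ∧ x ^ p = 1} := by
      ext x
      constructor
      · rintro ⟨⟨hxR, hxC⟩, hxp⟩
        refine ⟨⟨x, hxR⟩, ⟨?_, ?_⟩, rfl⟩
        · rw [Subgroup.mem_center_iff]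
          intro g
          apply Subtype.ext
          exact hxC g g.2
        · apply Subtype.ext
          simpa using hxp
      · rintro ⟨x', ⟨hx'c, hx'p⟩, rfl⟩
        refine ⟨⟨x'.2, ?_⟩, ?_⟩
        · intro g hg
          rw [Subgroup.mem_center_iff] at hx'c
          have := congrArg Subtype.val (hx'c ⟨g, hg⟩)
          simpa using this
        · have := congrArg Subtype.val hx'p
          simpa using this
    unfold Cfsg.omegaOne
    rw [h2, ← MonoidHom.map_closure]
    exact Subgroup.comap_map_eq_self_of_injective R.subtype_injective _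
  rw [h1, Subgroup.characteristic_iff_le_comap]
  intro φ
  rw [Subgroup.closure_le]
  rintro x ⟨hxc, hxp⟩
  apply Subgroup.subset_closure
  refine ⟨?_, ?_⟩
  · rw [Subgroup.mem_center_iff] at hxc ⊢
    intro g
    have h3 := hxc (φ.symm g)
    have h4 := congrArg φ h3
    simpa using h4
  · change φ x ^ p = 1
    rw [← map_pow, hxp, map_one]

/-- A group of characteristic `p` modulo a central `p`-subgroup still has characteristic `p`. -/
theorem charp_quotient {Y : Type*} [Group Y] [Finite Y] (p : ℕ) [hp : Fact p.Prime]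
    (W : Subgroup Y) [W.Normal] (hWc : W ≤ Subgroup.center Y) (hWp : IsPGroup p W)
    (hchar : centralizer (Cfsg.pCore p Y : Set Y) ≤ Cfsg.pCore p Y) :
    centralizer (Cfsg.pCore p (Y ⧸ W) : Set (Y ⧸ W)) ≤ Cfsg.pCore p (Y ⧸ W) := by
  have hOn : (Cfsg.pCore p Y).Normal := Cfsg.Agent.Lib.helper40.pCore_normal' p Y
  have hOp : IsPGroup p (Cfsg.pCore p Y) := Cfsg.Agent.Lib.helper40.pCore_isPGroup p Y
  have hObn : (Cfsg.pCore p (Y ⧸ W)).Normal := Cfsg.Agent.Lib.helper40.pCore_normal' p _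
  have hOmap : (Cfsg.pCore p Y).map (QuotientGroup.mk' W) ≤ Cfsg.pCore p (Y ⧸ W) := by
    apply Cfsg.Agent.Lib.helper40.le_pCore
    · exact hOn.map _ (QuotientGroup.mk'_surjective W)
    · exact hOp.map _
  have hDn : ((centralizer (Cfsg.pCore p (Y ⧸ W) : Set (Y ⧸ W))).comap
      (QuotientGroup.mk' W)).Normal := Subgroup.Normal.comap inferInstance _
  have hDp : IsPGroup p ((centralizer (Cfsg.pCore p (Y ⧸ W) : Set (Y ⧸ W))).comap
      (QuotientGroup.mk' W)) := by
    apply Cfsg.Agent.Lib.helper55.isPGroup_of_coprime_trivial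
    intro d hd hcop
    have hdc : d ∈ centralizer (Cfsg.pCore p Y : Set Y) := by
      intro t ht
      -- `e = d⁻¹ (t⁻¹ d t)` lies in `W`
      have hπ : QuotientGroup.mk' W t * QuotientGroup.mk' W d =
          QuotientGroup.mk' W d * QuotientGroup.mk' W t :=
        hd _ (hOmap (Subgroup.mem_map_of_mem _ ht))
      have heW : d⁻¹ * (t⁻¹ * d * t) ∈ W := by
        rw [← QuotientGroup.eq_one_iff, ← QuotientGroup.mk'_apply]
        simp only [map_mul, map_inv]
        rw [mul_assoc _ ((QuotientGroup.mk' W) d) _, ← hπ]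
        simp
      have hec : ∀ g : Y, g * (d⁻¹ * (t⁻¹ * d * t)) = (d⁻¹ * (t⁻¹ * d * t)) * g :=
        fun g => (Subgroup.mem_center_iff.mp (hWc heW)) g
      have h1 : t⁻¹ * d * t = d * (d⁻¹ * (t⁻¹ * d * t)) := by group
      have h2 : (t⁻¹ * d * t) ^ orderOf d = 1 := by
        have : t⁻¹ * d * t = t⁻¹ * d * (t⁻¹)⁻¹ := by simp
        rw [this, conj_pow, pow_orderOf_eq_one]
        simp
      have hcomm : Commute d (d⁻¹ * (t⁻¹ * d * t)) := hec d
      rw [h1, hcomm.mul_pow, pow_orderOf_eq_one, one_mul] at h2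
      obtain ⟨j, hj⟩ := hWp ⟨_, heW⟩
      have hj' : (d⁻¹ * (t⁻¹ * d * t)) ^ p ^ j = 1 := by
        simpa using congrArg Subtype.val hj
      have hcop2 : (orderOf (d⁻¹ * (t⁻¹ * d * t))).Coprime p :=
        Nat.Coprime.coprime_dvd_left (orderOf_dvd_of_pow_eq_one h2) hcop
      have he1 := Cfsg.Agent.Lib.helper40.eq_one_of_pow_eq_one_of_coprime hj' hcop2
      have h3 : t⁻¹ * d * t = d := by rw [h1, he1, mul_one]
      calc t * d = t * (t⁻¹ * d * t) := by rw [h3]
        _ = d * t := by group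
    have hdO := hchar hdc
    obtain ⟨j, hj⟩ := hOp ⟨d, hdO⟩
    have hj' : d ^ p ^ j = 1 := by simpa using congrArg Subtype.val hj
    exact Cfsg.Agent.Lib.helper40.eq_one_of_pow_eq_one_of_coprime hj' hcop
  have hDO := Cfsg.Agent.Lib.helper40.le_pCore _ hDn hDp
  intro z hz
  obtain ⟨d, rfl⟩ := QuotientGroup.mk'_surjective W z
  exact hOmap (Subgroup.mem_map_of_mem _ (hDO hz))

/-- `QActs` lifts to the full preimage under a surjection. -/
theorem qacts_comap {Y Z : Type*} [Group Y] [Finite Y] [Group Z] (q : ℕ) [hq : Fact q.Prime]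
    (f : Y →* Z) (hf : Function.Surjective f) (K : Subgroup Z) (h : QActs q K) :
    QActs q (K.comap f) := by
  obtain ⟨z, hzN, hzC, k, hzq⟩ := h
  obtain ⟨y₀, rfl⟩ := hf z
  obtain ⟨m, k', hm, hk'⟩ := exists_qpart q y₀
  refine ⟨y₀ ^ m, ?_, ?_, k', hk'⟩
  · apply Subgroup.le_normalizer_comap f
    rw [mem_comap, map_pow]
    exact Subgroup.pow_mem _ hzN m
  · intro hc
    apply hzC
    apply mem_of_pow_mem_of_coprime hzq hm
    rw [← map_pow]
    intro x hx
    obtain ⟨x₀, rfl⟩ := hf x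
    have := hc x₀ hx
    rw [← map_mul, ← map_mul, this]

end Cfsg.Agent.Lib.helper39
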