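import Mathlib
import Cfsg.Agent.S0618
import Cfsg.Agent.Lib.helper38.HallHigman
import Cfsg.Agent.Lib.helper38.HallHigman2
import Cfsg.Agent.Lib.helper21.SylowFrattini
import Cfsg.Agent.Lib.helper39.TFCharA

/-!
# A characteristic subgroup of a Sylow `p`-subgroup with a nontrivial `q`-automizer

For a `p`-solvable `{p,q}`-group `Y` with `{p,q} ≠ {2,3}` in which some `q`-element does not
centralize `O_p(Y)`, some characteristic subgroup `K` of a Sylow `p`-subgroup `R` is normalized but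
not centralized by a `q`-element.  The proof uses the Thompson factorization (available since no
section `SL₂(p)` exists) and induction on `Y / Ω₁(Z(R))`.
-/

set_option autoImplicit false

namespace Cfsg.Agent.Lib.helper39

open Subgroup

universe u

/-- Thompson factorization in `p`-solvable `{p,q}`-groups with `{p,q} ≠ {2,3}`. -/
theorem thompsonFactorizable_of_pq {Y : Type*} [Group Y] [Finite Y] (p q : ℕ)
    [hp : Fact p.Prime] [hq : Fact q.Prime]
    (h23 : ¬ ((p = 2 ∧ q = 3) ∨ (p = 3 ∧ q = 2)))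
    (hpr : ∀ r : ℕ, r.Prime → r ∣ Nat.card Y → r = p ∨ r = q)
    (hsol : Cfsg.IsPSolvable p Y) (hO : Cfsg.pPrimeCore p Y = ⊥) :
    Cfsg.IsThompsonFactorizable p Y := by
  by_contra hnf
  obtain ⟨hp23, E, -, -, -, hn, ⟨e⟩⟩ := Cfsg.Agent.S0618.result hsol hO hnf
  have hdvd : ∀ (s : Matrix.SpecialLinearGroup (Fin 2) (ZMod p)), orderOf s ∣ Nat.card Y := by
    intro s
    have h1 : orderOf (e.symm s) = orderOf s := MulEquiv.orderOf_eq e.symm s
    rw [← h1]
    refine (_root_.orderOf_dvd_natCard _).trans ?_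
    rw [← Subgroup.index_eq_card]
    exact (Subgroup.index_dvd_card _).trans (Subgroup.card_subgroup_dvd_card E)
  rcases hp23 with h2 | h3
  · subst h2
    obtain ⟨s, hs⟩ := sl2_two_order_three
    have h := hdvd s
    rw [hs] at h
    rcases hpr 3 (by norm_num) h with h' | h'
    · omega
    · exact h23 (Or.inl ⟨rfl, h'.symm⟩)
  · subst h3
    obtain ⟨s, hs⟩ := sl2_three_order_two
    have h := hdvd s
    rw [hs] at h
    rcases hpr 2 (by norm_num) h with h' | h'
    · omega
    · exact h23 (Or.inr ⟨rfl, h'.symm⟩)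

/-- `O_{p'}(Y)` centralizes `O_p(Y)`. -/
theorem pPrimeCore_le_centralizer_pCore {Y : Type*} [Group Y] [Finite Y] (p : ℕ)
    [hp : Fact p.Prime] : Cfsg.pPrimeCore p Y ≤ centralizer (Cfsg.pCore p Y : Set Y) := by
  have hOn : (Cfsg.pCore p Y).Normal := Cfsg.Agent.Lib.helper40.pCore_normal' p Y
  have hOp : IsPGroup p (Cfsg.pCore p Y) := Cfsg.Agent.Lib.helper40.pCore_isPGroup p Y
  have hLn : (Cfsg.pPrimeCore p Y).Normal := Cfsg.Agent.Lib.helper40.pPrimeCore_normal' p Y
  have hLc : (Nat.card (Cfsg.pPrimeCore p Y)).Coprime p :=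
    Cfsg.Agent.Lib.helper40.pPrimeCore_card_coprime p Y
  have hdisj : Cfsg.pPrimeCore p Y ⊓ Cfsg.pCore p Y = ⊥ := by
    apply Disjoint.eq_bot
    apply Subgroup.disjoint_of_coprime_natCard
    obtain ⟨k, hk⟩ := IsPGroup.iff_card.mp hOp
    rw [hk]
    exact Nat.Coprime.pow_right k hLc
  intro x hx t ht
  have h1 : x * t * x⁻¹ * t⁻¹ ∈ Cfsg.pPrimeCore p Y ⊓ Cfsg.pCore p Y := by
    refine ⟨?_, ?_⟩
    · have : x * t * x⁻¹ * t⁻¹ = x * (t * x⁻¹ * t⁻¹) := by group
      rw [this]
      exact Subgroup.mul_mem _ hx (hLn.conj_mem _ (Subgroup.inv_mem _ hx) t)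
    · exact Subgroup.mul_mem _ (hOn.conj_mem _ ht x) (Subgroup.inv_mem _ ht)
  rw [hdisj, Subgroup.mem_bot] at h1
  calc t * x = (x * t * x⁻¹ * t⁻¹)⁻¹ * (x * t) := by group
    _ = x * t := by rw [h1]; simp

/-- **Characteristic `p` case.** -/
theorem exists_char_qacts_charp (p q : ℕ) [hp : Fact p.Prime] [hq : Fact q.Prime] (hpq : p ≠ q)
    (h23 : ¬ ((p = 2 ∧ q = 3) ∨ (p = 3 ∧ q = 2))) :
    ∀ (n : ℕ) (Y : Type u) [Group Y] [Finite Y], Nat.card Y = n →
      (∀ r : ℕ, r.Prime → r ∣ Nat.card Y → r = p ∨ r = q) → Cfsg.IsPSolvable p Y →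
      centralizer (Cfsg.pCore p Y : Set Y) ≤ Cfsg.pCore p Y → q ∣ Nat.card Y →
      ∀ R : Sylow p Y, ∃ K : Subgroup Y, K ≤ (R : Subgroup Y) ∧
        (K.subgroupOf (R : Subgroup Y)).Characteristic ∧ QActs q K := by
  intro n
  induction n using Nat.strong_induction_on with
  | _ n ih =>
  intro Y _ _ hcard hpr hsol hchar hqY R
  have hOn : (Cfsg.pCore p Y).Normal := Cfsg.Agent.Lib.helper40.pCore_normal' p Y
  have hOp : IsPGroup p (Cfsg.pCore p Y) := Cfsg.Agent.Lib.helper40.pCore_isPGroup p Y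
  have hLc : (Nat.card (Cfsg.pPrimeCore p Y)).Coprime p :=
    Cfsg.Agent.Lib.helper40.pPrimeCore_card_coprime p Y
  have hdisj : Cfsg.pPrimeCore p Y ⊓ Cfsg.pCore p Y = ⊥ := by
    apply Disjoint.eq_bot
    apply Subgroup.disjoint_of_coprime_natCard
    obtain ⟨k, hk⟩ := IsPGroup.iff_card.mp hOp
    rw [hk]
    exact Nat.Coprime.pow_right k hLc
  have hO : Cfsg.pPrimeCore p Y = ⊥ := by
    rw [eq_bot_iff]
    intro x hx
    have h2 : x ∈ Cfsg.pPrimeCore p Y ⊓ Cfsg.pCore p Y :=
      ⟨hx, hchar (pPrimeCore_le_centralizer_pCore p hx)⟩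
    rwa [hdisj] at h2
  have hTF := thompsonFactorizable_of_pq p q h23 hpr hsol hO
  -- `O_p(Y) ≠ 1`, hence `R ≠ 1`
  have hOne : Cfsg.pCore p Y ≠ ⊥ := by
    intro h
    rw [h] at hchar
    have h1 : ∀ y : Y, y = 1 := by
      intro y
      have : y ∈ centralizer ((⊥ : Subgroup Y) : Set Y) := by
        intro t ht
        rw [Subgroup.coe_bot, Set.mem_singleton_iff] at ht
        rw [ht]; simp
      exact Subgroup.mem_bot.mp (hchar this)
    have hc1 : Nat.card Y = 1 :=
      Nat.card_eq_one_iff_unique.mpr ⟨⟨fun a b => by rw [h1 a, h1 b]⟩, ⟨1⟩⟩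
    rw [hc1] at hqY
    exact hq.out.not_dvd_one hqY
  have hOR : Cfsg.pCore p Y ≤ (R : Subgroup Y) := hOp.le_sylow_of_normal R
  have hRne : (R : Subgroup Y) ≠ ⊥ := by
    intro h
    rw [h] at hOR
    exact hOne (le_bot_iff.mp hOR)
  set W₁ : Subgroup Y :=
    Cfsg.omegaOne p ((R : Subgroup Y) ⊓ centralizer ((R : Subgroup Y) : Set Y)) with hW₁
  have hW₁R : W₁ ≤ (R : Subgroup Y) := by
    rw [hW₁]; unfold Cfsg.omegaOne
    rw [Subgroup.closure_le]
    rintro x ⟨⟨hxR, -⟩, -⟩
    exact hxR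
  have hW₁c : W₁ ≤ centralizer ((R : Subgroup Y) : Set Y) := by
    rw [hW₁]; unfold Cfsg.omegaOne
    rw [Subgroup.closure_le]
    rintro x ⟨⟨-, hxC⟩, -⟩
    exact hxC
  have hW₁ne : W₁ ≠ ⊥ := by
    haveI : Nontrivial (R : Subgroup Y) := (Subgroup.nontrivial_iff_ne_bot _).mpr hRne
    haveI := R.isPGroup'.center_nontrivial
    have hcp : IsPGroup p (Subgroup.center (R : Subgroup Y)) := R.isPGroup'.to_subgroup _
    obtain ⟨k, hk⟩ := IsPGroup.iff_card.mp hcp
    have hk0 : k ≠ 0 := by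
      rintro rfl
      have h1 : 1 < Nat.card (Subgroup.center (R : Subgroup Y)) := Finite.one_lt_card
      rw [hk] at h1
      simp at h1
    have hdvd : p ∣ Nat.card (Subgroup.center (R : Subgroup Y)) := by
      rw [hk]; exact dvd_pow_self p hk0
    obtain ⟨c, hc⟩ := exists_prime_orderOf_dvd_card' p hdvd
    have hcp' : (((c : (R : Subgroup Y)) : Y)) ^ p = 1 := by
      have h1 : c ^ p = 1 := by
        have h0 := pow_orderOf_eq_one c
        rwa [hc] at h0
      have h2 := congrArg (fun z : Subgroup.center (R : Subgroup Y) =>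
        (((z : (R : Subgroup Y)) : Y))) h1
      simpa using h2
    have hx : (((c : (R : Subgroup Y)) : Y)) ∈ W₁ := by
      rw [hW₁]
      apply Subgroup.subset_closure
      refine ⟨⟨(c : (R : Subgroup Y)).2, ?_⟩, hcp'⟩
      intro g hg
      have h3 := Subgroup.mem_center_iff.mp c.2 ⟨g, hg⟩
      simpa using congrArg Subtype.val h3
    intro hbot
    rw [hbot, Subgroup.mem_bot] at hx
    have hc1 : c = 1 := by
      apply Subtype.ext
      apply Subtype.ext
      simpa using hx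
    rw [hc1, orderOf_one] at hc
    exact hp.out.one_lt.ne hc
  set J : Subgroup Y := Cfsg.thompsonSubgroupOf p (R : Subgroup Y) with hJ
  have hJR : J ≤ (R : Subgroup Y) := Cfsg.Agent.Lib.helper13.thompsonSubgroupOf_le_self _
  have hTchar := Cfsg.Agent.Lib.helper13.thompsonSubgroup_characteristic p (↥(R : Subgroup Y))
  have hJchar : (J.subgroupOf (R : Subgroup Y)).Characteristic := by
    have h1 : J.subgroupOf (R : Subgroup Y) = Cfsg.thompsonSubgroup p ↥(R : Subgroup Y) := by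
      rw [hJ]; unfold Cfsg.thompsonSubgroupOf
      exact Subgroup.comap_map_eq_self_of_injective (Subgroup.subtype_injective _) _
    rw [h1]; exact hTchar
  have hRNJ : (R : Subgroup Y) ≤ normalizer (J : Set Y) :=
    Subgroup.le_normalizer.trans
      (Cfsg.Agent.Lib.helper1.normalizer_le_normalizer_map_of_characteristic (R : Subgroup Y)
        (Cfsg.thompsonSubgroup p ↥(R : Subgroup Y)))
  by_cases hJq : QActs q J
  · exact ⟨J, hJR, hJchar, hJq⟩
  have hJq' : ∀ y ∈ normalizer (J : Set Y), (∃ k : ℕ, y ^ q ^ k = 1) →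
      y ∈ centralizer (J : Set Y) := by
    intro y hy hk
    by_contra hc
    exact hJq ⟨y, hy, hc, hk⟩
  have hW₁J : W₁ ≤ J := by
    obtain ⟨A, hA⟩ := Cfsg.Agent.Lib.helper13.maxElementaryAbelian_nonempty p ↥(R : Subgroup Y)
    rw [hW₁]; unfold Cfsg.omegaOne
    rw [Subgroup.closure_le]
    rintro x ⟨⟨hxR, hxC⟩, hxp⟩
    have hxA : (⟨x, hxR⟩ : (R : Subgroup Y)) ∈ A := by
      apply Cfsg.Agent.Lib.helper13.mem_of_mem_max_of_commute hA
      · apply Subtype.ext; simpa using hxp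
      · intro a _
        apply Subtype.ext
        exact hxC a a.2
    exact ⟨⟨x, hxR⟩, Cfsg.Agent.Lib.helper13.le_thompsonSubgroup hA hxA, rfl⟩
  have hRcW : (R : Subgroup Y) ≤ centralizer (W₁ : Set Y) := by
    rw [Subgroup.le_centralizer_iff]; exact hW₁c
  have hNJ : normalizer (J : Set Y) ≤ centralizer (W₁ : Set Y) := by
    have key := le_of_relIndex_not_dvd p q (normalizer (J : Set Y))
      (centralizer (W₁ : Set Y) ⊓ normalizer (J : Set Y))
      (fun r hr hd => hpr r hr (hd.trans (Subgroup.card_subgroup_dvd_card _))) ?_ ?_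
    · exact key.trans inf_le_left
    · intro hd
      have h1 : (centralizer (W₁ : Set Y) ⊓ normalizer (J : Set Y)).relIndex
          (normalizer (J : Set Y)) ∣ (R : Subgroup Y).relIndex (normalizer (J : Set Y)) :=
        Subgroup.relIndex_dvd_of_le_left _ (le_inf hRcW hRNJ)
      have h2 : (R : Subgroup Y).relIndex (normalizer (J : Set Y)) ∣ (R : Subgroup Y).index :=
        Subgroup.relIndex_dvd_index_of_le hRNJ
      exact R.not_dvd_index (hd.trans (h1.trans h2))
    · intro hd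
      obtain ⟨Q⟩ := (inferInstance : Nonempty (Sylow q ↥(normalizer (J : Set Y))))
      have hQle : (Q : Subgroup ↥(normalizer (J : Set Y))) ≤
          (centralizer (W₁ : Set Y) ⊓ normalizer (J : Set Y)).subgroupOf
            (normalizer (J : Set Y)) := by
        intro y hy
        rw [mem_subgroupOf]
        refine ⟨?_, y.2⟩
        obtain ⟨k, hk⟩ := Q.isPGroup' ⟨y, hy⟩
        have hk' : (y : Y) ^ q ^ k = 1 := by
          have := congrArg (fun z : (Q : Subgroup ↥(normalizer (J : Set Y))) =>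
            ((z : ↥(normalizer (J : Set Y))) : Y)) hk
          simpa using this
        exact Subgroup.centralizer_le hW₁J (hJq' (y : Y) y.2 ⟨k, hk'⟩)
      have h1 := Subgroup.index_dvd_of_le hQle
      have hd' : q ∣ ((centralizer (W₁ : Set Y) ⊓ normalizer (J : Set Y)).subgroupOf
            (normalizer (J : Set Y))).index := hd
      exact Q.not_dvd_index (hd'.trans h1)
  have hcent : centralizer (W₁ : Set Y) = ⊤ := by
    rw [eq_top_iff]
    intro g _
    obtain ⟨x, hx, c, hc, n', hn', rfl⟩ := hTF R g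
    rw [hO, Subgroup.mem_bot] at hx
    subst hx
    rw [one_mul]
    exact Subgroup.mul_mem _ hc (hNJ hn')
  have hW₁Z : W₁ ≤ Subgroup.center Y := by
    intro w hw
    rw [Subgroup.mem_center_iff]
    intro g
    have hg : g ∈ centralizer (W₁ : Set Y) := by rw [hcent]; exact Subgroup.mem_top g
    exact (hg w hw).symm
  haveI hW₁n : W₁.Normal := ⟨fun w hw g => by
    have h1 := Subgroup.mem_center_iff.mp (hW₁Z hw) g
    rw [h1]; simpa using hw⟩
  have hW₁p : IsPGroup p W₁ := R.isPGroup'.to_le hW₁R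
  have hlt : Nat.card (Y ⧸ W₁) < n := by
    rw [← hcard, ← Subgroup.index_eq_card]
    have h1 := W₁.card_mul_index
    have h2 : 1 < Nat.card W₁ := (Subgroup.one_lt_card_iff_ne_bot W₁).mpr hW₁ne
    have h3 : 0 < W₁.index := Nat.pos_of_ne_zero Subgroup.index_ne_zero_of_finite
    nlinarith
  have hpr' : ∀ r : ℕ, r.Prime → r ∣ Nat.card (Y ⧸ W₁) → r = p ∨ r = q := by
    intro r hr hd
    apply hpr r hr
    rw [← Subgroup.index_eq_card] at hd
    exact hd.trans (Subgroup.index_dvd_card W₁)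
  have hsol' := Cfsg.Agent.Lib.helper38.isPSolvable_quotient W₁ hsol
  have hchar' := charp_quotient p W₁ hW₁Z hW₁p hchar
  have hqY' : q ∣ Nat.card (Y ⧸ W₁) := by
    rw [← Subgroup.index_eq_card]
    have h1 := W₁.card_mul_index
    rw [← h1] at hqY
    obtain ⟨k, hk⟩ := IsPGroup.iff_card.mp hW₁p
    have hcop : Nat.Coprime q (Nat.card W₁) := by
      rw [hk]
      exact Nat.Coprime.pow_right k ((Nat.coprime_primes hq.out hp.out).mpr (Ne.symm hpq))
    exact hcop.dvd_of_dvd_mul_left hqY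
  obtain ⟨Kb, hKbR, hKbchar, hKbq⟩ := ih _ hlt (Y ⧸ W₁) rfl hpr' hsol' hchar' hqY'
    (R.mapSurjective (QuotientGroup.mk'_surjective W₁))
  refine ⟨Kb.comap (QuotientGroup.mk' W₁), ?_, ?_, ?_⟩
  · intro x hx
    have h1 : QuotientGroup.mk' W₁ x ∈ (R : Subgroup Y).map (QuotientGroup.mk' W₁) := hKbR hx
    obtain ⟨r, hr, hrx⟩ := h1
    have h2 : r⁻¹ * x ∈ W₁ := QuotientGroup.eq.mp hrx
    have h3 : x = r * (r⁻¹ * x) := by group
    rw [h3]
    exact Subgroup.mul_mem _ hr (hW₁R h2)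
  · apply char_pullback (QuotientGroup.mk' W₁) (R : Subgroup Y) Kb hKbchar
    rw [QuotientGroup.ker_mk']
    exact omegaOne_center_char p (R : Subgroup Y)
  · exact qacts_comap q _ (QuotientGroup.mk'_surjective W₁) Kb hKbq

end Cfsg.Agent.Lib.helper39
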