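import Mathlib
import Cfsg.Agent.Lib.helper39.TFChar

/-!
# The general case: some `q`-element does not centralize `O_p(Y)`
-/

set_option autoImplicit false

namespace Cfsg.Agent.Lib.helper39

open Subgroup

universe u

/-- A Frattini-type argument: if `g` normalizes `K·L`, with `L` normal of order prime to `p` and
`K` a `p`-subgroup, then `l·g` normalizes `K` for some `l ∈ L`. -/
theorem exists_mul_mem_normalizer_of_coprime {Y : Type*} [Group Y] [Finite Y] (p : ℕ)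
    [hp : Fact p.Prime] (L : Subgroup Y) [hL : L.Normal] (hLc : (Nat.card L).Coprime p)
    (K : Subgroup Y) (hK : IsPGroup p K) (g : Y)
    (hg : g ∈ normalizer ((K ⊔ L : Subgroup Y) : Set Y)) :
    ∃ l ∈ L, l * g ∈ normalizer (K : Set Y) := by
  have hKT : K ≤ K ⊔ L := le_sup_left
  have hK₂T : K.map (MulAut.conj g).toMonoidHom ≤ K ⊔ L := by
    rintro _ ⟨x, hx, rfl⟩
    exact (Subgroup.mem_normalizer_iff.mp hg x).mp (hKT hx)
  have hcardK₂ : Nat.card (K.map (MulAut.conj g).toMonoidHom) = Nat.card K :=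
    Subgroup.card_map_of_injective (MulAut.conj g).injective
  have hcardT : Nat.card (K ⊔ L : Subgroup Y) ∣ Nat.card K * Nat.card L :=
    Cfsg.Agent.Lib.helper40.card_sup_dvd_mul K L
  have hidx : ∀ K' : Subgroup Y, K' ≤ K ⊔ L → Nat.card K' = Nat.card K →
      ¬ p ∣ (K'.subgroupOf (K ⊔ L)).index := by
    intro K' hK'T hcard hd
    have h1 : Nat.card (K'.subgroupOf (K ⊔ L)) * (K'.subgroupOf (K ⊔ L)).index =
        Nat.card (K ⊔ L : Subgroup Y) := Subgroup.card_mul_index _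
    have h2 : Nat.card (K'.subgroupOf (K ⊔ L)) = Nat.card K := by
      rw [← hcard]; exact Nat.card_congr (Subgroup.subgroupOfEquivOfLe hK'T).toEquiv
    rw [h2] at h1
    have h3 : Nat.card K * (K'.subgroupOf (K ⊔ L)).index ∣ Nat.card K * Nat.card L := by
      rw [h1]; exact hcardT
    have h4 : (K'.subgroupOf (K ⊔ L)).index ∣ Nat.card L :=
      Nat.dvd_of_mul_dvd_mul_left Nat.card_pos h3
    exact hp.out.one_lt.ne' (Nat.eq_one_of_dvd_coprimes hLc (hd.trans h4) (dvd_refl p))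
  have hP₂ : IsPGroup p ((K.map (MulAut.conj g).toMonoidHom).subgroupOf (K ⊔ L)) :=
    (hK.map _).comap_subtype
  have hP₁ : IsPGroup p (K.subgroupOf (K ⊔ L)) := hK.comap_subtype
  obtain ⟨c, hc⟩ := MulAction.exists_smul_eq ↥(K ⊔ L : Subgroup Y)
    (hP₂.toSylow (hidx _ hK₂T hcardK₂)) (hP₁.toSylow (hidx K hKT rfl))
  have hcg : (c : Y) * g ∈ normalizer (K : Set Y) := by
    apply Cfsg.Agent.Lib.helper21.mem_normalizer_of_conj_mem_fin21
    intro x hx
    have h1 : (⟨g * x * g⁻¹, hK₂T ⟨x, hx, rfl⟩⟩ : (K ⊔ L : Subgroup Y)) ∈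
        ((hP₂.toSylow (hidx _ hK₂T hcardK₂) : Sylow p (K ⊔ L : Subgroup Y)) :
          Subgroup (K ⊔ L : Subgroup Y)) := by
      change _ ∈ (K.map (MulAut.conj g).toMonoidHom).subgroupOf (K ⊔ L)
      rw [mem_subgroupOf]
      exact ⟨x, hx, rfl⟩
    have h2 := Subgroup.smul_mem_pointwise_smul _ (MulAut.conj c) _ h1
    rw [← Sylow.coe_subgroup_smul, hc] at h2
    have h3 : (MulAut.conj c • (⟨g * x * g⁻¹, hK₂T ⟨x, hx, rfl⟩⟩ : (K ⊔ L : Subgroup Y))) ∈
        K.subgroupOf (K ⊔ L) := h2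
    rw [mem_subgroupOf] at h3
    have h4 : ((MulAut.conj c • (⟨g * x * g⁻¹, hK₂T ⟨x, hx, rfl⟩⟩ : (K ⊔ L : Subgroup Y)) :
        (K ⊔ L : Subgroup Y)) : Y) = (c : Y) * g * x * ((c : Y) * g)⁻¹ := by
      rw [MulAut.smul_def, MulAut.conj_apply]
      simp only [Subgroup.coe_mul, Subgroup.coe_inv]
      group
    rw [h4] at h3
    exact h3
  have hcT : (c : Y) ∈ ((K ⊔ L : Subgroup Y) : Set Y) := c.2
  rw [Subgroup.mul_normal] at hcT
  obtain ⟨k, hk, l, hl, hkl⟩ := Set.mem_mul.mp hcT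
  refine ⟨l, hl, ?_⟩
  have h5 : l * g = k⁻¹ * ((c : Y) * g) := by rw [← hkl]; group
  rw [h5]
  exact Subgroup.mul_mem _ (Subgroup.le_normalizer (Subgroup.inv_mem _ hk)) hcg

/-- **Main lemma.** In a `p`-solvable `{p,q}`-group, `{p,q} ≠ {2,3}`, with a `q`-element not
centralizing `O_p(Y)`, every Sylow `p`-subgroup `R` has a characteristic subgroup `K` with a
`q`-element of `N(K)` not centralizing `K`. -/
theorem exists_char_qacts (p q : ℕ) [hp : Fact p.Prime] [hq : Fact q.Prime] (hpq : p ≠ q)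
    (h23 : ¬ ((p = 2 ∧ q = 3) ∨ (p = 3 ∧ q = 2))) (Y : Type u) [Group Y] [Finite Y]
    (hpr : ∀ r : ℕ, r.Prime → r ∣ Nat.card Y → r = p ∨ r = q) (hsol : Cfsg.IsPSolvable p Y)
    (x : Y) (k : ℕ) (hxq : x ^ q ^ k = 1) (hx : x ∉ centralizer (Cfsg.pCore p Y : Set Y))
    (R : Sylow p Y) :
    ∃ K : Subgroup Y, K ≤ (R : Subgroup Y) ∧ (K.subgroupOf (R : Subgroup Y)).Characteristic ∧
      QActs q K := by
  haveI hLn : (Cfsg.pPrimeCore p Y).Normal := Cfsg.Agent.Lib.helper40.pPrimeCore_normal' p Y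
  have hLc : (Nat.card (Cfsg.pPrimeCore p Y)).Coprime p :=
    Cfsg.Agent.Lib.helper40.pPrimeCore_card_coprime p Y
  have hO' : Cfsg.pPrimeCore p (Y ⧸ Cfsg.pPrimeCore p Y) = ⊥ :=
    Cfsg.Agent.Lib.helper38.pPrimeCore_quotient_pPrimeCore p Y
  have hsol' := Cfsg.Agent.Lib.helper38.isPSolvable_quotient (Cfsg.pPrimeCore p Y) hsol
  have hchar' := Cfsg.Agent.Lib.helper38.centralizer_pCore_le_of_isPSolvable hsol' hO'
  have hpr' : ∀ r : ℕ, r.Prime → r ∣ Nat.card (Y ⧸ Cfsg.pPrimeCore p Y) → r = p ∨ r = q := by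
    intro r hr hd
    apply hpr r hr
    rw [← Subgroup.index_eq_card] at hd
    exact hd.trans (Subgroup.index_dvd_card _)
  have hq' : q ∣ Nat.card (Y ⧸ Cfsg.pPrimeCore p Y) := by
    by_contra hnq
    have hall : ∀ {d : ℕ}, d.Prime → d ∣ Nat.card (Y ⧸ Cfsg.pPrimeCore p Y) → d = p := by
      intro d hd hdd
      rcases hpr' d hd hdd with h | h
      · exact h
      · exact absurd (h ▸ hdd) hnq
    have hcardp := Nat.eq_prime_pow_of_unique_prime_dvd Nat.card_pos.ne' hall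
    have h1 : orderOf (QuotientGroup.mk' (Cfsg.pPrimeCore p Y) x) ∣ q ^ k :=
      orderOf_dvd_of_pow_eq_one (by rw [← map_pow, hxq, map_one])
    have h2 : orderOf (QuotientGroup.mk' (Cfsg.pPrimeCore p Y) x) ∣
        p ^ (Nat.card (Y ⧸ Cfsg.pPrimeCore p Y)).primeFactorsList.length := by
      rw [← hcardp]; exact _root_.orderOf_dvd_natCard _
    have hcop : Nat.Coprime (q ^ k)
        (p ^ (Nat.card (Y ⧸ Cfsg.pPrimeCore p Y)).primeFactorsList.length) :=
      Nat.Coprime.pow _ _ ((Nat.coprime_primes hq.out hp.out).mpr (Ne.symm hpq))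
    have h3 := Nat.eq_one_of_dvd_coprimes hcop h1 h2
    rw [orderOf_eq_one_iff, QuotientGroup.mk'_apply, QuotientGroup.eq_one_iff] at h3
    exact hx (pPrimeCore_le_centralizer_pCore p h3)
  obtain ⟨Kb, hKbR, hKbchar, y₀', hyN, hyC, k₀, hyq⟩ :=
    exists_char_qacts_charp p q hpq h23 _ (Y ⧸ Cfsg.pPrimeCore p Y) rfl hpr' hsol' hchar' hq'
      (R.mapSurjective (QuotientGroup.mk'_surjective (Cfsg.pPrimeCore p Y)))
  obtain ⟨y₀, rfl⟩ := QuotientGroup.mk'_surjective (Cfsg.pPrimeCore p Y) y₀'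
  have hKL : Kb.comap (QuotientGroup.mk' (Cfsg.pPrimeCore p Y)) =
      ((R : Subgroup Y) ⊓ Kb.comap (QuotientGroup.mk' (Cfsg.pPrimeCore p Y))) ⊔
        Cfsg.pPrimeCore p Y := by
    apply le_antisymm
    · intro g hg
      have h1 : QuotientGroup.mk' (Cfsg.pPrimeCore p Y) g ∈
          (R : Subgroup Y).map (QuotientGroup.mk' (Cfsg.pPrimeCore p Y)) := hKbR hg
      obtain ⟨r, hr, hrg⟩ := h1
      have h2 : r⁻¹ * g ∈ Cfsg.pPrimeCore p Y := QuotientGroup.eq.mp hrg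
      have h3 : r ∈ (R : Subgroup Y) ⊓ Kb.comap (QuotientGroup.mk' (Cfsg.pPrimeCore p Y)) := by
        refine ⟨hr, ?_⟩
        show QuotientGroup.mk' (Cfsg.pPrimeCore p Y) r ∈ Kb
        rw [hrg]
        exact hg
      have h4 : g = r * (r⁻¹ * g) := by group
      rw [h4]
      exact Subgroup.mul_mem _ (Subgroup.mem_sup_left h3) (Subgroup.mem_sup_right h2)
    · apply sup_le
      · exact inf_le_right
      · intro l hl
        rw [mem_comap, QuotientGroup.mk'_apply, (QuotientGroup.eq_one_iff l).mpr hl]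
        exact Kb.one_mem
  have hy₀N : y₀ ∈ normalizer ((((R : Subgroup Y) ⊓
      Kb.comap (QuotientGroup.mk' (Cfsg.pPrimeCore p Y))) ⊔ Cfsg.pPrimeCore p Y : Subgroup Y) :
        Set Y) := by
    rw [← hKL]
    exact Subgroup.le_normalizer_comap (QuotientGroup.mk' (Cfsg.pPrimeCore p Y)) hyN
  obtain ⟨l, hl, hly⟩ := exists_mul_mem_normalizer_of_coprime p (Cfsg.pPrimeCore p Y) hLc
    ((R : Subgroup Y) ⊓ Kb.comap (QuotientGroup.mk' (Cfsg.pPrimeCore p Y)))
    (R.isPGroup'.to_le inf_le_left) y₀ hy₀N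
  obtain ⟨m, k', hm, hk'⟩ := exists_qpart q (l * y₀)
  refine ⟨(R : Subgroup Y) ⊓ Kb.comap (QuotientGroup.mk' (Cfsg.pPrimeCore p Y)), inf_le_left, ?_,
    (l * y₀) ^ m, Subgroup.pow_mem _ hly m, ?_, k', hk'⟩
  · rw [Subgroup.inf_subgroupOf_left]
    apply char_pullback (QuotientGroup.mk' (Cfsg.pPrimeCore p Y)) (R : Subgroup Y) Kb hKbchar
    have h2 : ((QuotientGroup.mk' (Cfsg.pPrimeCore p Y)).ker).subgroupOf (R : Subgroup Y) = ⊥ := by
      rw [QuotientGroup.ker_mk', Subgroup.subgroupOf_eq_bot]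
      apply Subgroup.disjoint_of_coprime_natCard
      obtain ⟨j, hj⟩ := IsPGroup.iff_card.mp R.isPGroup'
      rw [hj]
      exact Nat.Coprime.pow_right j hLc
    rw [h2]
    exact Subgroup.botCharacteristic
  · intro hc
    apply hyC
    have hπl : QuotientGroup.mk' (Cfsg.pPrimeCore p Y) (l * y₀) =
        QuotientGroup.mk' (Cfsg.pPrimeCore p Y) y₀ := by
      rw [map_mul, QuotientGroup.mk'_apply, (QuotientGroup.eq_one_iff l).mpr hl, one_mul]
    apply mem_of_pow_mem_of_coprime hyq hm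
    rw [← hπl, ← map_pow]
    intro z hz
    have h1 : z ∈ (R : Subgroup Y).map (QuotientGroup.mk' (Cfsg.pPrimeCore p Y)) := hKbR hz
    obtain ⟨r, hr, rfl⟩ := h1
    have h3 := hc r ⟨hr, hz⟩
    rw [← map_mul, ← map_mul, h3]

end Cfsg.Agent.Lib.helper39
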