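import Mathlib
import Cfsg.Agent.Lib.helper13.Thompson
import Cfsg.Agent.Lib.helper13.Count
import Cfsg.Agent.Lib.helper29.PSolv
import Cfsg.Agent.Lib.helper40.Cores
import Cfsg.Agent.Lib.helper39.QElt
import Cfsg.Agent.Lib.helper39.CharPull
import Cfsg.Agent.Lib.helper39.PQHall
import Cfsg.Agent.Lib.helper39.TFChar2

/-!
# The local step for the `q`-automizer lemma

For a finite group `X` with a normal `p`-subgroup `H` whose automizer `X / C_X(H)` is `p`-solvable
and is not a `q'`-group (`{p,q} ≠ {2,3}`), and a Sylow `p`-subgroup `R` of `X`, we find a subgroup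
`K ≤ R` normalized but not centralized by a `q`-element such that either `K` is strictly larger
than `H` and normal in `R`, or `K` is characteristic in `R`.
-/

set_option autoImplicit false

namespace Cfsg.Agent.Lib.helper39

open Subgroup

universe u v

/-- A lexicographic maximum of a pair of natural-valued functions on a nonempty set of a finite
type. -/
theorem exists_lex_max {α : Type*} [Finite α] (S : Set α) (hS : S.Nonempty) (f g : α → ℕ) :
    ∃ a ∈ S, (∀ b ∈ S, f b ≤ f a) ∧ (∀ b ∈ S, f a ≤ f b → g b ≤ g a) := by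
  obtain ⟨a₁, ha₁, hmax₁⟩ := Set.exists_max_image S f (Set.toFinite S) hS
  have hS' : ({b ∈ S | f b = f a₁} : Set α).Nonempty := ⟨a₁, ha₁, rfl⟩
  obtain ⟨a, ha, hmax⟩ := Set.exists_max_image {b ∈ S | f b = f a₁} g (Set.toFinite _) hS'
  refine ⟨a, ha.1, ?_, ?_⟩
  · intro b hb
    rw [ha.2]
    exact hmax₁ b hb
  · intro b hb hab
    apply hmax b
    refine ⟨hb, le_antisymm (hmax₁ b hb) ?_⟩
    rw [← ha.2]
    exact hab

/-- `QActs` is transported by injective homomorphisms. -/
theorem qacts_map_of_injective {A B : Type*} [Group A] [Group B] (q : ℕ) (f : A →* B)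
    (hf : Function.Injective f) (K : Subgroup A) (h : QActs q K) : QActs q (K.map f) := by
  obtain ⟨y, hyN, hyC, k, hyq⟩ := h
  refine ⟨f y, Subgroup.le_normalizer_map f ⟨y, hyN, rfl⟩, ?_, k, by rw [← map_pow, hyq, map_one]⟩
  intro hc
  apply hyC
  intro z hz
  apply hf
  rw [map_mul, map_mul]
  exact hc (f z) ⟨z, hz, rfl⟩

/-- The normalizers of two subgroups both normalize their join. -/
theorem mem_normalizer_sup_of_mem {Y : Type*} [Group Y] [Finite Y] (A B : Subgroup Y) (g : Y)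
    (hA : g ∈ normalizer (A : Set Y)) (hB : g ∈ normalizer (B : Set Y)) :
    g ∈ normalizer ((A ⊔ B : Subgroup Y) : Set Y) := by
  apply Cfsg.Agent.Lib.helper21.mem_normalizer_of_conj_mem_fin21
  intro x hx
  have h1 : (A ⊔ B).map (MulAut.conj g).toMonoidHom ≤ A ⊔ B := by
    rw [Subgroup.map_sup]
    apply sup_le_sup
    · rintro _ ⟨a, ha, rfl⟩
      exact (Subgroup.mem_normalizer_iff.mp hA a).mp ha
    · rintro _ ⟨b, hb, rfl⟩
      exact (Subgroup.mem_normalizer_iff.mp hB b).mp hb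
  exact h1 ⟨x, hx, rfl⟩

/-- A Frattini-type argument: if `g` normalizes `T` and `K` is a `p`-subgroup of `T` of index
prime to `p`, then `c·g` normalizes `K` for some `c ∈ T`. -/
theorem exists_mul_mem_normalizer_of_not_dvd {Y : Type*} [Group Y] [Finite Y] (p : ℕ)
    [hp : Fact p.Prime] (T K : Subgroup Y) (hKT : K ≤ T) (hK : IsPGroup p K)
    (hidxK : ¬ p ∣ (K.subgroupOf T).index) (g : Y) (hg : g ∈ normalizer (T : Set Y)) :
    ∃ c ∈ T, c * g ∈ normalizer (K : Set Y) := by
  have hK₂T : K.map (MulAut.conj g).toMonoidHom ≤ T := by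
    rintro _ ⟨x, hx, rfl⟩
    exact (Subgroup.mem_normalizer_iff.mp hg x).mp (hKT hx)
  have hcardK₂ : Nat.card (K.map (MulAut.conj g).toMonoidHom) = Nat.card K :=
    Subgroup.card_map_of_injective (MulAut.conj g).injective
  have hidx : ∀ K' : Subgroup Y, K' ≤ T → Nat.card K' = Nat.card K →
      ¬ p ∣ (K'.subgroupOf T).index := by
    intro K' hK'T hcard hd
    have h1 : Nat.card (K'.subgroupOf T) * (K'.subgroupOf T).index = Nat.card T :=
      Subgroup.card_mul_index _
    have h1' : Nat.card (K.subgroupOf T) * (K.subgroupOf T).index = Nat.card T :=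
      Subgroup.card_mul_index _
    have h2 : Nat.card (K'.subgroupOf T) = Nat.card K := by
      rw [← hcard]; exact Nat.card_congr (Subgroup.subgroupOfEquivOfLe hK'T).toEquiv
    have h2' : Nat.card (K.subgroupOf T) = Nat.card K :=
      Nat.card_congr (Subgroup.subgroupOfEquivOfLe hKT).toEquiv
    rw [h2] at h1
    rw [h2', ← h1] at h1'
    have h3 : (K.subgroupOf T).index = (K'.subgroupOf T).index :=
      Nat.eq_of_mul_eq_mul_left Nat.card_pos h1'
    exact hidxK (h3 ▸ hd)
  have hP₂ : IsPGroup p ((K.map (MulAut.conj g).toMonoidHom).subgroupOf T) :=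
    (hK.map _).comap_subtype
  have hP₁ : IsPGroup p (K.subgroupOf T) := hK.comap_subtype
  obtain ⟨c, hc⟩ := MulAction.exists_smul_eq ↥T
    (hP₂.toSylow (hidx _ hK₂T hcardK₂)) (hP₁.toSylow (hidx K hKT rfl))
  refine ⟨(c : Y), c.2, ?_⟩
  apply Cfsg.Agent.Lib.helper21.mem_normalizer_of_conj_mem_fin21
  intro x hx
  have h1 : (⟨g * x * g⁻¹, hK₂T ⟨x, hx, rfl⟩⟩ : T) ∈
      ((hP₂.toSylow (hidx _ hK₂T hcardK₂) : Sylow p T) : Subgroup T) := by
    change _ ∈ (K.map (MulAut.conj g).toMonoidHom).subgroupOf T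
    rw [mem_subgroupOf]
    exact ⟨x, hx, rfl⟩
  have h2 := Subgroup.smul_mem_pointwise_smul _ (MulAut.conj c) _ h1
  rw [← Sylow.coe_subgroup_smul, hc] at h2
  have h3 : (MulAut.conj c • (⟨g * x * g⁻¹, hK₂T ⟨x, hx, rfl⟩⟩ : T)) ∈ K.subgroupOf T := h2
  rw [mem_subgroupOf] at h3
  have h4 : ((MulAut.conj c • (⟨g * x * g⁻¹, hK₂T ⟨x, hx, rfl⟩⟩ : T) : T) : Y) =
      (c : Y) * g * x * ((c : Y) * g)⁻¹ := by
    rw [MulAut.smul_def, MulAut.conj_apply]
    simp only [Subgroup.coe_mul, Subgroup.coe_inv]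
    group
  rw [h4] at h3
  exact h3

/-- A normal `p`-subgroup lies in every Sylow `p`-subgroup. -/
theorem normal_le_sylow {X : Type*} [Group X] {p : ℕ} [Fact p.Prime] (H : Subgroup X)
    [hHn : H.Normal] (hH : IsPGroup p H) (R : Sylow p X) : H ≤ (R : Subgroup X) := by
  have h1 : IsPGroup p (H ⊔ (R : Subgroup X) : Subgroup X) :=
    IsPGroup.to_sup_of_normal_left hH R.isPGroup'
  have h2 : H ⊔ (R : Subgroup X) = (R : Subgroup X) := R.is_maximal' h1 le_sup_right
  rw [← h2]
  exact le_sup_left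

/-- The intersection of a Sylow `p`-subgroup with a normal subgroup has index prime to `p` in
the normal subgroup. -/
theorem sylow_inf_normal_not_dvd {X : Type*} [Group X] [Finite X] {p : ℕ} [hp : Fact p.Prime]
    (R : Sylow p X) (C : Subgroup X) [hCn : C.Normal] :
    ¬ p ∣ (((R : Subgroup X) ⊓ C).subgroupOf C).index := by
  intro hd
  have h1 : Nat.card ((R : Subgroup X) ⊔ C : Subgroup X) * Nat.card ((R : Subgroup X) ⊓ C : Subgroup X)
      = Nat.card (R : Subgroup X) * Nat.card C :=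
    Cfsg.Agent.Lib.helper13.card_sup_mul_card_inf (R : Subgroup X) C
      (by rw [Subgroup.normalizer_eq_top]; exact le_top)
  have h2 : Nat.card (((R : Subgroup X) ⊓ C).subgroupOf C) *
      (((R : Subgroup X) ⊓ C).subgroupOf C).index = Nat.card C := Subgroup.card_mul_index _
  have h3 : Nat.card (((R : Subgroup X) ⊓ C).subgroupOf C) =
      Nat.card ((R : Subgroup X) ⊓ C : Subgroup X) :=
    Nat.card_congr (Subgroup.subgroupOfEquivOfLe inf_le_right).toEquiv
  rw [h3] at h2
  rw [← h2] at h1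
  have h4 : Nat.card ((R : Subgroup X) ⊔ C : Subgroup X) =
      Nat.card (R : Subgroup X) * (((R : Subgroup X) ⊓ C).subgroupOf C).index := by
    have hpos : 0 < Nat.card ((R : Subgroup X) ⊓ C : Subgroup X) := Nat.card_pos
    apply Nat.eq_of_mul_eq_mul_right hpos
    rw [h1]; ring
  have h5 : Nat.card ((R : Subgroup X) ⊔ C : Subgroup X) ∣ Nat.card X := Subgroup.card_subgroup_dvd_card _
  have h6 : Nat.card (R : Subgroup X) * (R : Subgroup X).index = Nat.card X :=
    Subgroup.card_mul_index _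
  rw [h4, ← h6] at h5
  have h7 : (((R : Subgroup X) ⊓ C).subgroupOf C).index ∣ (R : Subgroup X).index :=
    Nat.dvd_of_mul_dvd_mul_left Nat.card_pos h5
  exact R.not_dvd_index (hd.trans h7)

/-- If `Z ≤ C` are normal, `Z` is a `p`-group with `|C : Z|` prime to `p`, and `X / C` is
`p`-solvable, then `X` is `p`-solvable. -/
theorem isPSolvable_of_chain {X : Type*} [Group X] [Finite X] (p : ℕ) [hp : Fact p.Prime]
    (Z C : Subgroup X) [hZn : Z.Normal] [hCn : C.Normal] (hZC : Z ≤ C) (hZ : IsPGroup p Z)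
    (hidx : ¬ p ∣ (Z.subgroupOf C).index) (hsol : Cfsg.IsPSolvable p (X ⧸ C)) :
    Cfsg.IsPSolvable p X := by
  obtain ⟨m, hm⟩ := IsPGroup.iff_card.mp hZ
  apply Cfsg.Agent.Lib.helper29.isPSolvable_of_quotient p Z (Or.inl ⟨m, hm⟩)
  have hCbn : (C.map (QuotientGroup.mk' Z)).Normal :=
    Subgroup.Normal.map hCn _ (QuotientGroup.mk'_surjective Z)
  have hcop : (Nat.card (C.map (QuotientGroup.mk' Z))).Coprime p := by
    have h1 : (C.map (QuotientGroup.mk' Z)).index = C.index := by
      have h2 : (C.map (QuotientGroup.mk' Z)).comap (QuotientGroup.mk' Z) = C := by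
        rw [QuotientGroup.comap_map_mk']
        exact sup_eq_right.mpr hZC
      rw [← Subgroup.index_comap_of_surjective (C.map (QuotientGroup.mk' Z))
        (QuotientGroup.mk'_surjective Z), h2]
    have h3 : Nat.card (C.map (QuotientGroup.mk' Z)) * (C.map (QuotientGroup.mk' Z)).index =
        Nat.card (X ⧸ Z) := Subgroup.card_mul_index _
    have h4 : Nat.card X = Nat.card (X ⧸ Z) * Nat.card Z :=
      Subgroup.card_eq_card_quotient_mul_card_subgroup Z
    have h5 : Nat.card C * C.index = Nat.card X := Subgroup.card_mul_index _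
    have h6 : Nat.card (Z.subgroupOf C) * (Z.subgroupOf C).index = Nat.card C :=
      Subgroup.card_mul_index _
    have h7 : Nat.card (Z.subgroupOf C) = Nat.card Z :=
      Nat.card_congr (Subgroup.subgroupOfEquivOfLe hZC).toEquiv
    rw [h7] at h6
    rw [h1] at h3
    have hCi : 0 < C.index := Nat.pos_of_ne_zero (Subgroup.index_ne_zero_of_finite)
    have hZp : 0 < Nat.card Z := Nat.card_pos
    have h8 : Nat.card (C.map (QuotientGroup.mk' Z)) = (Z.subgroupOf C).index := by
      apply Nat.eq_of_mul_eq_mul_right (Nat.mul_pos hCi hZp)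
      calc Nat.card (C.map (QuotientGroup.mk' Z)) * (C.index * Nat.card Z)
          = (Nat.card (C.map (QuotientGroup.mk' Z)) * C.index) * Nat.card Z := by ring
        _ = Nat.card X := by rw [h3, ← h4]
        _ = (Z.subgroupOf C).index * (C.index * Nat.card Z) := by rw [← h5, ← h6]; ring
    rw [h8]
    exact ((Nat.Prime.coprime_iff_not_dvd hp.out).mpr hidx).symm
  apply Cfsg.Agent.Lib.helper29.isPSolvable_of_quotient p (C.map (QuotientGroup.mk' Z))
    (Or.inr hcop)
  have hker : ∀ c ∈ C, ((QuotientGroup.mk' (C.map (QuotientGroup.mk' Z))).comp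
      (QuotientGroup.mk' Z)) c = 1 := by
    intro c hc
    rw [MonoidHom.comp_apply, QuotientGroup.mk'_apply, QuotientGroup.eq_one_iff]
    exact ⟨c, hc, rfl⟩
  refine Cfsg.Agent.Lib.helper38.isPSolvable_of_surjective
    (QuotientGroup.lift C ((QuotientGroup.mk' (C.map (QuotientGroup.mk' Z))).comp
      (QuotientGroup.mk' Z)) hker) ?_ hsol
  intro z
  obtain ⟨z₁, rfl⟩ := QuotientGroup.mk'_surjective _ z
  obtain ⟨z₂, rfl⟩ := QuotientGroup.mk'_surjective _ z₁
  exact ⟨QuotientGroup.mk' C z₂, rfl⟩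

/-- A `q`-element is conjugate into any subgroup of index prime to `q`. -/
theorem exists_conj_mem_of_not_dvd_index {X : Type*} [Group X] [Finite X] (q : ℕ)
    [hq : Fact q.Prime] (Y : Subgroup X) (hY : ¬ q ∣ Y.index) (x : X) (k : ℕ)
    (hxq : x ^ q ^ k = 1) : ∃ g : X, g * x * g⁻¹ ∈ Y := by
  obtain ⟨Q₀⟩ : Nonempty (Sylow q Y) := inferInstance
  have hQ₁ : IsPGroup q ((Q₀ : Subgroup Y).map Y.subtype) := Q₀.isPGroup'.map _
  have hidx : ¬ q ∣ ((Q₀ : Subgroup Y).map Y.subtype).index := by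
    rw [Subgroup.index_map_subtype]
    intro hd
    rcases (Nat.Prime.dvd_mul hq.out).mp hd with h | h
    · exact Q₀.not_dvd_index h
    · exact hY h
  have hzp : IsPGroup q (Subgroup.zpowers x) := by
    rintro ⟨z, hz⟩
    obtain ⟨i, rfl⟩ := Subgroup.mem_zpowers_iff.mp hz
    refine ⟨k, Subtype.ext ?_⟩
    simp only [Subgroup.coe_pow, Subgroup.coe_one]
    rw [← zpow_natCast, ← zpow_mul, mul_comm, zpow_mul, zpow_natCast, hxq, one_zpow]
  obtain ⟨g, hg⟩ := Cfsg.Agent.Lib.helper13.exists_conj_map_le_sylow hzp (hQ₁.toSylow hidx)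
  refine ⟨g, ?_⟩
  have h1 : g * x * g⁻¹ ∈ ((Q₀ : Subgroup Y).map Y.subtype) :=
    hg ⟨x, Subgroup.mem_zpowers x, rfl⟩
  obtain ⟨z, _, hz⟩ := h1
  rw [← hz]
  exact z.2

/-- **The local step.** -/
theorem exists_qacts_step (p q : ℕ) [hp : Fact p.Prime] [hq : Fact q.Prime] (hpq : p ≠ q)
    (h23 : ¬ ((p = 2 ∧ q = 3) ∨ (p = 3 ∧ q = 2))) (X : Type u) [Group X] [Finite X]
    {G' : Type v} [Group G'] (f : X →* G') (hf : Function.Injective f)
    (H : Subgroup X) [hHn : H.Normal] (hH : IsPGroup p H)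
    (C : Subgroup X) [hCn : C.Normal] (hC : ∀ c : X, c ∈ C ↔ ∀ h ∈ H, h * c = c * h)
    (hsol : Cfsg.IsPSolvable p (X ⧸ C))
    (x : X) (k : ℕ) (hxq : x ^ q ^ k = 1) (hx : x ∉ C) (R : Sylow p X) :
    ∃ K : Subgroup X, K ≤ (R : Subgroup X) ∧ QActs q K ∧
      ((Nat.card H < Nat.card K ∧ (R : Subgroup X) ≤ normalizer (K : Set X)) ∨
        normalizer (((R : Subgroup X).map f : Subgroup G') : Set G') ≤
          normalizer ((K.map f : Subgroup G') : Set G')) := by
  have hHR : H ≤ (R : Subgroup X) := normal_le_sylow H hH R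
  have hidxC : ¬ p ∣ (((R : Subgroup X) ⊓ C).subgroupOf C).index := sylow_inf_normal_not_dvd R C
  by_cases hcase : (R : Subgroup X) ⊓ C ≤ H
  · -- `H` is centric in `R`: `X` is `p`-solvable
    have hZeq : (R : Subgroup X) ⊓ C = H ⊓ C :=
      le_antisymm (le_inf hcase inf_le_right) (inf_le_inf_right C hHR)
    rw [hZeq] at hidxC
    have hsolX : Cfsg.IsPSolvable p X :=
      isPSolvable_of_chain p (H ⊓ C) C inf_le_right (hH.to_le inf_le_left) hidxC hsol
    obtain ⟨Yh, hRY, hprY, hqY⟩ := exists_pq_hall p q (Nat.card X) X rfl hsolX R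
    obtain ⟨g, hgY⟩ := exists_conj_mem_of_not_dvd_index q Yh hqY x k hxq
    have hx₁q : (g * x * g⁻¹) ^ q ^ k = 1 := by
      rw [conj_pow, hxq, mul_one, mul_inv_cancel]
    have hx₁C : g * x * g⁻¹ ∉ C := by
      intro hc
      apply hx
      have := hCn.conj_mem _ hc g⁻¹
      simpa [mul_assoc] using this
    have hsolY : Cfsg.IsPSolvable p ↥Yh := Cfsg.Agent.Lib.helper38.isPSolvable_subgroup Yh hsolX
    have hx₁' : (⟨g * x * g⁻¹, hgY⟩ : Yh) ∉ centralizer (Cfsg.pCore p ↥Yh : Set ↥Yh) := by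
      intro hc
      apply hx₁C
      rw [hC]
      intro h hh
      have h1 : (⟨h, hRY (hHR hh)⟩ : Yh) ∈ Cfsg.pCore p ↥Yh := by
        apply Cfsg.Agent.Lib.helper40.le_pCore _ (hHn.subgroupOf Yh) hH.comap_subtype
        rw [mem_subgroupOf]
        exact hh
      have h2 := hc _ h1
      exact congrArg Subtype.val h2
    obtain ⟨K', hK'R, hK'char, hK'Q⟩ := exists_char_qacts p q hpq h23 ↥Yh hprY hsolY
      ⟨g * x * g⁻¹, hgY⟩ k (Subtype.ext (by simpa using hx₁q)) hx₁' (R.subtype hRY)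
    refine ⟨K'.map Yh.subtype, ?_, qacts_map_of_injective q _ Yh.subtype_injective K' hK'Q,
      Or.inr ?_⟩
    · rintro _ ⟨z, hz, rfl⟩
      have := hK'R hz
      rw [Sylow.coe_subtype, mem_subgroupOf] at this
      exact this
    · have h1 : (R : Subgroup X).map f =
          ((R.subtype hRY : Sylow p Yh) : Subgroup Yh).map (f.comp Yh.subtype) := by
        rw [Sylow.coe_subtype, ← Subgroup.map_map, Subgroup.map_subgroupOf_eq_of_le hRY]
      rw [h1, Subgroup.map_map]
      exact normalizer_map_le_of_char (f.comp Yh.subtype)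
        (hf.comp Yh.subtype_injective) _ K' hK'R hK'char
  · -- `H` is not centric in `R`: enlarge it
    have hRn : ∀ r ∈ (R : Subgroup X), r ∈ normalizer (((R : Subgroup X) ⊓ C : Subgroup X) : Set X) := by
      intro r hr
      apply Cfsg.Agent.Lib.helper21.mem_normalizer_of_conj_mem_fin21
      intro z hz
      exact ⟨Subgroup.mul_mem _ (Subgroup.mul_mem _ hr hz.1) (Subgroup.inv_mem _ hr),
        hCn.conj_mem _ hz.2 r⟩
    have hHtop : ∀ g : X, g ∈ normalizer (H : Set X) := by
      intro g; rw [Subgroup.normalizer_eq_top]; exact Subgroup.mem_top g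
    have hCtop : ∀ g : X, g ∈ normalizer (C : Set X) := by
      intro g; rw [Subgroup.normalizer_eq_top]; exact Subgroup.mem_top g
    obtain ⟨c, hcC, hcx⟩ := exists_mul_mem_normalizer_of_not_dvd p C ((R : Subgroup X) ⊓ C)
      inf_le_right (R.isPGroup'.to_le inf_le_left) hidxC x (hCtop x)
    obtain ⟨m, k', hm, hk'⟩ := exists_qpart q (c * x)
    refine ⟨H ⊔ ((R : Subgroup X) ⊓ C), sup_le hHR inf_le_left,
      ⟨(c * x) ^ m, Subgroup.pow_mem _ (mem_normalizer_sup_of_mem _ _ _ (hHtop _) hcx) m, ?_, k',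
        hk'⟩, Or.inl ⟨?_, ?_⟩⟩
    · intro hcent
      apply hx
      have h1 : (c * x) ^ m ∈ C := by
        rw [hC]
        intro h hh
        exact hcent h (Subgroup.mem_sup_left hh)
      have h2 : (QuotientGroup.mk' C x) ^ q ^ k = 1 := by rw [← map_pow, hxq, map_one]
      have h3 : QuotientGroup.mk' C (c * x) = QuotientGroup.mk' C x := by
        rw [map_mul, QuotientGroup.mk'_apply, (QuotientGroup.eq_one_iff c).mpr hcC, one_mul]
      have h4 : (QuotientGroup.mk' C x) ^ m ∈ (⊥ : Subgroup (X ⧸ C)) := by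
        rw [Subgroup.mem_bot, ← h3, ← map_pow, QuotientGroup.mk'_apply, QuotientGroup.eq_one_iff]
        exact h1
      have h5 := mem_of_pow_mem_of_coprime h2 hm _ h4
      rw [Subgroup.mem_bot, QuotientGroup.mk'_apply, QuotientGroup.eq_one_iff] at h5
      exact h5
    · have hle : H ≤ H ⊔ ((R : Subgroup X) ⊓ C) := le_sup_left
      apply lt_of_le_of_ne (Subgroup.card_le_of_le hle)
      intro heq
      apply hcase
      have h1 : H = H ⊔ ((R : Subgroup X) ⊓ C) := Subgroup.eq_of_le_of_card_ge hle heq.ge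
      rw [h1]
      exact le_sup_right
    · intro r hr
      exact mem_normalizer_sup_of_mem _ _ _ (hHtop r) (hRn r hr)

end Cfsg.Agent.Lib.helper39
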