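import Mathlib
import Cfsg.Agent.Lib.helper68.HallPet

/-!
# S5238 sub-block J, piece J7 (racer copy, helper39): jump counting
-/

set_option autoImplicit false

namespace Cfsg.Agent.Lib.helper52.PearlJ

open Cfsg.Agent.Lib.helper68

theorem h39_card_eq_relIndex_mul {G : Type*} [Group G] (H K : Subgroup G) (h : H ≤ K) :
    Nat.card K = H.relIndex K * Nat.card H := by
  have h1 := Subgroup.card_mul_index (H.subgroupOf K)
  rw [Nat.card_congr (Subgroup.subgroupOfEquivOfLe h).toEquiv] at h1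
  rw [← h1, Subgroup.relIndex, mul_comm]

/-- racer copy of J5 -/
theorem h39_jp_inter_le {G : Type*} [Group G] [Finite G] (K A B : Subgroup G) (hBA : B ≤ A) (c : ℕ)
    (hidx : Nat.card A = c * Nat.card B) : Nat.card ↥(K ⊓ A) ≤ c * Nat.card ↥(K ⊓ B) := by
  have hB0 : 0 < Nat.card B := Nat.card_pos
  have h1 : Nat.card A = B.relIndex A * Nat.card B := h39_card_eq_relIndex_mul B A hBA
  have hc : c = B.relIndex A := by
    have h0 : c * Nat.card B = B.relIndex A * Nat.card B := by rw [← hidx, h1]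
    exact Nat.eq_of_mul_eq_mul_right hB0 h0
  have hle : K ⊓ B ≤ K ⊓ A := inf_le_inf_left K hBA
  have h2 : Nat.card ↥(K ⊓ A) = (K ⊓ B).relIndex (K ⊓ A) * Nat.card ↥(K ⊓ B) :=
    h39_card_eq_relIndex_mul _ _ hle
  have h3 : (K ⊓ B).relIndex (K ⊓ A) = B.relIndex (K ⊓ A) := by
    have h0 : K ⊓ B = (K ⊓ A) ⊓ B := by
      rw [inf_assoc, inf_eq_right.mpr hBA]
    rw [h0, Subgroup.inf_relIndex_left]
  have h4 : B.relIndex (K ⊓ A) ≤ B.relIndex A :=
    Subgroup.relIndex_le_of_le_right inf_le_right (by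
      intro h0
      rw [h0, zero_mul] at h1
      exact (Nat.card_pos (α := A)).ne' h1)
  rw [h2, h3, hc]
  exact Nat.mul_le_mul_right _ h4

/-- racer copy of J6 -/
theorem h39_jp_proper_card {G : Type*} [Group G] [Finite G] (p : ℕ) [Fact p.Prime] (hGp : IsPGroup p G)
    (A B : Subgroup G) (hBA : B ≤ A) (g : G) (hgA : g ∈ A) (hgB : g ∉ B) :
    p * Nat.card B ≤ Nat.card A := by
  have hp := (Fact.out : p.Prime)
  obtain ⟨a, ha⟩ := (hGp.to_subgroup A).exists_card_eq
  obtain ⟨b, hb⟩ := (hGp.to_subgroup B).exists_card_eq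
  have hlt : Nat.card B < Nat.card A := by
    rcases lt_or_eq_of_le (Subgroup.card_le_of_le hBA) with h | h
    · exact h
    · exact absurd (Subgroup.eq_of_le_of_card_ge hBA h.ge ▸ hgA) hgB
  rw [ha, hb] at hlt ⊢
  have hba : b < a := (Nat.pow_lt_pow_iff_right hp.one_lt).mp hlt
  calc p * p ^ b = p ^ (b + 1) := by ring
    _ ≤ p ^ a := Nat.pow_le_pow_right hp.pos hba

/-- J7 (racer copy of `jp_count`). -/
theorem h39_jp_count {G : Type*} [Group G] [Finite G] (p : ℕ) [Fact p.Prime] (n : ℕ)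
    (hG : Nat.card G = p ^ n) (hn : p + 2 ≤ n)
    (hchain : ∀ i, 2 ≤ i → i ≤ n → Nat.card (gam G i) = p ^ (n - i))
    (hpow : ∀ i, 2 ≤ i → i + p ≤ n → ∀ m ∈ gam G i, m ∉ gam G (i + 1) →
      m ^ p ∈ gam G (i + p - 1) ∧ m ^ p ∉ gam G (i + p))
    (K U : Subgroup G) (hU : ∀ k ∈ K, k ^ p ∈ U) :
    Nat.card ↥(K ⊓ gam G 2) ≤ p ^ (p - 1) * Nat.card U := by
  have hp := (Fact.out : p.Prime)
  have hp2 := hp.two_le
  have hGp : IsPGroup p G := IsPGroup.of_card hG
  have key : ∀ j i, 2 ≤ i → i + j = n - p + 1 →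
      Nat.card ↥(K ⊓ gam G i) ≤ p ^ (p - 1) * Nat.card ↥(U ⊓ gam G (i + p - 1)) := by
    intro j
    induction j with
    | zero =>
      intro i hi hij
      have h1 : Nat.card ↥(K ⊓ gam G i) ≤ Nat.card (gam G i) := Subgroup.card_le_of_le inf_le_right
      have h2 : Nat.card (gam G i) = p ^ (p - 1) := by
        rw [hchain i hi (by omega)]
        congr 1
        omega
      have h3 : 1 ≤ Nat.card ↥(U ⊓ gam G (i + p - 1)) := Nat.card_pos
      calc Nat.card ↥(K ⊓ gam G i) ≤ p ^ (p - 1) := le_trans h1 h2.le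
        _ = p ^ (p - 1) * 1 := (mul_one _).symm
        _ ≤ _ := Nat.mul_le_mul_left _ h3
    | succ j ih =>
      intro i hi hij
      have hip : i + p ≤ n := by omega
      have ih' := ih (i + 1) (by omega) (by omega)
      have e1 : i + 1 + p - 1 = i + p := by omega
      rw [e1] at ih'
      have hmono : Nat.card ↥(U ⊓ gam G (i + p)) ≤ Nat.card ↥(U ⊓ gam G (i + p - 1)) :=
        Subgroup.card_le_of_le (inf_le_inf_left U (gam_antitone (by omega)))
      by_cases hcase : ∃ k ∈ K ⊓ gam G i, k ∉ gam G (i + 1)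
      · obtain ⟨k, hk, hk1⟩ := hcase
        obtain ⟨hkp1, hkp2⟩ := hpow i hi hip k hk.2 hk1
        have hkU : k ^ p ∈ U := hU k hk.1
        have h6 : p * Nat.card ↥(U ⊓ gam G (i + p)) ≤ Nat.card ↥(U ⊓ gam G (i + p - 1)) :=
          h39_jp_proper_card p hGp _ _ (inf_le_inf_left U (gam_antitone (by omega))) (k ^ p)
            ⟨hkU, hkp1⟩ (fun h => hkp2 h.2)
        have hidx : Nat.card (gam G i) = p * Nat.card (gam G (i + 1)) := by
          rw [hchain i hi (by omega), hchain (i + 1) (by omega) (by omega), ← pow_succ']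
          congr 1
          omega
        have h5 : Nat.card ↥(K ⊓ gam G i) ≤ p * Nat.card ↥(K ⊓ gam G (i + 1)) :=
          h39_jp_inter_le K _ _ (gam_antitone (by omega)) p hidx
        calc Nat.card ↥(K ⊓ gam G i) ≤ p * Nat.card ↥(K ⊓ gam G (i + 1)) := h5
          _ ≤ p * (p ^ (p - 1) * Nat.card ↥(U ⊓ gam G (i + p))) := Nat.mul_le_mul_left _ ih'
          _ = p ^ (p - 1) * (p * Nat.card ↥(U ⊓ gam G (i + p))) := by ring
          _ ≤ _ := Nat.mul_le_mul_left _ h6
      · have hall : ∀ k ∈ K ⊓ gam G i, k ∈ gam G (i + 1) := by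
          intro k hk
          by_contra h
          exact hcase ⟨k, hk, h⟩
        have heq : K ⊓ gam G i = K ⊓ gam G (i + 1) := by
          apply le_antisymm
          · intro k hk
            exact ⟨hk.1, hall k hk⟩
          · exact inf_le_inf_left K (gam_antitone (by omega))
        rw [heq]
        exact le_trans ih' (Nat.mul_le_mul_left _ hmono)
  have h2 := key (n - p + 1 - 2) 2 le_rfl (by omega)
  exact le_trans h2 (Nat.mul_le_mul_left _ (Subgroup.card_le_of_le inf_le_left))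

end Cfsg.Agent.Lib.helper52.PearlJ
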