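import Mathlib
import Cfsg.Agent.Lib.helper68.HallPet
import Cfsg.Agent.Lib.helper79.PearlX
import Cfsg.Agent.Lib.helper39.PearlJ7

/-!
# S5239, NONUNIF part (c), sub-leaf (C1) (helper39): `com h x ∉ gam G 3` for a non-uniform `h ∉ gam G 2`
-/

set_option autoImplicit false

namespace Cfsg.Agent.Lib.helper79.P3

open Cfsg.Agent.Lib.helper68 Cfsg.Agent.Lib.helper79

open scoped Pointwise

theorem h39_card_centralizer_conj {G : Type*} [Group G] (x g : G) :
    Nat.card (Subgroup.centralizer ({g⁻¹ * x * g} : Set G)) =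
      Nat.card (Subgroup.centralizer ({x} : Set G)) := by
  refine Nat.card_congr
    { toFun := fun c => ⟨g * c.1 * g⁻¹, ?_⟩
      invFun := fun c => ⟨g⁻¹ * c.1 * g, ?_⟩
      left_inv := fun c => Subtype.ext (by
        show g⁻¹ * (g * c.1 * g⁻¹) * g = c.1
        group)
      right_inv := fun c => Subtype.ext (by
        show g * (g⁻¹ * c.1 * g) * g⁻¹ = c.1
        group) }
  · rw [Subgroup.mem_centralizer_iff]
    intro y hy
    rw [Set.mem_singleton_iff] at hy
    have hc := Subgroup.mem_centralizer_iff.mp c.2 (g⁻¹ * x * g) rfl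
    rw [hy]
    calc x * (g * c.1 * g⁻¹) = g * ((g⁻¹ * x * g) * c.1) * g⁻¹ := by group
      _ = g * (c.1 * (g⁻¹ * x * g)) * g⁻¹ := by rw [hc]
      _ = g * c.1 * g⁻¹ * x := by group
  · rw [Subgroup.mem_centralizer_iff]
    intro y hy
    rw [Set.mem_singleton_iff] at hy
    have hc := Subgroup.mem_centralizer_iff.mp c.2 x rfl
    rw [hy]
    calc g⁻¹ * x * g * (g⁻¹ * c.1 * g) = g⁻¹ * (x * c.1) * g := by group
      _ = g⁻¹ * (c.1 * x) * g := by rw [hc]
      _ = g⁻¹ * c.1 * g * (g⁻¹ * x * g) := by group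

theorem h39_centralizer_inv {G : Type*} [Group G] (x : G) :
    Subgroup.centralizer ({x⁻¹} : Set G) = Subgroup.centralizer ({x} : Set G) := by
  ext c
  simp only [Subgroup.mem_centralizer_iff, Set.mem_singleton_iff, forall_eq]
  constructor
  · intro h
    have h1 : x * c = x * (c * x⁻¹) * x := by group
    rw [h1, ← h]
    group
  · intro h
    have h1 : x⁻¹ * c = x⁻¹ * (c * x) * x⁻¹ := by group
    rw [h1, ← h]
    group

/-- (C1): for `h ∉ gam G 2` whose centralizer does not have order 9, `com h x ∉ gam G 3`. -/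
theorem h39_p3_nu_c1 {G : Type*} [Group G] [Finite G] (n : ℕ) (hn : 4 ≤ n) (hG : Nat.card G = 3 ^ n) (x : G)
    (hx : x ^ 3 = 1) (hC : Nat.card (Subgroup.centralizer ({x} : Set G)) = 3 ^ 2) (h : G) (hh : h ∉ gam G 2)
    (hCh : Nat.card (Subgroup.centralizer ({h} : Set G)) ≠ 3 ^ 2) : com h x ∉ gam G 3 := by
  haveI : Fact (Nat.Prime 3) := ⟨Nat.prime_three⟩
  have hn3 : 3 ≤ n := by omega
  have hGp : IsPGroup 3 G := IsPGroup.of_card hG
  intro hcon
  -- the subgroup `N`
  let N : Subgroup G :=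
    { carrier := {g | com g x ∈ gam G 3}
      mul_mem' := by
        intro a b ha hb
        have e : com (a * b) x = b⁻¹ * com a x * b * com b x := by
          unfold com
          group
        show com (a * b) x ∈ gam G 3
        rw [e]
        exact (gam G 3).mul_mem ((gam_normal 3).conj_mem' _ ha b) hb
      one_mem' := by
        show com 1 x ∈ gam G 3
        have e : com (1 : G) x = 1 := by
          unfold com
          group
        rw [e]
        exact one_mem _
      inv_mem' := by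
        intro a ha
        have e : com a⁻¹ x = a * (com a x)⁻¹ * a⁻¹ := by
          unfold com
          group
        show com a⁻¹ x ∈ gam G 3
        rw [e]
        exact (gam_normal 3).conj_mem _ ((gam G 3).inv_mem ha) a }
  have hN : ∀ g : G, g ∈ N ↔ com g x ∈ gam G 3 := fun g => Iff.rfl
  have hx1 : x ∈ gam G 1 := by
    show x ∈ (⊤ : Subgroup G).lowerCentralSeries 0
    rw [Subgroup.lowerCentralSeries_zero]
    exact Subgroup.mem_top _
  have hxN : x ∈ N := by
    rw [hN]
    have e : com x x = 1 := by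
      unfold com
      group
    rw [e]
    exact one_mem _
  have hPN : gam G 2 ≤ N := by
    intro m hm
    rw [hN]
    exact com_mem hm hx1
  have hhN : h ∈ N := (hN h).mpr hcon
  -- `M = zpowers x ⊔ gam G 2`
  have hMN : Subgroup.zpowers x ⊔ gam G 2 ≤ N := sup_le (Subgroup.zpowers_le.mpr hxN) hPN
  have hxP : x ∉ gam G 2 := h79_px_not_mem 3 n hG x hC hn3
  have hxM : x ∈ Subgroup.zpowers x ⊔ gam G 2 :=
    (le_sup_left : Subgroup.zpowers x ≤ _) (Subgroup.mem_zpowers x)
  have hhM : h ∉ Subgroup.zpowers x ⊔ gam G 2 := by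
    intro hM
    have h1 : h ∈ ((Subgroup.zpowers x : Set G) * (gam G 2 : Set G)) := by
      rw [← Subgroup.mul_normal]
      exact hM
    obtain ⟨y, hy, m, hm, rfl⟩ := Set.mem_mul.mp h1
    obtain ⟨k, rfl⟩ := Subgroup.mem_zpowers_iff.mp hy
    have hx3 : x ^ (3 : ℤ) = 1 := by
      have e : x ^ (3 : ℤ) = x ^ (3 : ℕ) := by norm_cast
      rw [e, hx]
    have hk : x ^ k = x ^ (k % 3) := zpow_eq_zpow_emod k hx3
    have hr0 : 0 ≤ k % 3 := Int.emod_nonneg k (by norm_num)
    have hr3 : k % 3 < 3 := Int.emod_lt_of_pos k (by norm_num)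
    have hcases : k % 3 = 0 ∨ k % 3 = 1 ∨ k % 3 = 2 := by omega
    rw [hk] at hh hCh
    rcases hcases with h0 | h0 | h0
    · rw [h0, zpow_zero, one_mul] at hh
      exact hh hm
    · rw [h0, zpow_one] at hCh
      obtain ⟨g, hg⟩ := h79_px_conj 3 n hG x hC hn3 m hm
      rw [← hg, h39_card_centralizer_conj] at hCh
      exact hCh hC
    · have e2 : x ^ (2 : ℤ) = x⁻¹ := by
        have e3 : x ^ (2 : ℤ) * x = 1 := by
          have e4 : x ^ (2 : ℤ) * x = x ^ (3 : ℤ) := by
            rw [show (3 : ℤ) = 2 + 1 by norm_num, zpow_add, zpow_one]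
          rw [e4, hx3]
        exact eq_inv_of_mul_eq_one_left e3
      rw [h0, e2] at hCh
      have hC' : Nat.card (Subgroup.centralizer ({x⁻¹} : Set G)) = 3 ^ 2 := by
        rw [h39_centralizer_inv]
        exact hC
      obtain ⟨g, hg⟩ := h79_px_conj 3 n hG x⁻¹ hC' hn3 m hm
      rw [← hg, h39_card_centralizer_conj] at hCh
      exact hCh hC'
  -- counting: `N = ⊤`
  have hc1 : 3 * Nat.card (gam G 2) ≤ Nat.card ↥(Subgroup.zpowers x ⊔ gam G 2) :=
    Cfsg.Agent.Lib.helper52.PearlJ.h39_jp_proper_card 3 hGp _ _ le_sup_right x hxM hxP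
  have hc2 : 3 * Nat.card ↥(Subgroup.zpowers x ⊔ gam G 2) ≤ Nat.card N :=
    Cfsg.Agent.Lib.helper52.PearlJ.h39_jp_proper_card 3 hGp _ _ hMN h hhN hhM
  have hP2 : Nat.card (gam G 2) = 3 ^ (n - 2) := h79_px_card 3 n hG x hC hn3 2 le_rfl (by omega)
  have hP3 : Nat.card (gam G 3) = 3 ^ (n - 3) := h79_px_card 3 n hG x hC hn3 3 (by omega) (by omega)
  have hNtop : N = ⊤ := by
    apply Subgroup.eq_top_of_le_card
    rw [hG]
    have e : (3 : ℕ) ^ n = 3 * (3 * 3 ^ (n - 2)) := by
      rw [← pow_succ', ← pow_succ']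
      congr 1
      omega
    rw [e]
    calc 3 * (3 * 3 ^ (n - 2)) = 3 * (3 * Nat.card (gam G 2)) := by rw [hP2]
      _ ≤ 3 * Nat.card ↥(Subgroup.zpowers x ⊔ gam G 2) := Nat.mul_le_mul_left _ hc1
      _ ≤ Nat.card N := hc2
  -- then `gam G 2 ≤ gam G 3`
  have hle : gam G 2 ≤ gam G 3 := by
    intro m hm
    obtain ⟨g, hg⟩ := h79_px_onto1 3 n hG x hC hn3 m hm
    have hgN : g ∈ N := by
      rw [hNtop]
      exact Subgroup.mem_top _
    have e : com x g = (com g x)⁻¹ := by
      unfold com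
      group
    rw [← hg, e]
    exact (gam G 3).inv_mem ((hN g).mp hgN)
  have hcard := Subgroup.card_le_of_le hle
  rw [hP2, hP3] at hcard
  have hlt : (3 : ℕ) ^ (n - 3) < 3 ^ (n - 2) := Nat.pow_lt_pow_right (by norm_num) (by omega)
  omega

end Cfsg.Agent.Lib.helper79.P3
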