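import Cfsg.Agent.Lib.helper39.FusTools
import Cfsg.Agent.Lib.helper39.QuarticSeries
import Cfsg.Agent.Lib.helper39.SelfCent
import Mathlib.GroupTheory.Transfer

set_option autoImplicit false

namespace Cfsg.Agent.Lib.helper39

open Cfsg

open scoped commutatorElement

section basic

variable {G : Type*} [Group G]

/-- All elements of `X` of order prime to `p` lie in `C`. -/
def PMod (p : ℕ) (X C : Subgroup G) : Prop := ∀ x ∈ X, (orderOf x).Coprime p → x ∈ C

theorem PMod.mono {p : ℕ} {X X' C : Subgroup G} (h : PMod p X C) (hX : X' ≤ X) : PMod p X' C :=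
  fun x hx hco => h x (hX hx) hco

theorem PMod.mono_right {p : ℕ} {X C C' : Subgroup G} (h : PMod p X C) (hC : C ≤ C') :
    PMod p X C' :=
  fun x hx hco => hC (h x hx hco)

theorem orderOf_conj_eq (g x : G) : orderOf (g * x * g⁻¹) = orderOf x :=
  (MulAut.conj g).orderOf_eq x

theorem PMod.cj {p : ℕ} {X C : Subgroup G} [hC : C.Normal] (h : PMod p X C) (g : G) :
    PMod p (cj g X) C := by
  intro x hx hco
  rw [mem_cj] at hx
  have h1 : orderOf (g⁻¹ * x * g) = orderOf x := by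
    have h0 := orderOf_conj_eq g⁻¹ x
    rwa [inv_inv] at h0
  have h2 := h _ hx (by rw [h1]; exact hco)
  have e : x = g * (g⁻¹ * x * g) * g⁻¹ := by group
  rw [e]
  exact hC.conj_mem _ h2 g

theorem eq_one_of_pprime_of_pow {p : ℕ} {x : G} {k : ℕ} (hk : x ^ p ^ k = 1)
    (hco : (orderOf x).Coprime p) : x = 1 := by
  have h1 : orderOf x ∣ p ^ k := orderOf_dvd_of_pow_eq_one hk
  have h2 : orderOf x ∣ Nat.gcd (orderOf x) (p ^ k) := Nat.dvd_gcd dvd_rfl h1
  rw [Nat.Coprime.pow_right k hco] at h2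
  exact orderOf_eq_one_iff.mp (Nat.dvd_one.mp h2)

theorem eq_one_of_pprime_of_mem {p : ℕ} {P : Subgroup G} (hP : IsPGroup p P) {x : G}
    (hx : x ∈ P) (hco : (orderOf x).Coprime p) : x = 1 := by
  obtain ⟨k, hk⟩ := hP ⟨x, hx⟩
  have hk' : x ^ p ^ k = 1 := by
    have := congrArg Subtype.val hk
    simpa using this
  exact eq_one_of_pprime_of_pow hk' hco

/-- An element of order prime to `p` normalizing the `p`-group `P` with `[P, x, x] = 1`
centralizes `P`. -/
theorem commutator_eq_bot_of_pprime {p : ℕ} {P : Subgroup G} (hP : IsPGroup p P) {x : G}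
    (hco : (orderOf x).Coprime p) (hxP : x ∈ Subgroup.normalizer (P : Set G))
    (h : ⁅⁅P, Subgroup.zpowers x⁆, Subgroup.zpowers x⁆ = ⊥) : ⁅P, Subgroup.zpowers x⁆ = ⊥ := by
  have hQP : ⁅P, Subgroup.zpowers x⁆ ≤ P :=
    Subgroup.le_normalizer_iff_commutator_le_left.mp ((Subgroup.zpowers_le).mpr hxP)
  have hxQ : x ∈ Subgroup.centralizer ((⁅P, Subgroup.zpowers x⁆ : Subgroup G) : Set G) := by
    have h1 := Subgroup.commutator_eq_bot_iff_le_centralizer.mp h
    rw [Subgroup.mem_centralizer_iff]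
    intro q hq
    exact ((Subgroup.mem_centralizer_iff.mp (h1 hq)) x (Subgroup.mem_zpowers x)).symm
  have hxc : x ∈ Subgroup.centralizer (P : Set G) := by
    refine pprime_centralizes _ (hP.to_le hQP) hxQ hco ?_
    intro b hb
    have e : b⁻¹ * (x * b * x⁻¹) = ⁅b⁻¹, x⁆ := by rw [commutatorElement_def]; group
    rw [e]
    exact Subgroup.commutator_mem_commutator (P.inv_mem hb) (Subgroup.mem_zpowers x)
  rw [Subgroup.commutator_comm, Subgroup.commutator_eq_bot_iff_le_centralizer]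
  exact (Subgroup.zpowers_le).mpr hxc

/-- The normal closure of `g` under conjugation by `H`. -/
def nclIn (H : Subgroup G) (g : G) : Subgroup G :=
  Subgroup.closure {y | ∃ h ∈ H, y = h * g * h⁻¹}

theorem self_mem_nclIn (H : Subgroup G) (g : G) : g ∈ nclIn H g :=
  Subgroup.subset_closure ⟨1, one_mem H, by simp⟩

theorem conj_mem_nclIn {H : Subgroup G} {g h : G} (hh : h ∈ H) : h * g * h⁻¹ ∈ nclIn H g :=
  Subgroup.subset_closure ⟨h, hh, rfl⟩

theorem nclIn_le {H K : Subgroup G} {g : G} (hg : g ∈ K)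
    (hHK : H ≤ Subgroup.normalizer (K : Set G)) : nclIn H g ≤ K := by
  apply (Subgroup.closure_le _).mpr
  rintro _ ⟨h, hh, rfl⟩
  exact (Subgroup.mem_normalizer_iff.mp (hHK hh) g).mp hg

theorem le_normalizer_nclIn (H : Subgroup G) (g : G) :
    H ≤ Subgroup.normalizer ((nclIn H g : Subgroup G) : Set G) := by
  apply le_normalizer_of_forall_cj_le
  intro x hx
  show (nclIn H g).map (MulAut.conj x).toMonoidHom ≤ nclIn H g
  unfold nclIn
  rw [MonoidHom.map_closure, Subgroup.closure_le]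
  rintro _ ⟨_, ⟨h, hh, rfl⟩, rfl⟩
  refine Subgroup.subset_closure ⟨x * h, H.mul_mem hx hh, ?_⟩
  simp only [MulEquiv.coe_toMonoidHom, MulAut.conj_apply]
  group

theorem commutator_zpowers_le_nclIn {H K : Subgroup G} {g : G} (hK : K ≤ H) :
    ⁅K, Subgroup.zpowers g⁆ ≤ nclIn H g := by
  rw [Subgroup.commutator_le]
  intro k hk y hy
  obtain ⟨n, rfl⟩ := Subgroup.mem_zpowers_iff.mp hy
  have e : ⁅k, g ^ n⁆ = (k * g * k⁻¹) ^ n * (g ^ n)⁻¹ := by
    rw [commutatorElement_def, conj_zpow]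
  rw [e]
  exact mul_mem (zpow_mem (conj_mem_nclIn (hK hk)) n) (inv_mem (zpow_mem (self_mem_nclIn H g) n))

theorem le_normalizer_commutator_left (K A : Subgroup G) :
    K ≤ Subgroup.normalizer ((⁅K, A⁆ : Subgroup G) : Set G) := by
  apply le_normalizer_of_forall_cj_le
  intro x hx
  have key : ∀ k ∈ K, ∀ a ∈ A, x * ⁅k, a⁆ * x⁻¹ ∈ ⁅K, A⁆ := by
    intro k hk a ha
    have e : x * ⁅k, a⁆ * x⁻¹ = ⁅x * k, a⁆ * ⁅x, a⁆⁻¹ := by
      simp only [commutatorElement_def]; group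
    rw [e]
    exact mul_mem (Subgroup.commutator_mem_commutator (K.mul_mem hx hk) ha)
      (inv_mem (Subgroup.commutator_mem_commutator hx ha))
  show (⁅K, A⁆).map (MulAut.conj x).toMonoidHom ≤ ⁅K, A⁆
  rw [Subgroup.map_le_iff_le_comap, Subgroup.commutator_le]
  intro k hk a ha
  refine Subgroup.mem_comap.mpr ?_
  show (MulAut.conj x) ⁅k, a⁆ ∈ ⁅K, A⁆
  rw [MulAut.conj_apply]
  exact key k hk a ha

/-- The elements of `U` commuting with `U` modulo `W₀`. -/
def radSub (U W₀ : Subgroup G) : Subgroup G :=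
  Subgroup.closure {u | u ∈ U ∧ ∀ v ∈ U, ⁅u, v⁆ ∈ W₀}

theorem radSub_le (U W₀ : Subgroup G) : radSub U W₀ ≤ U :=
  (Subgroup.closure_le _).mpr fun _ hu => hu.1

theorem mem_radSub_of {U W₀ : Subgroup G} {u : G} (hu : u ∈ U) (h : ∀ v ∈ U, ⁅u, v⁆ ∈ W₀) :
    u ∈ radSub U W₀ :=
  Subgroup.subset_closure ⟨hu, h⟩

theorem mem_radSub {U W₀ : Subgroup G} (hW : W₀ ≤ Subgroup.centralizer (U : Set G)) {u : G} :
    u ∈ radSub U W₀ ↔ u ∈ U ∧ ∀ v ∈ U, ⁅u, v⁆ ∈ W₀ := by
  refine ⟨fun hu => ?_, fun hu => mem_radSub_of hu.1 hu.2⟩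
  unfold radSub at hu
  induction hu using Subgroup.closure_induction with
  | mem x hx => exact hx
  | one => exact ⟨one_mem U, fun v _ => by rw [commutatorElement_one_left]; exact one_mem W₀⟩
  | mul x y _ _ ihx ihy =>
    refine ⟨U.mul_mem ihx.1 ihy.1, fun v hv => ?_⟩
    rw [commutatorElement_mul_left_eq_conj_mul]
    have h1 := ihy.2 v hv
    have h2 : ⁅y, v⁆ * x = x * ⁅y, v⁆ := (Subgroup.mem_centralizer_iff.mp (hW h1)) x ihx.1 |>.symm
    have e : x * ⁅y, v⁆ * x⁻¹ = ⁅y, v⁆ := by rw [← h2]; group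
    rw [e]
    exact W₀.mul_mem h1 (ihx.2 v hv)
  | inv x _ ihx =>
    refine ⟨U.inv_mem ihx.1, fun v hv => ?_⟩
    rw [commutatorElement_inv_left]
    have h1 : ⁅v, x⁆ ∈ W₀ := by rw [← commutatorElement_inv]; exact W₀.inv_mem (ihx.2 v hv)
    have h2 : ⁅v, x⁆ * x = x * ⁅v, x⁆ := (Subgroup.mem_centralizer_iff.mp (hW h1)) x ihx.1 |>.symm
    have e : x⁻¹ * ⁅v, x⁆ * x = ⁅v, x⁆ := by rw [mul_assoc, h2]; group
    rw [e]
    exact h1

theorem normalizer_le_normalizer_radSub (U W₀ : Subgroup G) :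
    Subgroup.normalizer (U : Set G) ⊓ Subgroup.normalizer (W₀ : Set G) ≤
      Subgroup.normalizer ((radSub U W₀ : Subgroup G) : Set G) := by
  apply le_normalizer_of_forall_cj_le
  intro n hn
  show (radSub U W₀).map (MulAut.conj n).toMonoidHom ≤ radSub U W₀
  unfold radSub
  rw [MonoidHom.map_closure, Subgroup.closure_le]
  rintro _ ⟨u, ⟨hu, huv⟩, rfl⟩
  refine Subgroup.subset_closure ⟨?_, fun v hv => ?_⟩
  · exact (Subgroup.mem_normalizer_iff.mp hn.1 u).mp hu
  · have hv' : n⁻¹ * v * n ∈ U := by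
      have := (Subgroup.mem_normalizer_iff.mp (inv_mem hn.1) v).mp hv
      simpa using this
    have h1 := (Subgroup.mem_normalizer_iff.mp hn.2 _).mp (huv _ hv')
    have e : ⁅(MulAut.conj n).toMonoidHom u, v⁆ = n * ⁅u, n⁻¹ * v * n⁆ * n⁻¹ := by
      simp only [MulEquiv.coe_toMonoidHom, MulAut.conj_apply, commutatorElement_def]
      group
    rw [e]
    exact h1

end basic

section finite

variable {G : Type*} [Group G] [Finite G] {p : ℕ} [Fact p.Prime]

theorem isPGroup_of_pprime_eq_one (M : Subgroup G)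
    (h : ∀ g ∈ M, (orderOf g).Coprime p → g = 1) : IsPGroup p M := by
  intro g
  obtain ⟨k, hk⟩ := exists_pow_pprime p (g : G)
  refine ⟨k, ?_⟩
  have h1 := h _ (M.pow_mem g.2 (p ^ k)) hk
  apply Subtype.ext
  simpa using h1

/-- A join of subgroups of `K₀`, each normalized by `K₀`, whose elements of order prime to `p`
lie in the normal subgroup `C`, has the same property. -/
theorem pMod_sSup (C : Subgroup G) [C.Normal] (K₀ : Subgroup G) (𝒮 : Set (Subgroup G))
    (h : ∀ S ∈ 𝒮, S ≤ K₀ ∧ K₀ ≤ Subgroup.normalizer (S : Set G) ∧ PMod p S C) :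
    PMod p (sSup 𝒮) C := by
  have hSp : ∀ S ∈ 𝒮, IsPGroup p (S.map (QuotientGroup.mk' C)) := by
    intro S hS
    rintro ⟨_, ⟨s, hs, rfl⟩⟩
    obtain ⟨k, hk⟩ := exists_pow_pprime p s
    refine ⟨k, Subtype.ext ?_⟩
    have h1 := (h S hS).2.2 _ (S.pow_mem hs (p ^ k)) hk
    show (QuotientGroup.mk' C s) ^ p ^ k = 1
    rw [← map_pow]
    exact (QuotientGroup.eq_one_iff _).mpr h1
  have hle : ∀ S ∈ 𝒮, S.map (QuotientGroup.mk' C) ≤
      (pCore p ↥(K₀.map (QuotientGroup.mk' C))).map (K₀.map (QuotientGroup.mk' C)).subtype := by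
    intro S hS
    have hSK : S.map (QuotientGroup.mk' C) ≤ K₀.map (QuotientGroup.mk' C) :=
      Subgroup.map_mono (h S hS).1
    have hn : ((S.map (QuotientGroup.mk' C)).subgroupOf (K₀.map (QuotientGroup.mk' C))).Normal := by
      rw [Subgroup.normal_subgroupOf_iff_le_normalizer hSK]
      exact (Subgroup.map_mono (h S hS).2.1).trans (Subgroup.le_normalizer_map _)
    have hp' : IsPGroup p ((S.map (QuotientGroup.mk' C)).subgroupOf
        (K₀.map (QuotientGroup.mk' C))) := (hSp S hS).comap_subtype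
    have h1 := le_pCore hn hp'
    intro x hx
    exact ⟨⟨x, hSK hx⟩, h1 (Subgroup.mem_subgroupOf.mpr hx), rfl⟩
  have hO : IsPGroup p ((pCore p ↥(K₀.map (QuotientGroup.mk' C))).map
      (K₀.map (QuotientGroup.mk' C)).subtype) := (pCore_isPGroup p _).map _
  have hsup : (sSup 𝒮).map (QuotientGroup.mk' C) ≤
      (pCore p ↥(K₀.map (QuotientGroup.mk' C))).map (K₀.map (QuotientGroup.mk' C)).subtype := by
    rw [Subgroup.map_le_iff_le_comap]
    apply sSup_le
    intro S hS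
    rw [← Subgroup.map_le_iff_le_comap]
    exact hle S hS
  intro x hx hco
  have h1 : QuotientGroup.mk' C x ∈ (pCore p ↥(K₀.map (QuotientGroup.mk' C))).map
      (K₀.map (QuotientGroup.mk' C)).subtype := hsup ⟨x, hx, rfl⟩
  have h2 : (orderOf (QuotientGroup.mk' C x)).Coprime p :=
    Nat.Coprime.coprime_dvd_left (orderOf_map_dvd (QuotientGroup.mk' C) x) hco
  have h3 := eq_one_of_pprime_of_mem hO h1 h2
  exact (QuotientGroup.eq_one_iff x).mp h3

/-- A normal subgroup `J` whose elements of order prime to `p` act trivially on the `p`-chief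
factor `U/Z` acts trivially on it. -/
theorem le_relCent_of_pMod (U Z J : Subgroup G) [U.Normal] [Z.Normal] [J.Normal]
    (hZU : Z ≤ U) (hne : Z ≠ U) (hU : IsPGroup p U)
    (hchief : ∀ V : Subgroup G, V.Normal → V ≤ U → V ≠ U → V ≤ Z)
    (hJ : PMod p J (relCent U Z)) : ⁅U, J⁆ ≤ Z := by
  by_contra hcon
  have hVn : (⁅U, J⁆ ⊔ Z).Normal := inferInstance
  have hVU : ⁅U, J⁆ ⊔ Z ≤ U := sup_le (Subgroup.commutator_le_left U J) hZU
  have hV : ⁅U, J⁆ ⊔ Z = U := by
    by_contra hV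
    exact hcon (le_sup_left.trans (hchief _ hVn hVU hV))
  obtain ⟨PJ, hPJ, -⟩ := exists_isSylIn_ge (IsPGroup.of_bot : IsPGroup p (⊥ : Subgroup G))
    (bot_le : ⊥ ≤ J)
  have hJn : J ≤ Subgroup.normalizer ((J ⊓ relCent U Z : Subgroup G) : Set G) :=
    fun _ _ => Subgroup.le_normalizer_of_normal (Subgroup.mem_top _)
  obtain ⟨k, hk⟩ := relIndex_pow_of_pprime_mem (p := p) (inf_le_left : J ⊓ relCent U Z ≤ J) hJn
    (fun n hn hco => ⟨hn, hJ n hn hco⟩)
  have hle := le_sup_of_relIndex hk hPJ.2.2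
  have hCs : ⁅U, relCent U Z⁆ ≤ Z := le_relCent_iff.mp le_rfl
  have h1 : ⁅U, J⁆ ≤ ⁅U, PJ⁆ ⊔ Z := by
    rw [Subgroup.commutator_le]
    intro u hu j hj
    obtain ⟨c, hc, t, ht, rfl⟩ := Subgroup.mem_sup_of_normal_left.mp (hle hj)
    have e : ⁅u, c * t⁆ = ⁅u, c⁆ * (⁅⁅u, t⁆, c⁆⁻¹ * ⁅u, t⁆) := by
      simp only [commutatorElement_def]; group
    rw [e]
    have hut : ⁅u, t⁆ ∈ U :=
      (Subgroup.commutator_le_left U PJ) (Subgroup.commutator_mem_commutator hu ht)
    exact mul_mem (Subgroup.mem_sup_right (hCs (Subgroup.commutator_mem_commutator hu hc.2)))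
      (mul_mem (Subgroup.mem_sup_right
        (inv_mem (hCs (Subgroup.commutator_mem_commutator hut hc.2))))
        (Subgroup.mem_sup_left (Subgroup.commutator_mem_commutator hu ht)))
  have h2 : U ≤ ⁅U, PJ⁆ ⊔ Z := by
    have h0 : ⁅U, J⁆ ⊔ Z ≤ ⁅U, PJ⁆ ⊔ Z := sup_le h1 le_sup_right
    rwa [hV] at h0
  have h3 : ∀ k, U ≤ iterCommutator U PJ k ⊔ Z := by
    intro k
    induction k with
    | zero => exact le_sup_left
    | succ k ih =>
      refine h2.trans (sup_le ?_ le_sup_right)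
      rw [iterCommutator_succ]
      exact (Subgroup.commutator_mono ih le_rfl).trans (commutator_sup_normal_le _ _ _)
  have hSp : IsPGroup p (U ⊔ PJ : Subgroup G) := IsPGroup.to_sup_of_normal_left hU hPJ.2.1
  have : Group.IsNilpotent ↥(U ⊔ PJ) := hSp.isNilpotent
  obtain ⟨m, hm⟩ := exists_iterCommutator_eq_bot (T := U ⊔ PJ) (N := U) le_sup_left
  have h4 : iterCommutator U PJ m = ⊥ := by
    apply le_bot_iff.mp
    rw [← hm]
    exact iterCommutator_mono_right le_sup_right m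
  have h5 := h3 m
  rw [h4, bot_sup_eq] at h5
  exact hne (le_antisymm hZU h5)

/-- If `L` is generated by elements of `p`-power order and every element of `L` of order prime
to `p` is central in `L` modulo the normal subgroup `Cs`, then every such element lies in
`Cs`. -/
theorem pMod_of_central (Cs : Subgroup G) [Cs.Normal] (𝔅 : Set G)
    (h𝔅 : ∀ b ∈ 𝔅, ∃ k, b ^ p ^ k = 1)
    (hcent : ∀ y ∈ Subgroup.closure 𝔅, (orderOf y).Coprime p →
      ∀ x ∈ Subgroup.closure 𝔅, ⁅y, x⁆ ∈ Cs) :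
    PMod p (Subgroup.closure 𝔅) Cs := by
  obtain ⟨L, hL⟩ : ∃ L, L = Subgroup.closure 𝔅 := ⟨_, rfl⟩
  rw [← hL] at hcent ⊢
  -- the quotient of the centre is a `p`-group
  have hq : IsPGroup p (↥(L.map (QuotientGroup.mk' Cs)) ⧸
      Subgroup.center ↥(L.map (QuotientGroup.mk' Cs))) := by
    intro q'
    induction q' using QuotientGroup.induction_on with
    | H q =>
      obtain ⟨l, hl, hlq⟩ := q.2
      obtain ⟨k, hk⟩ := exists_pow_pprime p l
      refine ⟨k, ?_⟩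
      rw [← QuotientGroup.mk_pow, QuotientGroup.eq_one_iff, Subgroup.mem_center_iff]
      intro q₂
      obtain ⟨l₂, hl₂, hlq₂⟩ := q₂.2
      apply Subtype.ext
      have hc := hcent _ (L.pow_mem hl (p ^ k)) hk l₂ hl₂
      have h1 : QuotientGroup.mk' Cs (l ^ p ^ k * l₂) =
          QuotientGroup.mk' Cs ⁅l ^ p ^ k, l₂⁆ * QuotientGroup.mk' Cs (l₂ * l ^ p ^ k) := by
        rw [← map_mul]
        congr 1
        rw [commutatorElement_def]
        group
      have h2 : QuotientGroup.mk' Cs ⁅l ^ p ^ k, l₂⁆ = 1 := (QuotientGroup.eq_one_iff _).mpr hc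
      rw [h2, one_mul, map_mul, map_mul, map_pow, hlq, hlq₂] at h1
      simpa using h1.symm
  obtain ⟨n, hn⟩ := IsPGroup.iff_card.mp hq
  have hidx : (Subgroup.center ↥(L.map (QuotientGroup.mk' Cs))).index = p ^ n := by
    rw [← hn]
    exact Subgroup.index_eq_card _
  -- the transfer into the centre has image consisting of `p`-elements
  subst hL
  obtain ⟨Φ, hΦ⟩ : ∃ Φ : ↥(Subgroup.closure 𝔅) →*
      Subgroup.center ↥((Subgroup.closure 𝔅).map (QuotientGroup.mk' Cs)),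
      ∀ l : ↥(Subgroup.closure 𝔅), (((Φ l : Subgroup.center
        ↥((Subgroup.closure 𝔅).map (QuotientGroup.mk' Cs))) :
        ↥((Subgroup.closure 𝔅).map (QuotientGroup.mk' Cs))) : G ⧸ Cs) =
        (QuotientGroup.mk' Cs (l : G)) ^ p ^ n := by
    refine ⟨(MonoidHom.transferCenterPow _).comp
      ((QuotientGroup.mk' Cs).subgroupMap (Subgroup.closure 𝔅)), fun l => ?_⟩
    rw [MonoidHom.comp_apply, MonoidHom.transferCenterPow_apply, hidx]
    rfl
  have himg : ∀ x (hx : x ∈ Subgroup.closure 𝔅), ∃ j, (Φ ⟨x, hx⟩) ^ p ^ j = 1 := by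
    intro x hx
    induction hx using Subgroup.closure_induction with
    | mem x hx =>
      obtain ⟨k, hk⟩ := h𝔅 x hx
      refine ⟨k, ?_⟩
      rw [← map_pow]
      have e : (⟨x, Subgroup.subset_closure hx⟩ : ↥(Subgroup.closure 𝔅)) ^ p ^ k = 1 :=
        Subtype.ext hk
      rw [e, map_one]
    | one =>
      refine ⟨0, ?_⟩
      have e : (⟨1, Subgroup.one_mem _⟩ : ↥(Subgroup.closure 𝔅)) = 1 := rfl
      rw [e, map_one, one_pow]
    | mul x y hx hy ihx ihy =>
      obtain ⟨j₁, h₁⟩ := ihx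
      obtain ⟨j₂, h₂⟩ := ihy
      refine ⟨j₁ + j₂, ?_⟩
      have e : (⟨x * y, Subgroup.mul_mem _ hx hy⟩ : ↥(Subgroup.closure 𝔅)) =
          ⟨x, hx⟩ * ⟨y, hy⟩ := rfl
      have hcomm : Commute (Φ ⟨x, hx⟩) (Φ ⟨y, hy⟩) :=
        Subtype.ext (Subgroup.mem_center_iff.mp (Φ ⟨y, hy⟩).2 _)
      rw [e, map_mul, hcomm.mul_pow, pow_add]
      rw [pow_mul, h₁, one_pow, mul_comm (p ^ j₁) (p ^ j₂), pow_mul, h₂, one_pow, one_mul]
    | inv x hx ihx =>
      obtain ⟨j, hj⟩ := ihx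
      refine ⟨j, ?_⟩
      have e : (⟨x⁻¹, Subgroup.inv_mem _ hx⟩ : ↥(Subgroup.closure 𝔅)) = (⟨x, hx⟩)⁻¹ := rfl
      rw [e, map_inv, inv_pow, hj, inv_one]
  intro y hy hco
  obtain ⟨j, hj⟩ := himg y hy
  have h1 : (((Φ ⟨y, hy⟩ ^ p ^ j : Subgroup.center
      ↥((Subgroup.closure 𝔅).map (QuotientGroup.mk' Cs))) :
      ↥((Subgroup.closure 𝔅).map (QuotientGroup.mk' Cs))) : G ⧸ Cs) = 1 := by
    rw [hj]; rfl
  rw [SubgroupClass.coe_pow, SubgroupClass.coe_pow, hΦ, ← pow_mul, ← pow_add] at h1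
  have h3 : (orderOf (QuotientGroup.mk' Cs y)).Coprime p :=
    Nat.Coprime.coprime_dvd_left (orderOf_map_dvd (QuotientGroup.mk' Cs) y) hco
  exact (QuotientGroup.eq_one_iff y).mp (eq_one_of_pprime_of_pow h1 h3)

end finite

end Cfsg.Agent.Lib.helper39
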