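import Mathlib
import Cfsg.Agent.Lib.helper75.PQDefs
import Cfsg.Agent.Lib.helper66.S3B
import Cfsg.Agent.Lib.helper1.Coprime

/-!
# S4306, cases Ia / Ib: small utilities (weights, stabilizers, groups of prime order)
-/

set_option autoImplicit false

namespace Cfsg.Agent.Lib.helper75.PQ

open Cfsg.Agent.Lib.helper66 (WtV Fx cw)
open scoped commutatorElement
open scoped Pointwise

section

variable {Γ : Type*} [Group Γ] {F : Type*} [Field F] {W : Type*} [AddCommGroup W] [Module F W]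

/-- The kernel of a weight on the subgroup `B`. -/
def h39_wtKer (ρ : Γ →* Module.End F W) (M : Submodule F W) (B : Subgroup Γ) (ψ : Γ → F) (w : W)
    (hw : WtV ρ M B ψ w) : Subgroup Γ where
  carrier := {z | z ∈ B ∧ ψ z = 1}
  mul_mem' := by
    rintro a b ⟨ha, ha1⟩ ⟨hb, hb1⟩
    exact ⟨B.mul_mem ha hb, by
      rw [Cfsg.Agent.Lib.helper66.wt_mul ρ M B ψ w hw a b ha hb, ha1, hb1, one_mul]⟩
  one_mem' := ⟨B.one_mem, Cfsg.Agent.Lib.helper66.wt_one ρ M B ψ w hw⟩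
  inv_mem' := by
    rintro a ⟨ha, ha1⟩
    exact ⟨B.inv_mem ha, by
      rw [Cfsg.Agent.Lib.helper66.wt_inv ρ M B ψ w hw a ha, ha1, inv_one]⟩

theorem h39_mem_wtKer (ρ : Γ →* Module.End F W) (M : Submodule F W) (B : Subgroup Γ) (ψ : Γ → F)
    (w : W) (hw : WtV ρ M B ψ w) (z : Γ) :
    z ∈ h39_wtKer ρ M B ψ w hw ↔ z ∈ B ∧ ψ z = 1 := Iff.rfl

/-- The stabilizer of a weight in the normalizer of `B`. -/
def h39_fxStab (B : Subgroup Γ) (μ : Γ → F) : Subgroup Γ where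
  carrier := {g | g ∈ Subgroup.normalizer (B : Set Γ) ∧ Fx B g μ}
  mul_mem' := by
    rintro a b ⟨ha, ha1⟩ ⟨hb, hb1⟩
    exact ⟨Subgroup.mul_mem _ ha hb, Cfsg.Agent.Lib.helper66.Fx_mul B μ a b ha ha1 hb1⟩
  one_mem' := ⟨Subgroup.one_mem _, Cfsg.Agent.Lib.helper66.Fx_one B μ⟩
  inv_mem' := by
    rintro a ⟨ha, ha1⟩
    exact ⟨Subgroup.inv_mem _ ha, Cfsg.Agent.Lib.helper66.Fx_inv B μ a ha ha1⟩

theorem h39_mem_fxStab (B : Subgroup Γ) (μ : Γ → F) (g : Γ) :
    g ∈ h39_fxStab B μ ↔ g ∈ Subgroup.normalizer (B : Set Γ) ∧ Fx B g μ := Iff.rfl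

/-- A subgroup of prime order is contained in every subgroup containing one of its nontrivial
elements. -/
theorem h39_le_of_prime_card (K : Subgroup Γ) (p : ℕ) (hp : p.Prime) (hK : Nat.card K = p)
    (k : Γ) (hk : k ∈ K) (hk1 : k ≠ 1) (E : Subgroup Γ) (hkE : k ∈ E) : K ≤ E := by
  have : Fact (Nat.card K).Prime := ⟨hK ▸ hp⟩
  rcases Subgroup.eq_bot_or_eq_top_of_prime_card (E.subgroupOf K) with h | h
  · exfalso
    have h1 : (⟨k, hk⟩ : K) ∈ E.subgroupOf K := Subgroup.mem_subgroupOf.mpr hkE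
    rw [h, Subgroup.mem_bot] at h1
    exact hk1 (congrArg Subtype.val h1)
  · exact Subgroup.subgroupOf_eq_top.mp h

theorem h39_exists_ne_one (K : Subgroup Γ) (p : ℕ) (hp : p.Prime) (hK : Nat.card K = p) :
    ∃ k ∈ K, k ≠ 1 := by
  have h1 : 1 < Nat.card K := hK ▸ hp.one_lt
  have : Finite K := Nat.finite_of_card_ne_zero (by omega)
  have h2 : Nontrivial K := Finite.one_lt_card_iff_nontrivial.mp h1
  obtain ⟨x, hx⟩ := exists_ne (1 : K)
  exact ⟨x, x.2, fun h => hx (Subtype.ext h)⟩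

theorem h39_solvable_of_prime_card (K : Subgroup Γ) (p : ℕ) (hp : p.Prime)
    (hK : Nat.card K = p) : Group.IsSolvable K := by
  have : Fact p.Prime := ⟨hp⟩
  have : IsCyclic K := isCyclic_of_prime_card hK
  let _i := IsCyclic.commGroup (α := K)
  exact Group.isSolvable_of_comm (fun a b => mul_comm a b)

theorem h39_pow_prime_card (K : Subgroup Γ) (p : ℕ) (hK : Nat.card K = p) (k : Γ) (hk : k ∈ K) :
    k ^ p = 1 := by
  have h1 := pow_card_eq_one' (G := K) (x := ⟨k, hk⟩)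
  rw [hK] at h1
  have h2 := congrArg Subtype.val h1
  rw [Subgroup.coe_pow, Subgroup.coe_one] at h2
  exact h2

theorem h39_pow_card (S : Subgroup Γ) (y : Γ) (hy : y ∈ S) : y ^ Nat.card S = 1 := by
  have h1 := pow_card_eq_one' (G := S) (x := ⟨y, hy⟩)
  have h2 := congrArg Subtype.val h1
  rw [Subgroup.coe_pow, Subgroup.coe_one] at h2
  exact h2

theorem h39_coprime_card [Finite Γ] (A B : Subgroup Γ) (a b : ℕ) (ha : a.Prime) (hb : b.Prime)
    (hab : a ≠ b) (hA : Nat.card A = a) (hB : IsPGroup b B) :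
    (Nat.card A).Coprime (Nat.card B) := by
  have : Fact b.Prime := ⟨hb⟩
  obtain ⟨n, hn⟩ := hB.exists_card_eq
  rw [hA, hn]
  exact Nat.Coprime.pow_right n ((Nat.coprime_primes ha hb).mpr hab)

/-- If a nontrivial element of the group `K` of prime order fixes a weight, all of `K` does. -/
theorem h39_fx_all (B K : Subgroup Γ) (p : ℕ) (hp : p.Prime) (hK : Nat.card K = p)
    (hKB : K ≤ Subgroup.normalizer (B : Set Γ)) (μ : Γ → F) (k : Γ) (hk : k ∈ K) (hk1 : k ≠ 1)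
    (hfx : Fx B k μ) : ∀ k' ∈ K, Fx B k' μ :=
  fun _ hk' => (h39_le_of_prime_card K p hp hK k hk hk1 (h39_fxStab B μ) ⟨hKB hk, hfx⟩ hk').2

/-- If `R = [R, K]`, a weight of `R` fixed by `K` is trivial. -/
theorem h39_wt_trivial_of_comm (ρ : Γ →* Module.End F W) (M : Submodule F W) (R K : Subgroup Γ)
    (hKR : K ≤ Subgroup.normalizer (R : Set Γ)) (hRK : ⁅R, K⁆ = R) (ψ : Γ → F) (w : W)
    (hw : WtV ρ M R ψ w) (hfx : ∀ k ∈ K, Fx R k ψ) : ∀ x ∈ R, ψ x = 1 := by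
  have hle : ⁅R, K⁆ ≤ h39_wtKer ρ M R ψ w hw := by
    rw [Subgroup.commutator_le]
    intro x hx k hk
    have hkx : k * x⁻¹ * k⁻¹ ∈ R :=
      Cfsg.Agent.Lib.helper66.conj_mem_of_normalizer R k (hKR hk) x⁻¹ (R.inv_mem hx)
    have e : ⁅x, k⁆ = x * (k * x⁻¹ * k⁻¹) := by
      rw [commutatorElement_def]
      group
    rw [h39_mem_wtKer, e]
    refine ⟨R.mul_mem hx hkx, ?_⟩
    rw [Cfsg.Agent.Lib.helper66.wt_mul ρ M R ψ w hw _ _ hx hkx,
      Cfsg.Agent.Lib.helper66.Fx_conj R ψ k (hKR hk) (hfx k hk) x⁻¹ (R.inv_mem hx),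
      Cfsg.Agent.Lib.helper66.wt_inv ρ M R ψ w hw x hx,
      mul_inv_cancel₀ (Cfsg.Agent.Lib.helper66.wt_ne_zero ρ M R ψ w hw x hx)]
  intro x hx
  have hx' : x ∈ ⁅R, K⁆ := by
    rw [hRK]
    exact hx
  exact (hle hx').2

/-- An element normalizing `A` and `B` normalizes `⁅A, B⁆`. -/
theorem h39_normalizer_commutator (A B : Subgroup Γ) (g : Γ)
    (hA : g ∈ Subgroup.normalizer (A : Set Γ)) (hB : g ∈ Subgroup.normalizer (B : Set Γ)) :
    g ∈ Subgroup.normalizer ((⁅A, B⁆ : Subgroup Γ) : Set Γ) := by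
  apply Cfsg.Agent.Lib.helper1.mem_normalizer_of_conj_smul_eq
  have h1 : MulAut.conj g • A = A := Cfsg.Agent.Lib.helper1.conj_smul_eq_of_mem_normalizer hA
  have h2 : MulAut.conj g • B = B := Cfsg.Agent.Lib.helper1.conj_smul_eq_of_mem_normalizer hB
  have h3 := Subgroup.map_commutator A B (MulAut.conj g).toMonoidHom
  calc MulAut.conj g • ⁅A, B⁆ = ⁅MulAut.conj g • A, MulAut.conj g • B⁆ := h3
    _ = ⁅A, B⁆ := by rw [h1, h2]

theorem h39_cz_sup (S X Y : Subgroup Γ) (h1 : Cz S X) (h2 : Cz S Y) : Cz S (X ⊔ Y) := by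
  intro y hy x hx
  have hle : X ⊔ Y ≤ Subgroup.centralizer ({y} : Set Γ) := by
    apply sup_le
    · intro z hz
      rw [Subgroup.mem_centralizer_iff]
      intro g hg
      rw [Set.mem_singleton_iff] at hg
      subst hg
      exact h1 g hy z hz
    · intro z hz
      rw [Subgroup.mem_centralizer_iff]
      intro g hg
      rw [Set.mem_singleton_iff] at hg
      subst hg
      exact h2 g hy z hz
  exact Subgroup.mem_centralizer_iff.mp (hle hx) y rfl

/-- Commuting with an element implies commuting with its inverse. -/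
theorem h39_comm_inv (a b : Γ) (h : a * b = b * a) : a * b⁻¹ = b⁻¹ * a := by
  calc a * b⁻¹ = b⁻¹ * (b * a) * b⁻¹ := by group
    _ = b⁻¹ * (a * b) * b⁻¹ := by rw [h]
    _ = b⁻¹ * a := by group

/-- Existence of a pair of non-commuting elements. -/
theorem h39_exists_ncomm (S R : Subgroup Γ) (h : ¬ Cz S R) :
    ∃ y ∈ S, ∃ x ∈ R, y * x ≠ x * y := by
  by_contra hcon
  apply h
  intro y hy x hx
  by_contra hne
  exact hcon ⟨y, hy, x, hx, hne⟩

/-- An element of an `r`-group acting nontrivially, with the data needed for a weight. -/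
theorem h39_pgroup_pow (R : Subgroup Γ) (r : ℕ) (hR : IsPGroup r R) (hrF : (r : F) ≠ 0) (g : Γ)
    (hg : g ∈ R) : ∃ m : ℕ, g ^ m = 1 ∧ (m : F) ≠ 0 := by
  obtain ⟨n, hn⟩ := hR ⟨g, hg⟩
  refine ⟨r ^ n, ?_, ?_⟩
  · simpa using congrArg Subtype.val hn
  · rw [Nat.cast_pow]
    exact pow_ne_zero n hrF

theorem h39_exists_moved (ρ : Γ →* Module.End F W) (g : Γ) (h : ρ g ≠ 1) :
    ∃ w ∈ (⊤ : Submodule F W), ρ g w ≠ w := by
  by_contra hcon
  apply h
  apply LinearMap.ext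
  intro w
  by_contra hw
  exact hcon ⟨w, Submodule.mem_top, hw⟩

end

end Cfsg.Agent.Lib.helper75.PQ
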