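import Mathlib
import Cfsg.Agent.Lib.helper39.PQ_Iutil

/-!
# S4306, case Ia (`R` abelian, case (a)): the argument, with the pieces C2, C6, B1, B2 as
hypotheses.
-/

set_option autoImplicit false

namespace Cfsg.Agent.Lib.helper75.PQ

open Cfsg.Agent.Lib.helper66 (WtV Fx cw)
open scoped commutatorElement

section

variable {Γ : Type*} [Group Γ] [Finite Γ] {F : Type*} [Field F]
  {W : Type*} [AddCommGroup W] [Module F W]
  {ρ : Γ →* Module.End F W} {K H S R : Subgroup Γ} {p q s r : ℕ}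

/-- Case Ia, from the pieces C2 (`hKS`), C6 (`hC6`), B1 (`hB1`), B2 (`hB2`). -/
theorem h39_abelian_caseA_core (T : MinTower ρ K H S R p q s r)
    (hKS : Cz K S)
    (hC6 : ∀ V : Subgroup Γ, IsPGroup r V → H ≤ Subgroup.normalizer (V : Set Γ) →
      S ≤ Subgroup.normalizer (V : Set Γ) → (∀ y ∈ S, (∀ h ∈ H, h * y = y * h) → y = 1) →
      (∀ v ∈ V, (∀ h ∈ H, h * v = v * h) → v = 1) → Cz S V)
    (hB1 : ∀ g ∈ R, ∀ m : ℕ, g ^ m = 1 → (m : F) ≠ 0 →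
      (∃ w ∈ (⊤ : Submodule F W), ρ g w ≠ w) →
      ∃ (μ : Γ → F) (w : W), WtV ρ ⊤ R μ w ∧ μ g ≠ 1)
    (hB2 : ∀ (μ : Γ → F) (w : W), WtV ρ ⊤ R μ w →
      (∀ k ∈ K, Fx R k μ) ∨ (∃ k ∈ K, ∀ h ∈ H, Fx R h (cw μ k))) : False := by
  classical
  have KSn := Subgroup.le_normalizer_iff.mp T.KS
  have HSn := Subgroup.le_normalizer_iff.mp T.HS
  have KRn := Subgroup.le_normalizer_iff.mp T.KR
  have HRn := Subgroup.le_normalizer_iff.mp T.HR
  have SRn := Subgroup.le_normalizer_iff.mp T.SR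
  have HKn := Subgroup.le_normalizer_iff.mp T.HK
  have fS : ∀ y ∈ S, (∀ h ∈ H, h * y = y * h) → y = 1 := fun y hy hh =>
    T.fpfS y hy (fun k hk => hKS k hk y hy) hh
  have hsolvK : Group.IsSolvable K := h39_solvable_of_prime_card K p T.hp T.cardK
  have hsolvH : Group.IsSolvable H := h39_solvable_of_prime_card H q T.hq T.cardH
  -- Step 1: `S` centralizes `C_R(K)`.
  have hR0mem : ∀ x, x ∈ R ⊓ Subgroup.centralizer (K : Set Γ) ↔
      x ∈ R ∧ ∀ k ∈ K, k * x = x * k := by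
    intro x
    rw [Subgroup.mem_inf, Subgroup.mem_centralizer_iff]
    rfl
  have hczR0 : Cz S (R ⊓ Subgroup.centralizer (K : Set Γ)) := by
    apply hC6 _ (T.Rgrp.to_le inf_le_left)
    · rw [Subgroup.le_normalizer_iff]
      intro h hh x hx
      rw [hR0mem] at hx ⊢
      refine ⟨HRn h hh x hx.1, ?_⟩
      intro k hk
      have hk' : h⁻¹ * k * h ∈ K := by
        have := HKn h⁻¹ (H.inv_mem hh) k hk
        simpa using this
      have e := hx.2 _ hk'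
      calc k * (h * x * h⁻¹) = h * ((h⁻¹ * k * h) * x) * h⁻¹ := by group
        _ = h * (x * (h⁻¹ * k * h)) * h⁻¹ := by rw [e]
        _ = h * x * h⁻¹ * k := by group
    · rw [Subgroup.le_normalizer_iff]
      intro y hy x hx
      rw [hR0mem] at hx ⊢
      refine ⟨SRn y hy x hx.1, ?_⟩
      intro k hk
      have e1 := hKS k hk y hy
      have e2 := hx.2 k hk
      have e3 : k * y⁻¹ = y⁻¹ * k := h39_comm_inv k y e1
      calc k * (y * x * y⁻¹) = (k * y) * x * y⁻¹ := by group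
        _ = y * (k * x) * y⁻¹ := by rw [e1]; group
        _ = y * x * (k * y⁻¹) := by rw [e2]; group
        _ = y * x * y⁻¹ * k := by rw [e3]; group
    · exact fS
    · intro v hv hh
      rw [hR0mem] at hv
      exact T.fpfR v hv.1 hv.2 hh
  -- Step 2: `R = [R, K]`.
  have hcopKR : (Nat.card K).Coprime (Nat.card R) :=
    h39_coprime_card K R p r T.hp T.hr (Ne.symm T.hrp) T.cardK T.Rgrp
  have hsup := Cfsg.Agent.Lib.helper1.commutator_sup_fixed K R T.KR hcopKR (Or.inl hsolvK)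
  have hSK : S ≤ Subgroup.normalizer (K : Set Γ) := by
    rw [Subgroup.le_normalizer_iff]
    intro y hy k hk
    have e1 := hKS k hk y hy
    have e : y * k * y⁻¹ = k := by
      rw [← e1]
      group
    rw [e]
    exact hk
  have hRK : ⁅R, K⁆ = R := by
    by_contra hne
    have hle : ⁅R, K⁆ ≤ R := Cfsg.Agent.Lib.helper1.commutator_le_of_le_normalizer T.KR
    have hcz : Cz S ⁅R, K⁆ := by
      apply T.minR _ hle hne
      · intro y hy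
        exact h39_normalizer_commutator R K y (T.SR hy) (hSK hy)
      · exact Cfsg.Agent.Lib.helper1.right_le_normalizer_commutator T.KR
      · intro h hh
        exact h39_normalizer_commutator R K h (T.HR hh) (T.HK hh)
    apply T.ncz
    have h2 := h39_cz_sup S _ _ hcz hczR0
    rw [hsup] at h2
    exact h2
  -- Step 3: a weight of `R` fixed by a nontrivial element of `K` is trivial.
  have h3 : ∀ (μ : Γ → F) (w' : W), WtV ρ ⊤ R μ w' → ∀ k ∈ K, k ≠ 1 → Fx R k μ →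
      ∀ x ∈ R, μ x = 1 := by
    intro μ w' hw' k hk hk1 hfx
    exact h39_wt_trivial_of_comm ρ ⊤ R K T.KR hRK μ w' hw'
      (h39_fx_all R K p T.hp T.cardK T.KR μ k hk hk1 hfx)
  -- Step 4: a weight nontrivial on a commutator.
  obtain ⟨y0, hy0, x0, hx0, hne0⟩ := h39_exists_ncomm S R T.ncz
  obtain ⟨g, hg⟩ : ∃ g : Γ, g = y0 * x0 * y0⁻¹ * x0⁻¹ := ⟨_, rfl⟩
  have hgR : g ∈ R := by
    rw [hg]
    exact R.mul_mem (SRn y0 hy0 x0 hx0) (R.inv_mem hx0)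
  have hg1 : g ≠ 1 := by
    intro h
    apply hne0
    have e : y0 * x0 = g * (x0 * y0) := by
      rw [hg]
      group
    rw [e, h, one_mul]
  have hρg : ρ g ≠ 1 := fun h => hg1 (T.faith g hgR h)
  obtain ⟨m, hgm, hmF⟩ := h39_pgroup_pow R r T.Rgrp T.rF g hgR
  obtain ⟨ψ, w, hw, hψg⟩ := hB1 g hgR m hgm hmF (h39_exists_moved ρ g hρg)
  obtain ⟨k1, hk1K, hk1ne⟩ := h39_exists_ne_one K p T.hp T.cardK
  rcases hB2 ψ w hw with hK | ⟨k0, hk0, hH0⟩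
  · exact hψg (h3 ψ w hw k1 hk1K hk1ne (hK k1 hk1K) g hgR)
  have hw0 : WtV ρ ⊤ R (cw ψ k0) (ρ k0 w) :=
    Cfsg.Agent.Lib.helper66.wt_conj ρ ⊤ R ψ w hw k0 (T.KR hk0) (fun _ _ => Submodule.mem_top)
  obtain ⟨ψ0, hψ0⟩ : ∃ ψ0 : Γ → F, ψ0 = cw ψ k0 := ⟨_, rfl⟩
  rw [← hψ0] at hw0 hH0
  have hψ0nt : ∃ z ∈ R, ψ0 z ≠ 1 := by
    refine ⟨k0 * g * k0⁻¹, KRn k0 hk0 g hgR, ?_⟩
    rw [hψ0, Cfsg.Agent.Lib.helper66.cw_apply]
    have e : k0⁻¹ * (k0 * g * k0⁻¹) * k0 = g := by group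
    rw [e]
    exact hψg
  -- Step 5: the commutators `h⁻¹ y⁻¹ h y` fix `ψ0`.
  have hcopSp : (Nat.card S).Coprime p := by
    have : Fact s.Prime := ⟨T.hs⟩
    obtain ⟨n, hn⟩ := T.Sgrp.exists_card_eq
    rw [hn]
    exact Nat.Coprime.pow_left n ((Nat.coprime_primes T.hs T.hp).mpr T.hsp)
  have h5 : ∀ y ∈ S, ∀ h ∈ H, Fx R (h⁻¹ * y⁻¹ * h * y) ψ0 := by
    intro y hy h hh
    have hwy : WtV ρ ⊤ R (cw ψ0 y) (ρ y (ρ k0 w)) :=
      Cfsg.Agent.Lib.helper66.wt_conj ρ ⊤ R ψ0 _ hw0 y (T.SR hy) (fun _ _ => Submodule.mem_top)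
    rcases hB2 _ _ hwy with hK | ⟨k1', hk1', hH1⟩
    · exfalso
      have htriv := h3 _ _ hwy k1 hk1K hk1ne (hK k1 hk1K)
      obtain ⟨z, hz, hz1⟩ := hψ0nt
      apply hz1
      have h4 := htriv (y * z * y⁻¹) (SRn y hy z hz)
      rw [Cfsg.Agent.Lib.helper66.cw_apply] at h4
      have e : y⁻¹ * (y * z * y⁻¹) * y = z := by group
      rw [e] at h4
      exact h4
    · have hfx1 := hH1 h hh
      rw [Cfsg.Agent.Lib.helper66.cw_cw] at hfx1
      have hk1yn : k1' * y ∈ Subgroup.normalizer (R : Set Γ) :=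
        Subgroup.mul_mem _ (T.KR hk1') (T.SR hy)
      rw [Cfsg.Agent.Lib.helper66.Fx_cw R ψ0 h (k1' * y) hk1yn] at hfx1
      have hfxh : Fx R h⁻¹ ψ0 := Cfsg.Agent.Lib.helper66.Fx_inv R ψ0 h (T.HR hh) (hH0 h hh)
      have hc : Fx R (h⁻¹ * ((k1' * y)⁻¹ * h * (k1' * y))) ψ0 :=
        Cfsg.Agent.Lib.helper66.Fx_mul R ψ0 _ _ (Subgroup.inv_mem _ (T.HR hh)) hfxh hfx1
      obtain ⟨k2, hk2⟩ : ∃ k2 : Γ, k2 = h⁻¹ * k1'⁻¹ * h * k1' := ⟨_, rfl⟩
      obtain ⟨s1, hs1⟩ : ∃ s1 : Γ, s1 = h⁻¹ * y⁻¹ * h * y := ⟨_, rfl⟩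
      have hk2K : k2 ∈ K := by
        rw [hk2]
        refine K.mul_mem ?_ hk1'
        have := HKn h⁻¹ (H.inv_mem hh) k1'⁻¹ (K.inv_mem hk1')
        simpa using this
      have hs1S : s1 ∈ S := by
        rw [hs1]
        refine S.mul_mem ?_ hy
        have := HSn h⁻¹ (H.inv_mem hh) y⁻¹ (S.inv_mem hy)
        simpa using this
      have hcomm : s1 * k2 = k2 * s1 := (hKS k2 hk2K s1 hs1S).symm
      have e2 : k2 * y = y * k2 := hKS k2 hk2K y hy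
      have hceq : h⁻¹ * ((k1' * y)⁻¹ * h * (k1' * y)) = s1 * k2 := by
        calc h⁻¹ * ((k1' * y)⁻¹ * h * (k1' * y)) = h⁻¹ * y⁻¹ * h * (k2 * y) := by
              rw [hk2]
              group
          _ = h⁻¹ * y⁻¹ * h * (y * k2) := by rw [e2]
          _ = s1 * k2 := by
              rw [hs1]
              group
      rw [hceq] at hc
      have hpow : (s1 * k2) ^ Nat.card S = k2 ^ Nat.card S := by
        have hcm : Commute s1 k2 := hcomm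
        rw [hcm.mul_pow, h39_pow_card S s1 hs1S, one_mul]
      have hcn : s1 * k2 ∈ Subgroup.normalizer (R : Set Γ) :=
        Subgroup.mul_mem _ (T.SR hs1S) (T.KR hk2K)
      have hfxp : Fx R (k2 ^ Nat.card S) ψ0 := by
        rw [← hpow]
        exact Cfsg.Agent.Lib.helper66.Fx_pow R ψ0 _ hcn hc _
      have hk2pow : k2 ^ Nat.card S = 1 := by
        by_contra hne
        obtain ⟨z, hz, hz1⟩ := hψ0nt
        exact hz1 (h3 ψ0 _ hw0 _ (K.pow_mem hk2K _) hne hfxp z hz)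
      have hk2p : k2 ^ p = 1 := h39_pow_prime_card K p T.cardK k2 hk2K
      have hk2one : k2 = 1 := by
        have h1 : orderOf k2 ∣ Nat.card S := orderOf_dvd_of_pow_eq_one hk2pow
        have h2 : orderOf k2 ∣ p := orderOf_dvd_of_pow_eq_one hk2p
        have h3' : orderOf k2 ∣ 1 := by
          have := Nat.dvd_gcd h1 h2
          rwa [hcopSp.gcd_eq_one] at this
        exact orderOf_eq_one_iff.mp (Nat.dvd_one.mp h3')
      rw [hk2one, mul_one, hs1] at hc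
      exact hc
  -- Step 6: `S` fixes `ψ0`.
  have hS0mem : ∀ y, y ∈ S ⊓ h39_fxStab R ψ0 ↔ y ∈ S ∧ Fx R y ψ0 := by
    intro y
    constructor
    · rintro ⟨h1, h2⟩
      exact ⟨h1, h2.2⟩
    · rintro ⟨h1, h2⟩
      exact ⟨h1, T.SR h1, h2⟩
  have hHS0 : H ≤ Subgroup.normalizer ((S ⊓ h39_fxStab R ψ0 : Subgroup Γ) : Set Γ) := by
    rw [Subgroup.le_normalizer_iff]
    intro h hh y hy
    rw [hS0mem] at hy ⊢
    refine ⟨HSn h hh y hy.1, ?_⟩
    exact Cfsg.Agent.Lib.helper66.Fx_mul R ψ0 _ _ (Subgroup.mul_mem _ (T.HR hh) (T.SR hy.1))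
      (Cfsg.Agent.Lib.helper66.Fx_mul R ψ0 _ _ (T.HR hh) (hH0 h hh) hy.2)
      (Cfsg.Agent.Lib.helper66.Fx_inv R ψ0 h (T.HR hh) (hH0 h hh))
  have hcopHS0 : (Nat.card H).Coprime (Nat.card (S ⊓ h39_fxStab R ψ0 : Subgroup Γ)) :=
    h39_coprime_card H _ q s T.hq T.hs (Ne.symm T.hsq) T.cardH (T.Sgrp.to_le inf_le_left)
  have hSfix : ∀ y ∈ S, Fx R y ψ0 := by
    intro y hy
    obtain ⟨c, hc, hcy⟩ := Cfsg.Agent.Lib.helper1.coset_fixed H (S ⊓ h39_fxStab R ψ0) hHS0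
      hcopHS0 (Or.inl hsolvH) y (by
        intro a ha
        rw [hS0mem]
        have h5' := h5 y⁻¹ (S.inv_mem hy) a⁻¹ (H.inv_mem ha)
        rw [inv_inv, inv_inv] at h5'
        exact ⟨S.mul_mem (HSn a ha y hy) (S.inv_mem hy), h5'⟩)
    have hcS : c ∈ S := by
      have := S.mul_mem ((hS0mem _).mp hcy).1 hy
      simpa using this
    have hc1 : c = 1 := fS c hcS (fun h hh => Subgroup.mem_centralizer_iff.mp hc h hh)
    rw [hc1, one_mul] at hcy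
    exact Cfsg.Agent.Lib.helper66.Fx_inv' R ψ0 y (T.SR hy) ((hS0mem _).mp hcy).2
  -- Contradiction.
  have hx0' : k0 * x0 * k0⁻¹ ∈ R := KRn k0 hk0 x0 hx0
  have ec : k0 * y0 = y0 * k0 := hKS k0 hk0 y0 hy0
  have ec' : k0 * y0⁻¹ = y0⁻¹ * k0 := h39_comm_inv k0 y0 ec
  have e1 : k0 * g * k0⁻¹ = y0 * (k0 * x0 * k0⁻¹) * y0⁻¹ * (k0 * x0 * k0⁻¹)⁻¹ := by
    rw [hg]
    calc k0 * (y0 * x0 * y0⁻¹ * x0⁻¹) * k0⁻¹
        = (k0 * y0) * x0 * k0⁻¹ * (k0 * y0⁻¹) * x0⁻¹ * k0⁻¹ := by group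
      _ = (y0 * k0) * x0 * k0⁻¹ * (y0⁻¹ * k0) * x0⁻¹ * k0⁻¹ := by rw [ec, ec']
      _ = y0 * (k0 * x0 * k0⁻¹) * y0⁻¹ * (k0 * x0 * k0⁻¹)⁻¹ := by group
  have h7 : ψ0 (k0 * g * k0⁻¹) = 1 := by
    rw [e1, Cfsg.Agent.Lib.helper66.wt_mul ρ ⊤ R ψ0 _ hw0 _ _ (SRn y0 hy0 _ hx0')
      (R.inv_mem hx0'),
      Cfsg.Agent.Lib.helper66.Fx_conj R ψ0 y0 (T.SR hy0) (hSfix y0 hy0) _ hx0',
      Cfsg.Agent.Lib.helper66.wt_inv ρ ⊤ R ψ0 _ hw0 _ hx0',
      mul_inv_cancel₀ (Cfsg.Agent.Lib.helper66.wt_ne_zero ρ ⊤ R ψ0 _ hw0 _ hx0')]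
  apply hψg
  rw [hψ0, Cfsg.Agent.Lib.helper66.cw_apply] at h7
  have e : k0⁻¹ * (k0 * g * k0⁻¹) * k0 = g := by group
  rw [e] at h7
  exact h7

end

end Cfsg.Agent.Lib.helper75.PQ
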