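import Mathlib
import Cfsg.Agent.Lib.helper39.PQ_IaCore
import Cfsg.Agent.Lib.helper46.PQ_C238
import Cfsg.Agent.Lib.helper72.PQ_C6
import Cfsg.Agent.Lib.helper49.PQ_B1
import Cfsg.Agent.Lib.helper49.PQ_B2

/-!
# S4306, piece Ia: `MinTower.abelian_caseA` (exact skeleton statement)
-/

set_option autoImplicit false

namespace Cfsg.Agent.Lib.helper75.PQ

open Cfsg.Agent.Lib.helper66 (WtV Fx cw)
open scoped commutatorElement

section Cases

variable {Γ : Type*} [Group Γ] [Finite Γ] {F : Type*} [Field F] [IsAlgClosed F]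
  {W : Type*} [AddCommGroup W] [Module F W] [FiniteDimensional F W]
  {ρ : Γ →* Module.End F W} {K H S R : Subgroup Γ} {p q s r : ℕ}

/-- Ia -/
theorem MinTower.abelian_caseA (T : MinTower ρ K H S R p q s r)
    (hab : ∀ x ∈ R, ∀ x' ∈ R, x * x' = x' * x) (hA : CaseA K S R) : False :=
  h39_abelian_caseA_core T (T.caseA_cz hA)
    (fun V hV hHV hSV fS fV =>
      frob_cz S V H s r q T.hq T.cardH T.Sgrp hV T.hs T.hr T.hsr T.HS hHV hSV fS fV)
    (fun g hg m hm hmF hne =>
      exists_wt_ne_one ρ ⊤ R (fun _ _ _ _ => Submodule.mem_top) hab g hg m hm hmF hne)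
    (fun μ w hw => T.toTower.wt_stab R T.KR T.HR μ w hw)

end Cases

end Cfsg.Agent.Lib.helper75.PQ
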