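import Mathlib
import Cfsg.Agent.Lib.helper39.PQ_Iutil

/-!
# S4306, case Ib (`R` abelian, not case (a)): the argument, with the pieces C1, C3, C7, B1, B2,
B3, B6 as hypotheses.
-/

set_option autoImplicit false

namespace Cfsg.Agent.Lib.helper75.PQ

open Cfsg.Agent.Lib.helper66 (WtV Fx cw)
open scoped commutatorElement

section

variable {Γ : Type*} [Group Γ] [Finite Γ] {F : Type*} [Field F]
  {W : Type*} [AddCommGroup W] [Module F W]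
  {ρ : Γ →* Module.End F W} {K H S R : Subgroup Γ} {p q s r : ℕ}

/-- Case Ib, from the pieces C1, C3, C7 (its conclusion), B1, B2, B3, B6 (for `C_R(K)`). -/
theorem h39_abelian_caseB_core (T : MinTower ρ K H S R p q s r)
    (hC1 : ∀ y ∈ S, ∀ y' ∈ S, ∀ x ∈ R, ⁅y, y'⁆ * x = x * ⁅y, y'⁆)
    (hC3 : ∀ k ∈ K, k ≠ 1 → ∀ y ∈ S, (∀ x ∈ R, ⁅k, y⁆ * x = x * ⁅k, y⁆) →
      ∀ x ∈ R, y * x = x * y)
    (hC7 : ∀ x ∈ R, x ∈ Subgroup.closure
      {z | ∃ y ∈ S, ∃ x0 ∈ R, (∀ k ∈ K, k * x0 = x0 * k) ∧ z = y * x0 * y⁻¹})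
    (hB1 : ∀ g ∈ R, ∀ m : ℕ, g ^ m = 1 → (m : F) ≠ 0 →
      (∃ w ∈ (⊤ : Submodule F W), ρ g w ≠ w) →
      ∃ (μ : Γ → F) (w : W), WtV ρ ⊤ R μ w ∧ μ g ≠ 1)
    (hB2 : ∀ (μ : Γ → F) (w : W), WtV ρ ⊤ R μ w →
      (∀ k ∈ K, Fx R k μ) ∨ (∃ k ∈ K, ∀ h ∈ H, Fx R h (cw μ k)))
    (hB3 : ∀ (μ : Γ → F) (w : W), WtV ρ ⊤ R μ w → (∀ k ∈ K, Fx R k μ) →
      (∀ h ∈ H, Fx R h μ) → ∀ b ∈ R, μ b = 1)
    (hB6 : ∀ b ∈ R, (∀ k ∈ K, k * b = b * k) → ∀ w : W, (∀ k ∈ K, ρ k w = w) → ρ b w = w) :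
    False := by
  classical
  have KSn := Subgroup.le_normalizer_iff.mp T.KS
  have KRn := Subgroup.le_normalizer_iff.mp T.KR
  have SRn := Subgroup.le_normalizer_iff.mp T.SR
  have hsolvK : Group.IsSolvable K := h39_solvable_of_prime_card K p T.hp T.cardK
  -- Step 0: a weight nontrivial on a commutator.
  obtain ⟨y0, hy0, x0, hx0, hne0⟩ := h39_exists_ncomm S R T.ncz
  obtain ⟨g, hg⟩ : ∃ g : Γ, g = y0 * x0 * y0⁻¹ * x0⁻¹ := ⟨_, rfl⟩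
  have hgR : g ∈ R := by
    rw [hg]
    exact R.mul_mem (SRn y0 hy0 x0 hx0) (R.inv_mem hx0)
  have hg1 : g ≠ 1 := by
    intro h
    apply hne0
    have e : y0 * x0 = g * (x0 * y0) := by
      rw [hg]
      group
    rw [e, h, one_mul]
  have hρg : ρ g ≠ 1 := fun h => hg1 (T.faith g hgR h)
  obtain ⟨m, hgm, hmF⟩ := h39_pgroup_pow R r T.Rgrp T.rF g hgR
  obtain ⟨ψ, w, hw, hψg⟩ := hB1 g hgR m hgm hmF (h39_exists_moved ρ g hρg)
  obtain ⟨k1, hk1K, hk1ne⟩ := h39_exists_ne_one K p T.hp T.cardK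
  -- Step 1: some `S`-conjugate of the weight is fixed by `K`.
  have hclaim : ∃ y1 ∈ S, ∀ k ∈ K, Fx R k (cw ψ y1) := by
    by_contra hcon
    have hno : ∀ y ∈ S, ∀ k ∈ K, k ≠ 1 → ¬ Fx R k (cw ψ y) := by
      intro y hy k hk hk1 hfx
      exact hcon ⟨y, hy, h39_fx_all R K p T.hp T.cardK T.KR (cw ψ y) k hk hk1 hfx⟩
    have hval : ∀ y ∈ S, ∀ x ∈ R, (∀ k ∈ K, k * x = x * k) → ψ (y⁻¹ * x * y) = 1 := by
      intro y hy x hx hxK
      have : Fintype K := Fintype.ofFinite K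
      have hwy : WtV ρ ⊤ R (cw ψ y) (ρ y w) :=
        Cfsg.Agent.Lib.helper66.wt_conj ρ ⊤ R ψ w hw y (T.SR hy) (fun _ _ => Submodule.mem_top)
      have hu := Cfsg.Agent.Lib.helper66.orbit_sum_ne_zero ρ ⊤ R K T.KR (cw ψ y) (ρ y w) hwy
        (hno y hy)
      have hufix : ∀ k ∈ K, ρ k (∑ b : K, ρ (b : Γ) (ρ y w)) = ∑ b : K, ρ (b : Γ) (ρ y w) :=
        fun k hk => Cfsg.Agent.Lib.helper66.orbit_sum_fixed ρ K k hk _
      have h1 := hB6 x hx hxK _ hufix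
      have h2 : ρ x (∑ b : K, ρ (b : Γ) (ρ y w)) =
          (cw ψ y x) • ∑ b : K, ρ (b : Γ) (ρ y w) := by
        rw [map_sum, Finset.smul_sum]
        apply Finset.sum_congr rfl
        intro b _
        rw [← Cfsg.Agent.Lib.helper66.rho_mul, ← hxK (b : Γ) b.2,
          Cfsg.Agent.Lib.helper66.rho_mul, hwy.2.2 x hx, map_smul]
      rw [h2] at h1
      have h3 : (cw ψ y x - 1) • ∑ b : K, ρ (b : Γ) (ρ y w) = 0 := by
        rw [sub_smul, one_smul, h1, sub_self]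
      rcases smul_eq_zero.mp h3 with h | h
      · exact sub_eq_zero.mp h
      · exact absurd h hu
    have hle : Subgroup.closure
        {z | ∃ y ∈ S, ∃ x0 ∈ R, (∀ k ∈ K, k * x0 = x0 * k) ∧ z = y * x0 * y⁻¹} ≤
        h39_wtKer ρ ⊤ R ψ w hw := by
      rw [Subgroup.closure_le]
      rintro z ⟨y, hy, x1, hx1, hx1K, rfl⟩
      refine ⟨SRn y hy x1 hx1, ?_⟩
      have h4 := hval y⁻¹ (S.inv_mem hy) x1 hx1 hx1K
      rwa [inv_inv] at h4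
    exact hψg (hle (hC7 g hgR)).2
  obtain ⟨y1, hy1, hK1⟩ := hclaim
  have hw1 : WtV ρ ⊤ R (cw ψ y1) (ρ y1 w) :=
    Cfsg.Agent.Lib.helper66.wt_conj ρ ⊤ R ψ w hw y1 (T.SR hy1) (fun _ _ => Submodule.mem_top)
  obtain ⟨ψ1, hψ1⟩ : ∃ ψ1 : Γ → F, ψ1 = cw ψ y1 := ⟨_, rfl⟩
  rw [← hψ1] at hw1 hK1
  have hψ1nt : ∃ z ∈ R, ψ1 z ≠ 1 := by
    refine ⟨y1 * g * y1⁻¹, SRn y1 hy1 g hgR, ?_⟩
    rw [hψ1, Cfsg.Agent.Lib.helper66.cw_apply]
    have e : y1⁻¹ * (y1 * g * y1⁻¹) * y1 = g := by group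
    rw [e]
    exact hψg
  -- Step 2: the stabilizer `S1` of `ψ1` in `S`.
  have hS1mem : ∀ y, y ∈ S ⊓ h39_fxStab R ψ1 ↔ y ∈ S ∧ Fx R y ψ1 := by
    intro y
    constructor
    · rintro ⟨h1, h2⟩
      exact ⟨h1, h2.2⟩
    · rintro ⟨h1, h2⟩
      exact ⟨h1, T.SR h1, h2⟩
  have hCS1 : ∀ y ∈ S, (∀ x ∈ R, y * x = x * y) → Fx R y ψ1 := by
    intro y _ hc z hz
    have e : y⁻¹ * z * y = z := by
      rw [mul_assoc, ← hc z hz]
      group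
    rw [e]
  have hS1ne : ∃ y2 ∈ S, ¬ Fx R y2 ψ1 := by
    by_contra hcon
    have hall : ∀ y ∈ S, Fx R y ψ1 := by
      intro y hy
      by_contra hn
      exact hcon ⟨y, hy, hn⟩
    have hy' : y1 * y0 * y1⁻¹ ∈ S := S.mul_mem (S.mul_mem hy1 hy0) (S.inv_mem hy1)
    have hx' : y1 * x0 * y1⁻¹ ∈ R := SRn y1 hy1 x0 hx0
    have e1 : y1 * g * y1⁻¹ =
        (y1 * y0 * y1⁻¹) * (y1 * x0 * y1⁻¹) * (y1 * y0 * y1⁻¹)⁻¹ * (y1 * x0 * y1⁻¹)⁻¹ := by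
      rw [hg]
      group
    have h7 : ψ1 (y1 * g * y1⁻¹) = 1 := by
      rw [e1, Cfsg.Agent.Lib.helper66.wt_mul ρ ⊤ R ψ1 _ hw1 _ _ (SRn _ hy' _ hx')
        (R.inv_mem hx'),
        Cfsg.Agent.Lib.helper66.Fx_conj R ψ1 _ (T.SR hy') (hall _ hy') _ hx',
        Cfsg.Agent.Lib.helper66.wt_inv ρ ⊤ R ψ1 _ hw1 _ hx',
        mul_inv_cancel₀ (Cfsg.Agent.Lib.helper66.wt_ne_zero ρ ⊤ R ψ1 _ hw1 _ hx')]
    apply hψg
    rw [hψ1, Cfsg.Agent.Lib.helper66.cw_apply] at h7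
    have e : y1⁻¹ * (y1 * g * y1⁻¹) * y1 = g := by group
    rw [e] at h7
    exact h7
  obtain ⟨y2, hy2, hy2n⟩ := hS1ne
  have hS1norm : ∀ y' ∈ S, ∀ y, (y ∈ S ∧ Fx R y ψ1) →
      (y' * y * y'⁻¹ ∈ S ∧ Fx R (y' * y * y'⁻¹) ψ1) := by
    rintro y' hy' y ⟨hy, hfx⟩
    refine ⟨S.mul_mem (S.mul_mem hy' hy) (S.inv_mem hy'), ?_⟩
    have hcS : ⁅y', y⁆ ∈ S := by
      rw [commutatorElement_def]
      exact S.mul_mem (S.mul_mem (S.mul_mem hy' hy) (S.inv_mem hy')) (S.inv_mem hy)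
    have hcfx : Fx R ⁅y', y⁆ ψ1 := hCS1 _ hcS (fun x hx => hC1 y' hy' y hy x hx)
    have e : y' * y * y'⁻¹ = ⁅y', y⁆ * y := by
      rw [commutatorElement_def]
      group
    rw [e]
    exact Cfsg.Agent.Lib.helper66.Fx_mul R ψ1 _ _ (T.SR hcS) hcfx hfx
  have hS1K : ∀ k ∈ K, ∀ y, (y ∈ S ∧ Fx R y ψ1) →
      (k * y * k⁻¹ ∈ S ∧ Fx R (k * y * k⁻¹) ψ1) := by
    rintro k hk y ⟨hy, hfx⟩
    refine ⟨KSn k hk y hy, ?_⟩
    exact Cfsg.Agent.Lib.helper66.Fx_mul R ψ1 _ _ (Subgroup.mul_mem _ (T.KR hk) (T.SR hy))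
      (Cfsg.Agent.Lib.helper66.Fx_mul R ψ1 _ _ (T.KR hk) (hK1 k hk) hfx)
      (Cfsg.Agent.Lib.helper66.Fx_inv R ψ1 k (T.KR hk) (hK1 k hk))
  have hKS1 : K ≤ Subgroup.normalizer ((S ⊓ h39_fxStab R ψ1 : Subgroup Γ) : Set Γ) := by
    rw [Subgroup.le_normalizer_iff]
    intro k hk y hy
    rw [hS1mem] at hy ⊢
    exact hS1K k hk y hy
  have hSS1 : S ≤ Subgroup.normalizer ((S ⊓ h39_fxStab R ψ1 : Subgroup Γ) : Set Γ) := by
    rw [Subgroup.le_normalizer_iff]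
    intro y' hy' y hy
    rw [hS1mem] at hy ⊢
    exact hS1norm y' hy' y hy
  have hw2 : WtV ρ ⊤ R (cw ψ1 y2) (ρ y2 (ρ y1 w)) :=
    Cfsg.Agent.Lib.helper66.wt_conj ρ ⊤ R ψ1 _ hw1 y2 (T.SR hy2) (fun _ _ => Submodule.mem_top)
  rcases hB2 _ _ hw2 with hK2 | ⟨k0, hk0, hH2⟩
  · -- (i) `K` fixes `ψ2`.
    have hcop : (Nat.card K).Coprime (Nat.card (S ⊓ h39_fxStab R ψ1 : Subgroup Γ)) :=
      h39_coprime_card K _ p s T.hp T.hs (Ne.symm T.hsp) T.cardK (T.Sgrp.to_le inf_le_left)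
    obtain ⟨c, hc, hcy⟩ := Cfsg.Agent.Lib.helper1.coset_fixed K (S ⊓ h39_fxStab R ψ1) hKS1
      hcop (Or.inl hsolvK) y2⁻¹ (by
        intro a ha
        rw [hS1mem, inv_inv]
        refine ⟨S.mul_mem (KSn a ha _ (S.inv_mem hy2)) hy2, ?_⟩
        have h1 := (Cfsg.Agent.Lib.helper66.Fx_cw R ψ1 a⁻¹ y2 (T.SR hy2)).mp
          (hK2 a⁻¹ (K.inv_mem ha))
        have h2 := Cfsg.Agent.Lib.helper66.Fx_mul R ψ1 a (y2⁻¹ * a⁻¹ * y2) (T.KR ha)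
          (hK1 a ha) h1
        have e : a * (y2⁻¹ * a⁻¹ * y2) = a * y2⁻¹ * a⁻¹ * y2 := by group
        rw [e] at h2
        exact h2)
    rw [inv_inv] at hcy
    have hcS : c ∈ S := by
      have := S.mul_mem ((hS1mem _).mp hcy).1 (S.inv_mem hy2)
      simpa using this
    have hcC : ∀ x ∈ R, c * x = x * c := by
      apply hC3 k1 hk1K hk1ne c hcS
      intro x _
      have e : ⁅k1, c⁆ = 1 := by
        rw [commutatorElement_def, Subgroup.mem_centralizer_iff.mp hc k1 hk1K]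
        group
      rw [e, one_mul, mul_one]
    have hcfx : Fx R c ψ1 := hCS1 c hcS hcC
    apply hy2n
    have e : y2 = c⁻¹ * (c * y2) := by group
    rw [e]
    exact Cfsg.Agent.Lib.helper66.Fx_mul R ψ1 _ _ (Subgroup.inv_mem _ (T.SR hcS))
      (Cfsg.Agent.Lib.helper66.Fx_inv R ψ1 c (T.SR hcS) hcfx) ((hS1mem _).mp hcy).2
  · -- (ii) `H` fixes a `K`-conjugate of `ψ2`.
    have hk0y2S : k0 * y2 ∈ Subgroup.normalizer (S : Set Γ) :=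
      Subgroup.mul_mem _ (T.KS hk0) (Subgroup.le_normalizer hy2)
    have hk0y2R : k0 * y2 ∈ Subgroup.normalizer (R : Set Γ) :=
      Subgroup.mul_mem _ (T.KR hk0) (T.SR hy2)
    have ht : ∀ h ∈ H, Fx R ((k0 * y2)⁻¹ * h * (k0 * y2)) ψ1 := by
      intro h hh
      have h1 := hH2 h hh
      rw [Cfsg.Agent.Lib.helper66.cw_cw] at h1
      exact (Cfsg.Agent.Lib.helper66.Fx_cw R ψ1 h (k0 * y2) hk0y2R).mp h1
    have hQ : Subgroup.normalizer (S : Set Γ) ⊓ h39_fxStab R ψ1 ≤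
        Subgroup.normalizer ((S ⊓ h39_fxStab R ψ1 : Subgroup Γ) : Set Γ) := by
      rw [Subgroup.le_normalizer_iff]
      intro t ht y hy
      refine ⟨Cfsg.Agent.Lib.helper66.conj_mem_of_normalizer S t ht.1 y hy.1, ?_⟩
      exact Subgroup.mul_mem _ (Subgroup.mul_mem _ ht.2 hy.2) (Subgroup.inv_mem _ ht.2)
    have hHS1 : H ≤ Subgroup.normalizer ((S ⊓ h39_fxStab R ψ1 : Subgroup Γ) : Set Γ) := by
      intro h hh
      have htE : (k0 * y2)⁻¹ * h * (k0 * y2) ∈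
          Subgroup.normalizer ((S ⊓ h39_fxStab R ψ1 : Subgroup Γ) : Set Γ) := by
        apply hQ
        refine ⟨?_, ?_, ht h hh⟩
        · exact Subgroup.mul_mem _ (Subgroup.mul_mem _ (Subgroup.inv_mem _ hk0y2S) (T.HS hh))
            hk0y2S
        · exact Subgroup.mul_mem _ (Subgroup.mul_mem _ (Subgroup.inv_mem _ hk0y2R) (T.HR hh))
            hk0y2R
      have hk0y2E : k0 * y2 ∈
          Subgroup.normalizer ((S ⊓ h39_fxStab R ψ1 : Subgroup Γ) : Set Γ) :=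
        Subgroup.mul_mem _ (hKS1 hk0) (hSS1 hy2)
      have e : h = (k0 * y2) * ((k0 * y2)⁻¹ * h * (k0 * y2)) * (k0 * y2)⁻¹ := by group
      rw [e]
      exact Subgroup.mul_mem _ (Subgroup.mul_mem _ hk0y2E htE) (Subgroup.inv_mem _ hk0y2E)
    have hS1cz : Cz (S ⊓ h39_fxStab R ψ1) R := by
      apply T.minS _ inf_le_left _ hKS1 hHS1
      intro heq
      apply hy2n
      have h1 : y2 ∈ S ⊓ h39_fxStab R ψ1 := by
        rw [heq]
        exact hy2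
      exact h1.2.2
    have ha : ∀ h ∈ H, Fx R (k0⁻¹ * h * k0) ψ1 := by
      intro h hh
      obtain ⟨a, haeq⟩ : ∃ a : Γ, a = k0⁻¹ * h * k0 := ⟨_, rfl⟩
      obtain ⟨sh, hsheq⟩ : ∃ sh : Γ, sh = a⁻¹ * y2⁻¹ * a * y2 := ⟨_, rfl⟩
      have haS : a ∈ Subgroup.normalizer (S : Set Γ) := by
        rw [haeq]
        exact Subgroup.mul_mem _ (Subgroup.mul_mem _ (Subgroup.inv_mem _ (T.KS hk0)) (T.HS hh))
          (T.KS hk0)
      have haR : a ∈ Subgroup.normalizer (R : Set Γ) := by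
        rw [haeq]
        exact Subgroup.mul_mem _ (Subgroup.mul_mem _ (Subgroup.inv_mem _ (T.KR hk0)) (T.HR hh))
          (T.KR hk0)
      have haK : a ∈ Subgroup.normalizer (K : Set Γ) := by
        rw [haeq]
        exact Subgroup.mul_mem _ (Subgroup.mul_mem _
          (Subgroup.inv_mem _ (Subgroup.le_normalizer hk0)) (T.HK hh))
          (Subgroup.le_normalizer hk0)
      have hshS : sh ∈ S := by
        rw [hsheq]
        exact S.mul_mem (Cfsg.Agent.Lib.helper66.conj_mem_of_normalizer' S a haS y2⁻¹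
          (S.inv_mem hy2)) hy2
      have hteq : (k0 * y2)⁻¹ * h * (k0 * y2) = a * sh := by
        rw [hsheq, haeq]
        group
      have htfx : Fx R (a * sh) ψ1 := by
        rw [← hteq]
        exact ht h hh
      have htR : a * sh ∈ Subgroup.normalizer (R : Set Γ) :=
        Subgroup.mul_mem _ haR (T.SR hshS)
      have hshC : ∀ x ∈ R, sh * x = x * sh := by
        apply hC3 k1 hk1K hk1ne sh hshS
        intro x hx
        have hcS : sh * k1 * sh⁻¹ * k1⁻¹ ∈ S := by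
          have h1 := S.mul_mem hshS (KSn k1 hk1K sh⁻¹ (S.inv_mem hshS))
          have e : sh * (k1 * sh⁻¹ * k1⁻¹) = sh * k1 * sh⁻¹ * k1⁻¹ := by group
          rw [e] at h1
          exact h1
        have hconjS : a * (sh * k1 * sh⁻¹ * k1⁻¹) * a⁻¹ ∈ S :=
          Cfsg.Agent.Lib.helper66.conj_mem_of_normalizer S a haS _ hcS
        have hk' : a * k1 * a⁻¹ ∈ K :=
          Cfsg.Agent.Lib.helper66.conj_mem_of_normalizer K a haK k1 hk1K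
        have hfx1 : Fx R ((a * sh) * k1 * (a * sh)⁻¹) ψ1 :=
          Cfsg.Agent.Lib.helper66.Fx_mul R ψ1 _ _ (Subgroup.mul_mem _ htR (T.KR hk1K))
            (Cfsg.Agent.Lib.helper66.Fx_mul R ψ1 _ _ htR htfx (hK1 k1 hk1K))
            (Cfsg.Agent.Lib.helper66.Fx_inv R ψ1 _ htR htfx)
        have hfx2 : Fx R (a * k1 * a⁻¹)⁻¹ ψ1 :=
          Cfsg.Agent.Lib.helper66.Fx_inv R ψ1 _ (T.KR hk') (hK1 _ hk')
        have hfx3 : Fx R (a * (sh * k1 * sh⁻¹ * k1⁻¹) * a⁻¹) ψ1 := by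
          have e : a * (sh * k1 * sh⁻¹ * k1⁻¹) * a⁻¹ =
              ((a * sh) * k1 * (a * sh)⁻¹) * (a * k1 * a⁻¹)⁻¹ := by group
          rw [e]
          exact Cfsg.Agent.Lib.helper66.Fx_mul R ψ1 _ _
            (Subgroup.mul_mem _ (Subgroup.mul_mem _ htR (T.KR hk1K)) (Subgroup.inv_mem _ htR))
            hfx1 hfx2
        have hmem : a * (sh * k1 * sh⁻¹ * k1⁻¹) * a⁻¹ ∈ S ⊓ h39_fxStab R ψ1 :=
          (hS1mem _).mpr ⟨hconjS, hfx3⟩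
        have hx' : a * x * a⁻¹ ∈ R := Cfsg.Agent.Lib.helper66.conj_mem_of_normalizer R a haR x hx
        have h1 := hS1cz _ hmem _ hx'
        have h2 : (sh * k1 * sh⁻¹ * k1⁻¹) * x = x * (sh * k1 * sh⁻¹ * k1⁻¹) := by
          have e1 : (sh * k1 * sh⁻¹ * k1⁻¹) * x =
              a⁻¹ * (a * (sh * k1 * sh⁻¹ * k1⁻¹) * a⁻¹ * (a * x * a⁻¹)) * a := by group
          have e2 : x * (sh * k1 * sh⁻¹ * k1⁻¹) =
              a⁻¹ * (a * x * a⁻¹ * (a * (sh * k1 * sh⁻¹ * k1⁻¹) * a⁻¹)) * a := by group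
          rw [e1, e2, h1]
        have e3 : ⁅k1, sh⁆ = (sh * k1 * sh⁻¹ * k1⁻¹)⁻¹ := by
          rw [commutatorElement_def]
          group
        rw [e3]
        exact (h39_comm_inv x _ h2.symm).symm
      have hshfx : Fx R sh ψ1 := hCS1 sh hshS hshC
      have e : k0⁻¹ * h * k0 = (a * sh) * sh⁻¹ := by
        rw [haeq]
        group
      rw [e]
      exact Cfsg.Agent.Lib.helper66.Fx_mul R ψ1 _ _ htR htfx
        (Cfsg.Agent.Lib.helper66.Fx_inv R ψ1 sh (T.SR hshS) hshfx)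
    have hwk : WtV ρ ⊤ R (cw ψ1 k0) (ρ k0 (ρ y1 w)) :=
      Cfsg.Agent.Lib.helper66.wt_conj ρ ⊤ R ψ1 _ hw1 k0 (T.KR hk0)
        (fun _ _ => Submodule.mem_top)
    have hKfix : ∀ k ∈ K, Fx R k (cw ψ1 k0) := by
      intro k hk
      rw [Cfsg.Agent.Lib.helper66.Fx_cw R ψ1 k k0 (T.KR hk0)]
      exact hK1 _ (K.mul_mem (K.mul_mem (K.inv_mem hk0) hk) hk0)
    have hHfix : ∀ h ∈ H, Fx R h (cw ψ1 k0) := by
      intro h hh
      rw [Cfsg.Agent.Lib.helper66.Fx_cw R ψ1 h k0 (T.KR hk0)]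
      exact ha h hh
    have htriv := hB3 _ _ hwk hKfix hHfix
    obtain ⟨z, hz, hz1⟩ := hψ1nt
    apply hz1
    have h4 := htriv (k0 * z * k0⁻¹) (KRn k0 hk0 z hz)
    rw [Cfsg.Agent.Lib.helper66.cw_apply] at h4
    have e : k0⁻¹ * (k0 * z * k0⁻¹) * k0 = z := by group
    rw [e] at h4
    exact h4

end

end Cfsg.Agent.Lib.helper75.PQ
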