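import Mathlib
import Cfsg.Agent.Lib.helper39.PQ_IbCore
import Cfsg.Agent.Lib.helper46.PQ_C238
import Cfsg.Agent.Lib.helper83.PQ_C1
import Cfsg.Agent.Lib.helper72.PQ_C7
import Cfsg.Agent.Lib.helper49.PQ_B1
import Cfsg.Agent.Lib.helper49.PQ_B2
import Cfsg.Agent.Lib.helper49.PQ_B3
import Cfsg.Agent.Lib.helper82.PQ_B6

/-!
# S4306, piece Ib: `MinTower.abelian_caseB` (exact skeleton statement)
-/

set_option autoImplicit false

namespace Cfsg.Agent.Lib.helper75.PQ

open Cfsg.Agent.Lib.helper66 (WtV Fx cw)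
open scoped commutatorElement

/-- A subgroup normalizing `R` and `K` normalizes `C_R(K)`. -/
theorem h39_le_normalizer_inf_centralizer {Γ : Type*} [Group Γ] (H R K : Subgroup Γ)
    (hHR : H ≤ Subgroup.normalizer (R : Set Γ)) (hHK : H ≤ Subgroup.normalizer (K : Set Γ)) :
    H ≤ Subgroup.normalizer ((R ⊓ Subgroup.centralizer (K : Set Γ) : Subgroup Γ) : Set Γ) := by
  have HRn := Subgroup.le_normalizer_iff.mp hHR
  have HKn := Subgroup.le_normalizer_iff.mp hHK
  rw [Subgroup.le_normalizer_iff]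
  intro h hh x hx
  have hx1 : x ∈ R := hx.1
  have hx2 : x ∈ Subgroup.centralizer (K : Set Γ) := hx.2
  refine Subgroup.mem_inf.mpr ⟨HRn h hh x hx1, ?_⟩
  rw [Subgroup.mem_centralizer_iff]
  intro k hk
  have hk' : h⁻¹ * k * h ∈ K := by
    have := HKn h⁻¹ (H.inv_mem hh) k hk
    simpa using this
  have e := Subgroup.mem_centralizer_iff.mp hx2 _ hk'
  calc k * (h * x * h⁻¹) = h * ((h⁻¹ * k * h) * x) * h⁻¹ := by group
    _ = h * (x * (h⁻¹ * k * h)) * h⁻¹ := by rw [e]
    _ = h * x * h⁻¹ * k := by group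

section Cases

variable {Γ : Type*} [Group Γ] [Finite Γ] {F : Type*} [Field F] [IsAlgClosed F]
  {W : Type*} [AddCommGroup W] [Module F W] [FiniteDimensional F W]
  {ρ : Γ →* Module.End F W} {K H S R : Subgroup Γ} {p q s r : ℕ}

/-- Ib -/
theorem MinTower.abelian_caseB (T : MinTower ρ K H S R p q s r)
    (hab : ∀ x ∈ R, ∀ x' ∈ R, x * x' = x' * x) (hB : ¬ CaseA K S R) : False :=
  h39_abelian_caseB_core T T.comm_S (T.caseB_fpf hB)
    (frob_gen K S R p T.hp T.cardK hab
      (by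
        have : Fact s.Prime := ⟨T.hs⟩
        have : Fact r.Prime := ⟨T.hr⟩
        obtain ⟨a, ha⟩ := T.Sgrp.exists_card_eq
        obtain ⟨b, hb⟩ := T.Rgrp.exists_card_eq
        rw [ha, hb]
        exact Nat.Coprime.pow a b ((Nat.coprime_primes T.hs T.hr).mpr T.hsr))
      T.KS T.KR T.SR (T.fix_S_abelian hab) (T.caseB_fpf hB))
    (fun g hg m hm hmF hne =>
      exists_wt_ne_one ρ ⊤ R (fun _ _ _ _ => Submodule.mem_top) hab g hg m hm hmF hne)
    (fun μ w hw => T.toTower.wt_stab R T.KR T.HR μ w hw)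
    (fun μ w hw hK hH => T.toTower.wt_trivial_of_fixed R le_rfl hab T.KR T.HR μ w hw hK hH)
    (fun b hb hbK w hw =>
      T.toTower.star (R ⊓ Subgroup.centralizer (K : Set Γ)) inf_le_left
        (fun b hb b' hb' => hab b hb.1 b' hb'.1)
        (fun b hb k hk => Subgroup.mem_centralizer_iff.mp hb.2 k hk)
        (h39_le_normalizer_inf_centralizer H R K T.HR T.HK) b
        ⟨hb, Subgroup.mem_centralizer_iff.mpr hbK⟩ w hw)

end Cases

end Cfsg.Agent.Lib.helper75.PQ
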