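import Cfsg.Agent.Lib.helper39.TowerZ
import Cfsg.Agent.Lib.helper39.LocalFusion

/-!
# Local-to-global control of strong fusion for a pair `(W, V)`

`W` is a conjugacy functor with `Z(H) ≤ W(H)`, `V` a central functor (monotone in the centre).
The allowed steps are the elements of `N(W(T))` and of `C(V(T))`.  If the pair controls strong
fusion in `N_G(H)` for every `H` with `Z(S) ≤ H ≤ S`, it controls strong fusion in `G`.
-/

set_option autoImplicit false

namespace Cfsg.Agent.Lib.helper39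

open Cfsg

variable {G : Type*} [Group G]

/-- The allowed steps for the pair `(W, V)`: elements of `N_H(W T)` and of `C_H(V T)`. -/
def stepWV (W V : Subgroup G → Subgroup G) (H T : Subgroup G) : Set G :=
  {k | k ∈ H ⊓ Subgroup.normalizer ((W T : Subgroup G) : Set G) ∨
    k ∈ H ⊓ Subgroup.centralizer ((V T : Subgroup G) : Set G)}

theorem stepWV_inv {W V : Subgroup G → Subgroup G} {H T : Subgroup G} {k : G}
    (hk : k ∈ stepWV W V H T) : k⁻¹ ∈ stepWV W V H T := by
  rcases hk with hk | hk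
  · exact Or.inl (inv_mem hk)
  · exact Or.inr (inv_mem hk)

/-- Control of strong fusion in `H` by the pair `(W, V)`, relative to the Sylow subgroup `T`. -/
def PFCSF (W V : Subgroup G → Subgroup G) (H T : Subgroup G) : Prop :=
  ∀ (B : Subgroup G) (h : G), h ∈ H → B ≤ T → cj h B ≤ T → Real (stepWV W V H T) T B h

theorem Reach.conj' {K K' : Set G} {T B : Subgroup G} (g : G)
    (hK : ∀ k ∈ K, g * k * g⁻¹ ∈ K') {c : G} (h : Reach K T B c) :
    Reach K' (cj g T) (cj g B) (g * c * g⁻¹) := by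
  induction h with
  | one h =>
    have e : g * 1 * g⁻¹ = 1 := by group
    rw [e]
    exact Reach.one (cj_le_cj.mpr h)
  | step c k _ hk hle ih =>
    have e : g * (k * c) * g⁻¹ = (g * k * g⁻¹) * (g * c * g⁻¹) := by group
    rw [e]
    refine Reach.step _ _ ih (hK k hk) ?_
    rw [← e, ← cj_mul]
    have e2 : g * (k * c) * g⁻¹ * g = g * (k * c) := by group
    rw [e2, cj_mul]
    exact cj_le_cj.mpr hle

theorem PFCSF.conj {p : ℕ} {W V : Subgroup G → Subgroup G} (hW : IsConjugacyFunctor p W)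
    (hV : IsConjugacyFunctor p V) {H T : Subgroup G} (hT : IsPGroup p T) (g : G)
    (h : PFCSF W V H T) : PFCSF W V (cj g H) (cj g T) := by
  intro B a ha hB haB
  have ha₀ : g⁻¹ * a * g ∈ H := mem_cj.mp ha
  have hB₀ : cj g⁻¹ B ≤ T := le_cj_iff.mp hB
  have h' : cj (g⁻¹ * a * g) (cj g⁻¹ B) ≤ T := by
    rw [← cj_mul]
    have e : g⁻¹ * a * g * g⁻¹ = g⁻¹ * a := by group
    rw [e, cj_mul]
    exact le_cj_iff.mp haB
  obtain ⟨c, hc, hca⟩ := h (cj g⁻¹ B) (g⁻¹ * a * g) ha₀ hB₀ h'
  refine ⟨g * c * g⁻¹, ?_, ?_⟩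
  · have h1 := hc.conj' g (K' := stepWV W V (cj g H) (cj g T)) (by
      intro k hk
      rcases hk with hk | hk
      · left
        refine ⟨conj_mem_cj.mpr hk.1, ?_⟩
        rw [cfun_conj hW hT, ← cj_normalizer]
        exact conj_mem_cj.mpr hk.2
      · right
        refine ⟨conj_mem_cj.mpr hk.1, ?_⟩
        rw [cfun_conj hV hT, ← cj_centralizer]
        exact conj_mem_cj.mpr hk.2)
    rwa [cj_cj_inv] at h1
  · intro b hb
    have hb₀ : g⁻¹ * b * g ∈ cj g⁻¹ B := by
      rw [mem_cj]
      have e : g⁻¹⁻¹ * (g⁻¹ * b * g) * g⁻¹ = b := by group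
      rw [e]
      exact hb
    have h2 := hca _ hb₀
    calc g * c * g⁻¹ * b * (g * c * g⁻¹)⁻¹ = g * (c * (g⁻¹ * b * g) * c⁻¹) * g⁻¹ := by group
      _ = g * ((g⁻¹ * a * g) * (g⁻¹ * b * g) * (g⁻¹ * a * g)⁻¹) * g⁻¹ := by rw [h2]
      _ = a * b * a⁻¹ := by group

theorem PFCSF.of_sylow [Finite G] {p : ℕ} [Fact p.Prime] {W V : Subgroup G → Subgroup G}
    (hW : IsConjugacyFunctor p W) (hV : IsConjugacyFunctor p V) {H Q T : Subgroup G}
    (hQ : IsSylIn p Q H) (hT : IsSylIn p T H) (h : PFCSF W V H Q) : PFCSF W V H T := by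
  obtain ⟨k, hk, hkQ⟩ := hQ.exists_cj_eq hT
  have h1 := h.conj hW hV hQ.2.1 k
  rwa [hkQ, cj_eq_self_of_mem hk] at h1

/-- The subgroups conjugate to a subgroup `H` with `Z(S) ≤ H ≤ S`. -/
def zFam (S : Subgroup G) : Set (Subgroup G) :=
  {U | ∃ (g : G) (H : Subgroup G), S ⊓ Subgroup.centralizer (S : Set G) ≤ H ∧ H ≤ S ∧ U = cj g H}

section main

variable [Finite G] {p : ℕ} [Fact p.Prime] {W V : Subgroup G → Subgroup G}

theorem pfcsf_of_zFam (S : Sylow p G) (hW : IsConjugacyFunctor p W) (hV : IsConjugacyFunctor p V)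
    (hloc : ∀ H : Subgroup G,
      (S : Subgroup G) ⊓ Subgroup.centralizer ((S : Subgroup G) : Set G) ≤ H → H ≤ (S : Subgroup G) →
      ∃ Q : Subgroup G, IsSylIn p Q (Subgroup.normalizer (H : Set G)) ∧
        PFCSF W V (Subgroup.normalizer (H : Set G)) Q)
    {U : Subgroup G} (hU : U ∈ sylFamily p (S : Subgroup G)) (hUz : U ∈ zFam (S : Subgroup G)) :
    PFCSF W V (Subgroup.normalizer (U : Set G)) (NS (S : Subgroup G) U) := by
  obtain ⟨g, H, hZH, hHS, rfl⟩ := hUz
  obtain ⟨Q, hQ, hF⟩ := hloc H hZH hHS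
  have h1 := hF.conj hW hV hQ.2.1 g
  rw [cj_normalizer] at h1
  have hQ' : IsSylIn p (cj g Q) (Subgroup.normalizer ((cj g H : Subgroup G) : Set G)) := by
    have h2 := hQ.conj g
    rwa [cj_normalizer] at h2
  exact h1.of_sylow hW hV hQ' ⟨inf_le_right, S.2.to_le inf_le_left, hU.2⟩

/-- **Local-to-global control of strong fusion for the pair `(W, V)`.** -/
theorem pair_fusion_global (S : Sylow p G) (hS0 : (S : Subgroup G) ≠ ⊥)
    (hW : IsConjugacyFunctor p W) (hV : IsConjugacyFunctor p V)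
    (hWZ : ∀ H : Subgroup G, IsPGroup p ↥H →
      H ⊓ Subgroup.centralizer ((H : Subgroup G) : Set G) ≤ W H)
    (hVmono : ∀ H K : Subgroup G, IsPGroup p ↥H → IsPGroup p ↥K → H ≠ ⊥ → K ≠ ⊥ →
      H ⊓ Subgroup.centralizer ((H : Subgroup G) : Set G) ≤
        K ⊓ Subgroup.centralizer ((K : Subgroup G) : Set G) → V H ≤ V K)
    (hloc : ∀ H : Subgroup G,
      (S : Subgroup G) ⊓ Subgroup.centralizer ((S : Subgroup G) : Set G) ≤ H → H ≤ (S : Subgroup G) →
      ∃ Q : Subgroup G, IsSylIn p Q (Subgroup.normalizer (H : Set G)) ∧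
        PFCSF W V (Subgroup.normalizer (H : Set G)) Q) :
    Good (Real (stepWV W V ⊤ (S : Subgroup G)) (S : Subgroup G)) ⊤ (S : Subgroup G) := by
  have hSp : IsPGroup p (S : Subgroup G) := S.2
  have hR := admRel_real (stepWV W V ⊤ (S : Subgroup G)) (fun k hk => stepWV_inv hk)
    (S : Subgroup G)
  refine adm_tower S hR (zFam (S : Subgroup G))
    (fun T hT hZ => ⟨1, T, hZ, hT, (cj_one T).symm⟩) ?_
  intro n hM hΨ U hU hUz hcardU x hx B hB hxB
  have hF := pfcsf_of_zFam S hW hV hloc hU hUz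
  obtain ⟨c, hc, hca⟩ := hF B x hx hB hxB
  apply Real.congr hca
  have hTp : IsPGroup p (NS (S : Subgroup G) U) := hSp.to_le inf_le_left
  have hZT : (S : Subgroup G) ⊓ Subgroup.centralizer ((S : Subgroup G) : Set G) ≤
      NS (S : Subgroup G) U ⊓ Subgroup.centralizer ((NS (S : Subgroup G) U : Subgroup G) : Set G) := by
    intro z hz
    have hzU : z ∈ Subgroup.centralizer (U : Set G) := Subgroup.centralizer_le hU.1 hz.2
    exact ⟨⟨hz.1, Subgroup.centralizer_le_normalizer _ hzU⟩,
      Subgroup.centralizer_le (inf_le_left : NS (S : Subgroup G) U ≤ (S : Subgroup G)) hz.2⟩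
  have hT0 : NS (S : Subgroup G) U ≠ ⊥ := by
    intro h0
    have hU0 : U = ⊥ := le_bot_iff.mp ((le_NS hU.1).trans (le_of_eq h0))
    apply hS0
    have h1 : NS (S : Subgroup G) U = (S : Subgroup G) := by
      show (S : Subgroup G) ⊓ Subgroup.normalizer (U : Set G) = _
      rw [hU0, Subgroup.normalizer_eq_top, inf_top_eq]
    rw [← h1]
    exact h0
  have hreach : ∀ c : G, Reach (stepWV W V (Subgroup.normalizer (U : Set G))
      (NS (S : Subgroup G) U)) (NS (S : Subgroup G) U) B c →
      Real (stepWV W V ⊤ (S : Subgroup G)) (S : Subgroup G) B c := by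
    intro c hc
    induction hc with
    | one h => exact Real.one (le_trans h inf_le_left)
    | step c k hc hk hle ih =>
      apply Real.mul ih
      have hB' : cj c B ≤ NS (S : Subgroup G) U := hc.le
      have hkB' : cj k (cj c B) ≤ NS (S : Subgroup G) U := by rw [← cj_mul]; exact hle
      have single : k ∈ stepWV W V ⊤ (S : Subgroup G) →
          Real (stepWV W V ⊤ (S : Subgroup G)) (S : Subgroup G) (cj c B) k := by
        intro hk'
        exact ⟨k * 1, Reach.step 1 k (Reach.one (le_trans hB' inf_le_left)) hk'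
          (by rw [mul_one]; exact le_trans hkB' inf_le_left), fun b _ => by rw [mul_one]⟩
      rcases hk with hk | hk
      · by_cases hN : NS (S : Subgroup G) U = (S : Subgroup G)
        · apply single
          left
          exact ⟨Subgroup.mem_top _, by rw [← hN]; exact hk.2⟩
        · have hW1S : W (NS (S : Subgroup G) U) ≤ (S : Subgroup G) := W_NS_le hW hSp
          have hRM : NS (S : Subgroup G) U ≤ NS (S : Subgroup G) (W (NS (S : Subgroup G) U)) :=
            NS_le_NS_W' hW hSp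
          have hcard := card_NS_lt hW hSp hN
          obtain ⟨h₁, hU1S, hsyl1, hM1⟩ := exists_cj_isSylIn_NS S (W (NS (S : Subgroup G) U)) hW1S
          have hU1 : cj h₁ (W (NS (S : Subgroup G) U)) ∈ sylFamily p (S : Subgroup G) :=
            ⟨hU1S, hsyl1.2.2⟩
          have hU1z : cj h₁ (W (NS (S : Subgroup G) U)) ∈ zFam (S : Subgroup G) :=
            ⟨h₁, W (NS (S : Subgroup G) U), hZT.trans (hWZ _ hTp), hW1S, rfl⟩
          have hcard1 : Nat.card (NS (S : Subgroup G) (W (NS (S : Subgroup G) U))) ≤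
              Nat.card (NS (S : Subgroup G) (cj h₁ (W (NS (S : Subgroup G) U)))) := by
            rw [← card_cj h₁]
            exact Subgroup.card_le_of_le hM1
          have hc1 : n + 1 ≤ Nat.card (NS (S : Subgroup G) (W (NS (S : Subgroup G) U))) := by
            omega
          have hc2 : n + 1 ≤
              Nat.card (NS (S : Subgroup G) (cj h₁ (W (NS (S : Subgroup G) U)))) := by
            omega
          have r1 : Real (stepWV W V ⊤ (S : Subgroup G)) (S : Subgroup G)
              (NS (S : Subgroup G) (W (NS (S : Subgroup G) U))) h₁ :=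
            hM _ inf_le_left hc1 h₁ (hM1.trans inf_le_left)
          refine hR.conj_step r1 (hB'.trans hRM) (hkB'.trans hRM) ?_
          refine hΨ _ hU1 hU1z hc2 (h₁ * k * h₁⁻¹) ?_ (cj h₁ (cj c B)) ?_ ?_
          · rw [← cj_normalizer]
            exact conj_mem_cj.mpr hk.2
          · exact le_trans (cj_le_cj.mpr (le_trans hB' hRM)) hM1
          · rw [← cj_mul]
            have e : h₁ * k * h₁⁻¹ * h₁ = h₁ * k := by group
            rw [e, cj_mul]
            exact le_trans (cj_le_cj.mpr (le_trans hkB' hRM)) hM1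
      · apply single
        right
        refine ⟨Subgroup.mem_top _, ?_⟩
        exact Subgroup.centralizer_le (hVmono _ _ hSp hTp hS0 hT0 hZT) hk.2
  exact hreach c hc

end main

end Cfsg.Agent.Lib.helper39
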