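import Cfsg.Agent.Lib.helper39.PairFusion
import Cfsg.Agent.Lib.helper39.LocalTransfer
import Cfsg.Agent.Lib.helper39.SecTools

/-!
# Local-to-global control of transfer for a pair `(W, V)`

`W` is a conjugacy functor with `Z(H) ≤ W(H)`, `V` a central functor (monotone in the centre).
If `Q ∩ L' ≤ (Q ∩ N_L(W(Q))')(Q ∩ C_L(V(Q))')` for `L = N_G(H)` and a Sylow subgroup `Q` of `L`,
for every `H` with `Z(S) ≤ H ≤ S`, then the same holds for `L = G`, `Q = S`.
-/

set_option autoImplicit false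

namespace Cfsg.Agent.Lib.helper39

open Cfsg

open scoped commutatorElement

variable {G : Type*} [Group G]

/-- The `V`-term of the transfer identity: `Q ∩ C_L(V(Q))'`. -/
abbrev vTerm (V : Subgroup G → Subgroup G) (L Q : Subgroup G) : Subgroup G :=
  Q ⊓ ⁅L ⊓ Subgroup.centralizer ((V Q : Subgroup G) : Set G),
    L ⊓ Subgroup.centralizer ((V Q : Subgroup G) : Set G)⁆

/-- Transfer control by the pair `(W, V)` in `L`, relative to the Sylow subgroup `Q`. -/
def PCT (W V : Subgroup G → Subgroup G) (L Q : Subgroup G) : Prop :=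
  Q ⊓ ⁅L, L⁆ ≤ ctTerm W L Q ⊔ vTerm V L Q

theorem cj_ctTerm' {p : ℕ} {W : Subgroup G → Subgroup G} (hW : IsConjugacyFunctor p W)
    {L Q : Subgroup G} (hQ : IsPGroup p Q) (g : G) :
    cj g (ctTerm W L Q) = ctTerm W (cj g L) (cj g Q) := by
  show cj g (Q ⊓ ⁅L ⊓ Subgroup.normalizer ((W Q : Subgroup G) : Set G),
    L ⊓ Subgroup.normalizer ((W Q : Subgroup G) : Set G)⁆) =
    cj g Q ⊓ ⁅cj g L ⊓ Subgroup.normalizer ((W (cj g Q) : Subgroup G) : Set G),
      cj g L ⊓ Subgroup.normalizer ((W (cj g Q) : Subgroup G) : Set G)⁆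
  rw [cj_inf, cj_commutator, cj_inf, cj_normalizer, cfun_conj hW hQ]

theorem cj_vTerm {p : ℕ} {V : Subgroup G → Subgroup G} (hV : IsConjugacyFunctor p V)
    {L Q : Subgroup G} (hQ : IsPGroup p Q) (g : G) :
    cj g (vTerm V L Q) = vTerm V (cj g L) (cj g Q) := by
  show cj g (Q ⊓ ⁅L ⊓ Subgroup.centralizer ((V Q : Subgroup G) : Set G),
    L ⊓ Subgroup.centralizer ((V Q : Subgroup G) : Set G)⁆) =
    cj g Q ⊓ ⁅cj g L ⊓ Subgroup.centralizer ((V (cj g Q) : Subgroup G) : Set G),
      cj g L ⊓ Subgroup.centralizer ((V (cj g Q) : Subgroup G) : Set G)⁆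
  rw [cj_inf, cj_commutator, cj_inf, cj_centralizer, cfun_conj hV hQ]

theorem PCT.conj {p : ℕ} {W V : Subgroup G → Subgroup G} (hW : IsConjugacyFunctor p W)
    (hV : IsConjugacyFunctor p V) {L Q : Subgroup G} (hQ : IsPGroup p Q) (g : G)
    (h : PCT W V L Q) : PCT W V (cj g L) (cj g Q) := by
  have h1 : cj g (Q ⊓ ⁅L, L⁆) ≤ cj g (ctTerm W L Q ⊔ vTerm V L Q) := cj_le_cj.mpr h
  have e : cj g (ctTerm W L Q ⊔ vTerm V L Q) = cj g (ctTerm W L Q) ⊔ cj g (vTerm V L Q) :=
    Subgroup.map_sup _ _ _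
  rw [e, cj_ctTerm' hW hQ, cj_vTerm hV hQ, cj_inf, cj_commutator] at h1
  exact h1

theorem PCT.of_sylow [Finite G] {p : ℕ} [Fact p.Prime] {W V : Subgroup G → Subgroup G}
    (hW : IsConjugacyFunctor p W) (hV : IsConjugacyFunctor p V) {H Q T : Subgroup G}
    (hQ : IsSylIn p Q H) (hT : IsSylIn p T H) (h : PCT W V H Q) : PCT W V H T := by
  obtain ⟨k, hk, hkQ⟩ := hQ.exists_cj_eq hT
  have h1 := h.conj hW hV hQ.2.1 k
  rwa [hkQ, cj_eq_self_of_mem hk] at h1

section main

variable [Finite G] {p : ℕ} [Fact p.Prime] {W V : Subgroup G → Subgroup G}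

theorem pct_of_zFam (S : Sylow p G) (hW : IsConjugacyFunctor p W) (hV : IsConjugacyFunctor p V)
    (hloc : ∀ H : Subgroup G,
      (S : Subgroup G) ⊓ Subgroup.centralizer ((S : Subgroup G) : Set G) ≤ H → H ≤ (S : Subgroup G) →
      ∃ Q : Subgroup G, IsSylIn p Q (Subgroup.normalizer (H : Set G)) ∧
        PCT W V (Subgroup.normalizer (H : Set G)) Q)
    {U : Subgroup G} (hU : U ∈ sylFamily p (S : Subgroup G)) (hUz : U ∈ zFam (S : Subgroup G)) :
    PCT W V (Subgroup.normalizer (U : Set G)) (NS (S : Subgroup G) U) := by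
  obtain ⟨g, H, hZH, hHS, rfl⟩ := hUz
  obtain ⟨Q, hQ, hF⟩ := hloc H hZH hHS
  have h1 := hF.conj hW hV hQ.2.1 g
  rw [cj_normalizer] at h1
  have hQ' : IsSylIn p (cj g Q) (Subgroup.normalizer ((cj g H : Subgroup G) : Set G)) := by
    have h2 := hQ.conj g
    rwa [cj_normalizer] at h2
  exact h1.of_sylow hW hV hQ' ⟨inf_le_right, S.2.to_le inf_le_left, hU.2⟩

/-- **Local-to-global control of transfer for the pair `(W, V)`.** -/
theorem pair_transfer_global (S : Sylow p G) (hS0 : (S : Subgroup G) ≠ ⊥)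
    (hW : IsConjugacyFunctor p W) (hV : IsConjugacyFunctor p V)
    (hWZ : ∀ H : Subgroup G, IsPGroup p ↥H →
      H ⊓ Subgroup.centralizer ((H : Subgroup G) : Set G) ≤ W H)
    (hVmono : ∀ H K : Subgroup G, IsPGroup p ↥H → IsPGroup p ↥K → H ≠ ⊥ → K ≠ ⊥ →
      H ⊓ Subgroup.centralizer ((H : Subgroup G) : Set G) ≤
        K ⊓ Subgroup.centralizer ((K : Subgroup G) : Set G) → V H ≤ V K)
    (hloc : ∀ H : Subgroup G,
      (S : Subgroup G) ⊓ Subgroup.centralizer ((S : Subgroup G) : Set G) ≤ H → H ≤ (S : Subgroup G) →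
      ∃ Q : Subgroup G, IsSylIn p Q (Subgroup.normalizer (H : Set G)) ∧
        PCT W V (Subgroup.normalizer (H : Set G)) Q) :
    PCT W V ⊤ (S : Subgroup G) := by
  have hSp : IsPGroup p (S : Subgroup G) := S.2
  obtain ⟨F, hFdef⟩ : ∃ F : Subgroup G,
      F = ctTerm W ⊤ (S : Subgroup G) ⊔ vTerm V ⊤ (S : Subgroup G) := ⟨_, rfl⟩
  have hFW : ctTerm W ⊤ (S : Subgroup G) ≤ F := by rw [hFdef]; exact le_sup_left
  have hFV : vTerm V ⊤ (S : Subgroup G) ≤ F := by rw [hFdef]; exact le_sup_right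
  show (S : Subgroup G) ⊓ ⁅(⊤ : Subgroup G), ⊤⁆ ≤ _
  rw [← hFdef]
  have hR := admRel_treal F (S : Subgroup G)
  have hgood : Good (TReal F) ⊤ (S : Subgroup G) := by
    refine adm_tower S hR (zFam (S : Subgroup G))
      (fun T hT hZ => ⟨1, T, hZ, hT, (cj_one T).symm⟩) ?_
    intro n hM hΨ U hU hUz hcardU x hx B hB hxB b hb
    have hF := pct_of_zFam S hW hV hloc hU hUz
    have hTp : IsPGroup p (NS (S : Subgroup G) U) := hSp.to_le inf_le_left
    have hZT : (S : Subgroup G) ⊓ Subgroup.centralizer ((S : Subgroup G) : Set G) ≤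
        NS (S : Subgroup G) U ⊓
          Subgroup.centralizer ((NS (S : Subgroup G) U : Subgroup G) : Set G) := by
      intro z hz
      have hzU : z ∈ Subgroup.centralizer (U : Set G) := Subgroup.centralizer_le hU.1 hz.2
      exact ⟨⟨hz.1, Subgroup.centralizer_le_normalizer _ hzU⟩,
        Subgroup.centralizer_le (inf_le_left : NS (S : Subgroup G) U ≤ (S : Subgroup G)) hz.2⟩
    have hT0 : NS (S : Subgroup G) U ≠ ⊥ := by
      intro h0
      have hU0 : U = ⊥ := le_bot_iff.mp ((le_NS hU.1).trans (le_of_eq h0))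
      apply hS0
      have h1 : NS (S : Subgroup G) U = (S : Subgroup G) := by
        show (S : Subgroup G) ⊓ Subgroup.normalizer (U : Set G) = _
        rw [hU0, Subgroup.normalizer_eq_top, inf_top_eq]
      rw [← h1]
      exact h0
    have hy : b * (x * b * x⁻¹)⁻¹ ∈ NS (S : Subgroup G) U ⊓
        ⁅Subgroup.normalizer (U : Set G), Subgroup.normalizer (U : Set G)⁆ := by
      refine ⟨(NS (S : Subgroup G) U).mul_mem (hB hb)
        ((NS (S : Subgroup G) U).inv_mem (hxB (conj_mem_cj.mpr hb))), ?_⟩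
      have e : b * (x * b * x⁻¹)⁻¹ = ⁅b, x⁆ := by
        rw [commutatorElement_def]; group
      rw [e]
      exact Subgroup.commutator_mem_commutator
        ((inf_le_right : NS (S : Subgroup G) U ≤ Subgroup.normalizer (U : Set G)) (hB hb)) hx
    refine (hF.trans (sup_le ?_ ?_)) hy
    · by_cases hN : NS (S : Subgroup G) U = (S : Subgroup G)
      · refine le_trans ?_ hFW
        rw [hN]
        exact inf_le_inf_left _ (Subgroup.commutator_mono (inf_le_inf_right _ le_top)
          (inf_le_inf_right _ le_top))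
      · have hW1S : W (NS (S : Subgroup G) U) ≤ (S : Subgroup G) := W_NS_le hW hSp
        have hRM : NS (S : Subgroup G) U ≤ NS (S : Subgroup G) (W (NS (S : Subgroup G) U)) :=
          NS_le_NS_W' hW hSp
        have hcard := card_NS_lt hW hSp hN
        obtain ⟨h₁, hU1S, hsyl1, hM1⟩ := exists_cj_isSylIn_NS S (W (NS (S : Subgroup G) U)) hW1S
        have hU1 : cj h₁ (W (NS (S : Subgroup G) U)) ∈ sylFamily p (S : Subgroup G) :=
          ⟨hU1S, hsyl1.2.2⟩
        have hU1z : cj h₁ (W (NS (S : Subgroup G) U)) ∈ zFam (S : Subgroup G) :=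
          ⟨h₁, W (NS (S : Subgroup G) U), hZT.trans (hWZ _ hTp), hW1S, rfl⟩
        have hcard1 : Nat.card (NS (S : Subgroup G) (W (NS (S : Subgroup G) U))) ≤
            Nat.card (NS (S : Subgroup G) (cj h₁ (W (NS (S : Subgroup G) U)))) := by
          rw [← card_cj h₁]
          exact Subgroup.card_le_of_le hM1
        have hc1 : n + 1 ≤ Nat.card (NS (S : Subgroup G) (W (NS (S : Subgroup G) U))) := by
          omega
        have hc2 : n + 1 ≤
            Nat.card (NS (S : Subgroup G) (cj h₁ (W (NS (S : Subgroup G) U)))) := by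
          omega
        have r1 : TReal F (NS (S : Subgroup G) (W (NS (S : Subgroup G) U))) h₁ :=
          hM _ inf_le_left hc1 h₁ (hM1.trans inf_le_left)
        rintro a ⟨haT, haC⟩
        have haC' : a ∈ ⁅Subgroup.normalizer ((W (NS (S : Subgroup G) U) : Subgroup G) : Set G),
            Subgroup.normalizer ((W (NS (S : Subgroup G) U) : Subgroup G) : Set G)⁆ :=
          Subgroup.commutator_mono inf_le_right inf_le_right haC
        have ha1 : a * (h₁ * a * h₁⁻¹)⁻¹ ∈ F := r1 a (hRM haT)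
        have ha2 : h₁ * a * h₁⁻¹ ∈ F := by
          apply isSylIn_inf_commutator_le hsyl1 F
            (fun B' u hu hB' huB' => hΨ _ hU1 hU1z hc2 u hu B' hB' huB')
          refine ⟨hM1 (conj_mem_cj.mpr (hRM haT)), ?_⟩
          rw [← cj_normalizer, ← cj_commutator]
          exact conj_mem_cj.mpr haC'
        have e : a = (a * (h₁ * a * h₁⁻¹)⁻¹) * (h₁ * a * h₁⁻¹) := by group
        rw [e]
        exact F.mul_mem ha1 ha2
    · refine le_trans ?_ hFV
      have hCV : Subgroup.centralizer ((V (NS (S : Subgroup G) U) : Subgroup G) : Set G) ≤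
          Subgroup.centralizer ((V (S : Subgroup G) : Subgroup G) : Set G) :=
        Subgroup.centralizer_le (hVmono _ _ hSp hTp hS0 hT0 hZT)
      exact inf_le_inf inf_le_left (Subgroup.commutator_mono
        (le_inf le_top (inf_le_right.trans hCV)) (le_inf le_top (inf_le_right.trans hCV)))
  exact sylow_inf_commutator_le S F (fun B u hB huB _ => hgood u (Subgroup.mem_top u) B hB huB)

end main

end Cfsg.Agent.Lib.helper39
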