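import Mathlib
import Cfsg.Agent.Lib.helper68.HallPet
import Cfsg.Agent.Lib.helper65.PearlPow
import Cfsg.Agent.Lib.helper35.PearlG1
import Cfsg.Agent.Lib.helper36.PearlGHP
import Cfsg.Agent.Lib.helper36.PearlGK9B
import Cfsg.Agent.Lib.helper39.PearlGK5core

/-!
# S5238 block G, piece K5 (F3) (helper39): `p`-th powers of `gam G i` lie in `gam G (i + p - 1)`
-/

set_option autoImplicit false

namespace Cfsg.Agent.Lib.helper65.PearlG

open Cfsg.Agent.Lib.helper68 Cfsg.Agent.Lib.helper65.PearlPow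

variable {G : Type*} [Group G] [Finite G]

/-- K5 (L). F3. -/
theorem pg_F3 (p : ℕ) [Fact p.Prime] (hp2 : p ≠ 2) (n : ℕ) (hG : Nat.card G = p ^ n) (x : G)
    (hx : x ^ p = 1) (hC : Nat.card (Subgroup.centralizer ({x} : Set G)) = p ^ 2) (i : ℕ)
    (hi : 2 ≤ i) (m : G) (hm : m ∈ gam G i) : m ^ p ∈ gam G (i + p - 1) := by
  have hcard := Cfsg.Agent.Lib.helper35.PearlG.h35_pg_card p n hG x hC
  refine h39_pg_F3_core p n hG x hx hC hcard ?_
    (fun T j h2 k hk a ha => pg_lcs_sub_add T j h2 k hk a ha)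
    (fun T N hM a b ha hb => pg_hp p (IsPGroup.of_card hG) T N hM a b ha hb) i hi m hm
  intro hn2 m' hm'
  rcases Nat.lt_or_ge n 3 with h3 | h3
  · have hn : n = 2 := by omega
    subst hn
    have h1 := hcard 2 le_rfl le_rfl
    rw [Nat.sub_self, pow_zero] at h1
    have hbot : gam G 2 = ⊥ := Subgroup.card_eq_one.mp h1
    rw [hbot, Subgroup.mem_bot] at hm'
    refine ⟨1, ?_⟩
    rw [hm']
    unfold com
    group
  · obtain ⟨g, -, hg⟩ := Cfsg.Agent.Lib.helper35.PearlG.h35_pg_onto p n hG x hC h3 1 le_rfl m' hm'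
    exact ⟨g, hg.symm⟩

end Cfsg.Agent.Lib.helper65.PearlG
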