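import Mathlib
import Cfsg.Agent.Lib.helper74.QODefs

/-! S1935 piece T (race copy by helper39): Timmesfeld replacement in `End V`. -/

set_option autoImplicit false

namespace Cfsg.Agent.Lib.helper39.QO

open Cfsg.Agent.Lib.helper74.QO

/-- the subgroup `A_x` of the elements of `A` fixing every `b x - x`, `b ∈ A`. -/
def h39_stabAt {V : Type*} [AddCommGroup V] (A : Subgroup (AddMonoid.End V)ˣ) (x : V) :
    Subgroup (AddMonoid.End V)ˣ where
  carrier := {a | a ∈ A ∧ ∀ b ∈ A,
    ((a : (AddMonoid.End V)ˣ) : AddMonoid.End V) (((b : (AddMonoid.End V)ˣ) : AddMonoid.End V) x - x)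
      = ((b : (AddMonoid.End V)ˣ) : AddMonoid.End V) x - x}
  one_mem' := ⟨A.one_mem, fun _ _ => rfl⟩
  mul_mem' := by
    rintro a a' ⟨ha, h1⟩ ⟨ha', h2⟩
    refine ⟨A.mul_mem ha ha', fun b hb => ?_⟩
    show ((a : (AddMonoid.End V)ˣ) : AddMonoid.End V) (((a' : (AddMonoid.End V)ˣ) : AddMonoid.End V) _) = _
    rw [h2 b hb, h1 b hb]
  inv_mem' := by
    rintro a ⟨ha, h1⟩
    refine ⟨A.inv_mem ha, fun b hb => ?_⟩
    have h := h1 b hb
    have h2 : ((a⁻¹ : (AddMonoid.End V)ˣ) : AddMonoid.End V) * ((a : (AddMonoid.End V)ˣ) : AddMonoid.End V) = 1 := by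
      simp
    have h3 := congrArg (fun f : AddMonoid.End V =>
      f (((b : (AddMonoid.End V)ˣ) : AddMonoid.End V) x - x)) h2
    simp only [AddMonoid.End.coe_mul, Function.comp_apply, AddMonoid.End.coe_one, id_eq] at h3
    rw [h] at h3
    exact h3

theorem h39_mem_stabAt {V : Type*} [AddCommGroup V] {A : Subgroup (AddMonoid.End V)ˣ} {x : V}
    {a : (AddMonoid.End V)ˣ} : a ∈ h39_stabAt A x ↔ a ∈ A ∧ ∀ b ∈ A,
    ((a : (AddMonoid.End V)ˣ) : AddMonoid.End V) (((b : (AddMonoid.End V)ˣ) : AddMonoid.End V) x - x)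
      = ((b : (AddMonoid.End V)ˣ) : AddMonoid.End V) x - x := Iff.rfl

theorem h39_stabAt_le {V : Type*} [AddCommGroup V] (A : Subgroup (AddMonoid.End V)ˣ) (x : V) :
    h39_stabAt A x ≤ A := fun _ h => h.1

/-- Fermat step: `a y = 2 y`, `a ^ p = 1`, `p y = 0` force `y = 0`. -/
theorem h39_eq_zero_of_double {V : Type*} [AddCommGroup V] (p : ℕ) [Fact p.Prime]
    (a : (AddMonoid.End V)ˣ) (ha : a ^ p = 1) (y : V) (hy : (a : AddMonoid.End V) y = y + y)
    (hpy : p • y = 0) : y = 0 := by
  have hp : p.Prime := Fact.out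
  have hpow : ∀ n : ℕ, (((a ^ n : (AddMonoid.End V)ˣ)) : AddMonoid.End V) y = (2 ^ n) • y := by
    intro n
    induction n with
    | zero => simp
    | succ n ih =>
      rw [pow_succ, Units.val_mul]
      show (((a ^ n : (AddMonoid.End V)ˣ)) : AddMonoid.End V) ((a : AddMonoid.End V) y) = _
      rw [hy, map_add, ih, pow_succ, mul_nsmul, two_nsmul]
  have h1 := hpow p
  rw [ha] at h1
  have h2 : (1 : AddMonoid.End V) y = y := rfl
  rw [Units.val_one, h2] at h1
  -- 2 ^ p = 2 + p * t
  have hmod : 2 ≡ 2 ^ p [MOD p] := by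
    rw [← ZMod.natCast_eq_natCast_iff]
    push_cast
    exact (ZMod.pow_card (2 : ZMod p)).symm
  have hle : 2 ≤ 2 ^ p := by
    calc 2 = 2 ^ 1 := by norm_num
      _ ≤ 2 ^ p := Nat.pow_le_pow_right (by norm_num) hp.pos
  obtain ⟨t, ht⟩ := (Nat.modEq_iff_dvd' hle).1 hmod
  have h3 : 2 ^ p = 2 + p * t := by omega
  rw [h3, add_nsmul, mul_nsmul, hpy, nsmul_zero, add_zero, two_nsmul] at h1
  -- y = y + y
  have : y + 0 = y + y := by rw [add_zero]; exact h1
  exact (add_left_cancel this).symm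

/-- PIECE T (Timmesfeld replacement) -/
theorem exists_quad_offender {V : Type*} [AddCommGroup V] [Finite V] (p : ℕ) [Fact p.Prime]
    (hV : ∀ v : V, p • v = 0) (E : Subgroup (AddMonoid.End V)ˣ) (hE1 : E ≠ ⊥)
    (hEc : ∀ a ∈ E, ∀ b ∈ E, a * b = b * a) (hEp : ∀ a ∈ E, a ^ p = 1)
    (hoff : Nat.card V ≤ Nat.card E * Nat.card (helper74.QO.Fix E)) :
    ∃ A : Subgroup (AddMonoid.End V)ˣ, A ≤ E ∧ A ≠ ⊥ ∧ Quad A ∧
      Nat.card V ≤ Nat.card A * Nat.card (helper74.QO.Fix A) := by
  classical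
  let f : Subgroup (AddMonoid.End V)ˣ → ℕ := fun A => Nat.card A * Nat.card (helper74.QO.Fix A)
  let M : ℕ := Nat.card (AddMonoid.End V)ˣ
  let g : Subgroup (AddMonoid.End V)ˣ → ℕ := fun A => f A * (M + 1) + (M - Nat.card A)
  let S := {A : Subgroup (AddMonoid.End V)ˣ // A ≤ E ∧ A ≠ ⊥ ∧ Nat.card V ≤ f A}
  have : Nonempty S := ⟨⟨E, le_rfl, hE1, hoff⟩⟩
  obtain ⟨⟨A, hAE, hA1, hAV⟩, hmax⟩ := Finite.exists_max (fun s : S => g s.1)
  -- commutation on vectors
  have hcomm : ∀ a ∈ A, ∀ b ∈ A, ∀ v : V,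
      ((a : (AddMonoid.End V)ˣ) : AddMonoid.End V) (((b : (AddMonoid.End V)ˣ) : AddMonoid.End V) v)
        = ((b : (AddMonoid.End V)ˣ) : AddMonoid.End V) (((a : (AddMonoid.End V)ˣ) : AddMonoid.End V) v) := by
    intro a ha b hb v
    have h := hEc a (hAE ha) b (hAE hb)
    have h2 := congrArg (fun u : (AddMonoid.End V)ˣ => ((u : AddMonoid.End V)) v) h
    exact h2
  have key : ∀ x : V, h39_stabAt A x = A := by
    intro x
    set B := h39_stabAt A x with hB
    have hBA : B ≤ A := h39_stabAt_le A x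
    -- the map
    let φ : A × helper74.QO.Fix A → V := fun q =>
      (((q.1 : (AddMonoid.End V)ˣ)) : AddMonoid.End V) x - x + (q.2 : V)
    have hclaim : ∀ q q0 : A × helper74.QO.Fix A, φ q = φ q0 →
        ((q0.1 : (AddMonoid.End V)ˣ)⁻¹ * (q.1 : (AddMonoid.End V)ˣ)) ∈ B := by
      intro q q0 hq
      obtain ⟨⟨a, ha⟩, ⟨c, hc⟩⟩ := q
      obtain ⟨⟨a0, ha0⟩, ⟨c0, hc0⟩⟩ := q0
      simp only [φ] at hq
      refine ⟨A.mul_mem (A.inv_mem ha0) ha, fun b hb => ?_⟩
      -- a x - a0 x = c0 - c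
      have hdiff : (a : AddMonoid.End V) x - (a0 : AddMonoid.End V) x = c0 - c := by
        have : (a : AddMonoid.End V) x - x + c - ((a0 : AddMonoid.End V) x - x + c0) = 0 := by
          rw [hq, sub_self]
        have e : (a : AddMonoid.End V) x - (a0 : AddMonoid.End V) x - (c0 - c)
            = (a : AddMonoid.End V) x - x + c - ((a0 : AddMonoid.End V) x - x + c0) := by abel
        rw [← sub_eq_zero, e, this]
      -- b fixes c0 - c
      have hbfix : (b : AddMonoid.End V) (c0 - c) = c0 - c := by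
        rw [map_sub, hc0 b hb, hc b hb]
      -- a (b x - x) = a0 (b x - x)
      have h1 : (a : AddMonoid.End V) ((b : AddMonoid.End V) x - x)
          = (a0 : AddMonoid.End V) ((b : AddMonoid.End V) x - x) := by
        rw [map_sub, map_sub, hcomm a ha b hb x, hcomm a0 ha0 b hb x]
        have e1 : (b : AddMonoid.End V) ((a : AddMonoid.End V) x) - (a : AddMonoid.End V) x
            - ((b : AddMonoid.End V) ((a0 : AddMonoid.End V) x) - (a0 : AddMonoid.End V) x)
            = (b : AddMonoid.End V) ((a : AddMonoid.End V) x - (a0 : AddMonoid.End V) x)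
              - ((a : AddMonoid.End V) x - (a0 : AddMonoid.End V) x) := by
          rw [map_sub]; abel
        rw [← sub_eq_zero, e1, hdiff, hbfix, sub_self]
      show (((a0⁻¹ * a : (AddMonoid.End V)ˣ)) : AddMonoid.End V) ((b : AddMonoid.End V) x - x) = _
      rw [Units.val_mul]
      show ((a0⁻¹ : (AddMonoid.End V)ˣ) : AddMonoid.End V)
        ((a : AddMonoid.End V) ((b : AddMonoid.End V) x - x)) = _
      rw [h1]
      have h2 : ((a0⁻¹ : (AddMonoid.End V)ˣ) : AddMonoid.End V) * ((a0 : (AddMonoid.End V)ˣ) : AddMonoid.End V) = 1 := by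
        simp
      exact congrArg (fun f : AddMonoid.End V => f ((b : AddMonoid.End V) x - x)) h2
    have hφfix : ∀ q : A × helper74.QO.Fix A, φ q ∈ helper74.QO.Fix B := by
      intro q a' ha'
      obtain ⟨⟨a, ha⟩, ⟨c, hc⟩⟩ := q
      simp only [φ]
      rw [map_add, ha'.2 a ha, hc a' (hBA ha')]
    have hinj2 : ∀ q q' : A × helper74.QO.Fix A, φ q = φ q' → q.1 = q'.1 → q = q' := by
      intro q q' h1 h2
      obtain ⟨a, c⟩ := q
      obtain ⟨a', c'⟩ := q'
      simp only at h2
      subst h2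
      simp only [φ] at h1
      have := add_left_cancel h1
      exact Prod.ext rfl (Subtype.ext this)
    -- f A ≤ f B
    have hfle : f A ≤ f B := by
      have h0 : (0 : V) ∈ helper74.QO.Fix A := fun a _ => map_zero _
      let base : V → A × helper74.QO.Fix A := fun v =>
        if h : ∃ q, φ q = v then Classical.choose h else (1, ⟨0, h0⟩)
      have hbase : ∀ q, φ (base (φ q)) = φ q := by
        intro q
        have h : ∃ q', φ q' = φ q := ⟨q, rfl⟩
        simp only [base, dif_pos h]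
        exact Classical.choose_spec h
      let ι : A × helper74.QO.Fix A → B × helper74.QO.Fix B := fun q =>
        (⟨((base (φ q)).1 : (AddMonoid.End V)ˣ)⁻¹ * (q.1 : (AddMonoid.End V)ˣ),
            hclaim q (base (φ q)) (hbase q).symm⟩, ⟨φ q, hφfix q⟩)
      have hι : Function.Injective ι := by
        intro q q' h
        have h1 : φ q = φ q' := congrArg (fun z : B × helper74.QO.Fix B => (z.2 : V)) h
        have h2 := congrArg (fun z : B × helper74.QO.Fix B => (z.1 : (AddMonoid.End V)ˣ)) h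
        simp only [ι] at h2
        rw [h1] at h2
        have h3 : (q.1 : (AddMonoid.End V)ˣ) = (q'.1 : (AddMonoid.End V)ˣ) := mul_left_cancel h2
        exact hinj2 q q' h1 (Subtype.ext h3)
      have := Nat.card_le_card_of_injective ι hι
      rw [Nat.card_prod, Nat.card_prod] at this
      exact this
    by_cases hB1 : B = ⊥
    · exfalso
      -- φ is injective, hence onto
      have hφinj : Function.Injective φ := by
        intro q q' h
        have h1 := hclaim q q' h
        rw [hB1, Subgroup.mem_bot] at h1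
        have h2 : (q.1 : (AddMonoid.End V)ˣ) = (q'.1 : (AddMonoid.End V)ˣ) := by
          have := congrArg (fun u => (q'.1 : (AddMonoid.End V)ˣ) * u) h1
          simpa using this
        exact hinj2 q q' h (Subtype.ext h2)
      have hcard : Nat.card V ≤ Nat.card (A × helper74.QO.Fix A) := by
        rw [Nat.card_prod]; exact hAV
      obtain ⟨⟨⟨a, ha⟩, ⟨c, hc⟩⟩, hq⟩ := (hφinj.bijective_of_nat_card_le hcard).2 x
      simp only [φ] at hq
      -- a x = x + x - c
      have hax : (a : AddMonoid.End V) x = x + x - c := by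
        rw [← sub_eq_zero]
        have e : (a : AddMonoid.End V) x - (x + x - c) = (a : AddMonoid.End V) x - x + c - x := by abel
        rw [e, hq, sub_self]
      have hzero : ∀ b ∈ A, (b : AddMonoid.End V) x - x = 0 := by
        intro b hb
        apply h39_eq_zero_of_double p a (hEp a (hAE ha)) _ _ (hV _)
        rw [map_sub, hcomm a ha b hb x, hax, map_sub, map_add, hc b hb]
        abel
      have hAB : A ≤ B := by
        intro a' ha'
        refine ⟨ha', fun b hb => ?_⟩
        rw [hzero b hb, map_zero]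
      rw [hB1] at hAB
      exact hA1 (le_bot_iff.mp hAB)
    · -- B is in the family
      have hBS : B ≤ E ∧ B ≠ ⊥ ∧ Nat.card V ≤ f B := ⟨hBA.trans hAE, hB1, hAV.trans hfle⟩
      have h1 := hmax ⟨B, hBS⟩
      simp only [g] at h1
      have h2 : f A * (M + 1) ≤ f B * (M + 1) := Nat.mul_le_mul_right _ hfle
      have h3 : Nat.card B ≤ Nat.card A := Subgroup.card_le_of_le hBA
      have h4 : Nat.card A ≤ M := Subgroup.card_le_card_group A
      have h5 : Nat.card A ≤ Nat.card B := by
        generalize f A * (M + 1) = u at h1 h2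
        generalize f B * (M + 1) = w at h1 h2
        omega
      exact Subgroup.eq_of_le_of_card_ge hBA h5
  refine ⟨A, hAE, hA1, ?_, hAV⟩
  intro a ha b hb
  ext x
  have hmem : a ∈ h39_stabAt A x := by rw [key x]; exact ha
  have h := hmem.2 b hb
  show ((a : (AddMonoid.End V)ˣ) : AddMonoid.End V) ((((b : (AddMonoid.End V)ˣ) : AddMonoid.End V) - 1) x)
    - (((b : (AddMonoid.End V)ˣ) : AddMonoid.End V) - 1) x = 0
  have e : (((b : (AddMonoid.End V)ˣ) : AddMonoid.End V) - 1) x
      = ((b : (AddMonoid.End V)ˣ) : AddMonoid.End V) x - x := rfl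
  rw [e, h, sub_self]

end Cfsg.Agent.Lib.helper39.QO
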