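import Cfsg.Agent.Lib.helper39.QStable
import Cfsg.Agent.Lib.helper39.Sections

set_option autoImplicit false

namespace Cfsg.Agent.Lib.helper39

open Cfsg

open scoped commutatorElement

universe u

section

variable {p : ℕ}

/-- The centralizing form of `p`-stability: the elements of order prime to `p` of the normal
closure (in `H ≤ N(Q)`) of an element acting quadratically on the `p`-subgroup `Q`
centralize `Q`. -/
def CStable (p : ℕ) (Γ : Type*) [Group Γ] : Prop :=
  ∀ (Q H : Subgroup Γ), IsPGroup p Q → H ≤ Subgroup.normalizer (Q : Set Γ) → ∀ g ∈ H,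
    ⁅⁅Q, Subgroup.zpowers g⁆, Subgroup.zpowers g⁆ = ⊥ →
      ∀ x ∈ nclIn H g, (orderOf x).Coprime p → ⁅Q, Subgroup.zpowers x⁆ = ⊥

theorem cStable_of_isNormalizerPStable {Γ : Type*} [Group Γ] (hst : IsNormalizerPStable p Γ) :
    CStable p Γ :=
  fun Q H hQ hH g hg hquad x hx hco =>
    centralizes_of_isNormalizerPStable hst Q hQ H hH g hg hquad x hx hco

/-- The centralizing form of stability passes to groups embedded in a stable group. -/
theorem cStable_of_injective {Γ Γ' : Type*} [Group Γ] [Group Γ'] (f : Γ' →* Γ)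
    (hf : Function.Injective f) (h : CStable p Γ) : CStable p Γ' := by
  intro Q H hQ hH g hg hquad x hx hco
  have h1 := h (Q.map f) (H.map f) (hQ.map f)
    ((Subgroup.map_mono hH).trans (Subgroup.le_normalizer_map f)) (f g) ⟨g, hg, rfl⟩
    (by
      rw [← MonoidHom.map_zpowers, ← Subgroup.map_commutator, ← Subgroup.map_commutator, hquad,
        Subgroup.map_bot])
    (f x) (map_nclIn_le f H g ⟨x, hx, rfl⟩)
    (by rw [orderOf_injective f hf x]; exact hco)
  rw [← MonoidHom.map_zpowers, ← Subgroup.map_commutator] at h1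
  exact (Subgroup.map_eq_bot_iff_of_injective _ hf).mp h1

/-- If every quotient of `G` is stable in the centralizing form, `G` is `QStable`. -/
theorem qStable_of_cStable_quotients {G : Type*} [Group G]
    (hst : ∀ (N : Subgroup G) [N.Normal], CStable p (G ⧸ N)) : QStable p G := by
  intro N P H hN hNP hP hHP g hgH hquad x hx hco
  have hquad' : ⁅⁅P.map (QuotientGroup.mk' N), Subgroup.zpowers (QuotientGroup.mk' N g)⁆,
      Subgroup.zpowers (QuotientGroup.mk' N g)⁆ = ⊥ := by
    rw [← MonoidHom.map_zpowers, ← Subgroup.map_commutator, ← Subgroup.map_commutator,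
      Subgroup.map_eq_bot_iff, QuotientGroup.ker_mk']
    exact hquad
  have hH' : H.map (QuotientGroup.mk' N) ≤ Subgroup.normalizer
      ((P.map (QuotientGroup.mk' N) : Subgroup (G ⧸ N)) : Set (G ⧸ N)) :=
    (Subgroup.map_mono hHP).trans (Subgroup.le_normalizer_map _)
  have h1 := hst N (P.map (QuotientGroup.mk' N)) (H.map (QuotientGroup.mk' N)) (hP.map _) hH'
    (QuotientGroup.mk' N g) ⟨g, hgH, rfl⟩ hquad'
    (QuotientGroup.mk' N x) (map_nclIn_le _ H g ⟨x, hx, rfl⟩)
    (Nat.Coprime.coprime_dvd_left (orderOf_map_dvd _ x) hco)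
  rw [← MonoidHom.map_zpowers, ← Subgroup.map_commutator, Subgroup.map_eq_bot_iff,
    QuotientGroup.ker_mk'] at h1
  exact h1

/-- If every section `K/R` of `G` is `p`-stable in the normalizer form, every group isomorphic to
a section of `G` is `QStable`. -/
theorem qStable_of_sections {G : Type u} [Group G]
    (hst : ∀ (K R : Subgroup G) [hR : (R.subgroupOf K).Normal],
      IsNormalizerPStable p (↥K ⧸ R.subgroupOf K))
    {X : Type u} [Group X] (hX : Sec G X) : QStable p X := by
  apply qStable_of_cStable_quotients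
  intro N hN
  obtain ⟨K, R, hR, ⟨e⟩⟩ := (hX.quot N).exists_equiv
  exact cStable_of_injective e.symm.toMonoidHom e.symm.injective
    (cStable_of_isNormalizerPStable (hst K R))

end

end Cfsg.Agent.Lib.helper39
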