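import Mathlib
import Cfsg.Prelude.Def_GeometricClasses

/-!
S5977/S5978 block C (helper2), piece KAPPA (race copy by helper39): a 2-dimensional field
subalgebra `K` of a matrix algebra (char ≠ 2) contains `κ` with `κ² = δ • 1`, `δ` a nonsquare,
and `K = {a • 1 + b • κ}`.
-/

set_option autoImplicit false

namespace Cfsg.Agent.Lib.helper2

open Cfsg.Geo Matrix

theorem h39_qfc_kappa {F : Type*} [Field F] {ι : Type} [Fintype ι] [DecidableEq ι]
    (h2 : (2 : F) ≠ 0) (K : Subalgebra F (Matrix ι ι F)) (hK : IsFieldSubalgebra 2 K) :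
    ∃ κ ∈ K, ∃ δ : F, (∀ r : F, r ^ 2 ≠ δ + 0 * r) ∧ κ * κ = δ • (1 : Matrix ι ι F) ∧
      ∀ k ∈ K, ∃ a b : F, k = a • (1 : Matrix ι ι F) + b • κ := by
  have hfin : Module.finrank F (Subalgebra.toSubmodule K) = 2 := hK.finrank_eq
  -- an element of `K` which is not a scalar
  have hex : ∃ k ∈ K, ∀ c : F, k ≠ c • (1 : Matrix ι ι F) := by
    by_contra hcon
    have hle : Subalgebra.toSubmodule K ≤ Submodule.span F {(1 : Matrix ι ι F)} := by
      intro k hk
      by_contra hk'
      apply hcon
      refine ⟨k, hk, fun c hc => hk' ?_⟩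
      rw [hc]
      exact Submodule.smul_mem _ _ (Submodule.subset_span rfl)
    have h1 := Submodule.finrank_mono hle
    have h3 : Module.finrank F (Submodule.span F {(1 : Matrix ι ι F)}) ≤ 1 := by
      have := finrank_span_le_card (R := F) ({(1 : Matrix ι ι F)} : Set (Matrix ι ι F))
      simpa using this
    omega
  obtain ⟨k, hkK, hkc⟩ := hex
  have h10 : (1 : Matrix ι ι F) ≠ 0 := by
    intro h
    apply hkc 0
    rw [zero_smul]
    calc k = k * 1 := (mul_one k).symm
      _ = 0 := by rw [h, mul_zero]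
  have hli : LinearIndependent F ![(1 : Matrix ι ι F), k] :=
    (LinearIndependent.pair_iff' h10).mpr (fun a h => hkc a h.symm)
  have hspan : Submodule.span F (Set.range ![(1 : Matrix ι ι F), k]) = Subalgebra.toSubmodule K := by
    apply Submodule.eq_of_le_of_finrank_eq
    · rw [Submodule.span_le]
      rintro x ⟨i, rfl⟩
      fin_cases i
      · exact K.one_mem
      · exact hkK
    · rw [finrank_span_eq_card hli, hfin]
      rfl
  have hrep : ∀ x ∈ K, ∃ a b : F, x = a • (1 : Matrix ι ι F) + b • k := by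
    intro x hx
    have hx' : x ∈ Submodule.span F (Set.range ![(1 : Matrix ι ι F), k]) := by
      rw [hspan]
      exact hx
    rw [Submodule.mem_span_range_iff_exists_fun] at hx'
    obtain ⟨c, hc⟩ := hx'
    refine ⟨c 0, c 1, ?_⟩
    rw [← hc, Fin.sum_univ_two]
    rfl
  obtain ⟨t, s, hts⟩ := hrep (k * k) (K.mul_mem hkK hkK)
  obtain ⟨c, hc⟩ : ∃ c : F, s = 2 * c := ⟨s / 2, by field_simp⟩
  have hκK : k - c • (1 : Matrix ι ι F) ∈ K := K.sub_mem hkK (K.smul_mem K.one_mem c)
  have hκ2 : (k - c • (1 : Matrix ι ι F)) * (k - c • (1 : Matrix ι ι F))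
      = (t + c * c) • (1 : Matrix ι ι F) := by
    have e : (k - c • (1 : Matrix ι ι F)) * (k - c • (1 : Matrix ι ι F))
        = k * k - c • k - c • k + (c * c) • (1 : Matrix ι ι F) := by
      simp only [sub_mul, mul_sub, smul_mul_assoc, mul_smul_comm, mul_one, one_mul, smul_sub,
        smul_smul]
      abel
    rw [e, hts, hc]
    module
  refine ⟨k - c • (1 : Matrix ι ι F), hκK, t + c * c, ?_, hκ2, ?_⟩
  · intro r hr
    have hr' : r * r = t + c * c := by
      rw [← pow_two, hr]
      ring
    have hprod : (k - c • (1 : Matrix ι ι F) - r • (1 : Matrix ι ι F)) *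
        (k - c • (1 : Matrix ι ι F) + r • (1 : Matrix ι ι F)) = 0 := by
      have e : (k - c • (1 : Matrix ι ι F) - r • (1 : Matrix ι ι F)) *
          (k - c • (1 : Matrix ι ι F) + r • (1 : Matrix ι ι F))
          = (k - c • (1 : Matrix ι ι F)) * (k - c • (1 : Matrix ι ι F))
            - (r * r) • (1 : Matrix ι ι F) := by
        simp only [sub_mul, mul_sub, mul_add, add_mul, smul_mul_assoc, mul_smul_comm, mul_one,
          one_mul, smul_sub, smul_smul]
        module
      rw [e, hκ2, hr', sub_self]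
    have hmK : k - c • (1 : Matrix ι ι F) - r • (1 : Matrix ι ι F) ∈ K :=
      K.sub_mem hκK (K.smul_mem K.one_mem r)
    by_cases h0 : k - c • (1 : Matrix ι ι F) - r • (1 : Matrix ι ι F) = 0
    · apply hkc (c + r)
      rw [add_smul]
      have := sub_eq_zero.mp h0
      rw [sub_eq_iff_eq_add] at this
      rw [this]
      abel
    · obtain ⟨y, hyK, hy⟩ := hK.inv _ hmK h0
      have hcomm := hK.comm _ hmK y hyK
      have hz : k - c • (1 : Matrix ι ι F) + r • (1 : Matrix ι ι F) = 0 := by
        calc k - c • (1 : Matrix ι ι F) + r • (1 : Matrix ι ι F)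
            = 1 * (k - c • (1 : Matrix ι ι F) + r • (1 : Matrix ι ι F)) := (one_mul _).symm
          _ = y * ((k - c • (1 : Matrix ι ι F) - r • (1 : Matrix ι ι F)) *
                (k - c • (1 : Matrix ι ι F) + r • (1 : Matrix ι ι F))) := by
              rw [← mul_assoc y, ← hcomm, hy]
          _ = 0 := by rw [hprod, mul_zero]
      apply hkc (c - r)
      rw [sub_smul]
      have h' : k = c • (1 : Matrix ι ι F) - r • (1 : Matrix ι ι F) := by
        have := eq_neg_of_add_eq_zero_left hz
        rw [sub_eq_iff_eq_add] at this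
        rw [this]
        abel
      exact h'
  · intro x hx
    obtain ⟨a, b, hab⟩ := hrep x hx
    refine ⟨a + b * c, b, ?_⟩
    rw [hab]
    module

end Cfsg.Agent.Lib.helper2
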