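import Mathlib
import Cfsg.Prelude.Def_CaseTheorems
import Cfsg.Agent.Lib.helper39.Conj

/-!
helper39: auxiliary lemmas for the S1238 pieces B2 and B3b.
-/

set_option autoImplicit false

namespace Cfsg.Agent.Lib.helper39.S1238

/-- rank 2: an element of square one commuting with two distinct commuting involutions lies in the
four-group they generate. -/
theorem h39_rank2 {G : Type*} [Group G] [Finite G] (h2 : Cfsg.PRankLE 2 2 G) (z u t : G)
    (hzz : z * z = 1) (huu : u * u = 1) (htt : t * t = 1) (hz1 : z ≠ 1) (hu1 : u ≠ 1) (huz : u ≠ z)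
    (hzu : z * u = u * z) (hzt : z * t = t * z) (hut : u * t = t * u) :
    t = 1 ∨ t = z ∨ t = u ∨ t = z * u := by
  classical
  by_contra hcon
  simp only [not_or] at hcon
  obtain ⟨ht1, htz, htu, htzu⟩ := hcon
  have hgen : ∀ a ∈ ({z, u, t} : Set G), ∀ b ∈ ({z, u, t} : Set G), a * b = b * a := by
    intro a ha b hb
    simp only [Set.mem_insert_iff, Set.mem_singleton_iff] at ha hb
    rcases ha with rfl | rfl | rfl <;> rcases hb with rfl | rfl | rfl <;>
      first | rfl | assumption | (symm; assumption)
  have hcomm : ∀ a ∈ Subgroup.closure ({z, u, t} : Set G),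
      ∀ b ∈ Subgroup.closure ({z, u, t} : Set G), a * b = b * a := by
    intro a ha b hb
    have hb' : ∀ g ∈ ({z, u, t} : Set G), g * b = b * g := by
      intro g hg
      have hle : Subgroup.closure ({z, u, t} : Set G) ≤ Subgroup.centralizer {g} := by
        rw [Subgroup.closure_le]
        intro c hc
        rw [SetLike.mem_coe, Subgroup.mem_centralizer_iff]
        intro h hh
        rw [Set.mem_singleton_iff] at hh
        subst hh
        exact hgen h hg c hc
      have h1 := hle hb
      rw [Subgroup.mem_centralizer_iff] at h1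
      exact h1 g rfl
    have hle : Subgroup.closure ({z, u, t} : Set G) ≤ Subgroup.centralizer {b} := by
      rw [Subgroup.closure_le]
      intro c hc
      rw [SetLike.mem_coe, Subgroup.mem_centralizer_iff]
      intro h hh
      rw [Set.mem_singleton_iff] at hh
      subst hh
      exact (hb' c hc).symm
    have h1 := hle ha
    rw [Subgroup.mem_centralizer_iff] at h1
    exact (h1 b rfl).symm
  have hsq : ∀ a ∈ Subgroup.closure ({z, u, t} : Set G), a ^ 2 = 1 := by
    intro a ha
    refine Subgroup.closure_induction (p := fun a _ => a ^ 2 = 1) ?_ ?_ ?_ ?_ ha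
    · intro x hx
      simp only [Set.mem_insert_iff, Set.mem_singleton_iff] at hx
      rcases hx with rfl | rfl | rfl <;> rw [pow_two] <;> assumption
    · exact one_pow 2
    · intro x y hx hy hx2 hy2
      have hc : Commute x y := hcomm x hx y hy
      rw [hc.mul_pow, hx2, hy2, one_mul]
    · intro x _ hx2
      rw [inv_pow, hx2, inv_one]
  have hcard : Nat.card (Subgroup.closure ({z, u, t} : Set G)) ≤ 2 ^ 2 :=
    h2 _ ⟨⟨fun a b => Subtype.ext (hcomm a a.2 b b.2)⟩⟩ hsq
  have n1 : (z * u : G) ∉ ({t} : Finset G) := by
    rw [Finset.mem_singleton]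
    exact fun h => htzu h.symm
  have n2 : u ∉ ({z * u, t} : Finset G) := by
    rw [Finset.mem_insert, Finset.mem_singleton]
    rintro (h | h)
    · exact hz1 (by simpa using h)
    · exact htu h.symm
  have n3 : z ∉ ({u, z * u, t} : Finset G) := by
    rw [Finset.mem_insert, Finset.mem_insert, Finset.mem_singleton]
    rintro (h | h | h)
    · exact huz h.symm
    · exact hu1 (by simpa using h)
    · exact htz h.symm
  have n4 : (1 : G) ∉ ({z, u, z * u, t} : Finset G) := by
    rw [Finset.mem_insert, Finset.mem_insert, Finset.mem_insert, Finset.mem_singleton]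
    rintro (h | h | h | h)
    · exact hz1 h.symm
    · exact hu1 h.symm
    · apply huz
      have h3 : z * u = u * u := by rw [huu]; exact h.symm
      exact (mul_right_cancel h3).symm
    · exact ht1 h.symm
  have h5 : ({1, z, u, z * u, t} : Finset G).card = 5 := by
    rw [Finset.card_insert_of_notMem n4, Finset.card_insert_of_notMem n3,
      Finset.card_insert_of_notMem n2, Finset.card_insert_of_notMem n1, Finset.card_singleton]
  have hsub : (({1, z, u, z * u, t} : Finset G) : Set G) ⊆
      ((Subgroup.closure ({z, u, t} : Set G) : Subgroup G) : Set G) := by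
    intro x hx
    have hzm : z ∈ Subgroup.closure ({z, u, t} : Set G) := Subgroup.subset_closure (by simp)
    have hum : u ∈ Subgroup.closure ({z, u, t} : Set G) := Subgroup.subset_closure (by simp)
    have htm : t ∈ Subgroup.closure ({z, u, t} : Set G) := Subgroup.subset_closure (by simp)
    simp only [Finset.coe_insert, Finset.coe_singleton, Set.mem_insert_iff,
      Set.mem_singleton_iff] at hx
    rcases hx with rfl | rfl | rfl | rfl | rfl
    · exact Subgroup.one_mem _
    · exact hzm
    · exact hum
    · exact Subgroup.mul_mem _ hzm hum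
    · exact htm
  have hle : ({1, z, u, z * u, t} : Finset G).card ≤
      Nat.card (Subgroup.closure ({z, u, t} : Set G)) := by
    have h6 := Set.ncard_le_ncard hsub (Set.toFinite _)
    rw [Set.ncard_coe_finset] at h6
    exact h6.trans (le_of_eq (Nat.card_coe_set_eq _).symm)
  omega

/-- an element conjugating the generators (both ways) into the closure normalizes it -/
theorem h39_mem_normalizer_closure {G : Type*} [Group G] (s : Set G) (g : G)
    (h1 : ∀ x ∈ s, g * x * g⁻¹ ∈ Subgroup.closure s)
    (h2 : ∀ x ∈ s, g⁻¹ * x * g ∈ Subgroup.closure s) :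
    g ∈ Subgroup.normalizer ((Subgroup.closure s : Subgroup G) : Set G) := by
  rw [Subgroup.mem_normalizer_iff]
  have key : ∀ k : G, (∀ x ∈ s, k * x * k⁻¹ ∈ Subgroup.closure s) →
      ∀ h ∈ Subgroup.closure s, k * h * k⁻¹ ∈ Subgroup.closure s := by
    intro k hk h hh
    have hle : Subgroup.closure s ≤ (Subgroup.closure s).comap (MulAut.conj k).toMonoidHom := by
      rw [Subgroup.closure_le]
      intro x hx
      exact hk x hx
    exact hle hh
  intro h
  constructor
  · exact key g h1 h
  · intro hh
    have h3 := key g⁻¹ (by simpa using h2) _ hh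
    have e : g⁻¹ * (g * h * g⁻¹) * g⁻¹⁻¹ = h := by group
    rwa [e] at h3

/-- the cyclic group generated by a `2`-element is a `2`-group -/
theorem h39_isPGroup_zpowers {G : Type*} [Group G] (x : G) (k : ℕ) (hx : x ^ 2 ^ k = 1) :
    IsPGroup 2 (Subgroup.zpowers x) := by
  rintro ⟨g, hg⟩
  obtain ⟨n, rfl⟩ := Subgroup.mem_zpowers_iff.1 hg
  refine ⟨k, Subtype.ext ?_⟩
  simp only [Subgroup.coe_pow, Subgroup.coe_one]
  rw [← zpow_natCast, ← zpow_mul, mul_comm, zpow_mul, zpow_natCast, hx, one_zpow]

end Cfsg.Agent.Lib.helper39.S1238
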