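import Mathlib
import Cfsg.Prelude.Def_CaseTheorems
import Cfsg.Agent.Lib.helper39.Conj
import Cfsg.Agent.Lib.helper39.S1238Aux

/-!
helper39: S1238 piece B2 (`exists_three_cycle`), verbatim statement of `tools/S1238_Skel.lean.txt`.
-/

set_option autoImplicit false

namespace Cfsg.Agent.Lib.helper39.S1238

/-- PIECE B2. From the tame `P`: an element `y` permuting `z → u → z * u → z` with `u ∈ S`. -/
theorem exists_three_cycle {G : Type*} [Group G] [Finite G] (h2 : Cfsg.PRankLE 2 2 G)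
    (S : Sylow 2 G) (z : G) (hzS : z ∈ (S : Subgroup G))
    (hzc : ∀ g ∈ (S : Subgroup G), g * z = z * g) (hz2 : orderOf z = 2)
    (P : Subgroup G) (x : G) (hPS : P ≤ (S : Subgroup G)) (hzP : z ∈ P)
    (hx : x ∈ Subgroup.normalizer (P : Set G)) (hxz : x * z * x⁻¹ ≠ z)
    (htame : ¬ 2 ∣ ((S : Subgroup G) ⊓ Subgroup.normalizer (P : Set G)).relIndex
        (Subgroup.normalizer (P : Set G))) :
    ∃ u y : G, u ∈ (S : Subgroup G) ∧ u * u = 1 ∧ u ≠ 1 ∧ u ≠ z ∧ y * z * y⁻¹ = u ∧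
      y * u * y⁻¹ = z * u := by
  classical
  have hp2 : Fact (Nat.Prime 2) := ⟨Nat.prime_two⟩
  have hzz : z * z = 1 := by
    have := pow_orderOf_eq_one z
    rwa [hz2, pow_two] at this
  have hz1 : z ≠ 1 := by
    rintro rfl
    simp at hz2
  -- central elements of `P` of square one
  have hconj : ∀ n ∈ Subgroup.normalizer (P : Set G), ∀ t : G,
      (t ∈ P ∧ (∀ g ∈ P, g * t = t * g) ∧ t * t = 1) →
      (n * t * n⁻¹ ∈ P ∧ (∀ g ∈ P, g * (n * t * n⁻¹) = (n * t * n⁻¹) * g) ∧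
        (n * t * n⁻¹) * (n * t * n⁻¹) = 1) := by
    rintro n hn t ⟨htP, htc, htt⟩
    have hn' : ∀ h, h ∈ P ↔ n * h * n⁻¹ ∈ P := Subgroup.mem_normalizer_iff.1 hn
    have hninv : ∀ h, h ∈ P ↔ n⁻¹ * h * n⁻¹⁻¹ ∈ P :=
      Subgroup.mem_normalizer_iff.1 (Subgroup.inv_mem _ hn)
    refine ⟨(hn' t).1 htP, ?_, ?_⟩
    · intro g hg
      have hg' : n⁻¹ * g * n ∈ P := by
        have := (hninv g).1 hg
        rwa [inv_inv] at this
      have hc := htc _ hg'
      calc g * (n * t * n⁻¹) = n * ((n⁻¹ * g * n) * t) * n⁻¹ := by group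
        _ = n * (t * (n⁻¹ * g * n)) * n⁻¹ := by rw [hc]
        _ = n * t * n⁻¹ * g := by group
    · calc n * t * n⁻¹ * (n * t * n⁻¹) = n * (t * t) * n⁻¹ := by group
        _ = 1 := by rw [htt]; group
  have hinj : ∀ n a b : G, n * a * n⁻¹ = n * b * n⁻¹ → a = b := by
    intro n a b h
    have h1 : n⁻¹ * (n * a * n⁻¹) * n = n⁻¹ * (n * b * n⁻¹) * n := by rw [h]
    have e1 : n⁻¹ * (n * a * n⁻¹) * n = a := by group
    have e2 : n⁻¹ * (n * b * n⁻¹) * n = b := by group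
    rw [e1, e2] at h1
    exact h1
  have hone : ∀ n a : G, n * a * n⁻¹ = 1 → a = 1 := by
    intro n a h
    apply hinj n a 1
    rw [h]; group
  have hZPz : z ∈ P ∧ (∀ g ∈ P, g * z = z * g) ∧ z * z = 1 :=
    ⟨hzP, fun g hg => hzc g (hPS hg), hzz⟩
  have hZPz' := hconj x hx z hZPz
  have hz'1 : x * z * x⁻¹ ≠ 1 := fun h => hz1 (hone x z h)
  have hzz' : z * (x * z * x⁻¹) = (x * z * x⁻¹) * z := (hzc _ (hPS hZPz'.1)).symm
  have hrank : ∀ t : G, (t ∈ P ∧ (∀ g ∈ P, g * t = t * g) ∧ t * t = 1) →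
      t = 1 ∨ t = z ∨ t = x * z * x⁻¹ ∨ t = z * (x * z * x⁻¹) := by
    rintro t ⟨htP, htc, htt⟩
    exact h39_rank2 h2 z (x * z * x⁻¹) t hzz hZPz'.2.2 htt hz1 hz'1 hxz hzz'
      (hzc t (hPS htP)).symm (hZPz'.2.1 t htP).symm
  -- generalize `z' = x z x⁻¹`
  generalize hz'def : x * z * x⁻¹ = z' at hZPz' hz'1 hzz' hrank hxz
  have hz'S : z' ∈ (S : Subgroup G) := hPS hZPz'.1
  have hz'z' : z' * z' = 1 := hZPz'.2.2
  -- `u = z z'` facts
  have huS : z * z' ∈ (S : Subgroup G) := Subgroup.mul_mem _ hzS hz'S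
  have huu : (z * z') * (z * z') = 1 := by
    calc (z * z') * (z * z') = z * (z' * z) * z' := by group
      _ = z * (z * z') * z' := by rw [← hzz']
      _ = (z * z) * (z' * z') := by group
      _ = 1 := by rw [hzz, hz'z', one_mul]
  have hu1 : z * z' ≠ 1 := by
    intro h
    apply hxz
    have h3 : z * z' = z' * z' := by rw [hz'z']; exact h
    exact (mul_right_cancel h3).symm
  have huz : z * z' ≠ z := by
    intro h
    exact hz'1 (by simpa using h)
  have hzzz' : z * (z * z') = z' := by rw [← mul_assoc, hzz, one_mul]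
  -- the image of `z'`
  have hZPw := hconj x hx z' hZPz'
  rcases hrank _ hZPw with hw | hw | hw | hw
  · exact absurd (hone x z' hw) hz'1
  · -- `x` swaps `z` and `z'`
    obtain ⟨k, m, hm, hkm⟩ := Nat.exists_eq_two_pow_mul_odd (orderOf_pos x).ne'
    obtain ⟨j, hj⟩ := hm
    have hx₂N : x ^ m ∈ Subgroup.normalizer (P : Set G) := Subgroup.pow_mem _ hx m
    have hx₂pow : (x ^ m) ^ 2 ^ k = 1 := by
      rw [← pow_mul, mul_comm, ← hkm]
      exact pow_orderOf_eq_one x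
    have ha1 : (x * x) * z = z * (x * x) := by
      have h1 : x * x * z * (x * x)⁻¹ = z := by
        calc x * x * z * (x * x)⁻¹ = x * (x * z * x⁻¹) * x⁻¹ := by group
          _ = z := by rw [hz'def, hw]
      calc x * x * z = (x * x * z * (x * x)⁻¹) * (x * x) := by group
        _ = z * (x * x) := by rw [h1]
    have ha2 : (x * x) * z' = z' * (x * x) := by
      have h1 : x * x * z' * (x * x)⁻¹ = z' := by
        calc x * x * z' * (x * x)⁻¹ = x * (x * z' * x⁻¹) * x⁻¹ := by group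
          _ = z' := by rw [hw, hz'def]
      calc x * x * z' = (x * x * z' * (x * x)⁻¹) * (x * x) := by group
        _ = z' * (x * x) := by rw [h1]
    obtain ⟨b, hxm, hb1, hb2⟩ : ∃ b : G, x ^ m = b * x ∧ b * z = z * b ∧ b * z' = z' * b :=
      ⟨(x * x) ^ j, by rw [hj, pow_succ, pow_mul, pow_two], (Commute.pow_left ha1 j).eq,
        (Commute.pow_left ha2 j).eq⟩
    have hx₂z : x ^ m * z * (x ^ m)⁻¹ = z' := by
      calc x ^ m * z * (x ^ m)⁻¹ = b * (x * z * x⁻¹) * b⁻¹ := by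
            rw [hxm]; group
        _ = b * z' * b⁻¹ := by rw [hz'def]
        _ = z' := by rw [hb2]; group
    have hx₂z' : x ^ m * z' * (x ^ m)⁻¹ = z := by
      calc x ^ m * z' * (x ^ m)⁻¹ = b * (x * z' * x⁻¹) * b⁻¹ := by
            rw [hxm]; group
        _ = b * z * b⁻¹ := by rw [hw]
        _ = z := by rw [hb1]; group
    clear hxm
    generalize x ^ m = x₂ at hx₂N hx₂pow hx₂z hx₂z'
    have hQ : IsSylIn 2 ((S : Subgroup G) ⊓ Subgroup.normalizer (P : Set G))
        (Subgroup.normalizer (P : Set G)) :=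
      ⟨inf_le_right, S.isPGroup'.to_le inf_le_left, htame⟩
    obtain ⟨n, hnN, hle⟩ := hQ.exists_cj_le (h39_isPGroup_zpowers x₂ k hx₂pow)
      ((Subgroup.zpowers_le).2 hx₂N)
    have hsS : n * x₂ * n⁻¹ ∈ (S : Subgroup G) :=
      (hle (conj_mem_cj.mpr (Subgroup.mem_zpowers x₂))).1
    have hcs : (n * x₂ * n⁻¹) * z = z * (n * x₂ * n⁻¹) := hzc _ hsS
    have hninvN : n⁻¹ ∈ Subgroup.normalizer (P : Set G) := Subgroup.inv_mem _ hnN
    have hZPt := hconj n⁻¹ hninvN z hZPz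
    rw [inv_inv] at hZPt
    have hfix : x₂ * (n⁻¹ * z * n) * x₂⁻¹ = n⁻¹ * z * n := by
      calc x₂ * (n⁻¹ * z * n) * x₂⁻¹ = n⁻¹ * ((n * x₂ * n⁻¹) * z) * n * x₂⁻¹ := by group
        _ = n⁻¹ * (z * (n * x₂ * n⁻¹)) * n * x₂⁻¹ := by rw [hcs]
        _ = n⁻¹ * z * n := by group
    have hn1 : n * (z * z') * n⁻¹ = z := by
      rcases hrank _ hZPt with ht | ht | ht | ht
      · exfalso
        apply hz1
        have e : z = n * (n⁻¹ * z * n) * n⁻¹ := by group
        rw [e, ht]; group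
      · exfalso
        rw [ht, hx₂z] at hfix
        exact hxz hfix
      · exfalso
        rw [ht, hx₂z'] at hfix
        exact hxz hfix.symm
      · rw [← ht]; group
    have hZPr := hconj n hnN z hZPz
    rcases hrank _ hZPr with hr | hr | hr | hr
    · exact absurd (hone n z hr) hz1
    · exfalso
      have h3 : n * z * n⁻¹ = n * (z * z') * n⁻¹ := by rw [hr, hn1]
      exact huz (hinj n _ _ h3).symm
    · refine ⟨z', n, hz'S, hz'z', hz'1, hxz, hr, ?_⟩
      calc n * z' * n⁻¹ = n * (z * (z * z')) * n⁻¹ := by rw [hzzz']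
        _ = (n * z * n⁻¹) * (n * (z * z') * n⁻¹) := by group
        _ = z' * z := by rw [hr, hn1]
        _ = z * z' := hzz'.symm
    · refine ⟨z * z', x * n, huS, huu, hu1, huz, ?_, ?_⟩
      · calc x * n * z * (x * n)⁻¹ = x * (n * z * n⁻¹) * x⁻¹ := by group
          _ = x * (z * z') * x⁻¹ := by rw [hr]
          _ = (x * z * x⁻¹) * (x * z' * x⁻¹) := by group
          _ = z' * z := by rw [hz'def, hw]
          _ = z * z' := hzz'.symm
      · calc x * n * (z * z') * (x * n)⁻¹ = x * (n * (z * z') * n⁻¹) * x⁻¹ := by group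
          _ = x * z * x⁻¹ := by rw [hn1]
          _ = z' := hz'def
          _ = z * (z * z') := hzzz'.symm
  · exfalso
    have h3 : x * z' * x⁻¹ = x * z * x⁻¹ := by rw [hw, hz'def]
    exact hxz (hinj x _ _ h3)
  · exact ⟨z', x, hz'S, hz'z', hz'1, hxz, hz'def, hw⟩

end Cfsg.Agent.Lib.helper39.S1238
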