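import Mathlib
import Cfsg.Prelude.Def_CaseTheorems
import Cfsg.Agent.Lib.helper37.S1238Defs
import Cfsg.Agent.Lib.helper39.Conj
import Cfsg.Agent.Lib.helper39.S1238Aux

/-!
helper39: S1238 piece B3b (`cfg_of_three_cycle_tame`), verbatim statement of
`tools/S1238_Skel.lean.txt`.
-/

set_option autoImplicit false

namespace Cfsg.Agent.Lib.helper39.S1238

open Cfsg.Agent.Lib.helper37.S1238

/-- PIECE B3b. The configuration `Cfg` (Frattini argument in `N_G(W)`; `W ≰ Z(S)` gives `s`). -/
theorem cfg_of_three_cycle_tame {G : Type*} [Group G] [Finite G] (h2 : Cfsg.PRankLE 2 2 G)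
    (S : Sylow 2 G) (z : G) (hzS : z ∈ (S : Subgroup G))
    (hzc : ∀ g ∈ (S : Subgroup G), g * z = z * g) (hz2 : orderOf z = 2)
    (huniq : ∀ z' : G, z' ∈ (S : Subgroup G) → (∀ g ∈ (S : Subgroup G), g * z' = z' * g) →
      orderOf z' = 2 → z' = z)
    (u y : G) (huS : u ∈ (S : Subgroup G)) (huu : u * u = 1) (hu1 : u ≠ 1) (huz : u ≠ z)
    (hyz : y * z * y⁻¹ = u) (hyu : y * u * y⁻¹ = z * u)
    (htame : ¬ 2 ∣ ((S : Subgroup G) ⊓ Subgroup.normalizer ((Subgroup.closure {z, u} : Subgroup G) : Set G)).relIndex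
        (Subgroup.normalizer ((Subgroup.closure {z, u} : Subgroup G) : Set G))) :
    ∃ (T : Subgroup G) (y' s : G), Cfg (S : Subgroup G) T z u y' s := by
  classical
  have hp2 : Fact (Nat.Prime 2) := ⟨Nat.prime_two⟩
  have hzz : z * z = 1 := by
    have := pow_orderOf_eq_one z
    rwa [hz2, pow_two] at this
  have hz1 : z ≠ 1 := by
    rintro rfl
    simp at hz2
  have hzu : z * u = u * z := (hzc u huS).symm
  have hCmem : ∀ g : G, g ∈ Subgroup.centralizer ({z, u} : Set G) ↔
      z * g = g * z ∧ u * g = g * u := by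
    intro g
    rw [Subgroup.mem_centralizer_iff]
    constructor
    · intro h
      exact ⟨h z (by simp), h u (by simp)⟩
    · rintro ⟨h1, h2⟩ h hh
      simp only [Set.mem_insert_iff, Set.mem_singleton_iff] at hh
      rcases hh with rfl | rfl <;> assumption
  have hzW : z ∈ Subgroup.closure ({z, u} : Set G) := Subgroup.subset_closure (by simp)
  have huW : u ∈ Subgroup.closure ({z, u} : Set G) := Subgroup.subset_closure (by simp)
  have hyzu : y * (z * u) * y⁻¹ = z := by
    calc y * (z * u) * y⁻¹ = (y * z * y⁻¹) * (y * u * y⁻¹) := by group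
      _ = u * (z * u) := by rw [hyz, hyu]
      _ = z := by rw [← mul_assoc, ← hzu, mul_assoc, huu, mul_one]
  have hy1 : y⁻¹ * z * y = z * u := by
    calc y⁻¹ * z * y = y⁻¹ * (y * (z * u) * y⁻¹) * y := by rw [hyzu]
      _ = z * u := by group
  have hy2 : y⁻¹ * u * y = z := by
    calc y⁻¹ * u * y = y⁻¹ * (y * z * y⁻¹) * y := by rw [hyz]
      _ = z := by group
  have hyN : y ∈ Subgroup.normalizer ((Subgroup.closure {z, u} : Subgroup G) : Set G) := by
    apply h39_mem_normalizer_closure
    · intro x hx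
      simp only [Set.mem_insert_iff, Set.mem_singleton_iff] at hx
      rcases hx with rfl | rfl
      · rw [hyz]; exact huW
      · rw [hyu]; exact Subgroup.mul_mem _ hzW huW
    · intro x hx
      simp only [Set.mem_insert_iff, Set.mem_singleton_iff] at hx
      rcases hx with rfl | rfl
      · rw [hy1]; exact Subgroup.mul_mem _ hzW huW
      · rw [hy2]; exact hzW
  -- the centralizer of `{z, u}` centralizes `W`
  have hCW : ∀ c ∈ Subgroup.centralizer ({z, u} : Set G),
      ∀ w ∈ Subgroup.closure ({z, u} : Set G), c * w = w * c := by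
    intro c hc w hw
    have hle : Subgroup.closure ({z, u} : Set G) ≤ Subgroup.centralizer {c} := by
      rw [Subgroup.closure_le]
      intro g hg
      rw [SetLike.mem_coe, Subgroup.mem_centralizer_iff]
      intro h hh
      rw [Set.mem_singleton_iff] at hh
      subst hh
      have hc' := (hCmem h).1 hc
      simp only [Set.mem_insert_iff, Set.mem_singleton_iff] at hg
      rcases hg with rfl | rfl
      · exact hc'.1.symm
      · exact hc'.2.symm
    have h1 := hle hw
    rw [Subgroup.mem_centralizer_iff] at h1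
    exact h1 c rfl
  have hCN : Subgroup.centralizer ({z, u} : Set G) ≤
      Subgroup.normalizer ((Subgroup.closure {z, u} : Subgroup G) : Set G) := by
    intro c hc
    apply h39_mem_normalizer_closure
    · intro x hx
      have hxW : x ∈ Subgroup.closure ({z, u} : Set G) := Subgroup.subset_closure hx
      have e : c * x * c⁻¹ = x := by rw [hCW c hc x hxW]; group
      rw [e]; exact hxW
    · intro x hx
      have hxW : x ∈ Subgroup.closure ({z, u} : Set G) := Subgroup.subset_closure hx
      have e : c⁻¹ * x * c = x := by rw [mul_assoc, ← hCW c hc x hxW]; group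
      rw [e]; exact hxW
  -- the centralizer is normalized by `N`
  have hNC : ∀ n ∈ Subgroup.normalizer ((Subgroup.closure {z, u} : Subgroup G) : Set G),
      ∀ c ∈ Subgroup.centralizer ({z, u} : Set G),
      n * c * n⁻¹ ∈ Subgroup.centralizer ({z, u} : Set G) := by
    intro n hn c hc
    rw [hCmem]
    have hn' : ∀ h, h ∈ Subgroup.closure ({z, u} : Set G) ↔
        n⁻¹ * h * n ∈ Subgroup.closure ({z, u} : Set G) := by
      intro h
      have := Subgroup.mem_normalizer_iff.1 (Subgroup.inv_mem _ hn) h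
      rwa [inv_inv] at this
    constructor
    · have h1 := hCW c hc _ ((hn' z).1 hzW)
      calc z * (n * c * n⁻¹) = n * ((n⁻¹ * z * n) * c) * n⁻¹ := by group
        _ = n * (c * (n⁻¹ * z * n)) * n⁻¹ := by rw [h1]
        _ = n * c * n⁻¹ * z := by group
    · have h1 := hCW c hc _ ((hn' u).1 huW)
      calc u * (n * c * n⁻¹) = n * ((n⁻¹ * u * n) * c) * n⁻¹ := by group
        _ = n * (c * (n⁻¹ * u * n)) * n⁻¹ := by rw [h1]
        _ = n * c * n⁻¹ * u := by group
  have hQsyl : IsSylIn 2
      ((S : Subgroup G) ⊓ Subgroup.normalizer ((Subgroup.closure {z, u} : Subgroup G) : Set G))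
      (Subgroup.normalizer ((Subgroup.closure {z, u} : Subgroup G) : Set G)) :=
    ⟨inf_le_right, S.isPGroup'.to_le inf_le_left, htame⟩
  have hTpg : IsPGroup 2 ((S : Subgroup G) ⊓ Subgroup.centralizer ({z, u} : Set G) : Subgroup G) :=
    S.isPGroup'.to_le inf_le_left
  -- `T` is a Sylow 2-subgroup of `C`
  have hTsyl : IsSylIn 2 ((S : Subgroup G) ⊓ Subgroup.centralizer ({z, u} : Set G))
      (Subgroup.centralizer ({z, u} : Set G)) := by
    obtain ⟨T', hT', hle⟩ := exists_isSylIn_ge hTpg
      (inf_le_right : (S : Subgroup G) ⊓ Subgroup.centralizer ({z, u} : Set G) ≤ _)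
    obtain ⟨m, hmN, hm⟩ := hQsyl.exists_cj_le hT'.2.1 (hT'.1.trans hCN)
    have h1 : cj m T' ≤ (S : Subgroup G) ⊓ Subgroup.centralizer ({z, u} : Set G) := by
      intro x hx
      refine ⟨(hm hx).1, ?_⟩
      have hx' : m⁻¹ * x * m ∈ Subgroup.centralizer ({z, u} : Set G) := hT'.1 (mem_cj.1 hx)
      have h3 := hNC m hmN _ hx'
      have e : m * (m⁻¹ * x * m) * m⁻¹ = x := by group
      rwa [e] at h3
    have h2' : Nat.card T' ≤
        Nat.card ((S : Subgroup G) ⊓ Subgroup.centralizer ({z, u} : Set G) : Subgroup G) := by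
      rw [← card_cj m T']
      exact Subgroup.card_le_of_le h1
    have heq : (S : Subgroup G) ⊓ Subgroup.centralizer ({z, u} : Set G) = T' :=
      Subgroup.eq_of_le_of_card_ge hle h2'
    rw [heq]
    exact hT'
  -- Frattini
  have hcjy : cj y ((S : Subgroup G) ⊓ Subgroup.centralizer ({z, u} : Set G)) ≤
      Subgroup.centralizer ({z, u} : Set G) := by
    intro x hx
    have hx' : y⁻¹ * x * y ∈ Subgroup.centralizer ({z, u} : Set G) := (mem_cj.1 hx).2
    have h3 := hNC y hyN _ hx'
    have e : y * (y⁻¹ * x * y) * y⁻¹ = x := by group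
    rwa [e] at h3
  obtain ⟨c, hcC, hc⟩ := hTsyl.exists_cj_le (isPGroup_cj hTpg (g := y)) hcjy
  rw [← cj_mul] at hc
  have heq : cj (c * y) ((S : Subgroup G) ⊓ Subgroup.centralizer ({z, u} : Set G)) =
      (S : Subgroup G) ⊓ Subgroup.centralizer ({z, u} : Set G) :=
    Subgroup.eq_of_le_of_card_ge hc (le_of_eq (card_cj _ _).symm)
  have hy'T := cj_eq_self_iff.1 heq
  have huT : u ∈ (S : Subgroup G) ⊓ Subgroup.centralizer ({z, u} : Set G) :=
    ⟨huS, (hCmem u).2 ⟨hzu, rfl⟩⟩
  have hzT : z ∈ (S : Subgroup G) ⊓ Subgroup.centralizer ({z, u} : Set G) :=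
    ⟨hzS, (hCmem z).2 ⟨rfl, hzu.symm⟩⟩
  -- the element `s`
  have hs : ∃ s ∈ (S : Subgroup G), s * u * s⁻¹ = z * u := by
    have hTne : (S : Subgroup G) ⊓ Subgroup.centralizer ({z, u} : Set G) ≠ (S : Subgroup G) := by
      intro h
      have hcu : ∀ g ∈ (S : Subgroup G), g * u = u * g := by
        intro g hg
        have hgT : g ∈ (S : Subgroup G) ⊓ Subgroup.centralizer ({z, u} : Set G) := by
          rw [h]; exact hg
        exact ((hCmem g).1 hgT.2).2.symm
      have ho : orderOf u = 2 := orderOf_eq_prime (by rw [pow_two]; exact huu) hu1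
      exact huz (huniq u huS hcu ho)
    have hlt : (S : Subgroup G) ⊓ Subgroup.centralizer ({z, u} : Set G) < (S : Subgroup G) :=
      lt_of_le_of_ne inf_le_left hTne
    have hgrow := lt_inf_normalizer_of_lt S.isPGroup' hlt
    obtain ⟨g, hg, hgT⟩ := SetLike.exists_of_lt hgrow
    have hgS : g ∈ (S : Subgroup G) := hg.1
    have hvT : g * u * g⁻¹ ∈ (S : Subgroup G) ⊓ Subgroup.centralizer ({z, u} : Set G) :=
      (Subgroup.mem_normalizer_iff.1 hg.2 u).1 huT
    have hvv : (g * u * g⁻¹) * (g * u * g⁻¹) = 1 := by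
      calc (g * u * g⁻¹) * (g * u * g⁻¹) = g * (u * u) * g⁻¹ := by group
        _ = 1 := by rw [huu]; group
    have hvz : z * (g * u * g⁻¹) = (g * u * g⁻¹) * z := (hzc _ hvT.1).symm
    have hvu : u * (g * u * g⁻¹) = (g * u * g⁻¹) * u := ((hCmem _).1 hvT.2).2
    rcases h39_rank2 h2 z u (g * u * g⁻¹) hzz huu hvv hz1 hu1 huz hzu hvz hvu with h | h | h | h
    · exfalso
      apply hu1
      have e : u = g⁻¹ * (g * u * g⁻¹) * g := by group
      rw [e, h]; group
    · exfalso
      apply huz
      have hgz : g * z * g⁻¹ = z := by rw [hzc g hgS]; group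
      have h3 : g⁻¹ * (g * u * g⁻¹) * g = g⁻¹ * (g * z * g⁻¹) * g := by rw [h, hgz]
      have e1 : g⁻¹ * (g * u * g⁻¹) * g = u := by group
      have e2 : g⁻¹ * (g * z * g⁻¹) * g = z := by group
      rw [e1, e2] at h3
      exact h3
    · exfalso
      apply hgT
      refine ⟨hgS, (hCmem g).2 ⟨(hzc g hgS).symm, ?_⟩⟩
      calc u * g = (g * u * g⁻¹) * g := by rw [h]
        _ = g * u := by group
    · exact ⟨g, hgS, h⟩
  obtain ⟨s, hsS, hsu⟩ := hs
  refine ⟨(S : Subgroup G) ⊓ Subgroup.centralizer ({z, u} : Set G), c * y, s, ?_⟩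
  exact
    { TS := inf_le_left
      zT := hzT
      uT := huT
      zz := hzz
      uu := huu
      z1 := hz1
      u1 := hu1
      uz := huz
      zc := hzc
      uc := fun t ht => ((hCmem t).1 ht.2).2.symm
      cent := fun g hg hgu => ⟨hg, (hCmem g).2 ⟨(hzc g hg).symm, hgu.symm⟩⟩
      yT := fun t => (Subgroup.mem_normalizer_iff.1 hy'T t).symm
      yz := by
        calc (c * y) * z * (c * y)⁻¹ = c * (y * z * y⁻¹) * c⁻¹ := by group
          _ = c * u * c⁻¹ := by rw [hyz]
          _ = u := by rw [← ((hCmem c).1 hcC).2]; group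
      yu := by
        calc (c * y) * u * (c * y)⁻¹ = c * (y * u * y⁻¹) * c⁻¹ := by group
          _ = c * (z * u) * c⁻¹ := by rw [hyu]
          _ = z * u := by rw [hCW c hcC (z * u) (Subgroup.mul_mem _ hzW huW)]; group
      sS := hsS
      su := hsu }

end Cfsg.Agent.Lib.helper39.S1238
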