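import Mathlib

/-!
# S2272 piece L1 (for helper96): a non-scalar matrix has a non-eigenvector
-/

set_option autoImplicit false

namespace Cfsg.Agent.Lib.helper39.S2272

open Matrix

variable {F : Type*} [Field F] {d : ℕ}

/-- L1 -/
theorem exists_not_eigenvector (A : Matrix (Fin d) (Fin d) F)
    (hA : ∀ c : F, A ≠ Matrix.scalar (Fin d) c) :
    ∃ u : Fin d → F, ∀ c : F, A *ᵥ u ≠ c • u := by
  classical
  by_contra hcon
  have h : ∀ u : Fin d → F, ∃ c : F, A *ᵥ u = c • u := by
    intro u
    by_contra hu
    exact hcon ⟨u, fun c hc => hu ⟨c, hc⟩⟩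
  choose c hc using fun i : Fin d => h (Pi.single i 1)
  have hent : ∀ i j : Fin d, A j i = c i * (if j = i then 1 else 0) := by
    intro i j
    have h1 := congrFun (hc i) j
    rw [Matrix.mulVec_single_one] at h1
    simpa [Pi.single_apply] using h1
  have hceq : ∀ i j : Fin d, c i = c j := by
    intro i j
    by_cases hij : i = j
    · rw [hij]
    obtain ⟨e, he⟩ := h (Pi.single i 1 + Pi.single j 1)
    rw [Matrix.mulVec_add, hc i, hc j] at he
    have h1 := congrFun he i
    have h2 := congrFun he j
    simp [hij, Ne.symm hij] at h1 h2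
    rw [h1, h2]
  rcases isEmpty_or_nonempty (Fin d) with hE | ⟨⟨i0⟩⟩
  · exact hA 0 (Matrix.ext fun i => (hE.false i).elim)
  · apply hA (c i0)
    ext j i
    rw [hent i j, hceq i i0]
    simp [Matrix.diagonal_apply]

end Cfsg.Agent.Lib.helper39.S2272
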