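import Mathlib

/-!
# S2272 piece L2 (for helper96): trace formula for a transvection conjugate
-/

set_option autoImplicit false

namespace Cfsg.Agent.Lib.helper39.S2272

open Matrix

variable {F : Type*} [Field F] {d : ℕ}

/-- L2 -/
theorem trace_transvection_conj (A B : Matrix (Fin d) (Fin d) F) (u f : Fin d → F)
    (hfu : f ⬝ᵥ u = 0) :
    (1 + vecMulVec u f) * (1 - vecMulVec u f) = 1 ∧
    (1 + vecMulVec u f).det = 1 ∧
    ((1 + vecMulVec u f) * A * (1 - vecMulVec u f) * B).trace =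
      (A * B).trace + f ⬝ᵥ ((A * B - B * A) *ᵥ u) - (f ⬝ᵥ (A *ᵥ u)) * (f ⬝ᵥ (B *ᵥ u)) := by
  have hNN : vecMulVec u f * vecMulVec u f = 0 := by
    rw [vecMulVec_mul_vecMulVec, hfu, zero_smul]
    ext i j
    simp [vecMulVec_apply]
  refine ⟨?_, ?_, ?_⟩
  · rw [add_mul, one_mul, mul_sub, mul_one, hNN]
    abel
  · rw [vecMulVec_eq Unit, det_one_add_replicateCol_mul_replicateRow, hfu, add_zero]
  · have e1 : (1 + vecMulVec u f) * A * (1 - vecMulVec u f) * B
        = A * B + vecMulVec u f * (A * B) - A * vecMulVec u f * B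
          - vecMulVec u f * A * vecMulVec u f * B := by
      noncomm_ring
    have t1 : (vecMulVec u f * (A * B)).trace = f ⬝ᵥ ((A * B) *ᵥ u) := by
      rw [vecMulVec_mul, trace_vecMulVec, dotProduct_comm, ← dotProduct_mulVec]
    have t2 : (A * vecMulVec u f * B).trace = f ⬝ᵥ ((B * A) *ᵥ u) := by
      rw [mul_vecMulVec, vecMulVec_mul, trace_vecMulVec, dotProduct_comm, ← dotProduct_mulVec,
        mulVec_mulVec]
    have t3 : (vecMulVec u f * A * vecMulVec u f * B).trace
        = (f ⬝ᵥ (A *ᵥ u)) * (f ⬝ᵥ (B *ᵥ u)) := by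
      rw [vecMulVec_mul, mul_assoc, vecMulVec_mul u f B, vecMulVec_mul_vecMulVec, trace_vecMulVec,
        dotProduct_smul, smul_eq_mul, ← dotProduct_mulVec, dotProduct_comm u, ← dotProduct_mulVec]
    rw [e1, trace_sub, trace_sub, trace_add, t1, t2, t3, sub_mulVec, dotProduct_sub]
    ring

end Cfsg.Agent.Lib.helper39.S2272
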