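import Cfsg.Agent.Lib.helper48.LBRefl

/-!
S2686 piece FX (for helper48): fixed points of the graph automorphisms `cAut A * gAut` and
`fAut σ * gAut` of `PSL_n(F)` in matrix terms, and a commutation criterion.
-/

set_option autoImplicit false

namespace Cfsg.Agent.Lib.helper39.S2686

open Matrix Cfsg
open Cfsg.Agent.Lib.helper47.PSLn
open Cfsg.Agent.Lib.helper48.LB
open Cfsg.Agent.Lib.helper48.AbsBal (fixG)

variable {n : ℕ} {F : Type*} [Field F] [Fintype F]

theorem graph_fix_iff (hn : 2 ≤ n) (A : GL (Fin n) F) (s : SpecialLinearGroup (Fin n) F) :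
    (cAut A * gAut : MulAut (ProjectiveSpecialLinearGroup (Fin n) F)) (pr s) = pr s ↔
      ∃ c : F, s.1 * A.1 * s.1ᵀ = c • A.1 := by
  rw [MulAut.mul_apply, gAut_pr, cAut_pr, pr_eq_iff]
  have h1 : (s⁻¹).1ᵀ * s.1ᵀ = 1 := by
    rw [← Matrix.transpose_mul, ← Matrix.SpecialLinearGroup.coe_mul, mul_inv_cancel]
    simp
  have h1' : s.1ᵀ * (s⁻¹).1ᵀ = 1 := by
    rw [← Matrix.transpose_mul, ← Matrix.SpecialLinearGroup.coe_mul, inv_mul_cancel]
    simp
  have hA : A.1 * A⁻¹.1 = 1 := A.mul_inv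
  have hA' : A⁻¹.1 * A.1 = 1 := A.inv_mul
  constructor
  · rintro ⟨c, -, hc⟩
    refine ⟨c, ?_⟩
    rw [conjSL_coe, invT_coe] at hc
    calc s.1 * A.1 * s.1ᵀ
        = (c • (A.1 * (s⁻¹).1ᵀ * A⁻¹.1)) * A.1 * s.1ᵀ := by rw [← hc]
      _ = c • (A.1 * ((s⁻¹).1ᵀ * (A⁻¹.1 * (A.1 * s.1ᵀ)))) := by
          simp only [Matrix.smul_mul, Matrix.mul_assoc]
      _ = c • A.1 := by
          rw [← Matrix.mul_assoc A⁻¹.1, hA', Matrix.one_mul, h1, Matrix.mul_one]
  · rintro ⟨c, hc⟩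
    refine ⟨c, ?_, ?_⟩
    · have hd := congrArg Matrix.det hc
      rw [Matrix.det_mul, Matrix.det_mul, Matrix.det_transpose, Matrix.det_smul,
        Fintype.card_fin] at hd
      have hs : s.1.det = 1 := s.2
      rw [hs, one_mul, mul_one] at hd
      have hdA : A.1.det ≠ 0 := by
        have hu : IsUnit A.1.det := (Matrix.isUnit_iff_isUnit_det _).mp A.isUnit
        exact hu.ne_zero
      have h2 : c ^ n * A.1.det = 1 * A.1.det := by rw [one_mul]; exact hd.symm
      exact mul_right_cancel₀ hdA h2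
    · rw [conjSL_coe, invT_coe]
      calc s.1 = s.1 * (A.1 * (s.1ᵀ * ((s⁻¹).1ᵀ * A⁻¹.1))) := by
            rw [← Matrix.mul_assoc s.1ᵀ, h1', Matrix.one_mul, hA, Matrix.mul_one]
        _ = (s.1 * A.1 * s.1ᵀ) * (s⁻¹).1ᵀ * A⁻¹.1 := by simp only [Matrix.mul_assoc]
        _ = c • (A.1 * (s⁻¹).1ᵀ * A⁻¹.1) := by
            rw [hc]; simp only [Matrix.smul_mul]

theorem unit_fix_iff (hn : 2 ≤ n) (σ : F ≃+* F) (hσ2 : σ * σ = 1)
    (s : SpecialLinearGroup (Fin n) F) :
    (fAut σ * gAut : MulAut (ProjectiveSpecialLinearGroup (Fin n) F)) (pr s) = pr s ↔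
      ∃ c : F, s.1 * (s.1.map σ)ᵀ = c • (1 : Matrix (Fin n) (Fin n) F) := by
  rw [MulAut.mul_apply, gAut_pr, fAut_pr, pr_eq_iff]
  have hσ : ∀ x : F, σ (σ x) = x := fun x => congrArg (fun e : F ≃+* F => e x) hσ2
  have hinv : (s⁻¹).1 * s.1 = 1 := by
    rw [← Matrix.SpecialLinearGroup.coe_mul, inv_mul_cancel]
    simp
  have hinv' : s.1 * (s⁻¹).1 = 1 := by
    rw [← Matrix.SpecialLinearGroup.coe_mul, mul_inv_cancel]
    simp
  constructor
  · rintro ⟨c, -, hc⟩
    rw [mapSL_coe, invT_coe] at hc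
    refine ⟨σ c, ?_⟩
    have h2 : (s.1.map σ)ᵀ = σ c • (s⁻¹).1 := by
      ext i j
      have h3 := congrFun (congrFun hc j) i
      rw [Matrix.transpose_apply, Matrix.map_apply, h3]
      simp [Matrix.smul_apply, hσ]
    rw [h2, Matrix.mul_smul, hinv']
  · rintro ⟨c, hc⟩
    have h2 : (s.1.map σ)ᵀ = c • (s⁻¹).1 := by
      calc (s.1.map σ)ᵀ = (s⁻¹).1 * (s.1 * (s.1.map σ)ᵀ) := by
            rw [← Matrix.mul_assoc, hinv, Matrix.one_mul]
        _ = c • (s⁻¹).1 := by rw [hc, Matrix.mul_smul, Matrix.mul_one]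
    have h4 : s.1 = σ c • (mapSL σ (invT s)).1 := by
      rw [mapSL_coe, invT_coe]
      ext j i
      have h3 := congrFun (congrFun h2 i) j
      rw [Matrix.transpose_apply, Matrix.map_apply] at h3
      have h5 : s.1 j i = σ (σ (s.1 j i)) := (hσ _).symm
      rw [h5, h3]
      simp [Matrix.smul_apply]
    refine ⟨σ c, ?_, h4⟩
    have hd := congrArg Matrix.det h4
    rw [Matrix.det_smul, Fintype.card_fin] at hd
    have hs : s.1.det = 1 := s.2
    have hs' : (mapSL σ (invT s)).1.det = 1 := (mapSL σ (invT s)).2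
    rw [hs, hs', mul_one] at hd
    exact hd.symm

theorem graph_comm (A g : GL (Fin n) F) (c : F) (hg : g.1 * A.1 * g.1ᵀ = c • A.1) :
    cAut g * (cAut A * gAut : MulAut (ProjectiveSpecialLinearGroup (Fin n) F)) =
      (cAut A * gAut) * cAut g := by
  have hmat : g.1 * A.1 = c • (A.1 * g⁻¹.1ᵀ) := by
    have h1 : g.1ᵀ * g⁻¹.1ᵀ = 1 := by
      rw [← Matrix.transpose_mul, g.inv_mul, Matrix.transpose_one]
    calc g.1 * A.1 = g.1 * A.1 * (g.1ᵀ * g⁻¹.1ᵀ) := by rw [h1, Matrix.mul_one]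
      _ = (g.1 * A.1 * g.1ᵀ) * g⁻¹.1ᵀ := by simp only [Matrix.mul_assoc]
      _ = c • (A.1 * g⁻¹.1ᵀ) := by rw [hg, Matrix.smul_mul]
  have key : (cAut (g * A) : MulAut (ProjectiveSpecialLinearGroup (Fin n) F)) =
      cAut (A * itGL g) := by
    rcases Nat.eq_zero_or_pos n with hn0 | hpos
    · subst hn0
      exact congrArg cAut (Units.ext (Subsingleton.elim _ _))
    · have : Nonempty (Fin n) := ⟨⟨0, hpos⟩⟩
      by_cases hc0 : c = 0
      · exfalso
        rw [hc0, zero_smul] at hmat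
        have hu : IsUnit (g * A).1.det := (Matrix.isUnit_iff_isUnit_det _).mp (g * A).isUnit
        have h0 : (g * A).1 = 0 := hmat
        rw [h0, Matrix.det_zero] at hu
        exact not_isUnit_zero hu
      · let u : Fˣ := Units.mk0 c hc0
        let z : GL (Fin n) F :=
          ⟨(u : F) • (1 : Matrix (Fin n) (Fin n) F), ((u⁻¹ : Fˣ) : F) • (1 : Matrix (Fin n) (Fin n) F),
            by rw [Matrix.smul_mul, Matrix.mul_smul, Matrix.one_mul, smul_smul]; simp,
            by rw [Matrix.smul_mul, Matrix.mul_smul, Matrix.one_mul, smul_smul]; simp⟩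
        have hz : g * A = z * (A * itGL g) := by
          apply Units.ext
          show g.1 * A.1 = ((u : F) • (1 : Matrix (Fin n) (Fin n) F)) * (A.1 * g⁻¹.1ᵀ)
          rw [hmat, Matrix.smul_mul, Matrix.one_mul]
          rfl
        rw [hz, map_mul, cAut_eq_one_of_scalar z u rfl, one_mul]
  calc cAut g * (cAut A * gAut : MulAut (ProjectiveSpecialLinearGroup (Fin n) F))
      = cAut (g * A) * gAut := by rw [← mul_assoc, ← map_mul]
    _ = cAut (A * itGL g) * gAut := by rw [key]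
    _ = (cAut A * gAut) * cAut g := by rw [map_mul, mul_assoc, mul_assoc, gAut_mul_cAut]

end Cfsg.Agent.Lib.helper39.S2686
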