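import Cfsg.Agent.Lib.helper48.LBRefl
import Cfsg.Agent.Lib.helper32.S2686OI

/-!
S2686 piece U-CENT (for helper48): an automorphism of odd order of `PSL_n(F)` (`n ≥ 3`, odd
characteristic) fixing the image of every unitary matrix of determinant one is trivial.
The normal form of odd automorphisms (piece OI, helper32) enters `unit_cent_of_oi` as a hypothesis.
-/

set_option autoImplicit false

namespace Cfsg.Agent.Lib.helper39.S2686

open Matrix Cfsg
open Cfsg.Agent.Lib.helper47.PSLn
open Cfsg.Agent.Lib.helper48.LB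
open Cfsg.Agent.Lib.helper48.AbsBal (fixG)

variable {n : ℕ} {F : Type*} [Field F] [Fintype F]

/-- the pseudo-reflection `1 - (2 / (w ⬝ v)) v wᵀ` -/
def uR (v w : Fin n → F) : Matrix (Fin n) (Fin n) F :=
  1 - (2 / (w ⬝ᵥ v)) • vecMulVec v w

/-- the diagonal matrix with `-1` at `k` -/
def uD (k : Fin n) : Matrix (Fin n) (Fin n) F :=
  Matrix.diagonal (fun p => if p = k then (-1 : F) else 1)

omit [Fintype F] in
theorem uR_mul_self (v w : Fin n → F) (hN : w ⬝ᵥ v ≠ 0) : uR v w * uR v w = 1 := by
  unfold uR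
  have hPP : vecMulVec v w * vecMulVec v w = (w ⬝ᵥ v) • vecMulVec v w := by
    rw [vecMulVec_mul_vecMulVec]
    ext i j
    simp only [vecMulVec_apply, Pi.smul_apply, smul_eq_mul, Matrix.smul_apply]
    ring
  have h1 : 2 / (w ⬝ᵥ v) * (2 / (w ⬝ᵥ v)) * (w ⬝ᵥ v) = 2 / (w ⬝ᵥ v) + 2 / (w ⬝ᵥ v) := by
    field_simp
    ring
  have e0 : ∀ A : Matrix (Fin n) (Fin n) F, (1 - A) * (1 - A) = 1 - A - A + A * A := by
    intro A
    noncomm_ring
  rw [e0, Matrix.smul_mul, Matrix.mul_smul, smul_smul, hPP, smul_smul, h1, add_smul]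
  abel

omit [Fintype F] in
theorem uR_det (v w : Fin n → F) (hN : w ⬝ᵥ v ≠ 0) : (uR v w).det = -1 := by
  have h1 : uR v w = 1 + replicateCol (Fin 1) ((-(2 / (w ⬝ᵥ v))) • v) * replicateRow (Fin 1) w := by
    ext i j
    unfold uR
    simp only [Matrix.sub_apply, Matrix.add_apply, Matrix.smul_apply, vecMulVec_apply,
      Matrix.mul_apply, replicateCol_apply, replicateRow_apply, Pi.smul_apply, smul_eq_mul,
      Finset.univ_unique, Finset.sum_singleton]
    ring
  have h3 : (1 + replicateCol (Fin 1) ((-(2 / (w ⬝ᵥ v))) • v) * replicateRow (Fin 1) w).det =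
      1 + w ⬝ᵥ ((-(2 / (w ⬝ᵥ v))) • v) :=
    det_one_add_replicateCol_mul_replicateRow _ _
  rw [h1, h3, dotProduct_smul, smul_eq_mul]
  field_simp
  ring

omit [Fintype F] in
theorem uR_unitary (σ : F ≃+* F) (hσ : ∀ x : F, σ (σ x) = x) (v : Fin n → F) :
    ((uR v (fun p => σ (v p))).map σ)ᵀ = uR v (fun p => σ (v p)) := by
  have hN : σ ((fun p => σ (v p)) ⬝ᵥ v) = (fun p => σ (v p)) ⬝ᵥ v := by
    unfold dotProduct
    rw [map_sum]
    apply Finset.sum_congr rfl
    intro x _
    rw [map_mul, hσ, mul_comm]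
  ext p q
  unfold uR
  simp only [Matrix.transpose_apply, Matrix.map_apply, Matrix.sub_apply, Matrix.smul_apply,
    vecMulVec_apply, smul_eq_mul, map_sub, map_mul, map_div₀, hσ, hN, Matrix.one_apply]
  have h2 : σ (2 : F) = 2 := map_ofNat σ 2
  rw [h2]
  by_cases hpq : p = q
  · subst hpq
    simp only [if_true, map_one]
    ring
  · have hqp : ¬ q = p := fun h => hpq h.symm
    simp only [hpq, hqp, if_false, map_zero]
    ring

omit [Fintype F] in
theorem uD_mul_self (k : Fin n) : (uD k : Matrix (Fin n) (Fin n) F) * uD k = 1 := by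
  unfold uD
  rw [Matrix.diagonal_mul_diagonal, ← Matrix.diagonal_one]
  congr 1
  funext p
  by_cases hp : p = k
  · simp [hp]
  · simp [hp]

omit [Fintype F] in
theorem uD_det (k : Fin n) : (uD k : Matrix (Fin n) (Fin n) F).det = -1 := by
  unfold uD
  rw [Matrix.det_diagonal, Finset.prod_ite_eq']
  simp

omit [Fintype F] in
theorem uD_map_eq (σ : F ≃+* F) (k : Fin n) :
    (uD k : Matrix (Fin n) (Fin n) F).map σ = uD k := by
  unfold uD
  ext p q
  simp only [Matrix.map_apply, Matrix.diagonal_apply]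
  by_cases hpq : p = q
  · subst hpq
    by_cases hp : p = k
    · simp [hp]
    · simp [hp]
  · simp [hpq]

omit [Fintype F] in
theorem uD_transpose (k : Fin n) : (uD k : Matrix (Fin n) (Fin n) F)ᵀ = uD k := by
  unfold uD
  rw [Matrix.diagonal_transpose]

omit [Fintype F] in
theorem uD_map (σ : F ≃+* F) (k : Fin n) :
    ((uD k : Matrix (Fin n) (Fin n) F).map σ)ᵀ = uD k := by
  rw [uD_map_eq, uD_transpose]

omit [Fintype F] in
theorem uR_comm_uD (v w : Fin n → F) (k : Fin n) (hv : v k = 0) (hw : w k = 0) :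
    uR v w * uD k = uD k * uR v w := by
  unfold uD
  ext p q
  rw [Matrix.mul_diagonal, Matrix.diagonal_mul]
  unfold uR
  simp only [Matrix.sub_apply, Matrix.smul_apply, vecMulVec_apply, smul_eq_mul, Matrix.one_apply]
  by_cases hpq : p = q
  · subst hpq
    ring
  · simp only [hpq, if_false]
    by_cases hq : q = k
    · subst hq
      rw [hw]
      by_cases hp : p = q
      · exact absurd hp hpq
      · simp [hp]
    · by_cases hp : p = k
      · subst hp
        rw [hv]
        simp [hq]
      · simp [hp, hq]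

omit [Fintype F] in
theorem sum_two (i j : Fin n) (hij : i ≠ j) (x y : F) :
    ∑ p : Fin n, (if p = i then x else if p = j then y else 0) = x + y := by
  have h1 : ∀ p : Fin n, (if p = i then x else if p = j then y else 0) =
      (if p = i then x else 0) + (if p = j then y else 0) := by
    intro p
    by_cases h1 : p = i
    · subst h1
      simp [hij]
    · simp [h1]
  simp_rw [h1]
  rw [Finset.sum_add_distrib, Finset.sum_ite_eq', Finset.sum_ite_eq']
  simp

omit [Fintype F] in
theorem exists_third (hn : 3 ≤ n) (i j : Fin n) : ∃ k : Fin n, k ≠ i ∧ k ≠ j := by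
  by_cases h0 : i.val ≠ 0 ∧ j.val ≠ 0
  · refine ⟨⟨0, by omega⟩, ?_, ?_⟩
    · intro h
      exact h0.1 (congrArg Fin.val h).symm
    · intro h
      exact h0.2 (congrArg Fin.val h).symm
  · by_cases h1 : i.val ≠ 1 ∧ j.val ≠ 1
    · refine ⟨⟨1, by omega⟩, ?_, ?_⟩
      · intro h
        exact h1.1 (congrArg Fin.val h).symm
      · intro h
        exact h1.2 (congrArg Fin.val h).symm
    · refine ⟨⟨2, by omega⟩, ?_, ?_⟩
      · intro h
        have := congrArg Fin.val h
        simp only at this
        omega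
      · intro h
        have := congrArg Fin.val h
        simp only at this
        omega

/-- the unitary involution of determinant one attached to `i ≠ j`, `a` and a third index `k` -/
theorem exists_unit_invol (h2 : (2 : F) ≠ 0) (σ : F ≃+* F) (hσ : ∀ x : F, σ (σ x) = x)
    (i j k : Fin n) (hij : i ≠ j) (hki : k ≠ i) (hkj : k ≠ j) (a : F) (hN : 1 + σ a * a ≠ 0) :
    ∃ s : SpecialLinearGroup (Fin n) F, s.1 * s.1 = 1 ∧ s.1 * (s.1.map σ)ᵀ = 1 ∧
      s.1 i i = 1 - 2 / (1 + σ a * a) ∧ s.1 j i = -(2 / (1 + σ a * a)) * a := by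
  let v : Fin n → F := fun p => if p = i then 1 else if p = j then a else 0
  let w : Fin n → F := fun p => σ (v p)
  have hvi : v i = 1 := by simp [v]
  have hvj : v j = a := by
    have : ¬ j = i := fun h => hij h.symm
    simp [v, this]
  have hvk : v k = 0 := by simp [v, hki, hkj]
  have hwi : w i = 1 := by simp [w, hvi]
  have hwk : w k = 0 := by simp [w, hvk]
  have hdot : w ⬝ᵥ v = 1 + σ a * a := by
    unfold dotProduct
    have h1 : ∀ p : Fin n, w p * v p = if p = i then 1 else if p = j then σ a * a else 0 := by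
      intro p
      by_cases hp : p = i
      · subst hp
        simp [hwi, hvi]
      · by_cases hp' : p = j
        · subst hp'
          simp [w, hvj, hp]
        · simp [w, v, hp, hp']
    simp_rw [h1]
    exact sum_two i j hij 1 (σ a * a)
  have hN' : w ⬝ᵥ v ≠ 0 := by rw [hdot]; exact hN
  have hRR := uR_mul_self v w hN'
  have hDD : (uD k : Matrix (Fin n) (Fin n) F) * uD k = 1 := uD_mul_self k
  have hcomm := uR_comm_uD v w k hvk hwk
  have hRσ : ((uR v w).map σ)ᵀ = uR v w := uR_unitary σ hσ v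
  have hdet : (uR v w * uD k).det = 1 := by
    rw [Matrix.det_mul, uR_det v w hN', uD_det]
    norm_num
  refine ⟨⟨uR v w * uD k, hdet⟩, ?_, ?_, ?_, ?_⟩
  · show uR v w * uD k * (uR v w * uD k) = 1
    calc uR v w * uD k * (uR v w * uD k) = uR v w * (uD k * uR v w) * uD k := by
          simp only [Matrix.mul_assoc]
      _ = uR v w * (uR v w * uD k) * uD k := by rw [hcomm]
      _ = (uR v w * uR v w) * (uD k * uD k) := by simp only [Matrix.mul_assoc]
      _ = 1 := by rw [hRR, hDD, Matrix.one_mul]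
  · show uR v w * uD k * ((uR v w * uD k).map σ)ᵀ = 1
    have hmap : (uR v w * uD k).map σ = (uR v w).map σ * (uD k).map σ :=
      Matrix.map_mul (f := (σ : F →+* F))
    rw [hmap, Matrix.transpose_mul, uD_map, hRσ]
    calc uR v w * uD k * (uD k * uR v w) = uR v w * (uD k * uD k) * uR v w := by
          simp only [Matrix.mul_assoc]
      _ = 1 := by rw [hDD, Matrix.mul_one, hRR]
  · dsimp only
    unfold uD
    rw [Matrix.mul_diagonal]
    have hik : ¬ i = k := fun h => hki h.symm
    unfold uR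
    simp only [Matrix.sub_apply, Matrix.smul_apply, vecMulVec_apply, smul_eq_mul,
      Matrix.one_apply, hik, if_false, if_true, hvi, hwi, hdot]
    ring
  · dsimp only
    unfold uD
    rw [Matrix.mul_diagonal]
    have hik : ¬ i = k := fun h => hki h.symm
    have hji : ¬ j = i := fun h => hij h.symm
    unfold uR
    simp only [Matrix.sub_apply, Matrix.smul_apply, vecMulVec_apply, smul_eq_mul,
      Matrix.one_apply, hik, hji, if_false, hvj, hwi, hdot]
    ring

/-- a diagonal matrix of signs is a unitary involution -/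
theorem exists_diag_invol (σ : F ≃+* F) (i k : Fin n) (hki : k ≠ i) :
    ∃ s : SpecialLinearGroup (Fin n) F, s.1 * s.1 = 1 ∧ s.1 * (s.1.map σ)ᵀ = 1 ∧
      s.1 = uD i * uD k := by
  have hcomm : (uD i : Matrix (Fin n) (Fin n) F) * uD k = uD k * uD i := by
    unfold uD
    rw [Matrix.diagonal_mul_diagonal, Matrix.diagonal_mul_diagonal]
    congr 1
    funext p
    ring
  have hdet : ((uD i : Matrix (Fin n) (Fin n) F) * uD k).det = 1 := by
    rw [Matrix.det_mul, uD_det, uD_det]
    norm_num
  have hsq : (uD i : Matrix (Fin n) (Fin n) F) * uD k * (uD i * uD k) = 1 := by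
    calc (uD i : Matrix (Fin n) (Fin n) F) * uD k * (uD i * uD k)
        = uD i * (uD k * uD i) * uD k := by simp only [Matrix.mul_assoc]
      _ = uD i * (uD i * uD k) * uD k := by rw [hcomm]
      _ = (uD i * uD i) * (uD k * uD k) := by simp only [Matrix.mul_assoc]
      _ = 1 := by rw [uD_mul_self, uD_mul_self, Matrix.one_mul]
  refine ⟨⟨uD i * uD k, hdet⟩, hsq, ?_, rfl⟩
  show (uD i : Matrix (Fin n) (Fin n) F) * uD k *
    (((uD i : Matrix (Fin n) (Fin n) F) * uD k).map σ)ᵀ = 1
  have hmap : ((uD i : Matrix (Fin n) (Fin n) F) * uD k).map σ = (uD i).map σ * (uD k).map σ :=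
    Matrix.map_mul (f := (σ : F →+* F))
  rw [hmap, Matrix.transpose_mul, uD_map, uD_map, ← hcomm]
  exact hsq

/-- **S2686 piece U-CENT**, with the normal form of odd automorphisms (piece OI) as a hypothesis. -/
theorem unit_cent_of_oi (hn : 3 ≤ n)
    (h2 : (2 : F) ≠ 0) (σ : F ≃+* F) (hσ2 : σ * σ = 1)
    (a : MulAut (ProjectiveSpecialLinearGroup (Fin n) F))
    (hOI : ∃ (h : GL (Fin n) F) (τ : F ≃+* F), a = cAut h * fAut τ ∧
      ∀ s : SpecialLinearGroup (Fin n) F, s.1 * s.1 = 1 → a (pr s) = pr s →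
        h.1 * s.1.map τ = s.1 * h.1)
    (hfix : ∀ s : SpecialLinearGroup (Fin n) F, s.1 * (s.1.map σ)ᵀ = 1 → a (pr s) = pr s) :
    a = 1 := by
  obtain ⟨h, τ, ha, hs⟩ := hOI
  have hσ : ∀ x : F, σ (σ x) = x := fun x => congrArg (fun e : F ≃+* F => e x) hσ2
  have hK : ∀ s : SpecialLinearGroup (Fin n) F, s.1 * s.1 = 1 → s.1 * (s.1.map σ)ᵀ = 1 →
      h.1 * s.1.map τ = s.1 * h.1 := fun s h1 h3 => hs s h1 (hfix s h3)
  -- (i) `h` is diagonal
  have hdiag : ∀ p q : Fin n, p ≠ q → h.1 p q = 0 := by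
    intro p q hpq
    obtain ⟨m, hmp, hmq⟩ := exists_third hn p q
    obtain ⟨s, hs1, hs2, hs3⟩ := exists_diag_invol (F := F) σ p m hmp
    have hk := hK s hs1 hs2
    have hmapτ : s.1.map τ = s.1 := by
      rw [hs3]
      have hmap : ((uD p : Matrix (Fin n) (Fin n) F) * uD m).map τ =
          (uD p).map τ * (uD m).map τ := Matrix.map_mul (f := (τ : F →+* F))
      rw [hmap, uD_map_eq, uD_map_eq]
    rw [hmapτ, hs3] at hk
    have hk' := congrFun (congrFun hk p) q
    have hd : (uD p : Matrix (Fin n) (Fin n) F) * uD m = Matrix.diagonal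
        (fun x => (if x = p then (-1 : F) else 1) * (if x = m then (-1 : F) else 1)) := by
      unfold uD
      rw [Matrix.diagonal_mul_diagonal]
    rw [hd, Matrix.mul_diagonal, Matrix.diagonal_mul] at hk'
    have hqp : ¬ q = p := fun h => hpq h.symm
    have hqm : ¬ q = m := fun h => hmq h.symm
    have hpm : ¬ p = m := fun h => hmp h.symm
    simp only [hqp, hqm, hpm, if_true, if_false] at hk'
    have h3 : (2 : F) * h.1 p q = 0 := by linear_combination hk'
    rcases mul_eq_zero.mp h3 with h4 | h4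
    · exact absurd h4 h2
    · exact h4
  have hne : ∀ p : Fin n, h.1 p p ≠ 0 := by
    intro p hp
    have h3 := congrFun (congrFun h.mul_inv p) p
    rw [Matrix.mul_apply, Finset.sum_eq_single p] at h3
    · rw [hp, zero_mul, Matrix.one_apply_eq] at h3
      exact zero_ne_one h3
    · intro x _ hx
      rw [hdiag p x (Ne.symm hx), zero_mul]
    · intro hx
      exact absurd (Finset.mem_univ p) hx
  -- (ii) the key relation
  have hkey : ∀ i j : Fin n, i ≠ j → ∀ b : F, 1 + σ b * b ≠ 0 →
      h.1 j j * τ b = b * h.1 i i := by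
    intro i j hij b hN
    obtain ⟨k, hki, hkj⟩ := exists_third hn i j
    obtain ⟨s, hs1, hs2, hsii, hsji⟩ := exists_unit_invol h2 σ hσ i j k hij hki hkj b hN
    have hk := hK s hs1 hs2
    have L1 : ∀ p q : Fin n, (h.1 * s.1.map τ) p q = h.1 p p * τ (s.1 p q) := by
      intro p q
      rw [Matrix.mul_apply, Finset.sum_eq_single p]
      · rfl
      · intro x _ hx
        rw [hdiag p x (Ne.symm hx), zero_mul]
      · intro hx
        exact absurd (Finset.mem_univ p) hx
    have L2 : ∀ p q : Fin n, (s.1 * h.1) p q = s.1 p q * h.1 q q := by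
      intro p q
      rw [Matrix.mul_apply, Finset.sum_eq_single q]
      · intro x _ hx
        rw [hdiag x q hx, mul_zero]
      · intro hx
        exact absurd (Finset.mem_univ q) hx
    have e1 : h.1 i i * τ (s.1 i i) = s.1 i i * h.1 i i := by rw [← L1, ← L2, hk]
    have e2 : h.1 j j * τ (s.1 j i) = s.1 j i * h.1 i i := by rw [← L1, ← L2, hk]
    rw [hsii] at e1
    rw [hsji] at e2
    have ht0 : (2 : F) / (1 + σ b * b) ≠ 0 := div_ne_zero h2 hN
    have e3 : τ (2 / (1 + σ b * b)) = 2 / (1 + σ b * b) := by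
      have h4 : h.1 i i * τ (1 - 2 / (1 + σ b * b)) = h.1 i i * (1 - 2 / (1 + σ b * b)) := by
        rw [e1]
        ring
      have h5 := mul_left_cancel₀ (hne i) h4
      rw [map_sub, map_one] at h5
      linear_combination -h5
    rw [map_mul, map_neg, e3] at e2
    have h6 : 2 / (1 + σ b * b) * (h.1 j j * τ b) = 2 / (1 + σ b * b) * (b * h.1 i i) := by
      linear_combination -e2
    exact mul_left_cancel₀ ht0 h6
  -- (iii) all diagonal entries agree
  have hcc : ∀ i j : Fin n, h.1 i i = h.1 j j := by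
    intro i j
    by_cases hij : i = j
    · rw [hij]
    · have h12 : (1 : F) + σ 1 * 1 ≠ 0 := by
        rw [map_one, mul_one]
        have h3 : (1 : F) + 1 = 2 := by norm_num
        rw [h3]
        exact h2
      have h4 := hkey i j hij 1 h12
      rw [map_one, mul_one, one_mul] at h4
      exact h4.symm
  -- (iv) `τ = 1`
  let i0 : Fin n := ⟨0, by omega⟩
  let i1 : Fin n := ⟨1, by omega⟩
  have h01 : i0 ≠ i1 := by
    intro h
    have := congrArg Fin.val h
    simp [i0, i1] at this
  have hτ' : ∀ b : F, 1 + σ b * b ≠ 0 → τ b = b := by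
    intro b hb
    have h4 := hkey i0 i1 h01 b hb
    rw [hcc i0 i1, mul_comm b] at h4
    exact mul_left_cancel₀ (hne i1) h4
  have hτ : τ = 1 := by
    apply RingEquiv.ext
    intro b
    show τ b = b
    by_contra hb
    have E0 : 1 + σ b * b = 0 := by
      by_contra hE
      exact hb (hτ' b hE)
    have E1 : 1 + σ (b + 1) * (b + 1) = 0 := by
      by_contra hE
      have h4 := hτ' (b + 1) hE
      rw [map_add, map_one] at h4
      exact hb (add_right_cancel h4)
    have E2 : 1 + σ (b + 2) * (b + 2) = 0 := by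
      by_contra hE
      have h4 := hτ' (b + 2) hE
      rw [map_add, map_ofNat] at h4
      exact hb (add_right_cancel h4)
    rw [map_add, map_one] at E1
    rw [map_add, map_ofNat] at E2
    have h5 : (2 : F) = 0 := by linear_combination E2 + E0 - 2 * E1
    exact h2 h5
  -- (v) conclusion
  rw [ha, hτ, map_one, mul_one]
  have hc : h.1 = (h.1 i0 i0) • (1 : Matrix (Fin n) (Fin n) F) := by
    ext p q
    rw [Matrix.smul_apply, Matrix.one_apply, smul_eq_mul]
    by_cases hpq : p = q
    · subst hpq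
      rw [if_pos rfl, mul_one]
      exact hcc p i0
    · rw [if_neg hpq, mul_zero]
      exact hdiag p q hpq
  exact cAut_eq_one_of_scalar h (Units.mk0 (h.1 i0 i0) (hne i0)) hc

/-- **S2686 piece U-CENT.** -/
theorem unit_cent {r f : ℕ} [Fact r.Prime] (hF : Fintype.card F = r ^ f) (hn : 3 ≤ n)
    (h2 : (2 : F) ≠ 0) (σ : F ≃+* F) (hσ1 : σ ≠ 1) (hσ2 : σ * σ = 1)
    (a : MulAut (ProjectiveSpecialLinearGroup (Fin n) F)) (ha : Odd (orderOf a))
    (hfix : ∀ s : SpecialLinearGroup (Fin n) F, s.1 * (s.1.map σ)ᵀ = 1 → a (pr s) = pr s) : a = 1 :=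
  unit_cent_of_oi hn h2 σ hσ2 a (Cfsg.Agent.Lib.helper32.S2686.odd_aut_form hF hn a ha) hfix

end Cfsg.Agent.Lib.helper39.S2686
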