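import Cfsg.Agent.Lib.helper48.LBRefl
import Cfsg.Agent.Lib.helper50.PSUTransfer
import Cfsg.Agent.Lib.helper50.PSUF4
import Cfsg.Agent.Lib.helper48.PSUOut
import Cfsg.Agent.S0283

/-!
# S2687 piece FIX-NE (for helper95)

A field automorphism of `PSU_n` (`n ≥ 3`) has a nontrivial fixed point: the image of the
permutation matrix of a 3-cycle.
-/

set_option autoImplicit false

namespace Cfsg.Agent.Lib.helper39.S2687

open Matrix Cfsg
open Cfsg.Agent.Lib.helper50
open Cfsg.Agent.Lib.helper48.LB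
open Cfsg.Agent.Lib.helper48.AbsBal (fixG)
open Cfsg.Agent.Lib.helper99 (suMat)

universe u v

variable {n q : ℕ} {F : Type u} [Field F] [Fintype F]

/-- the element of `SU_n` given by a permutation matrix of an even permutation -/
def permSU (c : Equiv.Perm (Fin n)) (hc : Equiv.Perm.sign c = 1) : ↥(SU n F q) :=
  Cfsg.Agent.Lib.helper99.mkSU (c.permMatrix F)
    (by rw [Matrix.det_permutation, hc]; simp)
    (by
      intro u v
      rw [Matrix.permMatrix_mulVec, Matrix.permMatrix_mulVec]
      unfold hermForm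
      exact Equiv.sum_comp c (fun i => u i * v i ^ q))

omit [Fintype F] in
theorem suMat_permSU (c : Equiv.Perm (Fin n)) (hc : Equiv.Perm.sign c = 1) :
    suMat (permSU (F := F) (q := q) c hc) = c.permMatrix F := rfl

theorem fieldSU_permSU (σ : F ≃+* F) (c : Equiv.Perm (Fin n)) (hc : Equiv.Perm.sign c = 1) :
    fieldSU σ (permSU (F := F) (q := q) c hc) = permSU c hc := by
  apply Cfsg.Agent.Lib.helper99.suMat_inj
  show (suMat (permSU (F := F) (q := q) c hc)).map σ = _
  rw [suMat_permSU]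
  exact PEquiv.map_toMatrix (σ : F →+* F) c.toPEquiv

theorem permSU_not_center (hF : Fintype.card F = q ^ 2) (c : Equiv.Perm (Fin n))
    (hc : Equiv.Perm.sign c = 1) (i : Fin n) (hi : c i ≠ i) :
    permSU (F := F) (q := q) c hc ∉ Subgroup.center ↥(SU n F q) := by
  intro hz
  obtain ⟨ζ, hζ⟩ := central_scalar hF i _ hz
  have h1 : suMat (permSU (F := F) (q := q) c hc) i (c i) = (ζ • (1 : Matrix (Fin n) (Fin n) F)) i (c i) := by
    rw [← hζ]; rfl
  rw [suMat_permSU] at h1
  simp only [PEquiv.toMatrix_apply, Equiv.toPEquiv_apply, Matrix.smul_apply, smul_eq_mul] at h1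
  rw [Matrix.one_apply_ne (Ne.symm hi)] at h1
  simp at h1

/-- FIX-NE -/
theorem field_fix_ne_bot (hF : Fintype.card F = q ^ 2) (hn : 3 ≤ n) (σ : F ≃+* F) :
    fixG (fieldPSU σ : MulAut (PSU n F q)) ≠ ⊥ := by
  intro hbot
  let i0 : Fin n := ⟨0, by omega⟩
  let i1 : Fin n := ⟨1, by omega⟩
  let i2 : Fin n := ⟨2, by omega⟩
  have h01 : i0 ≠ i1 := by intro h; simpa [i0, i1] using congrArg Fin.val h
  have h12 : i1 ≠ i2 := by intro h; simpa [i1, i2] using congrArg Fin.val h
  have h02 : i0 ≠ i2 := by intro h; simpa [i0, i2] using congrArg Fin.val h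
  let c : Equiv.Perm (Fin n) := Equiv.swap i0 i1 * Equiv.swap i1 i2
  have hc : Equiv.Perm.sign c = 1 := by
    simp only [c, map_mul, Equiv.Perm.sign_swap h01, Equiv.Perm.sign_swap h12]
    decide
  have hci : c i0 ≠ i0 := by
    simp only [c, Equiv.Perm.mul_apply]
    rw [Equiv.swap_apply_of_ne_of_ne h01 h02, Equiv.swap_apply_left]
    exact Ne.symm h01
  have hmem : (QuotientGroup.mk (permSU (F := F) (q := q) c hc) : PSU n F q) ∈
      fixG (fieldPSU σ : MulAut (PSU n F q)) := by
    show fieldPSU σ (QuotientGroup.mk (permSU (F := F) (q := q) c hc))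
      = QuotientGroup.mk (permSU (F := F) (q := q) c hc)
    rw [fieldPSU_mk, fieldSU_permSU]
  rw [hbot, Subgroup.mem_bot, QuotientGroup.eq_one_iff] at hmem
  exact permSU_not_center hF c hc i0 hci hmem

end Cfsg.Agent.Lib.helper39.S2687
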