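import Mathlib

set_option autoImplicit false

namespace Cfsg.Agent.Lib.helper39.S3174

/-- NZ -/
theorem normal_le_ucs {T : Type*} [Group T] [Finite T] (hT : IsPGroup 2 T) (N : Subgroup T) [N.Normal] (k : ℕ)
    (hN : Nat.card ↥N ≤ 2 ^ k) : N ≤ Subgroup.upperCentralSeries T k := by
  classical
  have : Fact (Nat.Prime 2) := ⟨Nat.prime_two⟩
  have hnil : Group.IsNilpotent T := hT.isNilpotent
  obtain ⟨c, hc⟩ := Subgroup.nilpotent_iff_lowerCentralSeries.mp hnil
  induction k generalizing N with
  | zero =>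
    have h1 : Nat.card N = 1 := le_antisymm (by simpa using hN) Nat.card_pos
    rw [Subgroup.card_eq_one.mp h1]
    exact bot_le
  | succ k ih =>
    by_cases hbot : N = ⊥
    · rw [hbot]
      exact bot_le
    have hMN : ⁅N, (⊤ : Subgroup T)⁆ ≤ N := Subgroup.commutator_le_left N ⊤
    have hne : ⁅N, (⊤ : Subgroup T)⁆ ≠ N := by
      intro heq
      have hall : ∀ i, N ≤ (⊤ : Subgroup T).lowerCentralSeries i := by
        intro i
        induction i with
        | zero =>
          rw [Subgroup.lowerCentralSeries_zero]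
          exact le_top
        | succ i ihi =>
          calc N = ⁅N, (⊤ : Subgroup T)⁆ := heq.symm
            _ ≤ ⁅(⊤ : Subgroup T).lowerCentralSeries i, (⊤ : Subgroup T)⁆ := Subgroup.commutator_mono ihi le_rfl
      have h1 := hall c
      rw [hc] at h1
      exact hbot (le_bot_iff.mp h1)
    have hcard : Nat.card ↥(⁅N, (⊤ : Subgroup T)⁆) ≤ 2 ^ k := by
      obtain ⟨a, ha⟩ := (hT.to_subgroup N).exists_card_eq
      obtain ⟨b, hb⟩ := (hT.to_subgroup ⁅N, (⊤ : Subgroup T)⁆).exists_card_eq
      have hlt : Nat.card ↥(⁅N, (⊤ : Subgroup T)⁆) < Nat.card N := by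
        by_contra hge
        exact hne (Subgroup.eq_of_le_of_card_ge hMN (not_lt.mp hge))
      rw [ha, hb] at hlt
      rw [ha] at hN
      have h1 : b < a := (Nat.pow_lt_pow_iff_right (by norm_num)).mp hlt
      have h2 : a ≤ k + 1 := (Nat.pow_le_pow_iff_right (by norm_num)).mp hN
      rw [hb]
      exact Nat.pow_le_pow_right (by norm_num) (by omega)
    have hM := ih ⁅N, (⊤ : Subgroup T)⁆ hcard
    intro a ha
    rw [Subgroup.mem_upperCentralSeries_succ_iff]
    intro b
    exact hM (Subgroup.commutator_mem_commutator ha (Subgroup.mem_top b))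

end Cfsg.Agent.Lib.helper39.S3174
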