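import Mathlib
import Cfsg.Agent.Lib.helper6.S3366Defs

/-!
S3366 piece P5 (for helper6): the Heisenberg relations `a^3 = b^3 = c^3 = 1`, `c` commuting with
`a` and `b`, `a * b = c * b * a` give a homomorphism from `H3`.
-/

set_option autoImplicit false

namespace Cfsg.Agent.Lib.helper39.S3366

open Cfsg.Agent.Lib.helper6.S3366

theorem pow_congr_mod3 {X : Type*} [Group X] (c : X) (hc : c ^ 3 = 1) (n m : ℕ)
    (h : (n : ZMod 3) = (m : ZMod 3)) : c ^ n = c ^ m := by
  rw [pow_eq_pow_mod n hc, pow_eq_pow_mod m hc]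
  congr 1
  exact (ZMod.natCast_eq_natCast_iff' n m 3).mp h

theorem heis_swap_one {X : Type*} [Group X] (a b c : X) (hc : c ^ 3 = 1)
    (hca : c * a = a * c) (hcb : c * b = b * c) (hab : a * b = c * b * a) (i : ℕ) :
    b * a ^ i = a ^ i * b * c ^ (2 * i) := by
  have hca' : Commute c a := hca
  have hcb' : Commute c b := hcb
  have hba : b * a = a * b * c ^ 2 := by
    have h1 : c ^ 2 * (a * b) = b * a := by
      rw [hab, ← mul_assoc, ← mul_assoc, ← pow_succ, hc, one_mul]
    rw [← h1]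
    have h2 : Commute (c ^ 2) (a * b) := (hca'.mul_right hcb').pow_left 2
    exact h2.eq
  induction i with
  | zero => simp
  | succ n ih =>
    have h1 : Commute (c ^ (2 * n)) a := hca'.pow_left _
    calc b * a ^ (n + 1) = (b * a ^ n) * a := by rw [pow_succ, mul_assoc]
      _ = a ^ n * b * c ^ (2 * n) * a := by rw [ih]
      _ = a ^ n * b * (a * c ^ (2 * n)) := by rw [mul_assoc, h1.eq]
      _ = a ^ n * ((b * a) * c ^ (2 * n)) := by simp only [mul_assoc]
      _ = a ^ n * ((a * b * c ^ 2) * c ^ (2 * n)) := by rw [hba]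
      _ = a ^ (n + 1) * b * c ^ (2 * (n + 1)) := by
        rw [pow_succ a n]
        have h3 : c ^ (2 * (n + 1)) = c ^ 2 * c ^ (2 * n) := by
          rw [← pow_add]; congr 1; ring
        rw [h3]
        simp only [mul_assoc]

theorem heis_swap {X : Type*} [Group X] (a b c : X) (hc : c ^ 3 = 1)
    (hca : c * a = a * c) (hcb : c * b = b * c) (hab : a * b = c * b * a) (i j : ℕ) :
    b ^ j * a ^ i = a ^ i * b ^ j * c ^ (2 * i * j) := by
  have hcb' : Commute c b := hcb
  induction j with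
  | zero => simp
  | succ n ih =>
    have h1 : Commute (c ^ (2 * i * n)) b := hcb'.pow_left _
    calc b ^ (n + 1) * a ^ i = b ^ n * (b * a ^ i) := by rw [pow_succ, mul_assoc]
      _ = b ^ n * (a ^ i * b * c ^ (2 * i)) := by rw [heis_swap_one a b c hc hca hcb hab i]
      _ = (b ^ n * a ^ i) * b * c ^ (2 * i) := by simp only [mul_assoc]
      _ = a ^ i * b ^ n * c ^ (2 * i * n) * b * c ^ (2 * i) := by rw [ih]
      _ = a ^ i * b ^ n * (b * c ^ (2 * i * n)) * c ^ (2 * i) := by
        rw [← h1.eq]; simp only [mul_assoc]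
      _ = a ^ i * b ^ (n + 1) * c ^ (2 * i * (n + 1)) := by
        rw [pow_succ b n]
        have h3 : c ^ (2 * i * (n + 1)) = c ^ (2 * i * n) * c ^ (2 * i) := by
          rw [← pow_add]; congr 1
        rw [h3]
        simp only [mul_assoc]

theorem heis_mul {X : Type*} [Group X] (a b c : X) (hc : c ^ 3 = 1)
    (hca : c * a = a * c) (hcb : c * b = b * c) (hab : a * b = c * b * a)
    (i j m i' j' m' : ℕ) :
    (a ^ i * b ^ j * c ^ m) * (a ^ i' * b ^ j' * c ^ m') =
      a ^ (i + i') * b ^ (j + j') * c ^ (m + m' + 2 * i' * j) := by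
  have hca' : Commute c a := hca
  have hcb' : Commute c b := hcb
  have h1 : Commute (c ^ m) (a ^ i') := (hca'.pow_left m).pow_right i'
  have h2 : Commute (c ^ m) (b ^ j') := (hcb'.pow_left m).pow_right j'
  have h3 : Commute (c ^ (2 * i' * j)) (b ^ j') := (hcb'.pow_left _).pow_right j'
  calc (a ^ i * b ^ j * c ^ m) * (a ^ i' * b ^ j' * c ^ m')
      = a ^ i * b ^ j * (c ^ m * a ^ i') * b ^ j' * c ^ m' := by simp only [mul_assoc]
    _ = a ^ i * (b ^ j * a ^ i') * (c ^ m * b ^ j') * c ^ m' := by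
        rw [h1.eq]; simp only [mul_assoc]
    _ = a ^ i * (a ^ i' * b ^ j * c ^ (2 * i' * j)) * (b ^ j' * c ^ m) * c ^ m' := by
        rw [heis_swap a b c hc hca hcb hab i' j, h2.eq]
    _ = a ^ i * a ^ i' * b ^ j * (c ^ (2 * i' * j) * b ^ j') * c ^ m * c ^ m' := by
        simp only [mul_assoc]
    _ = a ^ i * a ^ i' * b ^ j * (b ^ j' * c ^ (2 * i' * j)) * c ^ m * c ^ m' := by
        rw [h3.eq]
    _ = a ^ (i + i') * b ^ (j + j') * c ^ (m + m' + 2 * i' * j) := by
        have h4 : c ^ (m + m' + 2 * i' * j) = c ^ (2 * i' * j) * (c ^ m * c ^ m') := by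
          rw [← pow_add, ← pow_add]; congr 1; ring
        rw [h4, pow_add a, pow_add b]
        simp only [mul_assoc]

/-- **S3366 piece P5.** -/
theorem heis_hom {X : Type*} [Group X] (a b c : X) (ha : a ^ 3 = 1) (hb : b ^ 3 = 1)
    (hc : c ^ 3 = 1) (hca : c * a = a * c) (hcb : c * b = b * c) (hab : a * b = c * b * a) :
    ∃ ι : H3 →* X, ∀ h : H3,
      ι h = a ^ h.x.val * b ^ h.y.val * c ^ (h.x.val * h.y.val + h.k.val) := by
  refine ⟨MonoidHom.mk' (fun h => a ^ h.x.val * b ^ h.y.val * c ^ (h.x.val * h.y.val + h.k.val))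
    ?_, fun h => rfl⟩
  intro h h'
  show a ^ (h * h').x.val * b ^ (h * h').y.val * c ^ ((h * h').x.val * (h * h').y.val +
      (h * h').k.val) = (a ^ h.x.val * b ^ h.y.val * c ^ (h.x.val * h.y.val + h.k.val)) *
      (a ^ h'.x.val * b ^ h'.y.val * c ^ (h'.x.val * h'.y.val + h'.k.val))
  rw [heis_mul a b c hc hca hcb hab]
  have e1 : a ^ (h * h').x.val = a ^ (h.x.val + h'.x.val) :=
    pow_congr_mod3 a ha _ _ (by simp [H3.mul_def])
  have e2 : b ^ (h * h').y.val = b ^ (h.y.val + h'.y.val) :=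
    pow_congr_mod3 b hb _ _ (by simp [H3.mul_def])
  have e3 : c ^ ((h * h').x.val * (h * h').y.val + (h * h').k.val) =
      c ^ (h.x.val * h.y.val + h.k.val + (h'.x.val * h'.y.val + h'.k.val) +
        2 * h'.x.val * h.y.val) :=
    pow_congr_mod3 c hc _ _ (by simp [H3.mul_def]; ring)
  rw [e1, e2, e3]

end Cfsg.Agent.Lib.helper39.S3366
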