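import Mathlib
import Cfsg.Agent.Lib.helper37.S3390Defs

/-!
S3390 split project (helper37), piece ORB (helper39): orbit sizes of `S` in the configuration `Cfg`.
-/

set_option autoImplicit false

namespace Cfsg.Agent.Lib.helper39.S3390ORB

open Cfsg.Agent.Lib.helper37.S3390

variable {G : Type*} [Group G] [Finite G] {Ω : Type*} [MulAction G Ω]

omit [Finite G] in
/-- the stabilizer of a point in the subgroup `S` -/
theorem h39_stabilizer_subgroup (S : Subgroup G) (ω : Ω) :
    MulAction.stabilizer ↥S ω = (MulAction.stabilizer G ω).subgroupOf S := by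
  ext x
  rw [MulAction.mem_stabilizer_iff, Subgroup.mem_subgroupOf, MulAction.mem_stabilizer_iff]
  rfl

/-- PIECE ORB: orbit sizes of `S` in the configuration `Cfg`. -/
theorem orbit_cards (S : Subgroup G) (α : Ω) (n : G) (c : Cfg G Ω S α n) :
    4 ≤ Nat.card ↥S ∧ Nat.card ↥(MulAction.orbit ↥S α) = 2 ∧
      ∀ ω' : Ω, ω' ∉ MulAction.orbit ↥S α →
        Nat.card ↥(MulAction.orbit ↥S ω') = Nat.card ↥S := by
  refine ⟨?_, ?_, ?_⟩
  · have h1 : (S ⊓ MulAction.stabilizer G α).relIndex S *
        Nat.card ↥(S ⊓ MulAction.stabilizer G α) = Nat.card ↥S := by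
      rw [← Nat.card_congr (Subgroup.subgroupOfEquivOfLe
        (inf_le_left : S ⊓ MulAction.stabilizer G α ≤ S)).toEquiv]
      exact Subgroup.index_mul_card _
    rw [c.hidx] at h1
    have h2 : 1 < Nat.card ↥(S ⊓ MulAction.stabilizer G α) :=
      (Subgroup.one_lt_card_iff_ne_bot _).mpr c.hT1
    omega
  · rw [Nat.card_coe_set_eq, ← MulAction.index_stabilizer, h39_stabilizer_subgroup,
      ← Subgroup.relIndex, ← Subgroup.inf_relIndex_left, c.hidx]
  · intro ω' hω'
    have h1 : ω' ≠ α := by
      intro h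
      apply hω'
      rw [h]
      exact MulAction.mem_orbit_self α
    have h2 : ω' ≠ n • α := by
      intro h
      apply hω'
      rw [h]
      exact ⟨⟨n, c.hnS⟩, rfl⟩
    have h3 := c.hreg ω' h1 h2
    have h4 : MulAction.stabilizer ↥S ω' = ⊥ := by
      rw [h39_stabilizer_subgroup, eq_bot_iff]
      intro x hx
      rw [Subgroup.mem_subgroupOf] at hx
      have hx' : (x : G) ∈ S ⊓ MulAction.stabilizer G ω' := ⟨x.2, hx⟩
      rw [h3, Subgroup.mem_bot] at hx'
      rw [Subgroup.mem_bot]
      exact Subtype.ext hx'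
    rw [Nat.card_coe_set_eq, ← MulAction.index_stabilizer, h4, Subgroup.index_bot]

end Cfsg.Agent.Lib.helper39.S3390ORB
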