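import Mathlib
import Cfsg.Agent.Lib.helper36.S3806_B3
import Cfsg.Agent.Lib.helper36.S3806_B4

/-! S3806 piece B (race copy by helper39): the conjugation-closed generating set `U`. -/

set_option autoImplicit false

namespace Cfsg.Agent.Lib.helper12.MC

open Subgroup
open scoped commutatorElement

/-- B1 (inline copy): the two-step centralizer as a normal subgroup. -/
theorem h39_exists_twoStep {T : Type*} [Group T] (i : ℕ) :
    ∃ C : Subgroup T, C.Normal ∧
      (∀ t : T, t ∈ C ↔ ∀ y ∈ (⊤ : Subgroup T).lowerCentralSeries i,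
        ⁅y, t⁆ ∈ (⊤ : Subgroup T).lowerCentralSeries (i + 2)) ∧
      (C = ⊤ → (⊤ : Subgroup T).lowerCentralSeries (i + 1) ≤
        (⊤ : Subgroup T).lowerCentralSeries (i + 2)) := by
  classical
  have hN : ∀ j, ((⊤ : Subgroup T).lowerCentralSeries j).Normal := fun j => inferInstance
  set L2 := (⊤ : Subgroup T).lowerCentralSeries (i + 2) with hL2
  set L0 := (⊤ : Subgroup T).lowerCentralSeries i with hL0
  have : L2.Normal := hN _
  have : L0.Normal := hN _
  let C : Subgroup T :=
    { carrier := {t | ∀ y ∈ L0, ⁅y, t⁆ ∈ L2}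
      one_mem' := by
        intro y _
        simp [commutatorElement_def]
      mul_mem' := by
        intro a b ha hb y hy
        have h1 := ha y hy
        have h2 := hb y hy
        have h3 : a * ⁅y, b⁆ * a⁻¹ ∈ L2 := (inferInstance : L2.Normal).conj_mem _ h2 a
        have : ⁅y, a * b⁆ = ⁅y, a⁆ * (a * ⁅y, b⁆ * a⁻¹) := by
          simp only [commutatorElement_def]; group
        rw [this]
        exact L2.mul_mem h1 h3
      inv_mem' := by
        intro a ha y hy
        have h1 := ha y hy
        have h3 : a⁻¹ * ⁅y, a⁆⁻¹ * a⁻¹⁻¹ ∈ L2 :=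
          (inferInstance : L2.Normal).conj_mem _ (L2.inv_mem h1) a⁻¹
        have : ⁅y, a⁻¹⁆ = a⁻¹ * ⁅y, a⁆⁻¹ * a⁻¹⁻¹ := by
          simp only [commutatorElement_def]; group
        rw [this]
        exact h3 }
  have hmem : ∀ t : T, t ∈ C ↔ ∀ y ∈ L0, ⁅y, t⁆ ∈ L2 := fun t => Iff.rfl
  refine ⟨C, ⟨?_⟩, hmem, ?_⟩
  · intro t ht g
    rw [hmem] at ht ⊢
    intro y hy
    have hy' : g⁻¹ * y * g⁻¹⁻¹ ∈ L0 := (inferInstance : L0.Normal).conj_mem _ hy g⁻¹
    have h1 := ht _ hy'
    have h2 : g * ⁅g⁻¹ * y * g⁻¹⁻¹, t⁆ * g⁻¹ ∈ L2 := (inferInstance : L2.Normal).conj_mem _ h1 g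
    have : ⁅y, g * t * g⁻¹⁆ = g * ⁅g⁻¹ * y * g⁻¹⁻¹, t⁆ * g⁻¹ := by
      simp only [commutatorElement_def]; group
    rw [this]
    exact h2
  · intro hC
    have : (⊤ : Subgroup T).lowerCentralSeries (i + 1) = ⁅L0, (⊤ : Subgroup T)⁆ := rfl
    rw [this, Subgroup.commutator_le]
    intro y hy t _
    have ht : t ∈ C := by rw [hC]; exact Subgroup.mem_top t
    exact (hmem t).1 ht y hy

/-- B2 (inline copy): a group of order `p^m` is not the union of fewer than `p` proper subgroups. -/
theorem h39_exists_not_mem_of_card_lt (p : ℕ) [Fact p.Prime] {T : Type*} [Group T] [Finite T] (m : ℕ)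
    (hT : Nat.card T = p ^ m) (F : Finset (Subgroup T)) (hF : ∀ H ∈ F, H ≠ ⊤) (hc : F.card < p) :
    ∃ x : T, ∀ H ∈ F, x ∉ H := by
  classical
  have hp : p.Prime := Fact.out
  by_contra hcon
  have hcov : ∀ x : T, ∃ H ∈ F, x ∈ H := by
    intro x
    by_contra hx
    exact hcon ⟨x, fun H hH hxH => hx ⟨H, hH, hxH⟩⟩
  obtain ⟨H0, hH0, -⟩ := hcov 1
  -- m ≥ 1
  have hm : 1 ≤ m := by
    rcases Nat.eq_zero_or_pos m with h0 | h0
    · exfalso
      subst h0
      rw [pow_zero] at hT
      haveI : Subsingleton T := (Nat.card_eq_one_iff_unique.mp hT).1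
      exact hF H0 hH0 (Subsingleton.elim _ _)
    · exact h0
  have hle : ∀ H ∈ F, Nat.card H ≤ p ^ (m - 1) := by
    intro H hH
    have hdvd : Nat.card H ∣ p ^ m := hT ▸ Subgroup.card_subgroup_dvd_card H
    obtain ⟨j, hj, hjc⟩ := (Nat.dvd_prime_pow hp).1 hdvd
    have hjm : j ≠ m := by
      intro h
      apply hF H hH
      apply Subgroup.eq_top_of_card_eq
      rw [hjc, h, hT]
    rw [hjc]
    exact Nat.pow_le_pow_right hp.pos (by omega)
  haveI : Fintype T := Fintype.ofFinite T
  have hsub : (Finset.univ : Finset T) ⊆ F.biUnion (fun H => (H : Set T).toFinset) := by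
    intro x _
    obtain ⟨H, hH, hxH⟩ := hcov x
    exact Finset.mem_biUnion.mpr ⟨H, hH, by simpa using hxH⟩
  have h1 : Nat.card T ≤ ∑ H ∈ F, Nat.card H := by
    calc Nat.card T = (Finset.univ : Finset T).card := by
          rw [Nat.card_eq_fintype_card, Finset.card_univ]
      _ ≤ (F.biUnion (fun H => (H : Set T).toFinset)).card := Finset.card_le_card hsub
      _ ≤ ∑ H ∈ F, ((H : Set T).toFinset).card := Finset.card_biUnion_le
      _ = ∑ H ∈ F, Nat.card H := by
          apply Finset.sum_congr rfl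
          intro H _
          rw [Set.toFinset_card, ← Nat.card_eq_fintype_card]
          rfl
  have h2 : ∑ H ∈ F, Nat.card H ≤ F.card * p ^ (m - 1) := by
    calc ∑ H ∈ F, Nat.card H ≤ ∑ _H ∈ F, p ^ (m - 1) := Finset.sum_le_sum hle
      _ = F.card * p ^ (m - 1) := by rw [Finset.sum_const, smul_eq_mul]
  have h3 : F.card * p ^ (m - 1) < p * p ^ (m - 1) :=
    Nat.mul_lt_mul_of_pos_right hc (pow_pos hp.pos _)
  have h4 : p * p ^ (m - 1) = p ^ m := by
    rw [← pow_succ']
    congr 1
    omega
  rw [hT] at h1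
  omega

/-- B: a conjugation-closed generating set whose `p`-th powers lie deep in the lower central series. -/
theorem h39_exists_gen_set (p : ℕ) [Fact p.Prime] {T : Type*} [Group T] [Finite T] (k : ℕ) (hk : 2 ≤ k)
    (hpk : k + 2 ≤ p)
    (hidx : ∀ i, 1 ≤ i → i ≤ 2 * k → ((⊤ : Subgroup T).lowerCentralSeries i).index = p ^ (i + 1))
    (hbot : (⊤ : Subgroup T).lowerCentralSeries (2 * k) = ⊥) :
    ∃ U : Set T, (∀ s ∈ U, ∀ g : T, g * s * g⁻¹ ∈ U) ∧ Subgroup.closure U = ⊤ ∧
      ∀ s ∈ U, s ^ p ∈ (⊤ : Subgroup T).lowerCentralSeries (k + 1) := by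
  classical
  have hp : p.Prime := Fact.out
  have hanti := (Subgroup.lowerCentralSeries_antitone (S := (⊤ : Subgroup T)))
  -- order of T
  have hT : Nat.card T = p ^ (2 * k + 1) := by
    have h := hidx (2 * k) (by omega) le_rfl
    rw [hbot, Subgroup.index_bot] at h
    exact h
  -- the two-step centralizers
  choose C hCn hCmem hCtop using fun i : ℕ => h39_exists_twoStep (T := T) i
  have hCne : ∀ i, 1 ≤ i → i ≤ k → C i ≠ ⊤ := by
    intro i hi1 hik hC
    have hle := hCtop i hC
    have hge : (⊤ : Subgroup T).lowerCentralSeries (i + 2) ≤ (⊤ : Subgroup T).lowerCentralSeries (i + 1) :=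
      hanti (by omega)
    have heq := le_antisymm hle hge
    have h1 := hidx (i + 1) (by omega) (by omega)
    have h2 := hidx (i + 2) (by omega) (by omega)
    rw [heq, h2] at h1
    have := Nat.pow_right_injective hp.two_le h1
    omega
  have hrel : ∀ i, 1 ≤ i → i ≤ k →
      ((⊤ : Subgroup T).lowerCentralSeries (i + 1)).relIndex ((⊤ : Subgroup T).lowerCentralSeries i) = p := by
    intro i hi1 hik
    have hle : (⊤ : Subgroup T).lowerCentralSeries (i + 1) ≤ (⊤ : Subgroup T).lowerCentralSeries i :=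
      hanti (by omega)
    have h := Subgroup.relIndex_mul_index hle
    rw [hidx i hi1 (by omega), hidx (i + 1) (by omega) (by omega)] at h
    have h' : ((⊤ : Subgroup T).lowerCentralSeries (i + 1)).relIndex
        ((⊤ : Subgroup T).lowerCentralSeries i) * p ^ (i + 1) = p * p ^ (i + 1) := by
      rw [h, pow_succ' p (i + 1)]
    exact Nat.eq_of_mul_eq_mul_right (pow_pos hp.pos _) h'
  let U : Set T := {s | ∀ i, 1 ≤ i → i ≤ k → s ∉ C i}
  refine ⟨U, ?_, ?_, ?_⟩
  · intro s hs g i hi1 hik hmem
    apply hs i hi1 hik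
    have := (hCn i).conj_mem _ hmem g⁻¹
    simpa [mul_assoc] using this
  · by_contra hne
    set M := Subgroup.closure U with hM
    let F : Finset (Subgroup T) := insert M ((Finset.Icc 1 k).image C)
    have hFne : ∀ H ∈ F, H ≠ ⊤ := by
      intro H hH
      rcases Finset.mem_insert.mp hH with h | h
      · rw [h]; exact hne
      · obtain ⟨i, hi, rfl⟩ := Finset.mem_image.mp h
        have := Finset.mem_Icc.mp hi
        exact hCne i this.1 this.2
    have hFc : F.card < p := by
      have h1 : F.card ≤ ((Finset.Icc 1 k).image C).card + 1 := Finset.card_insert_le _ _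
      have h2 : ((Finset.Icc 1 k).image C).card ≤ (Finset.Icc 1 k).card := Finset.card_image_le
      have h3 : (Finset.Icc 1 k).card = k := by simp
      omega
    obtain ⟨x, hx⟩ := h39_exists_not_mem_of_card_lt p (2 * k + 1) hT F hFne hFc
    have hxU : x ∈ U := by
      intro i hi1 hik
      exact hx (C i) (Finset.mem_insert_of_mem
        (Finset.mem_image_of_mem C (Finset.mem_Icc.mpr ⟨hi1, hik⟩)))
    exact hx M (Finset.mem_insert_self _ _) (Subgroup.subset_closure hxU)
  · intro s hs
    have hstep : ∀ j, 1 ≤ j → j ≤ k + 1 → s ^ p ∈ (⊤ : Subgroup T).lowerCentralSeries j := by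
      intro j
      induction j with
      | zero => intro h; omega
      | succ j ih =>
        intro _ hjk
        rcases Nat.eq_zero_or_pos j with h0 | h0
        · subst h0
          exact h36_pow_mem_lcs_one p (2 * k + 1) (by omega) hT (hidx 1 le_rfl (by omega)) s
        · have hj := ih h0 (by omega)
          by_contra hnot
          have hsC : ¬ ∀ y ∈ (⊤ : Subgroup T).lowerCentralSeries j,
              ⁅y, s⁆ ∈ (⊤ : Subgroup T).lowerCentralSeries (j + 2) := by
            intro h
            exact hs j h0 (by omega) ((hCmem j s).2 h)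
          have := h36_comm_not_mem_of_not_twoStep p j (hrel j h0 (by omega)) s hsC (s ^ p) hj hnot
          apply this
          have h1 : ⁅s ^ p, s⁆ = 1 := by
            rw [commutatorElement_eq_one_iff_commute]
            exact (Commute.refl s).pow_left p
          rw [h1]
          exact Subgroup.one_mem _
    exact hstep (k + 1) (by omega) le_rfl

end Cfsg.Agent.Lib.helper12.MC
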