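import Mathlib
import Cfsg.Agent.Lib.helper26.S4409Defs
import Cfsg.Agent.Lib.helper92.S4409_B1A
import Cfsg.Agent.Lib.helper65.S4409_MAXC
import Cfsg.Agent.Lib.helper35.S4409_MAXQ1
import Cfsg.Agent.Lib.helper54.S4409_MAXQ2
import Cfsg.Agent.Lib.helper1.S4409_G3
import Cfsg.Agent.Lib.helper35.S4409_SPECX
import Cfsg.Agent.Lib.helper54.S4409_SPEC
import Cfsg.Agent.Lib.helper13.S4409CL2
import Cfsg.Agent.Lib.helper33.S4409_EL4
import Cfsg.Agent.Lib.helper31.S4409_ES32core
import Cfsg.Agent.Lib.helper54.S4409_ES16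

/-!
S4409 split (helper26), composite piece B1 (race copy by helper39): case `⁅X, H⁆ = X` with `H`
centralizing the maximal invariant subgroup `M`.
-/

set_option autoImplicit false

namespace Cfsg.Agent.Lib.helper26.S4409

variable {G : Type*} [Group G]

theorem h39_b1 [Finite G] (X H M : Subgroup G) (hM : MinSet X H) (hXH : ⁅X, H⁆ = X)
    (hMax : IsMaxInv X H M) (hc : H ≤ Subgroup.centralizer (M : Set G))
    (hab : ¬ IsMulCommutative ↥X) : Concl X := by
  obtain ⟨hX2, hHX, hodd, hmin, hnN⟩ := hM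
  obtain ⟨hMX, hMne, hXM, hHM, hmax⟩ := hMax
  have hMax' : IsMaxInv X H M := ⟨hMX, hMne, hXM, hHM, hmax⟩
  have h1 : X ≤ Subgroup.centralizer (M : Set G) := b1a X H M hXH hMX hXM hc
  have hZ : X ⊓ Subgroup.centralizer (X : Set G) = M := maxc X H M hHX hMax' h1 hab
  have h3 : ⁅X, X⁆ ≤ M := maxq1 X H M hX2 hHX hMax'
  have h4 : ∀ x ∈ X, x * x ∈ M := maxq2 X H M hX2 hHX hMax' h3
  have h5 : M ≤ ⁅X, X⁆ := by
    intro w hw
    refine g3 X H hX2 hHX hodd hXH w (hMX hw) ?_
    intro h hh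
    have := Subgroup.mem_centralizer_iff.mp (hc hh) w hw
    exact this.symm
  have hcomm : ⁅X, X⁆ = M := le_antisymm h3 h5
  obtain ⟨s1, s2, s3⟩ := specx X M hMX hZ hcomm
  have hsp : Cfsg.IsSpecial 2 ↥X := spec hX2 s1 (fun x => s3 (x * x) (h4 x x.2))
  have hMcX : M ≤ Subgroup.centralizer (X : Set G) := by
    rw [← hZ]; exact inf_le_right
  have h8 : ∀ a ∈ M, a * a = 1 := by
    have h := cl2 X (by rw [hcomm]; exact hMcX) (fun x hx => hMcX (h4 x hx))
    rw [hcomm] at h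
    exact h
  have hNM : NoP M := hmin M hMX hMne hHM
  have h10 : Nat.card ↥M ∣ 4 := el4 M hNM h8
  have hle : Nat.card ↥M ≤ 4 := Nat.le_of_dvd (by norm_num) h10
  have hpos : 0 < Nat.card ↥M := Nat.card_pos
  have hcases : Nat.card ↥M = 1 ∨ Nat.card ↥M = 2 ∨ Nat.card ↥M = 4 := by
    generalize Nat.card ↥M = n at h10 hle hpos
    interval_cases n
    · exact Or.inl rfl
    · exact Or.inr (Or.inl rfl)
    · exact absurd h10 (by norm_num)
    · exact Or.inr (Or.inr rfl)
  rcases hcases with h | h | h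
  · exfalso
    have hMbot : M = ⊥ := Subgroup.eq_bot_of_card_eq M h
    apply hMne
    have hXc : X ≤ Subgroup.centralizer (X : Set G) := by
      rw [← Subgroup.commutator_eq_bot_iff_le_centralizer, hcomm, hMbot]
    rw [← hZ]
    exact inf_eq_left.mpr hXc
  · right; left
    have hes : Cfsg.IsExtraspecial 2 ↥X := ⟨hsp, by rw [s2, h]⟩
    exact ⟨hes, h31_es32_core X (es16 hes) hes hnN⟩
  · right; right; right
    exact ⟨hsp, by rw [s2, h]⟩

end Cfsg.Agent.Lib.helper26.S4409
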