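import Mathlib
import Cfsg.Agent.Lib.helper26.S4409Defs

/-!
S4409 split (helper26), piece Q8LB (race copy by helper39): an involution normalizing a quaternion
subgroup `Q` and commuting with an element `q` of order 4 of `Q` acts on `Q` trivially or as `q`.
-/

set_option autoImplicit false

namespace Cfsg.Agent.Lib.helper26.S4409

variable {G : Type*} [Group G]

/-- The map of `QuaternionGroup 2` determined by the images `u`, `v` of the two generators. -/
def h39_qgen (u v : QuaternionGroup 2) : QuaternionGroup 2 → QuaternionGroup 2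
  | .a k => u ^ k.val
  | .xa k => v * u ^ k.val

theorem h39_qgen_hom (f : QuaternionGroup 2 →* QuaternionGroup 2) (y : QuaternionGroup 2) :
    f y = h39_qgen (f (QuaternionGroup.a 1)) (f (QuaternionGroup.xa 0)) y := by
  cases y with
  | a k =>
    have h : (QuaternionGroup.a k : QuaternionGroup 2) = QuaternionGroup.a 1 ^ k.val := by
      rw [QuaternionGroup.a_one_pow, ZMod.natCast_zmod_val]
    show f (QuaternionGroup.a k) = f (QuaternionGroup.a 1) ^ k.val
    rw [h, map_pow]
  | xa k =>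
    have h : (QuaternionGroup.a k : QuaternionGroup 2) = QuaternionGroup.a 1 ^ k.val := by
      rw [QuaternionGroup.a_one_pow, ZMod.natCast_zmod_val]
    have h' : (QuaternionGroup.xa k : QuaternionGroup 2)
        = QuaternionGroup.xa 0 * QuaternionGroup.a k := by
      rw [QuaternionGroup.xa_mul_a, zero_add]
    show f (QuaternionGroup.xa k) = f (QuaternionGroup.xa 0) * f (QuaternionGroup.a 1) ^ k.val
    rw [h', map_mul, h, map_pow]

set_option maxRecDepth 100000 in
theorem h39_qgen_dec : ∀ i u v : QuaternionGroup 2, i * i ≠ 1 → h39_qgen u v i = i →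
    (∀ x, h39_qgen u v (h39_qgen u v x) = x) →
    (∀ x y, h39_qgen u v (x * y) = h39_qgen u v x * h39_qgen u v y) →
    (∀ y, h39_qgen u v y = y) ∨ (∀ y, h39_qgen u v y = i * y * i⁻¹) := by
  decide +kernel

theorem h39_q8lb (Q : Subgroup G) (hQ : IsQ8 Q) (a : G) (ha : a ∈ Subgroup.normalizer (Q : Set G))
    (ha2 : a * a = 1) (q : G) (hq : q ∈ Q) (hq2 : q * q ≠ 1) (hc : a * q = q * a) :
    a ∈ Subgroup.centralizer (Q : Set G) ∨ q⁻¹ * a ∈ Subgroup.centralizer (Q : Set G) := by
  obtain ⟨e⟩ := hQ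
  have hainv : a⁻¹ = a := inv_eq_of_mul_eq_one_left ha2
  have hmem : ∀ y : ↥Q, a * (y : G) * a⁻¹ ∈ Q := fun y =>
    (Subgroup.mem_normalizer_iff.mp ha (y : G)).mp y.2
  let f0 : ↥Q →* ↥Q := MonoidHom.mk' (fun y => ⟨a * (y : G) * a⁻¹, hmem y⟩) (by
    intro x y
    apply Subtype.ext
    simp [mul_assoc])
  have hf0 : ∀ y : ↥Q, ((f0 y : ↥Q) : G) = a * (y : G) * a⁻¹ := fun y => rfl
  let φ : QuaternionGroup 2 →* QuaternionGroup 2 :=
    e.toMonoidHom.comp (f0.comp e.symm.toMonoidHom)
  have hφ : ∀ x, φ x = e (f0 (e.symm x)) := fun x => rfl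
  have hφe : ∀ y : ↥Q, φ (e y) = e (f0 y) := fun y => by rw [hφ, e.symm_apply_apply]
  set i : QuaternionGroup 2 := e ⟨q, hq⟩ with hi
  have hii : i * i ≠ 1 := by
    intro h
    apply hq2
    have h1 : e (⟨q, hq⟩ * ⟨q, hq⟩) = e 1 := by rw [map_mul, map_one]; exact h
    have h2 := e.injective h1
    exact congrArg Subtype.val h2
  have hfi : φ i = i := by
    rw [hi, hφe]
    congr 1
    apply Subtype.ext
    rw [hf0]
    show a * q * a⁻¹ = q
    rw [hc, mul_assoc, mul_inv_cancel, mul_one]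
  have hinv : ∀ x, φ (φ x) = x := by
    intro x
    rw [hφ (φ x), hφ x, e.symm_apply_apply]
    have : f0 (f0 (e.symm x)) = e.symm x := by
      apply Subtype.ext
      rw [hf0, hf0, hainv]
      calc a * (a * ((e.symm x : ↥Q) : G) * a) * a
          = (a * a) * ((e.symm x : ↥Q) : G) * (a * a) := by simp only [mul_assoc]
        _ = ((e.symm x : ↥Q) : G) := by rw [ha2, one_mul, mul_one]
    rw [this, e.apply_symm_apply]
  have hgen : ∀ y, φ y = h39_qgen (φ (QuaternionGroup.a 1)) (φ (QuaternionGroup.xa 0)) y :=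
    h39_qgen_hom φ
  rcases h39_qgen_dec i (φ (QuaternionGroup.a 1)) (φ (QuaternionGroup.xa 0)) hii
      (by rw [← hgen]; exact hfi) (fun x => by rw [← hgen, ← hgen]; exact hinv x)
      (fun x y => by rw [← hgen, ← hgen, ← hgen]; exact map_mul φ x y) with h | h
  · left
    rw [Subgroup.mem_centralizer_iff]
    intro y hy
    have h1 : φ (e ⟨y, hy⟩) = e ⟨y, hy⟩ := by rw [hgen]; exact h _
    rw [hφe] at h1
    have h2 := congrArg Subtype.val (e.injective h1)
    rw [hf0] at h2
    have h3 : a * y * a⁻¹ = y := h2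
    calc y * a = (a * y * a⁻¹) * a := by rw [h3]
      _ = a * y := by rw [inv_mul_cancel_right]
  · right
    rw [Subgroup.mem_centralizer_iff]
    intro y hy
    have h1 : φ (e ⟨y, hy⟩) = i * e ⟨y, hy⟩ * i⁻¹ := by rw [hgen]; exact h _
    rw [hφe, hi, ← map_inv, ← map_mul, ← map_mul] at h1
    have h2 := congrArg Subtype.val (e.injective h1)
    rw [hf0] at h2
    have h3 : a * y * a⁻¹ = q * y * q⁻¹ := h2
    calc y * (q⁻¹ * a) = q⁻¹ * (q * y * q⁻¹) * a := by simp only [mul_assoc, inv_mul_cancel_left]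
      _ = q⁻¹ * (a * y * a⁻¹) * a := by rw [h3]
      _ = q⁻¹ * a * y := by simp only [mul_assoc, inv_mul_cancel, mul_one]

end Cfsg.Agent.Lib.helper26.S4409
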