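import Mathlib
import Cfsg.Agent.Lib.helper9.Srg77Defs

/-!
Piece D of the uniqueness of the strongly regular graph with parameters (77, 16, 0, 4):
a vertex has 0 or 2 neighbours on a line, and 32 vertices off a line have no neighbour on it.
-/

set_option autoImplicit false

namespace Cfsg.Agent.Lib.helper39

open Finset Cfsg.Agent.Lib.helper9

variable {V : Type*} [Fintype V] [DecidableEq V] {G : SimpleGraph V} [DecidableRel G.Adj]

/-- A line has 5 elements, is a coclique, and three distinct points of it have no common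
neighbour. -/
theorem s77D_line_facts
    (hcl : ∀ x y : V, x ≠ y → ¬ G.Adj x y → (line G x y).card = 5)
    (hL : ∀ x y a b : V, x ≠ y → ¬ G.Adj x y → a ∈ line G x y → b ∈ line G x y → a ≠ b →
      ¬ G.Adj a b ∧ line G a b = line G x y)
    {L : Finset V} (hLine : IsLine G L) :
    L.card = 5 ∧ (∀ a ∈ L, ∀ b ∈ L, ¬ G.Adj a b) ∧
      (∀ a ∈ L, ∀ b ∈ L, ∀ c ∈ L, a ≠ b → a ≠ c → b ≠ c →
        nbr G a ∩ nbr G b ∩ nbr G c = ∅) := by
  obtain ⟨x, y, hne, hxy, rfl⟩ := hLine
  refine ⟨hcl x y hne hxy, ?_, ?_⟩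
  · intro a ha b hb
    by_cases hab : a = b
    · subst hab
      exact G.loopless.irrefl a
    · exact (hL x y a b hne hxy ha hb hab).1
  · intro a ha b hb c hc hab hac hbc
    have h1 := hL x y a b hne hxy ha hb hab
    have hc' : c ∈ line G a b := by
      rw [h1.2]
      exact hc
    rw [mem_line] at hc'
    rcases hc' with e | e | hc'
    · exact absurd e.symm hac
    · exact absurd e.symm hbc
    · exact (mem_zset.1 hc').2.2.2.2

/-- No vertex has three neighbours on a line. -/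
theorem s77D_le_two {L : Finset V}
    (htr : ∀ a ∈ L, ∀ b ∈ L, ∀ c ∈ L, a ≠ b → a ≠ c → b ≠ c →
      nbr G a ∩ nbr G b ∩ nbr G c = ∅) (v : V) :
    (nbr G v ∩ L).card ≤ 2 := by
  by_contra hlt
  rw [not_le, Finset.two_lt_card] at hlt
  obtain ⟨a, ha, b, hb, c, hc, hab, hac, hbc⟩ := hlt
  rw [Finset.mem_inter, mem_nbr] at ha hb hc
  have h0 := htr a ha.2 b hb.2 c hc.2 hab hac hbc
  have hv : v ∈ nbr G a ∩ nbr G b ∩ nbr G c := by
    rw [Finset.mem_inter, Finset.mem_inter, mem_nbr, mem_nbr, mem_nbr]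
    exact ⟨⟨ha.1.symm, hb.1.symm⟩, hc.1.symm⟩
  rw [h0] at hv
  exact Finset.notMem_empty _ hv

/-- The number of edges leaving a line. -/
theorem s77D_sum (h : Srg77 G) {L : Finset V} (hc5 : L.card = 5) :
    ∑ u : V, (nbr G u ∩ L).card = 80 := by
  rw [sum_card_nbr_inter]
  have h1 : ∀ w ∈ L, (nbr G w ∩ Finset.univ).card = 16 := by
    intro w _
    rw [Finset.inter_univ, h.deg]
  rw [Finset.sum_congr rfl h1, Finset.sum_const, hc5]
  rfl

/-- The second moment of the number of neighbours on a line. -/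
theorem s77D_sum_sq (h : Srg77 G) {L : Finset V} (hc5 : L.card = 5)
    (hco : ∀ a ∈ L, ∀ b ∈ L, ¬ G.Adj a b) :
    ∑ u : V, (nbr G u ∩ L).card * (nbr G u ∩ L).card = 160 := by
  rw [sum_card_mul_card]
  have h1 : ∀ w ∈ L, ∑ w' ∈ L, (nbr G w ∩ nbr G w' ∩ Finset.univ).card = 32 := by
    intro w hw
    have h2 : ∀ w' ∈ L, (nbr G w ∩ nbr G w' ∩ Finset.univ).card
        = 4 + (if w = w' then 12 else 0) := by
      intro w' hw'
      rw [Finset.inter_univ, h.card_nbr_inter_nbr]
      by_cases e : w = w'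
      · rw [if_pos e, if_pos e]
      · rw [if_neg e, if_neg e, if_neg (hco w hw w' hw')]
    rw [Finset.sum_congr rfl h2, Finset.sum_add_distrib, Finset.sum_const, hc5,
      Finset.sum_ite_eq, if_pos hw]
    rfl
  rw [Finset.sum_congr rfl h1, Finset.sum_const, hc5]
  rfl

/-- PIECE D, first half: a vertex has 0 or 2 neighbours on a line. -/
theorem card_nbr_inter_line (h : Srg77 G)
    (hcl : ∀ x y : V, x ≠ y → ¬ G.Adj x y → (line G x y).card = 5)
    (hL : ∀ x y a b : V, x ≠ y → ¬ G.Adj x y → a ∈ line G x y → b ∈ line G x y → a ≠ b →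
      ¬ G.Adj a b ∧ line G a b = line G x y)
    {L : Finset V} (hLine : IsLine G L) (v : V) :
    (nbr G v ∩ L).card = 0 ∨ (nbr G v ∩ L).card = 2 := by
  obtain ⟨hc5, hco, htr⟩ := s77D_line_facts hcl hL hLine
  have hle := s77D_le_two htr
  have hs1 := s77D_sum h hc5
  have hs2 := s77D_sum_sq h hc5 hco
  have hkey : ∀ u ∈ (Finset.univ : Finset V),
      (nbr G u ∩ L).card * (nbr G u ∩ L).card = (nbr G u ∩ L).card * 2 := by
    have hle' : ∀ u ∈ (Finset.univ : Finset V),
        (nbr G u ∩ L).card * (nbr G u ∩ L).card ≤ (nbr G u ∩ L).card * 2 :=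
      fun u _ => Nat.mul_le_mul_left _ (hle u)
    refine (Finset.sum_eq_sum_iff_of_le hle').1 ?_
    rw [hs2, ← Finset.sum_mul, hs1]
    rfl
  have h2 := hkey v (Finset.mem_univ v)
  rcases Nat.eq_zero_or_pos (nbr G v ∩ L).card with h0 | hpos
  · exact Or.inl h0
  · exact Or.inr (Nat.eq_of_mul_eq_mul_left hpos h2)

/-- PIECE D, second half: exactly 32 vertices off a line have no neighbour on it. -/
theorem card_near_line (h : Srg77 G)
    (hcl : ∀ x y : V, x ≠ y → ¬ G.Adj x y → (line G x y).card = 5)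
    (hL : ∀ x y a b : V, x ≠ y → ¬ G.Adj x y → a ∈ line G x y → b ∈ line G x y → a ≠ b →
      ¬ G.Adj a b ∧ line G a b = line G x y)
    {L : Finset V} (hLine : IsLine G L) :
    (Finset.univ.filter (fun v => v ∉ L ∧ ∀ a ∈ L, ¬ G.Adj v a)).card = 32 := by
  obtain ⟨hc5, hco, htr⟩ := s77D_line_facts hcl hL hLine
  have h02 := fun v => card_nbr_inter_line h hcl hL hLine v
  have hs1 := s77D_sum h hc5
  have h1 : ∀ u ∈ (Finset.univ : Finset V),
      (nbr G u ∩ L).card = 2 * (if ¬ (nbr G u ∩ L).card = 0 then 1 else 0) := by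
    intro u _
    rcases h02 u with e | e
    · rw [if_neg (not_not.2 e), e]
    · rw [if_pos (by rw [e]; norm_num), e]
  rw [Finset.sum_congr rfl h1, ← Finset.mul_sum, ← Finset.card_filter] at hs1
  have h3 : (Finset.univ.filter (fun v : V => (nbr G v ∩ L).card = 0)).card
      + (Finset.univ.filter (fun v : V => ¬ (nbr G v ∩ L).card = 0)).card = 77 := by
    rw [Finset.card_filter_add_card_filter_not, Finset.card_univ, h.card]
  have hZc : (Finset.univ.filter (fun v : V => (nbr G v ∩ L).card = 0)).card = 37 := by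
    omega
  have hLZ : L ⊆ Finset.univ.filter (fun v : V => (nbr G v ∩ L).card = 0) := by
    intro a ha
    rw [Finset.mem_filter]
    refine ⟨Finset.mem_univ _, ?_⟩
    rw [Finset.card_eq_zero, Finset.eq_empty_iff_forall_notMem]
    intro b hb
    rw [Finset.mem_inter, mem_nbr] at hb
    exact hco a ha b hb.2 hb.1
  have hEq : Finset.univ.filter (fun v => v ∉ L ∧ ∀ a ∈ L, ¬ G.Adj v a)
      = Finset.univ.filter (fun v : V => (nbr G v ∩ L).card = 0) \ L := by
    ext v
    rw [Finset.mem_filter, Finset.mem_sdiff, Finset.mem_filter, Finset.card_eq_zero,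
      Finset.eq_empty_iff_forall_notMem]
    constructor
    · rintro ⟨_, hv, hn⟩
      refine ⟨⟨Finset.mem_univ _, ?_⟩, hv⟩
      intro b hb
      rw [Finset.mem_inter, mem_nbr] at hb
      exact hn b hb.2 hb.1
    · rintro ⟨⟨_, hn⟩, hv⟩
      refine ⟨Finset.mem_univ _, hv, fun a ha hadj => hn a ?_⟩
      rw [Finset.mem_inter, mem_nbr]
      exact ⟨hadj, ha⟩
  rw [hEq, Finset.card_sdiff_of_subset hLZ, hZc, hc5]

end Cfsg.Agent.Lib.helper39
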