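import Cfsg.Agent.S3335
import Mathlib

/-! S0892 piece O6 (race copy by helper39): the case `A₄` with an odd kernel. -/

set_option autoImplicit false
open Cfsg Cfsg.Agent.S3335

namespace Cfsg.Agent.Lib.helper70.SM

universe u

/-- W1 in product form. -/
theorem h39_a4_comm {G : Type*} [Group G] (a b : G) (haa : a * a * a = 1) (hbb : b * b = 1)
    (habab : a * b * (a * b) * (a * b) = 1) :
    b * (a * b * a⁻¹) = (a * b * a⁻¹) * b := by
  have hb' : b⁻¹ = b := inv_eq_of_mul_eq_one_left hbb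
  have e1 : b * a * b = a⁻¹ * b * a⁻¹ := by
    have h : b * a * b = a⁻¹ * (a * b * (a * b) * (a * b)) * b⁻¹ * a⁻¹ := by group
    rw [h, habab, hb']; group
  have hinv : b * a⁻¹ * (b * a⁻¹) * (b * a⁻¹) = 1 := by
    have h : b⁻¹ * a⁻¹ * (b⁻¹ * a⁻¹) * (b⁻¹ * a⁻¹) = (a * b * (a * b) * (a * b))⁻¹ := by group
    rw [habab, inv_one, hb'] at h
    exact h
  have e2 : b * a⁻¹ * b = a * b * a := by
    have h : b * a⁻¹ * b = (b * a⁻¹ * (b * a⁻¹) * (b * a⁻¹)) * a * b⁻¹ * a := by group
    rw [h, hinv, hb']; group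
  calc b * (a * b * a⁻¹) = (b * a * b) * a⁻¹ := by group
    _ = a⁻¹ * b * a⁻¹ * a⁻¹ := by rw [e1]
    _ = a⁻¹ * b * a * (a * a * a)⁻¹ := by group
    _ = a⁻¹ * b * a := by rw [haa]; group
    _ = (a * a * a)⁻¹ * a * a * b * a := by group
    _ = a * a * b * a := by rw [haa]; group
    _ = a * (a * b * a) := by group
    _ = a * (b * a⁻¹ * b) := by rw [e2]
    _ = (a * b * a⁻¹) * b := by group

/-- the relation `c d b = 1` of `A₄`. -/
theorem h39_a4_cdb {G : Type*} [Group G] (a b : G) (haa : a * a * a = 1)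
    (habab : a * b * (a * b) * (a * b) = 1) :
    (a * b * a⁻¹) * (a * (a * b * a⁻¹) * a⁻¹) * b = 1 := by
  calc (a * b * a⁻¹) * (a * (a * b * a⁻¹) * a⁻¹) * b
      = a * b * (a * b) * (a * b) * b⁻¹ * (a * a * a)⁻¹ * b := by group
    _ = 1 := by rw [habab, haa]; group

/-- a conjugation permuting a generating set normalizes its closure. -/
theorem h39_mem_normalizer_of_image_eq {G : Type*} [Group G] (T : Set G) (g : G)
    (h : (fun t => g * t * g⁻¹) '' T = T) :
    g ∈ Subgroup.normalizer ((Subgroup.closure T : Subgroup G) : Set G) := by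
  have hmap : (Subgroup.closure T).map (MulAut.conj g).toMonoidHom = Subgroup.closure T := by
    rw [MonoidHom.map_closure]
    congr 1
  rw [Subgroup.mem_normalizer_iff]
  intro s
  constructor
  · intro hs
    have := Subgroup.mem_map_of_mem (MulAut.conj g).toMonoidHom hs
    rw [hmap] at this
    exact this
  · intro hs
    rw [← hmap] at hs
    obtain ⟨s', hs', heq⟩ := hs
    have : s' = s := by
      have h1 : g * s' * g⁻¹ = g * s * g⁻¹ := heq
      have h2 : s' = g⁻¹ * (g * s' * g⁻¹) * g := by group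
      rw [h2, h1]; group
    rw [← this]
    exact hs'

/-- O6 (degree 4, odd kernel). -/
theorem h39_odd_ker_trivial_one {Γ : Type u} [Group Γ] [Finite Γ]
    (π : Γ →* PresentedGroup (rels 1)) (hπ : Function.Surjective π)
    (hc : π.ker ≤ Subgroup.center Γ) (hd : π.ker ≤ commutator Γ)
    (hodd : Odd (Nat.card π.ker)) : π.ker = ⊥ := by
  classical
  obtain ⟨m, hm⟩ := hodd
  have hpowK : ∀ c ∈ π.ker, c ^ (2 * m + 1) = 1 := by
    intro c hcK
    have h := pow_card_eq_one' (G := π.ker) (x := ⟨c, hcK⟩)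
    rw [hm] at h
    exact congrArg Subtype.val h
  have hK2 : ∀ c ∈ π.ker, c * c = 1 → c = 1 := by
    intro c hcK hcc
    have h := hpowK c hcK
    rw [pow_succ, pow_mul, pow_two, hcc, one_pow, one_mul] at h
    exact h
  have hroot : ∀ e ∈ π.ker, ∃ d ∈ π.ker, d * d = e := by
    intro e heK
    refine ⟨e ^ (m + 1), Subgroup.pow_mem _ heK _, ?_⟩
    have h := hpowK e heK
    calc e ^ (m + 1) * e ^ (m + 1) = e ^ (2 * m + 1) * e := by
          rw [← pow_add, ← pow_succ]; congr 1; omega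
      _ = e := by rw [h, one_mul]
  have hcen : ∀ c ∈ π.ker, ∀ g : Γ, c * g = g * c := fun c hcK g =>
    (Subgroup.mem_center_iff.mp (hc hcK) g).symm
  -- relations of the presented group
  have haa : x 1 (0 : Fin 2) * x 1 0 * x 1 0 = 1 := by
    have h := x_cube 1 (0 : Fin 2) rfl
    rw [pow_succ, pow_two] at h
    exact h
  have hbb : x 1 (1 : Fin 2) * x 1 1 = 1 := by
    have h := x_sq 1 (1 : Fin 2) (le_refl _)
    rw [pow_two] at h
    exact h
  have habab : x 1 (0 : Fin 2) * x 1 1 * (x 1 0 * x 1 1) * (x 1 0 * x 1 1) = 1 := by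
    have h := x_adj 1 (0 : Fin 2) 1 rfl
    rw [pow_succ, pow_two] at h
    exact h
  -- lifts
  obtain ⟨y0, hy0⟩ := hπ (x 1 0)
  obtain ⟨y, hy⟩ := hπ (x 1 1)
  have hyK : (y * y)⁻¹ ∈ π.ker := by
    apply Subgroup.inv_mem
    rw [MonoidHom.mem_ker, map_mul, hy, hbb]
  obtain ⟨d, hdK, hdd⟩ := hroot _ hyK
  obtain ⟨u, hu⟩ : ∃ u : Γ, u = y * d := ⟨_, rfl⟩
  have hπu : π u = x 1 1 := by
    rw [hu, map_mul, hy, MonoidHom.mem_ker.mp hdK, mul_one]
  have huu : u * u = 1 := by
    rw [hu]
    calc y * d * (y * d) = y * (d * y) * d := by group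
      _ = y * (y * d) * d := by rw [hcen d hdK y]
      _ = (y * y) * (d * d) := by group
      _ = 1 := by rw [hdd]; group
  have hu' : u⁻¹ = u := inv_eq_of_mul_eq_one_left huu
  obtain ⟨v, hv⟩ : ∃ v : Γ, v = y0 * u * y0⁻¹ := ⟨_, rfl⟩
  obtain ⟨w, hw⟩ : ∃ w : Γ, w = y0 * v * y0⁻¹ := ⟨_, rfl⟩
  have hvv : v * v = 1 := by
    rw [hv]
    calc y0 * u * y0⁻¹ * (y0 * u * y0⁻¹) = y0 * (u * u) * y0⁻¹ := by group
      _ = 1 := by rw [huu]; group
  have hv' : v⁻¹ = v := inv_eq_of_mul_eq_one_left hvv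
  have hww : w * w = 1 := by
    rw [hw]
    calc y0 * v * y0⁻¹ * (y0 * v * y0⁻¹) = y0 * (v * v) * y0⁻¹ := by group
      _ = 1 := by rw [hvv]; group
  have hπv : π v = x 1 0 * x 1 1 * (x 1 0)⁻¹ := by
    rw [hv, map_mul, map_mul, map_inv, hy0, hπu]
  have hπw : π w = x 1 0 * (x 1 0 * x 1 1 * (x 1 0)⁻¹) * (x 1 0)⁻¹ := by
    rw [hw, map_mul, map_mul, map_inv, hy0, hπv]
  -- u and v commute
  have hW := h39_a4_comm (x 1 (0 : Fin 2)) (x 1 1) haa hbb habab
  have hcc : (x 1 (0 : Fin 2) * x 1 1 * (x 1 0)⁻¹) * (x 1 0 * x 1 1 * (x 1 0)⁻¹) = 1 := by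
    calc (x 1 (0 : Fin 2) * x 1 1 * (x 1 0)⁻¹) * (x 1 0 * x 1 1 * (x 1 0)⁻¹)
        = x 1 0 * (x 1 1 * x 1 1) * (x 1 0)⁻¹ := by group
      _ = 1 := by rw [hbb]; group
  have huvK : u * v * (u * v) ∈ π.ker := by
    rw [MonoidHom.mem_ker, map_mul, map_mul, hπu, hπv]
    calc x 1 (1 : Fin 2) * (x 1 0 * x 1 1 * (x 1 0)⁻¹) * (x 1 1 * (x 1 0 * x 1 1 * (x 1 0)⁻¹))
        = (x 1 1 * (x 1 0 * x 1 1 * (x 1 0)⁻¹)) * (x 1 1 * (x 1 0 * x 1 1 * (x 1 0)⁻¹)) := by
          group
      _ = (x 1 1 * (x 1 0 * x 1 1 * (x 1 0)⁻¹)) * ((x 1 0 * x 1 1 * (x 1 0)⁻¹) * x 1 1) := by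
          rw [← hW]
      _ = x 1 1 * ((x 1 0 * x 1 1 * (x 1 0)⁻¹) * (x 1 0 * x 1 1 * (x 1 0)⁻¹)) * x 1 1 := by
          group
      _ = 1 := by rw [hcc, mul_one, hbb]
  have huv1 : u * v * (u * v) = 1 := by
    apply hK2 _ huvK
    have hcenb := hcen _ huvK
    have h1 : (u * v * (u * v))⁻¹ = v⁻¹ * u⁻¹ * (v⁻¹ * u⁻¹) := by group
    rw [hu', hv'] at h1
    have h2 : v * u * (v * u) = u⁻¹ * (u * v * (u * v)) * u := by group
    have h3 : u⁻¹ * (u * v * (u * v)) * u = u * v * (u * v) := by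
      calc u⁻¹ * (u * v * (u * v)) * u = u⁻¹ * ((u * v * (u * v)) * u) := by group
        _ = u⁻¹ * (u * (u * v * (u * v))) := by rw [hcenb u]
        _ = u * v * (u * v) := by group
    rw [h2, h3] at h1
    calc u * v * (u * v) * (u * v * (u * v))
        = (u * v * (u * v))⁻¹ * (u * v * (u * v)) := by rw [h1]
      _ = 1 := inv_mul_cancel _
  have huv : u * v = v * u := by
    calc u * v = (u * v * (u * v)) * (v⁻¹ * u⁻¹) := by group
      _ = v * u := by rw [huv1, hv', hu', one_mul]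
  have hvw : v * w = w * v := by
    calc v * w = y0 * (u * v) * y0⁻¹ := by rw [hw]; nth_rewrite 1 [hv]; group
      _ = y0 * (v * u) * y0⁻¹ := by rw [huv]
      _ = w * v := by rw [hw]; nth_rewrite 3 [hv]; group
  have hc0K : y0 * y0 * y0 ∈ π.ker := by
    rw [MonoidHom.mem_ker, map_mul, map_mul, hy0, haa]
  have hcyc : y0 * w * y0⁻¹ = u := by
    calc y0 * w * y0⁻¹ = (y0 * y0 * y0) * u * (y0 * y0 * y0)⁻¹ := by rw [hw, hv]; group
      _ = u := by rw [hcen _ hc0K u]; group
  have hwu : w * u = u * w := by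
    calc w * u = (y0 * v * y0⁻¹) * (y0 * w * y0⁻¹) := by rw [hcyc, ← hw]
      _ = y0 * (v * w) * y0⁻¹ := by group
      _ = y0 * (w * v) * y0⁻¹ := by rw [hvw]
      _ = (y0 * w * y0⁻¹) * (y0 * v * y0⁻¹) := by group
      _ = u * w := by rw [hcyc, ← hw]
  have hβK : v * w * u ∈ π.ker := by
    rw [MonoidHom.mem_ker, map_mul, map_mul, hπu, hπv, hπw]
    exact h39_a4_cdb _ _ haa habab
  have hβ : v * w * u = 1 := by
    apply hK2 _ hβK
    calc v * w * u * (v * w * u) = v * w * (u * v) * w * u := by group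
      _ = v * w * (v * u) * w * u := by rw [huv]
      _ = v * (w * v) * (u * w) * u := by group
      _ = v * (v * w) * (w * u) * u := by rw [← hvw, ← hwu]
      _ = (v * v) * (w * w) * (u * u) := by group
      _ = 1 := by rw [hvv, hww, huu]; group
  -- the four-group
  set T : Set Γ := {u, v, w} with hT
  set S : Subgroup Γ := Subgroup.closure T with hS
  have hTcomm : ∀ s ∈ T, ∀ t ∈ T, t * s = s * t := by
    intro s hs t ht
    simp only [hT, Set.mem_insert_iff, Set.mem_singleton_iff] at hs ht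
    rcases hs with rfl | rfl | rfl <;> rcases ht with rfl | rfl | rfl <;>
      first | rfl | exact huv | exact huv.symm | exact hvw | exact hvw.symm | exact hwu
            | exact hwu.symm
  have hScomm : S ≤ Subgroup.centralizer (S : Set Γ) := by
    have h1 : T ⊆ Subgroup.centralizer T := fun t ht s hs => hTcomm t ht s hs
    have h2 : S ≤ Subgroup.centralizer T := (Subgroup.closure_le _).2 h1
    exact (Subgroup.closure_le_centralizer_centralizer T).trans (Subgroup.centralizer_le h2)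
  have hSsq : ∀ s ∈ S, s * s = 1 := by
    intro s hs
    induction hs using Subgroup.closure_induction with
    | mem t ht =>
      simp only [hT, Set.mem_insert_iff, Set.mem_singleton_iff] at ht
      rcases ht with rfl | rfl | rfl
      · exact huu
      · exact hvv
      · exact hww
    | one => simp
    | mul a b ha hb iha ihb =>
      have hab : b * a = a * b := hScomm ha b hb
      calc a * b * (a * b) = a * (b * a) * b := by group
        _ = a * (a * b) * b := by rw [hab]
        _ = (a * a) * (b * b) := by group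
        _ = 1 := by rw [iha, ihb, one_mul]
    | inv a ha iha =>
      calc a⁻¹ * a⁻¹ = (a * a)⁻¹ := by group
        _ = 1 := by rw [iha, inv_one]
  -- generation
  have hM : Subgroup.closure (insert y0 (insert u (π.ker : Set Γ))) = ⊤ := by
    set M := Subgroup.closure (insert y0 (insert u (π.ker : Set Γ))) with hMdef
    have hKM : π.ker ≤ M := fun c hcK =>
      Subgroup.subset_closure (Set.mem_insert_of_mem _ (Set.mem_insert_of_mem _ hcK))
    have hrange : (⊤ : Subgroup (PresentedGroup (rels 1))) ≤ M.map π := by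
      rw [← PresentedGroup.closure_range_of, Subgroup.closure_le]
      rintro _ ⟨i, rfl⟩
      fin_cases i
      · exact ⟨y0, Subgroup.subset_closure (Set.mem_insert _ _), hy0⟩
      · exact ⟨u, Subgroup.subset_closure (Set.mem_insert_of_mem _ (Set.mem_insert _ _)), hπu⟩
    rw [eq_top_iff]
    intro g _
    obtain ⟨g', hg', hgg⟩ := hrange (Subgroup.mem_top (π g))
    have hk : g * g'⁻¹ ∈ π.ker := by
      rw [MonoidHom.mem_ker, map_mul, map_inv, hgg, mul_inv_cancel]
    have : g = (g * g'⁻¹) * g' := by group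
    rw [this]
    exact M.mul_mem (hKM hk) hg'
  -- normality of S
  have hnorm : Subgroup.normalizer (S : Set Γ) = ⊤ := by
    rw [eq_top_iff, ← hM, Subgroup.closure_le]
    intro g hg
    apply h39_mem_normalizer_of_image_eq
    rcases hg with rfl | rfl | hgK
    · -- g = y0
      rw [hT, Set.image_insert_eq, Set.image_insert_eq, Set.image_singleton, hcyc, ← hv, ← hw]
      ext t
      simp only [Set.mem_insert_iff, Set.mem_singleton_iff]
      tauto
    · -- g = u
      have e1 : g * g * g⁻¹ = g := by group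
      have e2 : g * v * g⁻¹ = v := by rw [huv]; group
      have e3 : g * w * g⁻¹ = w := by rw [← hwu]; group
      rw [hT, Set.image_insert_eq, Set.image_insert_eq, Set.image_singleton, e1, e2, e3]
    · -- g central
      have e : ∀ t : Γ, g * t * g⁻¹ = t := by
        intro t
        rw [hcen g hgK t]; group
      simp only [e, Set.image_id']
  have hSn : S.Normal := Subgroup.normalizer_eq_top_iff.mp hnorm
  -- the commutative complement
  set H : Subgroup Γ := Subgroup.closure (insert y0 (π.ker : Set Γ)) with hH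
  have hHcomm : IsMulCommutative H := by
    have h1 : insert y0 (π.ker : Set Γ) ⊆ Subgroup.centralizer (insert y0 (π.ker : Set Γ)) := by
      intro a ha b hb
      rcases ha with rfl | haK
      · rcases hb with rfl | hbK
        · rfl
        · exact hcen b hbK a
      · exact (hcen a haK b).symm
    have h2 : H ≤ Subgroup.centralizer (insert y0 (π.ker : Set Γ)) := (Subgroup.closure_le _).2 h1
    have h3 : H ≤ Subgroup.centralizer (H : Set Γ) :=
      (Subgroup.closure_le_centralizer_centralizer _).trans (Subgroup.centralizer_le h2)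
    exact ⟨⟨fun a b => Subtype.ext (h3 b.2 a a.2)⟩⟩
  have hsup : S ⊔ H = ⊤ := by
    rw [eq_top_iff, ← hM, Subgroup.closure_le]
    intro g hg
    rcases hg with rfl | rfl | hgK
    · exact (le_sup_right : H ≤ S ⊔ H) (Subgroup.subset_closure (Set.mem_insert _ _))
    · exact (le_sup_left : S ≤ S ⊔ H) (Subgroup.subset_closure (by simp [hT]))
    · exact (le_sup_right : H ≤ S ⊔ H)
        (Subgroup.subset_closure (Set.mem_insert_of_mem _ hgK))
  have hcomm : commutator Γ ≤ S :=
    hSn.commutator_le_of_self_sup_commutative_eq_top hsup hHcomm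
  rw [Subgroup.eq_bot_iff_forall]
  intro c hcK
  exact hK2 c hcK (hSsq c (hcomm (hd hcK)))

end Cfsg.Agent.Lib.helper70.SM
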