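import Mathlib
import Cfsg.Agent.Lib.helper69.SNDefs
import Cfsg.Agent.Lib.helper69.SNStruct

/-!
# S4073, piece ODD-CA (helper39), core: the assembly with ODD-SYL, CENT-NE, CENT-EQ as hypotheses
-/

set_option autoImplicit false

namespace Cfsg.Agent.Lib.helper39.SNG

open Cfsg.Agent.Lib.helper69.SNG

universe u

/-- ODD-CA with the three leaf pieces (specialized to `G` and its element centralizers) as
explicit hypotheses. -/
theorem h39_sn_odd_simple_ca_of {G : Type u} [Group G] [Finite G] [IsSimpleGroup G]
    (hna : ¬ IsMulCommutative G) (h : SN G)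
    (hsub : ∀ K : Subgroup G, K ≠ ⊤ → Group.IsSolvable K)
    (hSYL : ∀ (p : ℕ) [Fact p.Prime] (P : Sylow p G), IsMulCommutative P)
    (hNE : ∀ (y : G) (A : Subgroup (Subgroup.centralizer ({y} : Set G))) [A.Normal],
      IsMulCommutative A → A.index.Prime →
      ∀ x : Subgroup.centralizer ({y} : Set G),
        x ∈ Subgroup.center (Subgroup.centralizer ({y} : Set G)) → (orderOf x).Prime →
        A.index ≠ orderOf x → IsMulCommutative (Subgroup.centralizer ({y} : Set G)))
    (hEQ : ∀ (p : ℕ) [Fact p.Prime], (∀ P : Sylow p G, IsMulCommutative P) →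
      ∀ x : G, orderOf x = p →
      ∀ (A : Subgroup (Subgroup.centralizer ({x} : Set G))) [A.Normal],
        IsMulCommutative A → A.index = p →
        IsMulCommutative (Subgroup.centralizer ({x} : Set G)))
    (x : G) (hx : x ≠ 1) :
    IsMulCommutative (Subgroup.centralizer ({x} : Set G)) := by
  have hox : orderOf x ≠ 1 := by
    intro h1
    exact hx (orderOf_eq_one_iff.mp h1)
  have hox0 : orderOf x ≠ 0 := (orderOf_pos x).ne'
  set p := (orderOf x).minFac with hp
  have hpp : p.Prime := Nat.minFac_prime hox
  have hpd : p ∣ orderOf x := Nat.minFac_dvd _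
  set y := x ^ (orderOf x / p) with hy
  have hoy : orderOf y = p := orderOf_pow_orderOf_div hox0 hpd
  have hy1 : y ≠ 1 := by
    intro h1
    rw [h1, orderOf_one] at hoy
    exact hpp.one_lt.ne hoy
  have hle : Subgroup.centralizer ({x} : Set G) ≤ Subgroup.centralizer ({y} : Set G) := by
    intro c hc
    rw [Subgroup.mem_centralizer_iff] at hc ⊢
    intro w hw
    rw [Set.mem_singleton_iff] at hw
    have h1 : x * c = c * x := hc x (Set.mem_singleton x)
    have h2 : Commute x c := h1
    rw [hw, hy]
    exact (h2.pow_left _).eq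
  suffices hC : IsMulCommutative (Subgroup.centralizer ({y} : Set G)) by
    rw [comm_iff] at hC ⊢
    intro a ha b hb
    exact hC a (hle ha) b (hle hb)
  by_contra hC
  -- the centralizer of y is proper
  have hCtop : Subgroup.centralizer ({y} : Set G) ≠ ⊤ := by
    intro htop
    have hyc : y ∈ Subgroup.center G := by
      rw [Subgroup.mem_center_iff]
      intro g
      have hg : g ∈ Subgroup.centralizer ({y} : Set G) := htop ▸ Subgroup.mem_top g
      rw [Subgroup.mem_centralizer_iff] at hg
      exact (hg y (Set.mem_singleton y)).symm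
    rcases IsSimpleGroup.eq_bot_or_eq_top_of_normal (Subgroup.center G) inferInstance with hb | ht
    · rw [hb, Subgroup.mem_bot] at hyc
      exact hy1 hyc
    · apply hna
      rw [comm_iff_top]
      intro a b
      have hb' : b ∈ Subgroup.center G := ht ▸ Subgroup.mem_top b
      rw [Subgroup.mem_center_iff] at hb'
      exact hb' a
  have hsolv : Group.IsSolvable (Subgroup.centralizer ({y} : Set G)) := hsub _ hCtop
  obtain ⟨A, hAn, hAc, hAi⟩ := sn_solvable_index (h.subgroup _) hsolv hC
  have hyC : y ∈ Subgroup.centralizer ({y} : Set G) := by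
    rw [Subgroup.mem_centralizer_iff]
    intro w hw
    rw [Set.mem_singleton_iff] at hw
    rw [hw]
  have hcen : (⟨y, hyC⟩ : Subgroup.centralizer ({y} : Set G)) ∈
      Subgroup.center (Subgroup.centralizer ({y} : Set G)) := by
    rw [Subgroup.mem_center_iff]
    intro c
    apply Subtype.ext
    have hc := c.2
    rw [Subgroup.mem_centralizer_iff] at hc
    exact (hc y (Set.mem_singleton y)).symm
  have hoyC : orderOf (⟨y, hyC⟩ : Subgroup.centralizer ({y} : Set G)) = p := by
    rw [← Subgroup.orderOf_coe]
    exact hoy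
  have : Fact p.Prime := ⟨hpp⟩
  by_cases hl : A.index = p
  · exact hC (hEQ p (fun P => hSYL p P) y hoy A hAc hl)
  · refine hC (hNE y A hAc hAi ⟨y, hyC⟩ hcen ?_ ?_)
    · rw [hoyC]
      exact hpp
    · rw [hoyC]
      exact hl

end Cfsg.Agent.Lib.helper39.SNG
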