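import Mathlib
import Cfsg.Agent.Lib.helper44.SUWDefs

/-!
# S2335, piece R1COUNT (core): the orbit of a rank-one skew-Hermitian matrix
-/

set_option autoImplicit false

namespace Cfsg.Agent.Lib.helper44.SUW

open Matrix

/-- R1COUNT with the conclusions of SLTR and FNORM1 as hypotheses. -/
theorem h39_rank_one_count_core {K : Type*} [Field K] [Fintype K] [DecidableEq K] {q m : ℕ}
    (hK : Fintype.card K = q ^ 2) (σ : K →+* K) (hσ : ∀ x, σ x = x ^ q)
    (hsl : ∀ x y : Fin m → K, x ≠ 0 → y ≠ 0 →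
      ∃ B : Matrix (Fin m) (Fin m) K, B.det = 1 ∧ B *ᵥ x = y)
    (hn1 : Nat.card {z : K // z * σ z = 1} ≤ q + 1)
    (S : Set (Matrix (Fin m) (Fin m) K))
    (hstab : ∀ Y ∈ S, ∀ B : Matrix (Fin m) (Fin m) K, B.det = 1 → (B.map σ)ᵀ * Y * B ∈ S)
    (c : K) (z : Fin m → K) (hc : c ≠ 0) (hz : z ≠ 0)
    (hmem : c • Matrix.vecMulVec z (fun j => σ (z j)) ∈ S) :
    (q ^ (m + m) - 1) / (q + 1) ≤ Nat.card S := by
  classical
  have hσσ : ∀ x, σ (σ x) = x := by
    intro x
    rw [hσ, hσ, ← pow_mul, ← pow_two, ← hK, FiniteField.pow_card]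
  set T : (Fin m → K) → Matrix (Fin m) (Fin m) K :=
    fun w => c • Matrix.vecMulVec w (fun j => σ (w j)) with hT
  have hTapp : ∀ w i j, T w i j = c * (w i * σ (w j)) := by
    intro w i j
    simp [hT, Matrix.vecMulVec_apply]
  have hTS : ∀ w : Fin m → K, w ≠ 0 → T w ∈ S := by
    intro w hw
    obtain ⟨A, hA, hAz⟩ := hsl z w hz hw
    have hB : ((Aᵀ.map σ).map σ)ᵀ = A := by
      ext i j
      simp [hσσ]
    have hdet : (Aᵀ.map σ).det = 1 := by
      have h := RingHom.map_det σ Aᵀ
      rw [RingHom.mapMatrix_apply] at h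
      rw [← h, Matrix.det_transpose, hA, map_one]
    have h1 := hstab _ hmem (Aᵀ.map σ) hdet
    rw [hB] at h1
    have h2 : A * (c • Matrix.vecMulVec z (fun j => σ (z j))) * Aᵀ.map σ = T w := by
      ext i j
      rw [hTapp, ← hAz]
      simp only [Matrix.mul_apply, Matrix.smul_apply, Matrix.vecMulVec_apply, Matrix.map_apply,
        Matrix.transpose_apply, Matrix.mulVec, dotProduct, smul_eq_mul, map_sum, map_mul]
      simp only [Finset.sum_mul, Finset.mul_sum]
      refine Finset.sum_congr rfl fun k _ => Finset.sum_congr rfl fun l _ => ?_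
      ring
    rw [h2] at h1
    exact h1
  set W : Finset (Fin m → K) := Finset.univ.filter (fun w => w ≠ 0) with hW
  have hWcard : W.card = q ^ (m + m) - 1 := by
    rw [hW, Finset.filter_ne' Finset.univ (0 : Fin m → K),
      Finset.card_erase_of_mem (Finset.mem_univ _), Finset.card_univ, Fintype.card_fun,
      Fintype.card_fin, hK, ← pow_mul, two_mul]
  have himg : ((W.image T : Finset _) : Set (Matrix (Fin m) (Fin m) K)) ⊆ S := by
    intro Y hY
    rw [Finset.mem_coe, Finset.mem_image] at hY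
    obtain ⟨w, hw, rfl⟩ := hY
    exact hTS w (Finset.mem_filter.1 hw).2
  have hcard1 : (W.image T).card ≤ Nat.card S := by
    have h1 := Set.ncard_le_ncard himg (Set.toFinite S)
    rw [Set.ncard_coe_finset] at h1
    rwa [← Nat.card_coe_set_eq] at h1
  have hfib : ∀ a ∈ W.image T, (W.filter (fun w => T w = a)).card ≤ q + 1 := by
    intro a ha
    obtain ⟨w₀, hw₀, rfl⟩ := Finset.mem_image.1 ha
    have hw₀0 : w₀ ≠ 0 := (Finset.mem_filter.1 hw₀).2
    obtain ⟨i₀, hi₀⟩ : ∃ i, w₀ i ≠ 0 := by
      by_contra h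
      apply hw₀0
      funext i
      by_contra hi
      exact h ⟨i, hi⟩
    have hσi₀ : σ (w₀ i₀) ≠ 0 := by
      intro h
      apply hi₀
      have h' := congrArg σ h
      rwa [hσσ, map_zero] at h'
    have key : ∀ w ∈ W.filter (fun w => T w = T w₀),
        (w i₀ / w₀ i₀) * σ (w i₀ / w₀ i₀) = 1 ∧ w = (w i₀ / w₀ i₀) • w₀ := by
      intro w hw
      have hTw : T w = T w₀ := (Finset.mem_filter.1 hw).2
      have hent : ∀ i j, w i * σ (w j) = w₀ i * σ (w₀ j) := by
        intro i j
        have h := congrFun (congrFun hTw i) j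
        rw [hTapp, hTapp] at h
        exact mul_left_cancel₀ hc h
      have h00 := hent i₀ i₀
      have hσwi₀ : σ (w i₀) ≠ 0 := by
        intro h
        rw [h, mul_zero] at h00
        exact mul_ne_zero hi₀ hσi₀ h00.symm
      have hz1 : (w i₀ / w₀ i₀) * σ (w i₀ / w₀ i₀) = 1 := by
        rw [map_div₀, div_mul_div_comm, h00]
        exact div_self (mul_ne_zero hi₀ hσi₀)
      refine ⟨hz1, ?_⟩
      funext i
      have hi := hent i i₀
      simp only [Pi.smul_apply, smul_eq_mul]
      have h3 : (w i * w₀ i₀ - w i₀ * w₀ i) * σ (w i₀) = 0 := by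
        linear_combination w₀ i₀ * hi - w₀ i * h00
      have h4 : w i * w₀ i₀ - w i₀ * w₀ i = 0 := by
        rcases mul_eq_zero.1 h3 with h | h
        · exact h
        · exact absurd h hσwi₀
      field_simp
      linear_combination h4
    have hle : (W.filter (fun w => T w = T w₀)).card ≤
        (Finset.univ.filter (fun ζ : K => ζ * σ ζ = 1)).card := by
      apply Finset.card_le_card_of_injOn (fun w => w i₀ / w₀ i₀)
      · intro w hw
        exact Finset.mem_filter.2 ⟨Finset.mem_univ _, (key w hw).1⟩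
      · intro w hw w' hw' heq
        rw [(key w hw).2, (key w' hw').2]
        simp only at heq
        rw [heq]
    have hn1' : (Finset.univ.filter (fun ζ : K => ζ * σ ζ = 1)).card =
        Nat.card {z : K // z * σ z = 1} := by
      rw [Nat.card_eq_fintype_card, Fintype.card_subtype]
    omega
  have hmain := Finset.card_le_mul_card_image W (q + 1) hfib
  apply Nat.div_le_of_le_mul
  calc q ^ (m + m) - 1 = W.card := hWcard.symm
    _ ≤ (q + 1) * (W.image T).card := hmain
    _ ≤ (q + 1) * Nat.card S := Nat.mul_le_mul_left _ hcard1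

end Cfsg.Agent.Lib.helper44.SUW
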