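import Mathlib
import Cfsg.Agent.Lib.helper44.SUWDefs
import Cfsg.Agent.Lib.helper39.SUWR1COUNTcore
import Cfsg.Agent.Lib.helper75.SUWSLTR

/-!
# S2335, piece R1COUNT (race copy): the orbit of a rank-one skew-Hermitian matrix
-/

set_option autoImplicit false

namespace Cfsg.Agent.Lib.helper44.SUW

open Matrix

/-- At most `q + 1` elements of norm one (spare copy of FNORM1). -/
theorem h39_card_norm_one_le {K : Type*} [Field K] [Fintype K] {q : ℕ}
    (σ : K →+* K) (hσ : ∀ x, σ x = x ^ q) : Nat.card {z : K // z * σ z = 1} ≤ q + 1 := by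
  classical
  rw [Nat.card_eq_fintype_card, Fintype.card_subtype]
  have hsub : (Finset.univ.filter (fun z : K => z * σ z = 1)) ⊆
      (Polynomial.nthRoots (q + 1) (1 : K)).toFinset := by
    intro z hz
    rw [Finset.mem_filter] at hz
    rw [Multiset.mem_toFinset, Polynomial.mem_nthRoots (Nat.succ_pos q), pow_succ, ← hσ,
      mul_comm]
    exact hz.2
  calc (Finset.univ.filter (fun z : K => z * σ z = 1)).card
      ≤ (Polynomial.nthRoots (q + 1) (1 : K)).toFinset.card := Finset.card_le_card hsub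
    _ ≤ Multiset.card (Polynomial.nthRoots (q + 1) (1 : K)) := Multiset.toFinset_card_le _
    _ ≤ q + 1 := Polynomial.card_nthRoots _ _

/-- R1COUNT (race copy of `rank_one_count`). -/
theorem h39_rank_one_count {K : Type*} [Field K] [Fintype K] [DecidableEq K] {q m : ℕ}
    (hK : Fintype.card K = q ^ 2) (hm : 2 ≤ m) (σ : K →+* K) (hσ : ∀ x, σ x = x ^ q)
    (S : Set (Matrix (Fin m) (Fin m) K))
    (hstab : ∀ Y ∈ S, ∀ B : Matrix (Fin m) (Fin m) K, B.det = 1 → (B.map σ)ᵀ * Y * B ∈ S)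
    (c : K) (z : Fin m → K) (hc : c ≠ 0) (hz : z ≠ 0)
    (hmem : c • Matrix.vecMulVec z (fun j => σ (z j)) ∈ S) :
    (q ^ (m + m) - 1) / (q + 1) ≤ Nat.card S :=
  h39_rank_one_count_core hK σ hσ (fun x y hx hy => sl_trans hm x y hx hy)
    (h39_card_norm_one_le σ hσ) S hstab c z hc hz hmem

end Cfsg.Agent.Lib.helper44.SUW
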