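import Cfsg.Agent.Lib.helper39.FusTools
import Cfsg.Prelude.Def_LocalEven

set_option autoImplicit false

namespace Cfsg.Agent.Lib.helper39

open Cfsg

open scoped commutatorElement

universe u

section

variable {p : ℕ} [Fact p.Prime] {𝓦 : Set (∀ (Q : Type u) [Group Q], Subgroup Q)}
variable {X : Type u} [Group X]

omit [Fact p.Prime] in
/-- Pulling back control of strong fusion from the quotient by a normal subgroup `P ≤ R₀`: every
conjugation is realized modulo `P` by a chain through the normalizers of the preimages. -/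
theorem pullback_fcsf (P : Subgroup X) [P.Normal] {H R₀ : Subgroup X} (hPR : P ≤ R₀)
    (h : FCSF (indSet 𝓦 (X ⧸ P)) (H.map (QuotientGroup.mk' P)) (R₀.map (QuotientGroup.mk' P)))
    (B : Subgroup X) (hB : B ≤ R₀) (x : X) (hx : x ∈ H) (hxB : cj x B ≤ R₀) :
    ∃ c, Reach {k | ∃ W ∈ 𝓦, k ∈ H ⊓ Subgroup.normalizer ((pre W P R₀ : Subgroup X) : Set X)}
        R₀ B c ∧ ∀ b ∈ B, (c * b * c⁻¹)⁻¹ * (x * b * x⁻¹) ∈ P := by
  have hcomap : (R₀.map (QuotientGroup.mk' P)).comap (QuotientGroup.mk' P) = R₀ := by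
    rw [Subgroup.comap_map_eq, QuotientGroup.ker_mk', sup_eq_left.mpr hPR]
  have h1 : cj (QuotientGroup.mk' P x) (B.map (QuotientGroup.mk' P)) ≤
      R₀.map (QuotientGroup.mk' P) := by
    rw [← map_cj]; exact Subgroup.map_mono hxB
  obtain ⟨c', hc', hca'⟩ := h (B.map (QuotientGroup.mk' P)) (QuotientGroup.mk' P x)
    ⟨x, hx, rfl⟩ (Subgroup.map_mono hB) h1
  have lift : ∀ c', Reach (stepSet (indSet 𝓦 (X ⧸ P)) (H.map (QuotientGroup.mk' P))
        (R₀.map (QuotientGroup.mk' P))) (R₀.map (QuotientGroup.mk' P))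
        (B.map (QuotientGroup.mk' P)) c' →
      ∃ c, QuotientGroup.mk' P c = c' ∧
        Reach {k | ∃ W ∈ 𝓦, k ∈ H ⊓ Subgroup.normalizer ((pre W P R₀ : Subgroup X) : Set X)}
          R₀ B c := by
    intro c' hc'
    induction hc' with
    | one _ => exact ⟨1, map_one _, Reach.one hB⟩
    | step c₁ k _ hk hle ih =>
      obtain ⟨c, hc, hreach⟩ := ih
      obtain ⟨_, ⟨W, hW, rfl⟩, ⟨⟨h₀, hh₀, hh₀k⟩, hn⟩⟩ := hk
      refine ⟨h₀ * c, by rw [map_mul, hc, hh₀k], Reach.step _ _ hreach ⟨W, hW, hh₀, ?_⟩ ?_⟩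
      · rw [normalizer_pre]
        refine Subgroup.mem_comap.mpr ?_
        rw [hh₀k]
        exact hn
      · rw [← hcomap]
        intro z hz
        refine Subgroup.mem_comap.mpr ?_
        apply hle
        rw [← hh₀k, ← hc, ← map_mul, ← map_cj]
        exact ⟨z, hz, rfl⟩
  obtain ⟨c, hc, hreach⟩ := lift c' hc'
  refine ⟨c, hreach, fun b hb => ?_⟩
  rw [← QuotientGroup.ker_mk' P, MonoidHom.mem_ker]
  have h2 := hca' (QuotientGroup.mk' P b) ⟨b, hb, rfl⟩
  rw [← hc] at h2
  simp only [map_mul, map_inv]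
  rw [h2]
  group

/-- Lifting control of strong fusion from the quotient by a normal `p'`-subgroup. -/
theorem fcsf_lift_pprime [Finite X] (h𝓦 : ∀ W ∈ 𝓦, IsCharPFunctor.{u} p W) (S : Sylow p X)
    (N : Subgroup X) [N.Normal] (hN : (Nat.card N).Coprime p)
    (h : FCSF (indSet 𝓦 (X ⧸ N)) ⊤ ((S : Subgroup X).map (QuotientGroup.mk' N))) :
    FCSF (indSet 𝓦 X) ⊤ (S : Subgroup X) := by
  have hSN : (S : Subgroup X) ⊓ N = ⊥ := isPGroup_inf_pprime S.2 hN
  have hinj : Set.InjOn (QuotientGroup.mk' N) ((S : Subgroup X) : Set X) := by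
    intro a ha b hb hab
    have h1 : a⁻¹ * b ∈ N := by
      rw [← QuotientGroup.ker_mk' N, MonoidHom.mem_ker, map_mul, map_inv, hab, inv_mul_cancel]
    have h2 : a⁻¹ * b ∈ (S : Subgroup X) ⊓ N :=
      ⟨(S : Subgroup X).mul_mem ((S : Subgroup X).inv_mem ha) hb, h1⟩
    rw [hSN, Subgroup.mem_bot] at h2
    exact inv_mul_eq_one.mp h2
  have hcomap : ((S : Subgroup X).map (QuotientGroup.mk' N)).comap (QuotientGroup.mk' N) =
      (S : Subgroup X) ⊔ N := by
    rw [Subgroup.comap_map_eq, QuotientGroup.ker_mk']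
  intro B x _ hB hxB
  have h1 : cj (QuotientGroup.mk' N x) (B.map (QuotientGroup.mk' N)) ≤
      (S : Subgroup X).map (QuotientGroup.mk' N) := by
    rw [← map_cj]; exact Subgroup.map_mono hxB
  obtain ⟨c', hc', hca'⟩ := h (B.map (QuotientGroup.mk' N)) (QuotientGroup.mk' N x)
    (Subgroup.mem_top _) (Subgroup.map_mono hB) h1
  have lift : ∀ c', Reach (stepSet (indSet 𝓦 (X ⧸ N)) ⊤
        ((S : Subgroup X).map (QuotientGroup.mk' N))) ((S : Subgroup X).map (QuotientGroup.mk' N))
        (B.map (QuotientGroup.mk' N)) c' →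
      ∃ c, QuotientGroup.mk' N c = c' ∧
        Reach (stepSet (indSet 𝓦 X) ⊤ (S : Subgroup X)) (S : Subgroup X) B c := by
    intro c' hc'
    induction hc' with
    | one _ => exact ⟨1, map_one _, Reach.one hB⟩
    | step c₁ k _ hk hle ih =>
      obtain ⟨c, hc, hreach⟩ := ih
      obtain ⟨_, ⟨W, hW, rfl⟩, ⟨-, hn⟩⟩ := hk
      have hind : inducedFunctor W ((S : Subgroup X).map (QuotientGroup.mk' N)) =
          (inducedFunctor W (S : Subgroup X)).map (QuotientGroup.mk' N) :=
        (ind_map (h𝓦 W hW) (QuotientGroup.mk' N) (S : Subgroup X) S.2 hinj).symm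
      have hVp : IsPGroup p (inducedFunctor W (S : Subgroup X)) := S.2.to_le (ind_le _)
      have hn2 : k ∈ Subgroup.normalizer ((inducedFunctor W
          ((S : Subgroup X).map (QuotientGroup.mk' N)) : Subgroup (X ⧸ N)) : Set (X ⧸ N)) := hn
      rw [hind] at hn2
      obtain ⟨k₀, hk₀, hk₀k⟩ := normalizer_map_le_of_pprime N hN hVp hn2
      have hSV : (S : Subgroup X) ≤
          Subgroup.normalizer ((inducedFunctor W (S : Subgroup X) : Subgroup X) : Set X) :=
        fun s hs => cfun_normalizer_le (isConjugacyFunctor_ind (h𝓦 W hW) X) S.2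
          (Subgroup.le_normalizer hs)
      have hD1 : cj (k₀ * c) B ≤ (S : Subgroup X) ⊔ N := by
        rw [← hcomap]
        intro z hz
        refine Subgroup.mem_comap.mpr ?_
        apply hle
        rw [← hk₀k, ← hc, ← map_mul, ← map_cj]
        exact ⟨z, hz, rfl⟩
      have hD2 : cj (k₀ * c) B ≤
          Subgroup.normalizer ((inducedFunctor W (S : Subgroup X) : Subgroup X) : Set X) := by
        rw [cj_mul]
        have h3 := cj_le_cj (g := k₀) |>.mpr (hreach.le.trans hSV)
        rwa [cj_eq_self_of_mem hk₀] at h3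
      have hSL : (S : Subgroup X) ≤ ((S : Subgroup X) ⊔ N) ⊓
          Subgroup.normalizer ((inducedFunctor W (S : Subgroup X) : Subgroup X) : Set X) :=
        le_inf le_sup_left hSV
      have hsylL : IsSylIn p (S : Subgroup X) (((S : Subgroup X) ⊔ N) ⊓
          Subgroup.normalizer ((inducedFunctor W (S : Subgroup X) : Subgroup X) : Set X)) :=
        ⟨hSL, S.2, sylow_not_dvd_relIndex S hSL⟩
      obtain ⟨m, hm, hmD⟩ := hsylL.exists_cj_le (isPGroup_cj (S.2.to_le hreach.base))
        (le_inf hD1 hD2)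
      have hm1 : m ∈ ((S : Subgroup X) ⊔ N : Subgroup X) := hm.1
      rw [← SetLike.mem_coe, Subgroup.mul_normal] at hm1
      obtain ⟨s, hs, n, hn', hsn⟩ := Set.mem_mul.mp hm1
      have hnV : n ∈
          Subgroup.normalizer ((inducedFunctor W (S : Subgroup X) : Subgroup X) : Set X) := by
        have e : n = s⁻¹ * m := by rw [← hsn]; group
        rw [e]
        exact mul_mem (inv_mem (hSV hs)) hm.2
      refine ⟨n * k₀ * c, ?_, ?_⟩
      · rw [map_mul, map_mul, hc, hk₀k]
        have h4 : QuotientGroup.mk' N n = 1 := by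
          rw [← MonoidHom.mem_ker, QuotientGroup.ker_mk']; exact hn'
        rw [h4, one_mul]
      · refine Reach.step _ _ hreach ⟨_, ⟨W, hW, rfl⟩, Subgroup.mem_top _, mul_mem hnV hk₀⟩ ?_
        have e : n * k₀ * c = s⁻¹ * (m * (k₀ * c)) := by rw [← hsn]; group
        rw [e, cj_mul, cj_mul]
        exact cj_le_of_mem (inv_mem hs) hmD
  obtain ⟨c, hc, hreach⟩ := lift c' hc'
  refine ⟨c, hreach, fun b hb => ?_⟩
  apply hinj (hreach.le (conj_mem_cj.mpr hb)) (hxB (conj_mem_cj.mpr hb))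
  have h2 := hca' (QuotientGroup.mk' N b) ⟨b, hb, rfl⟩
  rw [← hc] at h2
  simpa only [map_mul, map_inv] using h2

/-- The inductive step of the section theorem for strong fusion, outside the constrained case. -/
theorem fcsf_step_aux [Finite X] (h𝓦 : ∀ W ∈ 𝓦, IsCharPFunctor.{u} p W) (S : Sylow p X)
    (P : Subgroup X) [P.Normal] (hPS : P ≤ (S : Subgroup X))
    (hPmax : ∀ U : Subgroup X, U.Normal → IsPGroup p U → U ≤ P)
    (hcon : ¬ Subgroup.centralizer (P : Set X) ≤ P)
    (hsub : ∀ H : Subgroup X, H ≠ ⊤ → FamilyControlsStrongFusionIn p (indSet 𝓦 X) H)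
    (hquot : ∀ (N : Subgroup X) [N.Normal] (H' : Subgroup (X ⧸ N)), Nat.card H' < Nat.card X →
      FamilyControlsStrongFusionIn p (indSet 𝓦 (X ⧸ N)) H') :
    FCSF (indSet 𝓦 X) ⊤ (S : Subgroup X) := by
  have h𝓦X := isConjugacyFunctor_indSet h𝓦 X
  have hSp : IsPGroup p (S : Subgroup X) := S.2
  have hKinv : ∀ k ∈ stepSet (indSet 𝓦 X) ⊤ (S : Subgroup X),
      k⁻¹ ∈ stepSet (indSet 𝓦 X) ⊤ (S : Subgroup X) := fun k hk => stepSet_inv hk
  have hR := admRel_real (stepSet (indSet 𝓦 X) ⊤ (S : Subgroup X)) hKinv (S : Subgroup X)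
  have hG1 : ∀ H : Subgroup X, H ≠ ⊤ → (S : Subgroup X) ≤ H →
      Good (Real (stepSet (indSet 𝓦 X) ⊤ (S : Subgroup X)) (S : Subgroup X)) H
        (S : Subgroup X) := by
    intro H hH hSH x hx B hB hxB
    have hf : FCSF (indSet 𝓦 X) H (S : Subgroup X) :=
      FCSF.of_controls h𝓦X (hsub H hH) ⟨hSH, hSp, sylow_not_dvd_relIndex S hSH⟩
    exact (hf B x hx hB hxB).mono_K
      (fun k hk => by
        obtain ⟨W, hW, hk'⟩ := hk
        exact ⟨W, hW, Subgroup.mem_top _, hk'.2⟩) le_rfl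
  have hST : (S : Subgroup X) ≠ ⊤ := by
    intro h
    apply hcon
    have h1 : (S : Subgroup X) ≤ P := hPmax _ (by rw [h]; infer_instance) hSp
    intro x _
    exact h1 (by rw [h]; exact Subgroup.mem_top x)
  have hnorm : ∀ U : Subgroup X, U ≤ (S : Subgroup X) → P < U →
      Subgroup.normalizer (U : Set X) ≠ ⊤ := by
    intro U hU hPU h
    have : U ≤ P := hPmax U (Subgroup.normalizer_eq_top_iff.mp h) (hSp.to_le hU)
    exact absurd (lt_of_lt_of_le hPU this) (lt_irrefl _)
  suffices hgood : Good (Real (stepSet (indSet 𝓦 X) ⊤ (S : Subgroup X)) (S : Subgroup X)) ⊤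
      (S : Subgroup X) from fun B x hx hB hxB => hgood x hx B hB hxB
  by_cases hSC : (S : Subgroup X) ⊔ Subgroup.centralizer (P : Set X) = ⊤
  · refine adm_climbT S hR P hPS ?_ (hG1 _ hST le_rfl) ?_ ?_
    · intro x
      have hx : x ∈ ((S : Subgroup X) ⊔ Subgroup.centralizer (P : Set X) : Subgroup X) := by
        rw [hSC]; exact Subgroup.mem_top x
      rw [← SetLike.mem_coe, Subgroup.mul_normal] at hx
      obtain ⟨s, hs, c, hc, rfl⟩ := Set.mem_mul.mp hx
      exact ⟨s, hs, c, hc, rfl⟩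
    · intro U hU hPU hSU
      exact hG1 _ (hnorm U hU hPU) hSU
    · intro U hU hPU hNS
      have hR₀ : IsSylIn p (NS (S : Subgroup X) U) (Subgroup.normalizer (U : Set X)) :=
        ⟨inf_le_right, hSp.to_le inf_le_left, hU.2⟩
      have hR₀p : IsPGroup p (NS (S : Subgroup X) U) := hR₀.2.1
      have hPR₀ : P ≤ NS (S : Subgroup X) U := le_inf hPS (le_trans hPU.le Subgroup.le_normalizer)
      have hPltR₀ : P < NS (S : Subgroup X) U := lt_of_lt_of_le hPU (le_NS hU.1)
      refine ⟨(fun W => pre W P (NS (S : Subgroup X) U)) '' 𝓦, ?_, ?_⟩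
      · rintro _ ⟨W, hW, rfl⟩
        refine ⟨(pre_le P hPR₀).trans inf_le_left, lt_pre (h𝓦 W hW) P hR₀p hPltR₀, ?_⟩
        have hlt : NS (S : Subgroup X) U < NS (S : Subgroup X) (NS (S : Subgroup X) U) :=
          lt_inf_normalizer_of_lt hSp (lt_of_le_of_ne inf_le_left hNS)
        exact lt_of_lt_of_le hlt
          (inf_le_inf_left _ (normalizer_le_normalizer_pre (h𝓦 W hW) P hR₀p))
      · intro hk
        have hHne := hnorm U hU.1 hPU
        have hcard : Nat.card ((Subgroup.normalizer (U : Set X)).map (QuotientGroup.mk' P)) <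
            Nat.card X := by
          have h1 : Nat.card ((Subgroup.normalizer (U : Set X)).map (QuotientGroup.mk' P)) ≤
              Nat.card (Subgroup.normalizer (U : Set X)) :=
            Nat.le_of_dvd Nat.card_pos (Subgroup.card_map_dvd _ _)
          have h2 : Nat.card (Subgroup.normalizer (U : Set X)) < Nat.card (⊤ : Subgroup X) :=
            card_lt_card_of_lt (lt_top_iff_ne_top.mpr hHne)
          rw [Subgroup.card_top] at h2
          omega
        have hsylq : IsSylIn p ((NS (S : Subgroup X) U).map (QuotientGroup.mk' P))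
            ((Subgroup.normalizer (U : Set X)).map (QuotientGroup.mk' P)) := by
          refine ⟨Subgroup.map_mono hR₀.1, hR₀p.map _, ?_⟩
          rw [← Subgroup.relIndex_comap, Subgroup.comap_map_eq, QuotientGroup.ker_mk',
            sup_eq_left.mpr hPR₀]
          exact hR₀.2.2
        have hfq : FCSF (indSet 𝓦 (X ⧸ P))
            ((Subgroup.normalizer (U : Set X)).map (QuotientGroup.mk' P))
            ((NS (S : Subgroup X) U).map (QuotientGroup.mk' P)) :=
          FCSF.of_controls (isConjugacyFunctor_indSet h𝓦 (X ⧸ P)) (hquot P _ hcard) hsylq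
        refine good_of_quotient_chain S hR P hPS hSC (hG1 _ hST le_rfl) hR₀ inf_le_left hPR₀ ?_
        intro B hB x hx hxB
        obtain ⟨c, hreach, hcx⟩ := pullback_fcsf P hPR₀ hfq B hB x hx hxB
        refine ⟨c, hreach.mem (fun k hk' => ?_), ?_, hcx⟩
        · obtain ⟨W, hW, hk''⟩ := hk'
          exact hk''.1
        · refine hreach.toRel hR inf_le_left ?_
          intro k hk' B' hB' hkB'
          obtain ⟨W, hW, hk''⟩ := hk'
          exact hk _ ⟨W, hW, rfl⟩ k hk'' B' hB' hkB'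
  · have hSK : (S : Subgroup X) ⊔ (P ⊔ Subgroup.centralizer (P : Set X)) =
        (S : Subgroup X) ⊔ Subgroup.centralizer (P : Set X) := by
      rw [← sup_assoc, sup_eq_left.mpr hPS]
    by_cases hNQ : Subgroup.normalizer
        (((S : Subgroup X) ⊓ (P ⊔ Subgroup.centralizer (P : Set X)) : Subgroup X) : Set X) = ⊤
    · have hQn : ((S : Subgroup X) ⊓ (P ⊔ Subgroup.centralizer (P : Set X))).Normal :=
        Subgroup.normalizer_eq_top_iff.mp hNQ
      have hQP : (S : Subgroup X) ⊓ (P ⊔ Subgroup.centralizer (P : Set X)) ≤ P :=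
        hPmax _ hQn (hSp.to_le inf_le_left)
      have hZ : (S : Subgroup X) ⊓ Subgroup.centralizer (P : Set X) ≤ P :=
        le_trans (inf_le_inf_left _ le_sup_right) hQP
      have hsyl := isSylIn_inf_normal S (Subgroup.centralizer (P : Set X))
      obtain ⟨N, hNn, hNc, hCN⟩ := exists_normal_pprime_of_central_sylow hsyl (by
        intro c hc
        rw [Subgroup.mem_centralizer_iff] at hc ⊢
        intro z hz
        exact hc z (hZ hz))
      have hN0 : N ≠ ⊥ := by
        intro h0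
        apply hcon
        rw [h0, sup_bot_eq] at hCN
        exact hCN.trans hZ
      have := hNn
      have hcard : Nat.card (⊤ : Subgroup (X ⧸ N)) < Nat.card X := by
        rw [Subgroup.card_top, ← Subgroup.index_eq_card, ← Subgroup.card_mul_index N]
        have h2 : 1 < Nat.card N := N.one_lt_card_iff_ne_bot.mpr hN0
        have h3 : 0 < N.index := Nat.pos_of_ne_zero Subgroup.index_ne_zero_of_finite
        nlinarith
      have hsylq : IsSylIn p ((S : Subgroup X).map (QuotientGroup.mk' N)) ⊤ := by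
        refine ⟨le_top, hSp.map _, ?_⟩
        rw [Subgroup.relIndex_top_right]
        intro hdvd
        exact S.not_dvd_index
          (dvd_trans hdvd (Subgroup.index_map_dvd _ (QuotientGroup.mk'_surjective N)))
      have hfq := FCSF.of_controls (isConjugacyFunctor_indSet h𝓦 (X ⧸ N)) (hquot N ⊤ hcard) hsylq
      have hlift := fcsf_lift_pprime h𝓦 S N hNc hfq
      exact fun x hx B hB hxB => hlift B x hx hB hxB
    · have hSQ : (S : Subgroup X) ≤ Subgroup.normalizer
          (((S : Subgroup X) ⊓ (P ⊔ Subgroup.centralizer (P : Set X)) : Subgroup X) : Set X) := by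
        intro s hs
        apply cj_eq_self_iff.mp
        rw [cj_inf, cj_eq_self_of_mem hs, cj_normal]
      refine adm_reduce S hR (P ⊔ Subgroup.centralizer (P : Set X)) (hG1 _ hNQ hSQ) ?_
      rw [hSK]
      exact hG1 _ hSC le_sup_left

/-- The inductive step of the section theorem for strong fusion. -/
theorem fcsf_step [Finite X] (h𝓦 : ∀ W ∈ 𝓦, IsCharPFunctor.{u} p W)
    (hA : Subgroup.centralizer ((pCore p X : Subgroup X) : Set X) ≤ pCore p X →
      FamilyControlsStrongFusionIn p (indSet 𝓦 X) ⊤)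
    (hsub : ∀ H : Subgroup X, H ≠ ⊤ → FamilyControlsStrongFusionIn p (indSet 𝓦 X) H)
    (hquot : ∀ (N : Subgroup X) [N.Normal] (H' : Subgroup (X ⧸ N)), Nat.card H' < Nat.card X →
      FamilyControlsStrongFusionIn p (indSet 𝓦 (X ⧸ N)) H') :
    FamilyControlsStrongFusionIn p (indSet 𝓦 X) ⊤ := by
  by_cases hcon : Subgroup.centralizer ((pCore p X : Subgroup X) : Set X) ≤ pCore p X
  · exact hA hcon
  obtain ⟨S⟩ : Nonempty (Sylow p X) := inferInstance
  have := pCore_normal p X
  exact familyControls_of_FCSF (sylow_isSylIn_top S)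
    (fcsf_step_aux h𝓦 S (pCore p X) (pCore_le_sylow S) (fun U hU hUp => le_pCore hU hUp)
      hcon hsub hquot)

end

/-- Transport of control of strong fusion along an injective homomorphism. -/
theorem familyControlsStrongFusionIn_map {p : ℕ} [Fact p.Prime]
    {𝓦 : Set (∀ (Q : Type u) [Group Q], Subgroup Q)} (h𝓦 : ∀ W ∈ 𝓦, IsCharPFunctor.{u} p W)
    {Y X : Type u} [Group Y] [Group X] [Finite Y] (f : Y →* X) (hf : Function.Injective f)
    (h : FamilyControlsStrongFusionIn p (indSet 𝓦 Y) ⊤) :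
    FamilyControlsStrongFusionIn p (indSet 𝓦 X) f.range := by
  obtain ⟨T, -, hT, hidx, hctl⟩ := h
  refine ⟨T.map f, Subgroup.map_le_range f T, hT.map f, ?_, ?_⟩
  · rw [MonoidHom.range_eq_map, Subgroup.relIndex_map_map_of_injective T ⊤ hf]
    exact hidx
  · intro A h hh hA hhA
    obtain ⟨y, rfl⟩ := hh
    have hA' : {a : Y | a ∈ T ∧ f a ∈ A} ⊆ (T : Set Y) := fun a ha => ha.1
    have hyA' : (fun a => y * a * y⁻¹) '' {a : Y | a ∈ T ∧ f a ∈ A} ⊆ (T : Set Y) := by
      rintro _ ⟨a, ha, rfl⟩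
      obtain ⟨t, ht, hft⟩ := hhA ⟨f a, ha.2, rfl⟩
      have h1 : t = y * a * y⁻¹ := hf (by rw [hft]; simp)
      show y * a * y⁻¹ ∈ T
      rw [← h1]
      exact ht
    obtain ⟨n, c, h0, hstep, hall, hlast⟩ := hctl _ y (Subgroup.mem_top y) hA' hyA'
    refine ⟨n, fun i => f (c i), by show f (c 0) = 1; rw [h0, map_one], ?_, ?_, ?_⟩
    · intro i
      obtain ⟨_, ⟨W, hW, rfl⟩, -, hn⟩ := hstep i
      refine ⟨_, ⟨W, hW, rfl⟩, ?_, ?_⟩
      · exact ⟨c i.succ * (c i.castSucc)⁻¹, by rw [map_mul, map_inv]⟩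
      · have h2 := map_mem_normalizer f hn
        rw [map_mul, map_inv] at h2
        show f (c i.succ) * (f (c i.castSucc))⁻¹ ∈ Subgroup.normalizer
          ((inducedFunctor W (T.map f) : Subgroup X) : Set X)
        rw [← ind_map (h𝓦 W hW) f T hT hf.injOn]
        exact h2
    · intro i
      rintro _ ⟨a, ha, rfl⟩
      obtain ⟨t, ht, rfl⟩ := hA ha
      have h3 := hall i ⟨t, ⟨ht, ha⟩, rfl⟩
      exact ⟨_, h3, by simp⟩
    · intro a ha
      obtain ⟨t, ht, rfl⟩ := hA ha
      have h3 := hlast t ⟨ht, ha⟩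
      have h4 := congrArg f h3
      simpa only [map_mul, map_inv] using h4

/-- **Section theorem for strong fusion.** Let `𝒞` be a class of groups closed under subgroups and
quotients. If the family controls strong fusion in every finite member `X` of `𝒞` with
`C_X(O_p(X)) ≤ O_p(X)` in which it controls strong fusion in all smaller members, then it controls
strong fusion in every finite member. -/
theorem secFusion {p : ℕ} [Fact p.Prime] {𝓦 : Set (∀ (Q : Type u) [Group Q], Subgroup Q)}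
    (h𝓦 : ∀ W ∈ 𝓦, IsCharPFunctor.{u} p W)
    (𝒞 : ∀ (X : Type u) [Group X], Prop)
    (hsub : ∀ (X : Type u) [Group X] (H : Subgroup X), 𝒞 X → 𝒞 ↥H)
    (hquot : ∀ (X : Type u) [Group X] (N : Subgroup X) [N.Normal], 𝒞 X → 𝒞 (X ⧸ N))
    (hloc : ∀ (X : Type u) [Group X] [Finite X], 𝒞 X →
      Subgroup.centralizer ((pCore p X : Subgroup X) : Set X) ≤ pCore p X →
      (∀ (Y : Type u) [Group Y] [Finite Y], 𝒞 Y → Nat.card Y < Nat.card X →
        FamilyControlsStrongFusionIn p (indSet 𝓦 Y) ⊤) →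
      FamilyControlsStrongFusionIn p (indSet 𝓦 X) ⊤) :
    ∀ (X : Type u) [Group X] [Finite X], 𝒞 X →
      FamilyControlsStrongFusionIn p (indSet 𝓦 X) ⊤ := by
  intro X _ _ hX
  generalize hn : Nat.card X = n
  induction n using Nat.strong_induction_on generalizing X with
  | _ n ih =>
  subst hn
  have ih' : ∀ (Y : Type u) [Group Y] [Finite Y], 𝒞 Y → Nat.card Y < Nat.card X →
      FamilyControlsStrongFusionIn p (indSet 𝓦 Y) ⊤ :=
    fun Y _ _ hY hlt => ih (Nat.card Y) hlt Y hY rfl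
  apply fcsf_step h𝓦
  · intro hcon
    exact hloc X hX hcon ih'
  · intro H hH
    have hlt : Nat.card H < Nat.card X := by
      have h2 : Nat.card H < Nat.card (⊤ : Subgroup X) :=
        card_lt_card_of_lt (lt_top_iff_ne_top.mpr hH)
      rwa [Subgroup.card_top] at h2
    have h1 := familyControlsStrongFusionIn_map h𝓦 H.subtype H.subtype_injective
      (ih' ↥H (hsub X H hX) hlt)
    rwa [Subgroup.range_subtype] at h1
  · intro N _ H' hcard
    have h1 := familyControlsStrongFusionIn_map h𝓦 H'.subtype H'.subtype_injective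
      (ih' ↥H' (hsub _ H' (hquot X N hX)) hcard)
    rwa [Subgroup.range_subtype] at h1

/-- **Section theorem for strong fusion, one functor.** If `W(T)` is normal in every finite member
`X` of `𝒞` with `C_X(O_p(X)) ≤ O_p(X)` (for some Sylow `p`-subgroup `T` of `X`), then `W(T)`
controls strong fusion in every finite member `X` of `𝒞`, for every Sylow `p`-subgroup `T`. -/
theorem controlsStrongFusion_of_normal_sections {p : ℕ} [Fact p.Prime]
    {W : ∀ (Q : Type u) [Group Q], Subgroup Q} (hW : IsCharPFunctor.{u} p W)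
    (𝒞 : ∀ (X : Type u) [Group X], Prop)
    (hsub : ∀ (X : Type u) [Group X] (H : Subgroup X), 𝒞 X → 𝒞 ↥H)
    (hquot : ∀ (X : Type u) [Group X] (N : Subgroup X) [N.Normal], 𝒞 X → 𝒞 (X ⧸ N))
    (hloc : ∀ (X : Type u) [Group X] [Finite X], 𝒞 X →
      Subgroup.centralizer ((pCore p X : Subgroup X) : Set X) ≤ pCore p X →
      ∃ T : Sylow p X, (inducedFunctor W (T : Subgroup X)).Normal) :
    ∀ (X : Type u) [Group X] [Finite X], 𝒞 X → ∀ T : Sylow p X,
      ControlsStrongFusion p (inducedFunctor W (T : Subgroup X)) := by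
  have h𝓦 : ∀ W' ∈ ({W} : Set (∀ (Q : Type u) [Group Q], Subgroup Q)),
      IsCharPFunctor.{u} p W' := by
    intro W' hW'
    rw [Set.mem_singleton_iff] at hW'
    rw [hW']
    exact hW
  have key := secFusion h𝓦 𝒞 hsub hquot (by
    intro X _ _ hX hcon _
    obtain ⟨T, hT⟩ := hloc X hX hcon
    apply familyControls_of_FCSF (sylow_isSylIn_top T)
    intro B x _ hB hxB
    refine ⟨x, ?_, fun _ _ => rfl⟩
    have h1 := Reach.step (K := stepSet (indSet {W} X) ⊤ (T : Subgroup X))
      (T := (T : Subgroup X)) (B := B) 1 x (Reach.one hB)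
      ⟨_, ⟨W, rfl, rfl⟩, Subgroup.mem_top _, by
        rw [Subgroup.normalizer_eq_top]; exact Subgroup.mem_top _⟩
      (by rw [mul_one]; exact hxB)
    rwa [mul_one] at h1)
  intro X _ _ hX T
  have hf : FCSF (indSet {W} X) ⊤ (T : Subgroup X) :=
    FCSF.of_controls (isConjugacyFunctor_indSet h𝓦 X) (key X hX) (sylow_isSylIn_top T)
  refine ⟨T, ind_le _, fun A hA => ⟨hA, fun g hg => ?_⟩⟩
  have h1 : Subgroup.closure A ≤ (T : Subgroup X) := (Subgroup.closure_le _).mpr hA
  have h2 : cj g (Subgroup.closure A) ≤ (T : Subgroup X) := by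
    show (Subgroup.closure A).map (MulAut.conj g).toMonoidHom ≤ _
    rw [MonoidHom.map_closure, Subgroup.closure_le]
    rintro _ ⟨a, ha, rfl⟩
    exact hg ⟨a, ha, rfl⟩
  obtain ⟨c, hc, hca⟩ := hf (Subgroup.closure A) g (Subgroup.mem_top g) h1 h2
  refine ⟨c, hc.mem (H := Subgroup.normalizer
    ((inducedFunctor W (T : Subgroup X) : Subgroup X) : Set X)) ?_,
    fun a ha => (hca a (Subgroup.subset_closure ha)).symm⟩
  rintro k ⟨_, ⟨W', hW', rfl⟩, hk⟩
  rw [Set.mem_singleton_iff] at hW'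
  subst hW'
  exact hk.2

/-- If `X = N(W₁(T)) N(W₂(T))` for a Sylow `p`-subgroup `T`, the pair `{W₁, W₂}` controls strong
fusion in `X`. -/
theorem fcsf_of_factorization {p : ℕ} [Fact p.Prime] {X : Type u} [Group X] [Finite X]
    {W₁ W₂ : ∀ (Q : Type u) [Group Q], Subgroup Q} (hW₁ : IsCharPFunctor.{u} p W₁)
    (hW₂ : IsCharPFunctor.{u} p W₂) (T : Sylow p X)
    (hfac : ∀ x : X, ∃ a ∈ Subgroup.normalizer
        ((inducedFunctor W₁ (T : Subgroup X) : Subgroup X) : Set X),
      ∃ b ∈ Subgroup.normalizer ((inducedFunctor W₂ (T : Subgroup X) : Subgroup X) : Set X),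
        x = a * b) :
    FCSF (indSet {W₁, W₂} X) ⊤ (T : Subgroup X) := by
  have hT1 : (T : Subgroup X) ≤ Subgroup.normalizer
      ((inducedFunctor W₁ (T : Subgroup X) : Subgroup X) : Set X) :=
    fun s hs => cfun_normalizer_le (isConjugacyFunctor_ind hW₁ X) T.2 (Subgroup.le_normalizer hs)
  have hT2 : (T : Subgroup X) ≤ Subgroup.normalizer
      ((inducedFunctor W₂ (T : Subgroup X) : Subgroup X) : Set X) :=
    fun s hs => cfun_normalizer_le (isConjugacyFunctor_ind hW₂ X) T.2 (Subgroup.le_normalizer hs)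
  intro B x _ hB hxB
  obtain ⟨a, ha, b, hb, rfl⟩ := hfac x
  have hD2 : cj b B ≤ Subgroup.normalizer
      ((inducedFunctor W₂ (T : Subgroup X) : Subgroup X) : Set X) := by
    have h3 := cj_le_cj (g := b) |>.mpr (hB.trans hT2)
    rwa [cj_eq_self_of_mem hb] at h3
  have hD1 : cj b B ≤ Subgroup.normalizer
      ((inducedFunctor W₁ (T : Subgroup X) : Subgroup X) : Set X) := by
    have h3 : cj a⁻¹ (cj (a * b) B) ≤ cj a⁻¹ (Subgroup.normalizer
        ((inducedFunctor W₁ (T : Subgroup X) : Subgroup X) : Set X)) :=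
      cj_le_cj.mpr (hxB.trans hT1)
    rwa [cj_eq_self_of_mem (inv_mem ha), ← cj_mul, inv_mul_cancel_left] at h3
  have hTL : (T : Subgroup X) ≤ Subgroup.normalizer
      ((inducedFunctor W₁ (T : Subgroup X) : Subgroup X) : Set X) ⊓ Subgroup.normalizer
      ((inducedFunctor W₂ (T : Subgroup X) : Subgroup X) : Set X) := le_inf hT1 hT2
  have hsyl : IsSylIn p (T : Subgroup X) (Subgroup.normalizer
      ((inducedFunctor W₁ (T : Subgroup X) : Subgroup X) : Set X) ⊓ Subgroup.normalizer
      ((inducedFunctor W₂ (T : Subgroup X) : Subgroup X) : Set X)) :=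
    ⟨hTL, T.2, sylow_not_dvd_relIndex T hTL⟩
  obtain ⟨d, hd, hdD⟩ := hsyl.exists_cj_le (isPGroup_cj (T.2.to_le hB)) (le_inf hD1 hD2)
  have r1 : Reach (stepSet (indSet {W₁, W₂} X) ⊤ (T : Subgroup X)) (T : Subgroup X) B
      (d * b * 1) := by
    refine Reach.step _ _ (Reach.one hB)
      ⟨_, ⟨W₂, Set.mem_insert_of_mem _ rfl, rfl⟩, Subgroup.mem_top _,
        Subgroup.mul_mem _ hd.2 hb⟩ ?_
    rw [mul_one, cj_mul]
    exact hdD
  have r2 : Reach (stepSet (indSet {W₁, W₂} X) ⊤ (T : Subgroup X)) (T : Subgroup X) B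
      (a * d⁻¹ * (d * b * 1)) := by
    refine Reach.step _ _ r1
      ⟨_, ⟨W₁, Set.mem_insert _ _, rfl⟩, Subgroup.mem_top _,
        Subgroup.mul_mem _ ha (Subgroup.inv_mem _ hd.1)⟩ ?_
    have e : a * d⁻¹ * (d * b * 1) = a * b := by group
    rw [e]
    exact hxB
  refine ⟨_, r2, fun z _ => ?_⟩
  have e : a * d⁻¹ * (d * b * 1) = a * b := by group
  rw [e]

end Cfsg.Agent.Lib.helper39
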