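import Mathlib
import Cfsg.Prelude.Def_Classical
import Cfsg.Prelude.Def_GeometricClasses
import Cfsg.Agent.Lib.helper49.WittIso
import Cfsg.Agent.Lib.helper53.SfoBINREP

/-!
S5977 / S5978 block [A] (helper59), leaf KAPPAJ (race copy by helper39): a self-adjoint square
root of `δ` anticommuting with an isometry `x` with `x * x = -1`, built on the basis
`e_i, x e_i`.
-/

set_option autoImplicit false

namespace Cfsg.Agent.Lib.helper59.Sfk

open Matrix Cfsg.Geo

theorem h39_sfk_kappa_neg {F : Type*} [Field F] [Fintype F] {ι : Type} [Fintype ι] [DecidableEq ι]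
    (h2 : (2 : F) ≠ 0) (Q : QuadraticForm F (ι → F))
    (hQ : (QuadraticMap.polarBilin Q).Nondegenerate) (δ : F)
    (x : GL ι F) (hx : x ∈ Cfsg.isometryGroup F (⇑Q))
    (hxx : (x : Matrix ι ι F) * (x : Matrix ι ι F) = -1)
    (m : ℕ) (e : Fin m → (ι → F))
    (hli : LinearIndependent F (Sum.elim e (fun i => (x : Matrix ι ι F) *ᵥ e i)))
    (hcard : Fintype.card ι = 2 * m)
    (ho1 : ∀ i j, i ≠ j → QuadraticMap.polar (⇑Q) (e i) (e j) = 0)
    (ho2 : ∀ i j, QuadraticMap.polar (⇑Q) (e i) ((x : Matrix ι ι F) *ᵥ e j) = 0)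
    (hne : ∀ i, Q (e i) ≠ 0) :
    ∃ (κ' : Matrix ι ι F) (α β : F), κ' * κ' = δ • (1 : Matrix ι ι F) ∧
      (∀ u v : ι → F, QuadraticMap.polar (⇑Q) (κ' *ᵥ u) v = QuadraticMap.polar (⇑Q) u (κ' *ᵥ v)) ∧
      (x : Matrix ι ι F) * κ' = -(κ' * (x : Matrix ι ι F)) ∧
      ∀ i, κ' *ᵥ e i = α • e i + β • ((x : Matrix ι ι F) *ᵥ e i) := by
  classical
  obtain ⟨α, β, hαβ⟩ := Cfsg.Agent.Lib.helper24.sfo_bin_rep h2 1 1 δ one_ne_zero one_ne_zero
  have hαβ' : α * α + β * β = δ := by
    rw [← hαβ]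
    ring
  have hQx0 : ∀ u, Q ((x : Matrix ι ι F) *ᵥ u) = Q u := fun u => hx u u
  obtain ⟨X, hX⟩ : ∃ X : Matrix ι ι F, X = (x : Matrix ι ι F) := ⟨_, rfl⟩
  rw [← hX] at hxx hli ho2 hQx0 ⊢
  have hQx : ∀ u, Q (X *ᵥ u) = Q u := hQx0
  have hBx : ∀ u v, QuadraticMap.polar (⇑Q) (X *ᵥ u) (X *ᵥ v) = QuadraticMap.polar (⇑Q) u v := by
    intro u v
    simp only [QuadraticMap.polar]
    rw [← Matrix.mulVec_add, hQx, hQx, hQx]
  have hXX : ∀ u, X *ᵥ (X *ᵥ u) = -u := by
    intro u
    rw [Matrix.mulVec_mulVec, hxx, Matrix.neg_mulVec, Matrix.one_mulVec]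
  have hfr : Fintype.card (Fin m ⊕ Fin m) = Module.finrank F (ι → F) := by
    rw [Module.finrank_fintype_fun_eq_card, hcard, Fintype.card_sum, Fintype.card_fin]
    ring
  let b : Module.Basis (Fin m ⊕ Fin m) F (ι → F) :=
    Module.Basis.mk hli (hli.span_eq_top_of_card_eq_finrank' hfr).ge
  have hb : ⇑b = Sum.elim e (fun i => X *ᵥ e i) := Module.Basis.coe_mk _ _
  let T : (ι → F) →ₗ[F] (ι → F) := b.constr F
    (Sum.elim (fun i => α • e i + β • (X *ᵥ e i)) (fun i => β • e i - α • (X *ᵥ e i)))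
  have hTl : ∀ i, T (e i) = α • e i + β • (X *ᵥ e i) := by
    intro i
    have h := b.constr_basis F
      (Sum.elim (fun i => α • e i + β • (X *ᵥ e i)) (fun i => β • e i - α • (X *ᵥ e i)))
      (Sum.inl i)
    rw [hb] at h
    exact h
  have hTr : ∀ i, T (X *ᵥ e i) = β • e i - α • (X *ᵥ e i) := by
    intro i
    have h := b.constr_basis F
      (Sum.elim (fun i => α • e i + β • (X *ᵥ e i)) (fun i => β • e i - α • (X *ᵥ e i)))
      (Sum.inr i)
    rw [hb] at h
    exact h
  have hXl : ∀ u, Matrix.toLin' X u = X *ᵥ u := fun u => Matrix.toLin'_apply X u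
  have hTT : T ∘ₗ T = δ • LinearMap.id := by
    apply b.ext
    intro k
    rw [hb]
    rcases k with i | i
    · simp only [Sum.elim_inl, LinearMap.comp_apply, LinearMap.smul_apply, LinearMap.id_apply]
      rw [hTl, map_add, map_smul, map_smul, hTl, hTr, ← hαβ']
      module
    · simp only [Sum.elim_inr, LinearMap.comp_apply, LinearMap.smul_apply, LinearMap.id_apply]
      rw [hTr, map_sub, map_smul, map_smul, hTl, hTr, ← hαβ']
      module
  have hXT : Matrix.toLin' X ∘ₗ T = -(T ∘ₗ Matrix.toLin' X) := by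
    apply b.ext
    intro k
    rw [hb]
    rcases k with i | i
    · simp only [Sum.elim_inl, LinearMap.comp_apply, LinearMap.neg_apply, hXl]
      rw [hTl, hTr, Matrix.mulVec_add, Matrix.mulVec_smul, Matrix.mulVec_smul, hXX]
      module
    · simp only [Sum.elim_inr, LinearMap.comp_apply, LinearMap.neg_apply, hXl]
      rw [hTr, hXX, map_neg, hTl, Matrix.mulVec_sub, Matrix.mulVec_smul, Matrix.mulVec_smul, hXX]
      module
  have hc : ∀ i j, QuadraticMap.polar (⇑Q) (X *ᵥ e i) (e j) = 0 := fun i j => by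
    rw [QuadraticMap.polar_comm]
    exact ho2 j i
  have hsa : LinearMap.BilinForm.compLeft (QuadraticMap.polarBilin Q) T
      = LinearMap.BilinForm.compRight (QuadraticMap.polarBilin Q) T := by
    apply LinearMap.BilinForm.ext_basis b
    intro k l
    rw [LinearMap.BilinForm.compLeft_apply, LinearMap.BilinForm.compRight_apply, hb]
    simp only [QuadraticMap.polarBilin_apply_apply]
    rcases k with i | i <;> rcases l with j | j <;>
      simp only [Sum.elim_inl, Sum.elim_inr, hTl, hTr, QuadraticMap.polar_add_left,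
        QuadraticMap.polar_add_right, QuadraticMap.polar_sub_left, QuadraticMap.polar_sub_right,
        QuadraticMap.polar_smul_left, QuadraticMap.polar_smul_right, ho2, hc, hBx, smul_eq_mul,
        mul_zero, add_zero, zero_add, sub_zero, zero_sub]
  refine ⟨LinearMap.toMatrix' T, α, β, ?_, ?_, ?_, ?_⟩
  · rw [← LinearMap.toMatrix'_comp, hTT, map_smul, LinearMap.toMatrix'_id]
  · intro u v
    have h := LinearMap.congr_fun (LinearMap.congr_fun hsa u) v
    rw [LinearMap.BilinForm.compLeft_apply, LinearMap.BilinForm.compRight_apply] at h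
    simp only [QuadraticMap.polarBilin_apply_apply] at h
    rw [LinearMap.toMatrix'_mulVec, LinearMap.toMatrix'_mulVec]
    exact h
  · have e1 : X * LinearMap.toMatrix' T = LinearMap.toMatrix' (Matrix.toLin' X ∘ₗ T) := by
      rw [LinearMap.toMatrix'_comp, LinearMap.toMatrix'_toLin']
    rw [e1, hXT, map_neg, LinearMap.toMatrix'_comp, LinearMap.toMatrix'_toLin']
  · intro i
    rw [LinearMap.toMatrix'_mulVec]
    exact hTl i

end Cfsg.Agent.Lib.helper59.Sfk
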