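import Mathlib
import Cfsg.Agent.Lib.helper24.SfoDefs
import Cfsg.Agent.Lib.helper39.SfuORDScore

/-!
# S5981, piece OSTAB (race copy): the stabiliser of an anisotropic vector
-/

set_option autoImplicit false

namespace Cfsg.Agent.Lib.helper24

open Module Matrix Cfsg.Geo

/-- Conjugating by a matrix that transports one one-argument form to another transports
stabilisers. -/
theorem h39_sfo_conj_stab_card {F : Type*} [Field F] {n : ℕ}
    (Q Qs : (Fin n → F) → F) (E : GL (Fin n) F)
    (hE : ∀ u, Q ((E : Matrix (Fin n) (Fin n) F) *ᵥ u) = Qs u) (v₀ : Fin n → F) :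
    Nat.card {g : GL (Fin n) F // g ∈ sfoIsom Q ∧
      (g : Matrix (Fin n) (Fin n) F) *ᵥ ((E : Matrix (Fin n) (Fin n) F) *ᵥ v₀) =
        (E : Matrix (Fin n) (Fin n) F) *ᵥ v₀} =
    Nat.card {g : GL (Fin n) F // g ∈ sfoIsom Qs ∧ (g : Matrix (Fin n) (Fin n) F) *ᵥ v₀ = v₀} := by
  have key : ∀ (g : GL (Fin n) F) (u : Fin n → F),
      (E : Matrix (Fin n) (Fin n) F) *ᵥ (((E⁻¹ * g * E : GL (Fin n) F) : Matrix (Fin n) (Fin n) F) *ᵥ u) =
        (g : Matrix (Fin n) (Fin n) F) *ᵥ ((E : Matrix (Fin n) (Fin n) F) *ᵥ u) := by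
    intro g u
    rw [Matrix.mulVec_mulVec, Matrix.mulVec_mulVec, ← Units.val_mul, ← Units.val_mul]
    congr 2
    group
  have hEE : ∀ x : Fin n → F, (E : Matrix (Fin n) (Fin n) F) *ᵥ
      (((E⁻¹ : GL (Fin n) F) : Matrix (Fin n) (Fin n) F) *ᵥ x) = x := by
    intro x
    rw [Matrix.mulVec_mulVec, Units.mul_inv, Matrix.one_mulVec]
  have hEinj : Function.Injective (fun x : Fin n → F => (E : Matrix (Fin n) (Fin n) F) *ᵥ x) := by
    intro x y hxy
    have h := congrArg (fun z => ((E⁻¹ : GL (Fin n) F) : Matrix (Fin n) (Fin n) F) *ᵥ z) hxy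
    simpa [Matrix.mulVec_mulVec, Units.inv_mul] using h
  refine Nat.card_congr (Equiv.subtypeEquiv (MulAut.conj (E⁻¹ : GL (Fin n) F)).toEquiv ?_)
  intro g
  have hconj : (MulAut.conj (E⁻¹ : GL (Fin n) F)).toEquiv g = E⁻¹ * g * E := by
    simp
  rw [hconj]
  constructor
  · rintro ⟨hg, hgv⟩
    refine ⟨?_, ?_⟩
    · intro u
      rw [← hE, key, hg, hE]
    · apply hEinj
      change (E : Matrix (Fin n) (Fin n) F) *ᵥ _ = (E : Matrix (Fin n) (Fin n) F) *ᵥ v₀
      rw [key, hgv]
  · rintro ⟨hg, hgv⟩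
    refine ⟨?_, ?_⟩
    · intro x
      have h := hg (((E⁻¹ : GL (Fin n) F) : Matrix (Fin n) (Fin n) F) *ᵥ x)
      rw [← hE, ← hE, key, hEE] at h
      exact h
    · rw [← key, hgv]

/-- A matrix preserving a form `Q'(u') + d u_last²` and fixing the last basis vector is a block
extension. -/
theorem h39_sfo_eq_ext {F : Type*} [Field F] {m : ℕ} (h2 : (2 : F) ≠ 0)
    (Qs : (Fin (m + 1) → F) → F) (Q' : (Fin m → F) → F) (d : F) (hd : d ≠ 0)
    (hform : ∀ u, Qs u = Q' (fun k => u (Fin.castSucc k)) + d * u (Fin.last m) ^ 2)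
    (M : Matrix (Fin (m + 1)) (Fin (m + 1)) F)
    (hM : ∀ u, Qs (M *ᵥ u) = Qs u)
    (hfix : M *ᵥ Pi.single (Fin.last m) 1 = Pi.single (Fin.last m) 1) :
    M = h39_ext (M.submatrix Fin.castSucc Fin.castSucc) := by
  have hcol : ∀ i, M i (Fin.last m) = (Pi.single (Fin.last m) (1 : F) : Fin (m + 1) → F) i := by
    intro i
    rw [← h39_mulVec_single M i (Fin.last m), hfix]
  have hlast : ∀ u : Fin (m + 1) → F, (M *ᵥ u) (Fin.last m) = u (Fin.last m) := by
    intro u
    have h1 := hM u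
    have h3 := hM (u + Pi.single (Fin.last m) 1)
    rw [Matrix.mulVec_add, hfix, hform, hform (u + Pi.single (Fin.last m) 1)] at h3
    rw [hform, hform u] at h1
    have e1 : (fun k : Fin m => (M *ᵥ u + (Pi.single (Fin.last m) (1 : F) : Fin (m + 1) → F))
        (Fin.castSucc k)) = (fun k => (M *ᵥ u) (Fin.castSucc k)) := by
      funext k; simp
    have e2 : (fun k : Fin m => (u + (Pi.single (Fin.last m) (1 : F) : Fin (m + 1) → F))
        (Fin.castSucc k)) = (fun k => u (Fin.castSucc k)) := by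
      funext k; simp
    rw [e1, e2] at h3
    simp only [Pi.add_apply, Pi.single_eq_same] at h3
    have h4 : d * (2 * ((M *ᵥ u) (Fin.last m) - u (Fin.last m))) = 0 := by
      linear_combination h3 - h1
    have h5 : (M *ᵥ u) (Fin.last m) - u (Fin.last m) = 0 := by
      rcases mul_eq_zero.1 h4 with h | h
      · exact absurd h hd
      · rcases mul_eq_zero.1 h with h' | h'
        · exact absurd h' h2
        · exact h'
    exact sub_eq_zero.mp h5
  have hrow : ∀ j : Fin m, M (Fin.last m) (Fin.castSucc j) = 0 := by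
    intro j
    have h := hlast (Pi.single (Fin.castSucc j) 1)
    rw [h39_mulVec_single] at h
    rw [h]
    simp
  ext i j
  refine Fin.lastCases ?_ (fun i' => ?_) i <;> refine Fin.lastCases ?_ (fun j' => ?_) j
  · rw [h39_ext_ll, hcol]; simp
  · rw [h39_ext_lc, hrow]
  · rw [h39_ext_cl, hcol]; simp
  · rw [h39_ext_cc]; rfl

/-- Stabiliser of the last basis vector in the isometry group of `Q'(u') + d u_last²`. -/
theorem h39_sfo_std_stab_card {F : Type*} [Field F] {m : ℕ} (h2 : (2 : F) ≠ 0)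
    (Qs : (Fin (m + 1) → F) → F) (Q' : (Fin m → F) → F) (d : F) (hd : d ≠ 0)
    (hform : ∀ u, Qs u = Q' (fun k => u (Fin.castSucc k)) + d * u (Fin.last m) ^ 2) :
    Nat.card {g : GL (Fin (m + 1)) F // g ∈ sfoIsom Qs ∧
      (g : Matrix (Fin (m + 1)) (Fin (m + 1)) F) *ᵥ Pi.single (Fin.last m) 1 =
        Pi.single (Fin.last m) 1} = Nat.card (sfoIsom Q') := by
  symm
  have hmem : ∀ h : GL (Fin m) F, h ∈ sfoIsom Q' →
      Units.map (h39_extHom F m) h ∈ sfoIsom Qs := by
    intro h hh u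
    change Qs (h39_ext (h : Matrix (Fin m) (Fin m) F) *ᵥ u) = _
    rw [hform, hform u, h39_ext_mulVec_l]
    congr 1
    have e1 : (fun k => (h39_ext (h : Matrix (Fin m) (Fin m) F) *ᵥ u) (Fin.castSucc k)) =
        (h : Matrix (Fin m) (Fin m) F) *ᵥ (fun k => u (Fin.castSucc k)) := by
      funext k; rw [h39_ext_mulVec_c]
    rw [e1]
    exact hh _
  have hfix : ∀ h : GL (Fin m) F,
      ((Units.map (h39_extHom F m) h : GL (Fin (m + 1)) F) : Matrix (Fin (m + 1)) (Fin (m + 1)) F) *ᵥ
        Pi.single (Fin.last m) 1 = Pi.single (Fin.last m) 1 := by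
    intro h
    change h39_ext (h : Matrix (Fin m) (Fin m) F) *ᵥ Pi.single (Fin.last m) 1 = _
    funext i
    refine Fin.lastCases ?_ (fun i' => ?_) i
    · rw [h39_ext_mulVec_l]
    · rw [h39_ext_mulVec_c]
      have : (fun k : Fin m => (Pi.single (Fin.last m) (1 : F) : Fin (m + 1) → F) (Fin.castSucc k)) = 0 := by
        funext k; simp
      rw [this]; simp
  refine Nat.card_congr (Equiv.ofBijective
    (fun h : sfoIsom Q' =>
      (⟨Units.map (h39_extHom F m) h.1, hmem h.1 h.2, hfix h.1⟩ :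
        {g : GL (Fin (m + 1)) F // g ∈ sfoIsom Qs ∧
          (g : Matrix (Fin (m + 1)) (Fin (m + 1)) F) *ᵥ Pi.single (Fin.last m) 1 =
            Pi.single (Fin.last m) 1})) ⟨?_, ?_⟩)
  · intro h₁ h₂ h12
    have h3 : (Units.map (h39_extHom F m) h₁.1 : GL (Fin (m + 1)) F) =
        Units.map (h39_extHom F m) h₂.1 := congrArg Subtype.val h12
    have h4 : h39_ext (h₁.1 : Matrix (Fin m) (Fin m) F) = h39_ext (h₂.1 : Matrix (Fin m) (Fin m) F) :=
      congrArg Units.val h3
    exact Subtype.ext (Units.ext (h39_ext_inj h4))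
  · rintro ⟨g, hg, hgfix⟩
    have hginv : g⁻¹ ∈ sfoIsom Qs := inv_mem hg
    have hginvfix : ((g⁻¹ : GL (Fin (m + 1)) F) : Matrix (Fin (m + 1)) (Fin (m + 1)) F) *ᵥ
        Pi.single (Fin.last m) 1 = Pi.single (Fin.last m) 1 := by
      conv_lhs => rw [← hgfix]
      rw [Matrix.mulVec_mulVec, Units.inv_mul, Matrix.one_mulVec]
    have hA := h39_sfo_eq_ext h2 Qs Q' d hd hform (g : Matrix (Fin (m + 1)) (Fin (m + 1)) F) hg hgfix
    have hB := h39_sfo_eq_ext h2 Qs Q' d hd hform
      ((g⁻¹ : GL (Fin (m + 1)) F) : Matrix (Fin (m + 1)) (Fin (m + 1)) F) hginv hginvfix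
    set A := (g : Matrix (Fin (m + 1)) (Fin (m + 1)) F).submatrix Fin.castSucc Fin.castSucc with hAdef
    set B := ((g⁻¹ : GL (Fin (m + 1)) F) : Matrix (Fin (m + 1)) (Fin (m + 1)) F).submatrix
      Fin.castSucc Fin.castSucc with hBdef
    have hAB : A * B = 1 := by
      apply h39_ext_inj
      rw [h39_ext_mul, ← hA, ← hB, Units.mul_inv, h39_ext_one]
    have hBA : B * A = 1 := by
      apply h39_ext_inj
      rw [h39_ext_mul, ← hA, ← hB, Units.inv_mul, h39_ext_one]
    have hgeq : Units.map (h39_extHom F m) (⟨A, B, hAB, hBA⟩ : GL (Fin m) F) = g :=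
      Units.ext hA.symm
    have hhmem : (⟨A, B, hAB, hBA⟩ : GL (Fin m) F) ∈ sfoIsom Q' := by
      intro u'
      have h := hg (Fin.snoc (α := fun _ => F) u' 0)
      rw [hA, hform, hform (Fin.snoc (α := fun _ => F) u' 0), h39_ext_mulVec_l] at h
      have e1 : (fun k => (h39_ext A *ᵥ (Fin.snoc (α := fun _ => F) u' 0 : Fin (m + 1) → F))
          (Fin.castSucc k)) = A *ᵥ u' := by
        funext k; rw [h39_ext_mulVec_c]; simp
      rw [e1] at h
      simpa using h
    exact ⟨⟨⟨A, B, hAB, hBA⟩, hhmem⟩, Subtype.ext hgeq⟩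

/-- OSTAB (race copy of `sfo_isom_stab`). -/
theorem h39_sfo_isom_stab {F : Type*} [Field F] [Fintype F] {m : ℕ} (h2 : (2 : F) ≠ 0)
    (Q : (Fin (m + 1) → F) → F) (hQ : IsNondegenerateQuadraticForm Q) (v : Fin (m + 1) → F)
    (hv : Q v ≠ 0) :
    ∃ Q' : (Fin m → F) → F, IsNondegenerateQuadraticForm Q' ∧
      Nat.card {g : GL (Fin (m + 1)) F // g ∈ sfoIsom Q ∧
        (g : Matrix (Fin (m + 1)) (Fin (m + 1)) F) *ᵥ v = v} = Nat.card (sfoIsom Q') := by
  classical
  have hpb := hQ.polar_bilinear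
  have hQadd : ∀ a b, Q (a + b) = Q a + Q b + QuadraticMap.polar Q a b := by
    intro a b; unfold QuadraticMap.polar; ring
  have hpc : ∀ a b, QuadraticMap.polar Q a b = QuadraticMap.polar Q b a := by
    intro a b; unfold QuadraticMap.polar; rw [add_comm a b]; ring
  -- the functional `polar Q · v`
  let φ : (Fin (m + 1) → F) →ₗ[F] F :=
    { toFun := fun u => QuadraticMap.polar Q u v
      map_add' := fun x y => hpb.add_left x y v
      map_smul' := fun c x => by simpa using hpb.smul_left c x v }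
  have hφv : φ v ≠ 0 := by
    change QuadraticMap.polar Q v v ≠ 0
    have h1 : QuadraticMap.polar Q v v = 2 * Q v := by
      unfold QuadraticMap.polar
      have h3 : Q (v + v) = (2 : F) ^ 2 * Q v := by
        rw [← two_smul F v]; exact hQ.smul 2 v
      rw [h3]; ring
    rw [h1]
    exact mul_ne_zero h2 hv
  have hsurj : Function.Surjective φ := by
    intro t
    refine ⟨(t / φ v) • v, ?_⟩
    rw [map_smul, smul_eq_mul, div_mul_cancel₀ _ hφv]
  have hfin : Module.finrank F (LinearMap.ker φ) = m := by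
    have h1 := LinearMap.finrank_range_add_finrank_ker φ
    rw [LinearMap.range_eq_top.2 hsurj, finrank_top, Module.finrank_self, Module.finrank_fin_fun] at h1
    omega
  let bK : Basis (Fin m) F (LinearMap.ker φ) := Module.finBasisOfFinrankEq F (LinearMap.ker φ) hfin
  let w : Fin m → (Fin (m + 1) → F) := fun k => ((bK k : LinearMap.ker φ) : Fin (m + 1) → F)
  let L : (Fin m → F) →ₗ[F] (Fin (m + 1) → F) := Fintype.linearCombination F w
  have hLker : ∀ t : Fin m → F, L t = ((∑ k, t k • bK k : LinearMap.ker φ) : Fin (m + 1) → F) := by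
    intro t
    simp [L, w, Fintype.linearCombination_apply]
  have hφL : ∀ t : Fin m → F, QuadraticMap.polar Q (L t) v = 0 := by
    intro t
    rw [hLker]
    exact LinearMap.mem_ker.1 (∑ k, t k • bK k : LinearMap.ker φ).2
  have hLinj : ∀ t : Fin m → F, L t = 0 → t = 0 := by
    intro t ht
    rw [hLker] at ht
    have h1 : (∑ k, t k • bK k : LinearMap.ker φ) = 0 := Subtype.ext ht
    funext k
    exact Fintype.linearIndependent_iff.1 bK.linearIndependent t h1 k
  set E : Matrix (Fin (m + 1)) (Fin (m + 1)) F :=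
    Matrix.of fun i j => Fin.lastCases (v i) (fun j' => w j' i) j with hEdef
  have hEmv : ∀ u : Fin (m + 1) → F,
      E *ᵥ u = L (fun k => u (Fin.castSucc k)) + u (Fin.last m) • v := by
    intro u
    funext i
    simp [E, Matrix.mulVec, dotProduct, Fin.sum_univ_castSucc, L, Fintype.linearCombination_apply,
      mul_comm]
  have hinj : Function.Injective E.mulVec := by
    intro u u' huu
    have h0 : E *ᵥ (u - u') = 0 := by rw [Matrix.mulVec_sub, huu, sub_self]
    rw [hEmv] at h0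
    have h1 := congrArg φ h0
    rw [map_add, map_smul, map_zero] at h1
    have h1' : φ (L (fun k => (u - u') (Fin.castSucc k))) = 0 := hφL _
    rw [h1', zero_add, smul_eq_mul] at h1
    have hl : (u - u') (Fin.last m) = 0 := by
      rcases mul_eq_zero.1 h1 with h | h
      · exact h
      · exact absurd h hφv
    rw [hl, zero_smul, add_zero] at h0
    have ht := hLinj _ h0
    have : u - u' = 0 := by
      funext i
      refine Fin.lastCases ?_ (fun i' => ?_) i
      · exact hl
      · exact congrFun ht i'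
    exact sub_eq_zero.mp this
  have hunit : IsUnit E := Matrix.mulVec_injective_iff_isUnit.mp hinj
  obtain ⟨Eu, hEu⟩ := hunit
  have hvE : E *ᵥ (Pi.single (Fin.last m) 1) = v := by
    rw [hEmv]
    have : (fun k : Fin m => (Pi.single (Fin.last m) (1 : F) : Fin (m + 1) → F) (Fin.castSucc k)) = 0 := by
      funext k; simp
    rw [this, map_zero]
    simp
  -- the form on `F^m`
  refine ⟨fun t => Q (L t), ?_, ?_⟩
  · -- nondegenerate quadratic form
    have hpol : ∀ a b : Fin m → F, QuadraticMap.polar (fun t => Q (L t)) a b =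
        QuadraticMap.polar Q (L a) (L b) := by
      intro a b
      unfold QuadraticMap.polar
      simp only [map_add]
    refine ⟨?_, ⟨?_, ?_, ?_, ?_⟩, ?_⟩
    · intro c t
      rw [map_smul]; exact hQ.smul c (L t)
    · intro a b c
      rw [hpol, hpol, hpol, map_add]; exact hpb.add_left _ _ _
    · intro c a b
      rw [hpol, hpol, map_smul]; exact hpb.smul_left _ _ _
    · intro a b c
      rw [hpol, hpol, hpol, map_add]; exact hpb.add_right _ _ _
    · intro c a b
      rw [hpol, hpol, map_smul]; exact hpb.smul_right _ _ _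
    · intro t ht
      have hLt : L t ≠ 0 := fun h => ht (hLinj t h)
      obtain ⟨⟨y, hy⟩, -⟩ := hQ.nondegenerate (L t) hLt
      -- decompose y
      obtain ⟨s, hs⟩ : ∃ s : Fin (m + 1) → F, E *ᵥ s = y := by
        refine ⟨((Eu⁻¹ : GL (Fin (m + 1)) F) : Matrix (Fin (m + 1)) (Fin (m + 1)) F) *ᵥ y, ?_⟩
        rw [← hEu, Matrix.mulVec_mulVec, Units.mul_inv, Matrix.one_mulVec]
      rw [← hs, hEmv, hpb.add_left, hpb.smul_left, hpc v (L t), hφL, mul_zero, add_zero] at hy
      refine ⟨⟨fun k => s (Fin.castSucc k), ?_⟩, ⟨fun k => s (Fin.castSucc k), ?_⟩⟩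
      · rw [hpol]; exact hy
      · rw [hpol, hpc]; exact hy
  · -- the cardinality
    have hform : ∀ u : Fin (m + 1) → F, Q (E *ᵥ u) =
        (fun t => Q (L t)) (fun k => u (Fin.castSucc k)) + Q v * u (Fin.last m) ^ 2 := by
      intro u
      rw [hEmv, hQadd, hpb.smul_right, hφL, hQ.smul]
      ring
    have h1 := h39_sfo_conj_stab_card Q (fun u => Q (E *ᵥ u)) Eu (by intro u; rw [hEu])
      (Pi.single (Fin.last m) 1)
    rw [hEu, hvE] at h1
    rw [h1]
    exact h39_sfo_std_stab_card h2 (fun u => Q (E *ᵥ u)) (fun t => Q (L t)) (Q v) hv hform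

end Cfsg.Agent.Lib.helper24
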