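import Mathlib
import Cfsg.Agent.Lib.helper24.SfuDefs
import Cfsg.Agent.Lib.helper24.SubfE
import Cfsg.Agent.Lib.helper9.SfuSESQ
import Cfsg.Agent.Lib.helper12.SfuUPAIR

/-!
# S5982, piece U2B (race copy): involutions, odd characteristic, sufficiency
-/

set_option autoImplicit false

namespace Cfsg.Agent.Lib.helper24

open Module Matrix Cfsg.Geo

/-- U2B (race copy of `sfu_suff_two_odd`). -/
theorem h39_sfu_suff_two_odd {F : Type*} [Field F] [Fintype F] {n : ℕ} (hn : 0 < n) (q₀ : ℕ)
    (hcard : Fintype.card F = q₀ ^ 2) (f : (Fin n → F) → (Fin n → F) → F)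
    (hf : IsUnitaryFormPow q₀ f) (h2 : (2 : F) ≠ 0)
    (hv : padicValNat 2 n ≤ padicValNat 2 (Fintype.card F - 1))
    (x : Matrix (Fin n) (Fin n) F) (hdet : x.det = 1) (z : F)
    (hx : x ^ 2 = z • (1 : Matrix (Fin n) (Fin n) F)) : SfuConj f x := by
  classical
  have hz : x * x = z • (1 : Matrix (Fin n) (Fin n) F) := by rw [← pow_two]; exact hx
  haveI : NeZero n := ⟨by omega⟩
  have hoddq : Odd (Fintype.card F) := qe_two_ne_zero_iff_odd.1 h2
  have hz0 : z ≠ 0 := by
    rintro rfl
    rw [zero_smul] at hz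
    have h1 : x.det * x.det = 0 := by
      haveI : Nonempty (Fin n) := ⟨0⟩
      rw [← Matrix.det_mul, hz, Matrix.det_zero]
    rw [hdet, one_mul] at h1
    exact one_ne_zero h1
  have hsq : IsSquare z := by
    by_contra hns
    obtain ⟨m, hm, hdet'⟩ := qe_det_of_nonsquare x z hns hz
    rw [hdet] at hdet'
    have hzns : ¬ IsSquare (-z) := neg_nonsquare_of_card_sq _ hcard z hns
    have hm0 : m ≠ 0 := by omega
    have h5 := qe_val_le_of_nonsquare_pow_eq_one hoddq (-z) hzns m hm0 hdet'.symm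
    have h6 : padicValNat 2 n = padicValNat 2 m + 1 := by
      rw [hm, padicValNat.mul (by norm_num) hm0, padicValNat_self]
      ring
    omega
  obtain ⟨lam, hlam⟩ := hsq
  have hlam0 : lam ≠ 0 := by
    rintro rfl
    apply hz0
    rw [hlam, mul_zero]
  obtain ⟨b, δ, hδ, hxb⟩ := subf_basis_eigen h2 hn x lam hlam0 (by rw [← hlam]; exact hz)
  set K : Matrix (Fin n) (Fin n) F := Matrix.of fun i j => b j i with hKdef
  have hKmv : ∀ u : Fin n → F, K *ᵥ u = ∑ j, u j • b j := by
    intro u
    funext i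
    simp [K, Matrix.mulVec, dotProduct, mul_comm]
  have hKinj : Function.Injective K.mulVec := by
    intro u u' huu
    have h0 : K *ᵥ (u - u') = 0 := by rw [Matrix.mulVec_sub, huu, sub_self]
    rw [hKmv] at h0
    funext j
    have h1 := Fintype.linearIndependent_iff.1 b.linearIndependent (u - u') h0 j
    exact sub_eq_zero.mp h1
  have hKdet : K.det ≠ 0 :=
    ((Matrix.isUnit_iff_isUnit_det K).mp (Matrix.mulVec_injective_iff_isUnit.mp hKinj)).ne_zero
  have hxK : x * K = K * Matrix.diagonal (fun j => lam * δ j) := by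
    ext i j
    have e1 : (x * K) i j = (x *ᵥ b j) i := by
      simp [Matrix.mul_apply, Matrix.mulVec, dotProduct, K]
    rw [e1, hxb j, Matrix.mul_diagonal]
    simp [K]
    ring
  obtain ⟨-, -, -, hfrob, -⟩ := sfu_sesq q₀ hcard f hf
  have hq₀odd : Odd q₀ := by
    rw [hcard, pow_two] at hoddq
    exact (Nat.odd_mul.1 hoddq).1
  refine h12_sfu_pair_conj q₀ hcard f hf x K (fun j => lam * δ j) hKdet hxK lam hlam0
    (fun j => mul_ne_zero hlam0 (by rcases hδ j with h | h <;> rw [h] <;> simp)) ?_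
  intro c
  congr 1
  ext j
  simp only [Finset.mem_filter, Finset.mem_univ, true_and]
  constructor
  · intro h
    have hc : δ j = c := mul_left_cancel₀ hlam0 h
    rw [← hc]
    rcases hδ j with h1 | h1
    · rw [h1]; simp
    · rw [h1, hq₀odd.neg_one_pow, inv_neg_one]
  · intro h
    have hc : δ j = (c ^ q₀)⁻¹ := mul_left_cancel₀ hlam0 h
    have hc2 : c ^ q₀ = (δ j)⁻¹ := by rw [hc, inv_inv]
    have hc3 : c = δ j := by
      have h3 := hfrob c
      rw [hc2] at h3
      rcases hδ j with h1 | h1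
      · rw [h1] at h3 ⊢
        simpa using h3.symm
      · rw [h1, inv_neg_one, hq₀odd.neg_one_pow] at h3
        rw [h1]
        exact h3.symm
    rw [hc3]

end Cfsg.Agent.Lib.helper24
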