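import Mathlib
import Cfsg.Prelude.Def_KGroupFacts
import Cfsg.Prelude.Def_Transfer

set_option autoImplicit false

namespace Cfsg.Agent.Lib.helper39

section SmallExp

variable {P : Type*} [Group P]

/-- `y ^ n * x = x * y ^ n * c ^ n` when `y * x = x * y * c` and `c` commutes with `y`. -/
theorem pow_mul_comm_c (x y c : P) (h : y * x = x * y * c) (hcy : c * y = y * c) (n : ℕ) :
    y ^ n * x = x * y ^ n * c ^ n := by
  induction n with
  | zero => simp
  | succ n ih =>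
    have hc : c * y ^ n = y ^ n * c := (Commute.pow_right (show Commute c y from hcy) n).eq
    calc y ^ (n + 1) * x = y * (y ^ n * x) := by rw [pow_succ']; group
      _ = y * (x * y ^ n * c ^ n) := by rw [ih]
      _ = (y * x) * y ^ n * c ^ n := by group
      _ = x * y * c * y ^ n * c ^ n := by rw [h]
      _ = x * y * (c * y ^ n) * c ^ n := by group
      _ = x * y * (y ^ n * c) * c ^ n := by rw [hc]
      _ = x * y ^ (n + 1) * c ^ (n + 1) := by rw [pow_succ' y, pow_succ' c]; group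

/-- `y * x ^ n = x ^ n * y * c ^ n` when `y * x = x * y * c` and `c` commutes with `x`. -/
theorem mul_pow_comm_c (x y c : P) (h : y * x = x * y * c) (hcx : c * x = x * c) (n : ℕ) :
    y * x ^ n = x ^ n * y * c ^ n := by
  induction n with
  | zero => simp
  | succ n ih =>
    have hc : c ^ n * x = x * c ^ n := (Commute.pow_left (show Commute c x from hcx) n).eq
    calc y * x ^ (n + 1) = (y * x ^ n) * x := by rw [pow_succ]; group
      _ = x ^ n * y * c ^ n * x := by rw [ih]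
      _ = x ^ n * y * (c ^ n * x) := by group
      _ = x ^ n * y * (x * c ^ n) := by rw [hc]
      _ = x ^ n * (y * x) * c ^ n := by group
      _ = x ^ n * (x * y * c) * c ^ n := by rw [h]
      _ = x ^ (n + 1) * y * c ^ (n + 1) := by rw [pow_succ x, pow_succ' c]; group

/-- The power formula in class two. -/
theorem mul_pow_class2 (x y c : P) (h : y * x = x * y * c) (hcx : c * x = x * c)
    (hcy : c * y = y * c) (n : ℕ) : (x * y) ^ n = x ^ n * y ^ n * c ^ (n.choose 2) := by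
  induction n with
  | zero => simp
  | succ n ih =>
    have h1 := pow_mul_comm_c x y c h hcy n
    have hc1 : Commute c x := hcx
    have hc2 : Commute c y := hcy
    have hcc : (n + 1).choose 2 = n + n.choose 2 := by
      rw [Nat.choose_succ_succ', Nat.choose_one_right]
    calc (x * y) ^ (n + 1) = (x * y) ^ n * (x * y) := pow_succ _ _
      _ = x ^ n * y ^ n * c ^ (n.choose 2) * (x * y) := by rw [ih]
      _ = x ^ n * y ^ n * (c ^ (n.choose 2) * (x * y)) := by group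
      _ = x ^ n * y ^ n * ((x * y) * c ^ (n.choose 2)) := by
          rw [((hc1.mul_right hc2).pow_left _).eq]
      _ = x ^ n * (y ^ n * x) * y * c ^ (n.choose 2) := by group
      _ = x ^ n * (x * y ^ n * c ^ n) * y * c ^ (n.choose 2) := by rw [h1]
      _ = x ^ n * x * y ^ n * (c ^ n * y) * c ^ (n.choose 2) := by group
      _ = x ^ n * x * y ^ n * (y * c ^ n) * c ^ (n.choose 2) := by rw [(hc2.pow_left n).eq]
      _ = x ^ (n + 1) * y ^ (n + 1) * c ^ ((n + 1).choose 2) := by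
          rw [hcc, pow_add c, pow_succ x, pow_succ y]; group

variable {p : ℕ} [Fact p.Prime]

omit [Fact p.Prime] in
/-- A `p'`-automorphism of a `p`-group fixing `x⁻¹ α(x)` fixes `x`. -/
theorem aut_fix_of_fix_comm (hP : IsPGroup p P) (α : MulAut P)
    (hα : (orderOf α).Coprime p) (x : P) (hn : α (x⁻¹ * α x) = x⁻¹ * α x) : α x = x := by
  have hx : α x = x * (x⁻¹ * α x) := by group
  have h1 : ∀ k : ℕ, (α ^ k) x = x * (x⁻¹ * α x) ^ k := by
    intro k
    induction k with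
    | zero => simp
    | succ k ih =>
      rw [pow_succ', MulAut.mul_apply, ih, map_mul, map_pow, hn, pow_succ' (x⁻¹ * α x),
        ← mul_assoc, ← hx]
  have h2 := h1 (orderOf α)
  rw [pow_orderOf_eq_one, MulAut.one_apply] at h2
  have h3 : (x⁻¹ * α x) ^ orderOf α = 1 := by
    have h2' : x * (x⁻¹ * α x) ^ orderOf α = x * 1 := by rw [mul_one]; exact h2.symm
    exact mul_left_cancel h2'
  obtain ⟨j, hj⟩ := hP (x⁻¹ * α x)
  have h4 : x⁻¹ * α x = 1 := by
    have h5 : orderOf (x⁻¹ * α x) ∣ Nat.gcd (orderOf α) (p ^ j) :=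
      Nat.dvd_gcd (orderOf_dvd_of_pow_eq_one h3) (orderOf_dvd_of_pow_eq_one hj)
    rw [Nat.Coprime.gcd_eq_one (Nat.Coprime.pow_right j hα)] at h5
    exact orderOf_eq_one_iff.mp (Nat.dvd_one.mp h5)
  rw [hx, h4, mul_one]

omit [Fact p.Prime] in
/-- A `p'`-automorphism fixing a self-centralizing normal subgroup `C` of `Q` pointwise fixes
`Q` pointwise. -/
theorem aut_fix_of_fix_selfcent (hP : IsPGroup p P) (α : MulAut P)
    (hα : (orderOf α).Coprime p) (C Q : Subgroup P)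
    (hCn : ∀ x ∈ Q, ∀ c ∈ C, x * c * x⁻¹ ∈ C)
    (hQ : ∀ x ∈ Q, α x ∈ Q) (hC : ∀ c ∈ C, α c = c)
    (hcent : Q ⊓ Subgroup.centralizer (C : Set P) ≤ C) : ∀ x ∈ Q, α x = x := by
  intro x hx
  apply aut_fix_of_fix_comm hP α hα
  apply hC
  apply hcent
  refine ⟨Q.mul_mem (Q.inv_mem hx) (hQ x hx), ?_⟩
  show x⁻¹ * α x ∈ Subgroup.centralizer (C : Set P)
  rw [Subgroup.mem_centralizer_iff]
  intro c hc
  have h1 : α (x * c * x⁻¹) = x * c * x⁻¹ := hC _ (hCn x hx c hc)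
  rw [map_mul, map_mul, map_inv, hC c hc] at h1
  have h2 : x⁻¹ * α x * c = c * (x⁻¹ * α x) := by
    calc x⁻¹ * α x * c = x⁻¹ * (α x * c * (α x)⁻¹) * α x := by group
      _ = x⁻¹ * (x * c * x⁻¹) * α x := by rw [h1]
      _ = c * (x⁻¹ * α x) := by group
  exact h2.symm

omit [Fact p.Prime] in
/-- A `p'`-automorphism of an abelian `p`-group fixing the elements of order `p` is trivial. -/
theorem aut_fix_abelian (hP : IsPGroup p P) (α : MulAut P)
    (hα : (orderOf α).Coprime p) (A : Subgroup P) (hab : ∀ x ∈ A, ∀ y ∈ A, x * y = y * x)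
    (hA : ∀ x ∈ A, α x ∈ A) (hfix : ∀ a ∈ A, a ^ p = 1 → α a = a) : ∀ a ∈ A, α a = a := by
  have key : ∀ j : ℕ, ∀ a ∈ A, a ^ (p ^ j) = 1 → α a = a := by
    intro j
    induction j with
    | zero =>
      intro a _ h
      rw [pow_zero, pow_one] at h
      rw [h, map_one]
    | succ j ih =>
      intro a ha h
      have h1 : α (a ^ p) = a ^ p :=
        ih (a ^ p) (A.pow_mem ha p) (by rw [← pow_mul, ← pow_succ']; exact h)
      apply aut_fix_of_fix_comm hP α hα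
      apply hfix _ (A.mul_mem (A.inv_mem ha) (hA a ha))
      have hc : Commute a⁻¹ (α a) := hab _ (A.inv_mem ha) _ (hA a ha)
      rw [hc.mul_pow, inv_pow, ← map_pow, h1, inv_mul_cancel]
  intro a ha
  obtain ⟨j, hj⟩ := hP a
  exact key j a ha hj

omit [Fact p.Prime] in
/-- In a nilpotent group, a normal subgroup `K` not contained in a subgroup `M` contains an
element outside `M` all of whose commutators lie in `M`. -/
theorem exists_central_mod_nil [Group.IsNilpotent P] (K M : Subgroup P)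
    [hKn : K.Normal] (hKM : ¬ K ≤ M) :
    ∃ k ∈ K, k ∉ M ∧ ∀ r : P, k * r * k⁻¹ * r⁻¹ ∈ M := by
  classical
  have hex : ∃ i, ¬ (K ⊓ Subgroup.upperCentralSeries P i ≤ M) := by
    obtain ⟨n, hn⟩ := Group.IsNilpotent.nilpotent P
    exact ⟨n, by rw [hn, inf_top_eq]; exact hKM⟩
  have hi : ¬ (K ⊓ Subgroup.upperCentralSeries P (Nat.find hex) ≤ M) := Nat.find_spec hex
  have hi0 : Nat.find hex ≠ 0 := by
    intro h0
    apply hi
    rw [h0, Subgroup.upperCentralSeries_zero, inf_bot_eq]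
    exact bot_le
  obtain ⟨j, hj⟩ := Nat.exists_eq_succ_of_ne_zero hi0
  have hjmin : K ⊓ Subgroup.upperCentralSeries P j ≤ M := by
    by_contra h
    have := Nat.find_min' hex h
    omega
  obtain ⟨k, hk, hkM⟩ := SetLike.not_le_iff_exists.mp hi
  refine ⟨k, hk.1, hkM, fun r => hjmin ⟨?_, ?_⟩⟩
  · have h1 : k * r * k⁻¹ * r⁻¹ = k * (r * k⁻¹ * r⁻¹) := by group
    rw [h1]
    exact K.mul_mem hk.1 (hKn.conj_mem _ (K.inv_mem hk.1) r)
  · have h2 : k ∈ Subgroup.upperCentralSeries P (j + 1) := by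
      have := hk.2
      rwa [hj] at this
    have h3 := (Subgroup.mem_upperCentralSeries_succ_iff.mp h2) r
    rwa [commutatorElement_def] at h3

/-- The exponent bound: `4` for `p = 2` and `p` otherwise. -/
def expQ (p : ℕ) : ℕ := if p = 2 then 4 else p

omit [Fact p.Prime] in
theorem p_dvd_expQ : p ∣ expQ p := by
  unfold expQ
  split_ifs with h
  · rw [h]; decide
  · exact dvd_rfl

theorem p_dvd_choose_expQ : p ∣ (expQ p).choose 2 := by
  unfold expQ
  split_ifs with h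
  · rw [h]; decide
  · have hp : p.Prime := Fact.out
    have h2 : 2 < p := lt_of_le_of_ne hp.two_le (Ne.symm h)
    exact hp.dvd_choose_self (by norm_num) h2

omit [Fact p.Prime] in
/-- The elements central modulo the normal subgroup `M`. -/
def cmod (M : Subgroup P) [hM : M.Normal] : Subgroup P where
  carrier := {x | ∀ r : P, x * r * x⁻¹ * r⁻¹ ∈ M}
  one_mem' := by
    intro r
    have : (1 : P) * r * 1⁻¹ * r⁻¹ = 1 := by group
    rw [this]
    exact M.one_mem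
  mul_mem' := by
    intro x y hx hy r
    have h1 : x * y * r * (x * y)⁻¹ * r⁻¹ = x * (y * r * y⁻¹ * r⁻¹) * x⁻¹ * (x * r * x⁻¹ * r⁻¹) := by
      group
    rw [h1]
    exact M.mul_mem (hM.conj_mem _ (hy r) x) (hx r)
  inv_mem' := by
    intro x hx r
    have h1 : x⁻¹ * r * x⁻¹⁻¹ * r⁻¹ = x⁻¹ * (x * r * x⁻¹ * r⁻¹)⁻¹ * x⁻¹⁻¹ := by group
    rw [h1]
    exact hM.conj_mem _ (M.inv_mem (hx r)) x⁻¹

omit [Fact p.Prime] in
theorem mem_cmod (M : Subgroup P) [hM : M.Normal] (x : P) :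
    x ∈ cmod M ↔ ∀ r : P, x * r * x⁻¹ * r⁻¹ ∈ M := Iff.rfl

omit [Fact p.Prime] in
theorem cmod_comm_mem (M : Subgroup P) [hM : M.Normal] (x y : P) (hx : x ∈ cmod M) :
    y⁻¹ * x⁻¹ * y * x ∈ M := by
  have h1 : x⁻¹ * y * x⁻¹⁻¹ * y⁻¹ ∈ M := (cmod M).inv_mem hx y
  have h2 : y⁻¹ * x⁻¹ * y * x = y⁻¹ * (x⁻¹ * y * x⁻¹⁻¹ * y⁻¹) * y⁻¹⁻¹ := by group
  rw [h2]
  exact hM.conj_mem _ h1 y⁻¹

omit [Fact p.Prime] in
theorem comm_rel (x y : P) : y * x = x * y * (y⁻¹ * x⁻¹ * y * x) := by group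

/-- The subgroup `C` with `C/M = Ω₁(Z(P/M)) ∩ C_Q(M)/M`. -/
def critOm (p : ℕ) (Q M : Subgroup P) [hM : M.Normal] : Subgroup P where
  carrier := {x | x ∈ Q ⊓ Subgroup.centralizer (M : Set P) ⊓ cmod M ∧ x ^ p ∈ M}
  one_mem' := ⟨Subgroup.one_mem _, by rw [one_pow]; exact M.one_mem⟩
  mul_mem' := by
    intro x y hx hy
    refine ⟨Subgroup.mul_mem _ hx.1 hy.1, ?_⟩
    have hc : y⁻¹ * x⁻¹ * y * x ∈ M := cmod_comm_mem M x y hx.1.2
    have hcx : (y⁻¹ * x⁻¹ * y * x) * x = x * (y⁻¹ * x⁻¹ * y * x) :=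
      Subgroup.mem_centralizer_iff.mp hx.1.1.2 _ hc
    have hcy : (y⁻¹ * x⁻¹ * y * x) * y = y * (y⁻¹ * x⁻¹ * y * x) :=
      Subgroup.mem_centralizer_iff.mp hy.1.1.2 _ hc
    rw [mul_pow_class2 x y _ (comm_rel x y) hcx hcy p]
    exact M.mul_mem (M.mul_mem hx.2 hy.2) (M.pow_mem hc _)
  inv_mem' := by
    intro x hx
    refine ⟨Subgroup.inv_mem _ hx.1, ?_⟩
    rw [inv_pow]
    exact M.inv_mem hx.2

omit [Fact p.Prime] in
theorem mem_critOm (Q M : Subgroup P) [hM : M.Normal] (x : P) :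
    x ∈ critOm p Q M ↔ (x ∈ Q ∧ x ∈ Subgroup.centralizer (M : Set P) ∧
      (∀ r : P, x * r * x⁻¹ * r⁻¹ ∈ M) ∧ x ^ p ∈ M) :=
  ⟨fun h => ⟨h.1.1.1, h.1.1.2, h.1.2, h.2⟩, fun h => ⟨⟨⟨h.1, h.2.1⟩, h.2.2.1⟩, h.2.2.2⟩⟩

omit [Fact p.Prime] in
theorem critOm_comm (Q M : Subgroup P) [hM : M.Normal] (x y : P) (hx : x ∈ critOm p Q M)
    (hy : y ∈ critOm p Q M) :
    y⁻¹ * x⁻¹ * y * x ∈ M ∧
      (y⁻¹ * x⁻¹ * y * x) * x = x * (y⁻¹ * x⁻¹ * y * x) ∧
      (y⁻¹ * x⁻¹ * y * x) * y = y * (y⁻¹ * x⁻¹ * y * x) ∧ (y⁻¹ * x⁻¹ * y * x) ^ p = 1 := by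
  rw [mem_critOm] at hx hy
  have hc : y⁻¹ * x⁻¹ * y * x ∈ M := cmod_comm_mem M x y hx.2.2.1
  have hcx : (y⁻¹ * x⁻¹ * y * x) * x = x * (y⁻¹ * x⁻¹ * y * x) :=
    Subgroup.mem_centralizer_iff.mp hx.2.1 _ hc
  have hcy : (y⁻¹ * x⁻¹ * y * x) * y = y * (y⁻¹ * x⁻¹ * y * x) :=
    Subgroup.mem_centralizer_iff.mp hy.2.1 _ hc
  refine ⟨hc, hcx, hcy, ?_⟩
  have h1 := mul_pow_comm_c x y _ (comm_rel x y) hcx p
  have h2 : x ^ p * y = y * x ^ p := Subgroup.mem_centralizer_iff.mp hy.2.1 _ hx.2.2.2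
  rw [← h2] at h1
  have h3 : x ^ p * y * (y⁻¹ * x⁻¹ * y * x) ^ p = x ^ p * y * 1 := by rw [mul_one]; exact h1.symm
  exact mul_left_cancel h3

/-- The elements of `critOm` of order dividing `expQ p`. -/
def critD (p : ℕ) [Fact p.Prime] (Q M : Subgroup P) [hM : M.Normal] : Subgroup P where
  carrier := {x | x ∈ critOm p Q M ∧ x ^ expQ p = 1}
  one_mem' := ⟨Subgroup.one_mem _, one_pow _⟩
  mul_mem' := by
    intro x y hx hy
    refine ⟨Subgroup.mul_mem _ hx.1 hy.1, ?_⟩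
    obtain ⟨-, hcx, hcy, hcp⟩ := critOm_comm Q M x y hx.1 hy.1
    rw [mul_pow_class2 x y _ (comm_rel x y) hcx hcy (expQ p), hx.2, hy.2, one_mul, one_mul]
    obtain ⟨e, he⟩ := p_dvd_choose_expQ (p := p)
    rw [he, pow_mul, hcp, one_pow]
  inv_mem' := by
    intro x hx
    refine ⟨Subgroup.inv_mem _ hx.1, ?_⟩
    rw [inv_pow, hx.2, inv_one]

theorem mem_critD (Q M : Subgroup P) [hM : M.Normal] (x : P) :
    x ∈ critD p Q M ↔ (x ∈ critOm p Q M ∧ x ^ expQ p = 1) := Iff.rfl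

/-- The relative critical subgroup of small exponent. -/
theorem exists_small_exponent [Finite P] (hP : IsPGroup p P) (G : Subgroup (MulAut P))
    (hG : Cfsg.Inn P ≤ G) (Q : Subgroup P) (hQ : ∀ α ∈ G, ∀ x ∈ Q, α x ∈ Q) :
    ∃ D : Subgroup P, D ≤ Q ∧ (∀ α ∈ G, ∀ x ∈ D, α x ∈ D) ∧ (∀ d ∈ D, d ^ expQ p = 1) ∧
      (∀ d ∈ D, ∀ r : P, d * r * d⁻¹ * r⁻¹ ∈ D ⊓ Subgroup.centralizer (D : Set P)) ∧
      (∀ α ∈ G, (orderOf α).Coprime p → (∀ d ∈ D, α d = d) → ∀ x ∈ Q, α x = x) := by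
  classical
  have hnorm : ∀ H : Subgroup P, (∀ α ∈ G, ∀ x ∈ H, α x ∈ H) → H.Normal := by
    intro H hH
    refine ⟨fun n hn g => ?_⟩
    have h1 := hH (MulAut.conj g) (hG (MonoidHom.mem_range.mpr ⟨g, rfl⟩)) n hn
    rwa [MulAut.conj_apply] at h1
  have hne : Nonempty {M : Subgroup P // M ≤ Q ∧ (∀ α ∈ G, ∀ x ∈ M, α x ∈ M) ∧
      ∀ x ∈ M, ∀ y ∈ M, x * y = y * x} := by
    refine ⟨⟨⊥, bot_le, ?_, ?_⟩⟩
    · intro α _ x hx
      rw [Subgroup.mem_bot] at hx ⊢
      rw [hx, map_one]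
    · intro x hx y hy
      rw [Subgroup.mem_bot] at hx hy
      rw [hx, hy]
  obtain ⟨M₀, hM₀⟩ := Finite.exists_max
    (fun M : {M : Subgroup P // M ≤ Q ∧ (∀ α ∈ G, ∀ x ∈ M, α x ∈ M) ∧
      ∀ x ∈ M, ∀ y ∈ M, x * y = y * x} => Nat.card (M : Subgroup P))
  obtain ⟨M, hMQ, hMinv, hMab⟩ := M₀
  have hmax : ∀ M' : Subgroup P, M' ≤ Q → (∀ α ∈ G, ∀ x ∈ M', α x ∈ M') →
      (∀ x ∈ M', ∀ y ∈ M', x * y = y * x) → M ≤ M' → M' = M := by
    intro M' h1 h2 h3 h4
    exact (Subgroup.eq_of_le_of_card_ge h4 (hM₀ ⟨M', h1, h2, h3⟩)).symm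
  have hMn : M.Normal := hnorm M hMinv
  have hCQ : critOm p Q M ≤ Q := fun x hx => ((mem_critOm Q M x).mp hx).1
  have hCcM : critOm p Q M ≤ Subgroup.centralizer (M : Set P) :=
    fun x hx => ((mem_critOm Q M x).mp hx).2.1
  have hCmod : ∀ x ∈ critOm p Q M, ∀ r : P, x * r * x⁻¹ * r⁻¹ ∈ M :=
    fun x hx => ((mem_critOm Q M x).mp hx).2.2.1
  have hCp : ∀ x ∈ critOm p Q M, x ^ p ∈ M := fun x hx => ((mem_critOm Q M x).mp hx).2.2.2
  have hMC : M ≤ critOm p Q M := by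
    intro m hm
    rw [mem_critOm]
    refine ⟨hMQ hm, ?_, ?_, M.pow_mem hm p⟩
    · rw [Subgroup.mem_centralizer_iff]
      intro y hy
      exact hMab y hy m hm
    · intro r
      have h1 : m * r * m⁻¹ * r⁻¹ = m * (r * m⁻¹ * r⁻¹) := by group
      rw [h1]
      exact M.mul_mem hm (hMn.conj_mem _ (M.inv_mem hm) r)
  have hCinv : ∀ α ∈ G, ∀ x ∈ critOm p Q M, α x ∈ critOm p Q M := by
    intro α hα x hx
    have hαi : α⁻¹ ∈ G := G.inv_mem hα
    rw [mem_critOm]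
    refine ⟨hQ α hα x (hCQ hx), ?_, ?_, ?_⟩
    · rw [Subgroup.mem_centralizer_iff]
      intro m hm
      have h1 := Subgroup.mem_centralizer_iff.mp (hCcM hx) (α⁻¹ m) (hMinv _ hαi m hm)
      have h2 := congrArg α h1
      rw [map_mul, map_mul, MulAut.apply_inv_self] at h2
      exact h2
    · intro r
      have h1 := hMinv α hα _ (hCmod x hx (α⁻¹ r))
      rw [map_mul, map_mul, map_mul, map_inv, map_inv, MulAut.apply_inv_self] at h1
      exact h1
    · rw [← map_pow]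
      exact hMinv α hα _ (hCp x hx)
  have hZC : critOm p Q M ⊓ Subgroup.centralizer (critOm p Q M : Set P) = M := by
    apply hmax
    · exact inf_le_left.trans hCQ
    · intro α hα x hx
      refine ⟨hCinv α hα x hx.1, ?_⟩
      show α x ∈ Subgroup.centralizer (critOm p Q M : Set P)
      have hx2 : x ∈ Subgroup.centralizer (critOm p Q M : Set P) := hx.2
      rw [Subgroup.mem_centralizer_iff]
      intro c hc
      have hαi : α⁻¹ ∈ G := G.inv_mem hα
      have h1 := Subgroup.mem_centralizer_iff.mp hx2 (α⁻¹ c) (hCinv _ hαi c hc)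
      have h2 := congrArg α h1
      rw [map_mul, map_mul, MulAut.apply_inv_self] at h2
      exact h2
    · intro x hx y hy
      have hy2 : y ∈ Subgroup.centralizer (critOm p Q M : Set P) := hy.2
      exact Subgroup.mem_centralizer_iff.mp hy2 x hx.1
    · intro m hm
      refine ⟨hMC hm, ?_⟩
      show m ∈ Subgroup.centralizer (critOm p Q M : Set P)
      rw [Subgroup.mem_centralizer_iff]
      intro c hc
      exact (Subgroup.mem_centralizer_iff.mp (hCcM hc) m hm).symm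
  have hnil : Group.IsNilpotent P := hP.isNilpotent
  have hCn : (critOm p Q M).Normal := hnorm _ hCinv
  have hQn : Q.Normal := hnorm _ hQ
  have hKC : Q ⊓ Subgroup.centralizer (critOm p Q M : Set P) ≤ M := by
    by_contra hK
    have : (Q ⊓ Subgroup.centralizer (critOm p Q M : Set P)).Normal := inferInstance
    obtain ⟨k, hkK, hkM, hk⟩ := exists_central_mod_nil _ _ hK
    obtain ⟨j, hj⟩ := hP k
    have hex : ∃ i, k ^ (p ^ i) ∈ M := ⟨j, by rw [hj]; exact M.one_mem⟩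
    have hi0 : Nat.find hex ≠ 0 := by
      intro h0
      have h1 := Nat.find_spec hex
      rw [h0, pow_zero, pow_one] at h1
      exact hkM h1
    obtain ⟨i, hi⟩ := Nat.exists_eq_succ_of_ne_zero hi0
    have hki : k ^ (p ^ i) ∉ M := by
      intro h
      have := Nat.find_min' hex h
      omega
    have hki1 : (k ^ (p ^ i)) ^ p ∈ M := by
      have h1 := Nat.find_spec hex
      rw [hi, pow_succ, pow_mul] at h1
      exact h1
    apply hki
    rw [← hZC]
    have hkK' := Subgroup.pow_mem _ hkK (p ^ i)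
    have hkc : k ^ (p ^ i) ∈ Subgroup.centralizer (critOm p Q M : Set P) := hkK'.2
    refine ⟨?_, hkc⟩
    show k ^ p ^ i ∈ critOm p Q M
    rw [mem_critOm]
    refine ⟨hkK'.1, ?_, ?_, hki1⟩
    · exact Subgroup.centralizer_le (show (M : Set P) ⊆ critOm p Q M from hMC) hkc
    · exact (mem_cmod M _).mp (Subgroup.pow_mem (cmod M) ((mem_cmod M k).mpr hk) (p ^ i))
  have hDinv : ∀ α ∈ G, ∀ x ∈ critD p Q M, α x ∈ critD p Q M := by
    intro α hα x hx
    rw [mem_critD] at hx ⊢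
    exact ⟨hCinv α hα x hx.1, by rw [← map_pow, hx.2, map_one]⟩
  have hDn : (critD p Q M).Normal := hnorm _ hDinv
  refine ⟨critD p Q M, ?_, hDinv, ?_, ?_, ?_⟩
  · exact fun x hx => hCQ ((mem_critD Q M x).mp hx).1
  · exact fun d hd => ((mem_critD Q M d).mp hd).2
  · intro d hd r
    refine ⟨?_, ?_⟩
    · have h1 : d * r * d⁻¹ * r⁻¹ = d * (r * d⁻¹ * r⁻¹) := by group
      rw [h1]
      exact Subgroup.mul_mem _ hd (hDn.conj_mem _ (Subgroup.inv_mem _ hd) r)
    · have h1 : d * r * d⁻¹ * r⁻¹ ∈ M := hCmod d ((mem_critD Q M d).mp hd).1 r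
      rw [← hZC] at h1
      have h2 : d * r * d⁻¹ * r⁻¹ ∈ Subgroup.centralizer (critOm p Q M : Set P) := h1.2
      exact Subgroup.centralizer_le
        (show (critD p Q M : Set P) ⊆ critOm p Q M from fun x hx => ((mem_critD Q M x).mp hx).1) h2
  · intro α hα hcop hfix
    have hfM : ∀ m ∈ M, α m = m := by
      apply aut_fix_abelian hP α hcop M hMab (hMinv α hα)
      intro a ha hap
      apply hfix
      rw [mem_critD]
      refine ⟨hMC ha, ?_⟩
      obtain ⟨e, he⟩ := p_dvd_expQ (p := p)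
      rw [he, pow_mul, hap, one_pow]
    have hfC : ∀ x ∈ critOm p Q M, α x = x := by
      intro x hx
      apply aut_fix_of_fix_comm hP α hcop
      apply hfix
      have hn : x⁻¹ * α x ∈ critOm p Q M :=
        Subgroup.mul_mem _ (Subgroup.inv_mem _ hx) (hCinv α hα x hx)
      rw [mem_critD]
      refine ⟨hn, ?_⟩
      obtain ⟨-, hcx, hcn, hcp⟩ := critOm_comm Q M x (x⁻¹ * α x) hx hn
      have h1 := mul_pow_class2 x (x⁻¹ * α x) _ (comm_rel x (x⁻¹ * α x)) hcx hcn (expQ p)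
      have h2 : x * (x⁻¹ * α x) = α x := by group
      rw [h2, ← map_pow] at h1
      have hxq : x ^ expQ p ∈ M := by
        obtain ⟨e, he⟩ := p_dvd_expQ (p := p)
        rw [he, pow_mul]
        exact M.pow_mem (hCp x hx) e
      rw [hfM _ hxq] at h1
      obtain ⟨e, he⟩ := p_dvd_choose_expQ (p := p)
      rw [he, pow_mul, hcp, one_pow, mul_one] at h1
      have h3 : x ^ expQ p * (x⁻¹ * α x) ^ expQ p = x ^ expQ p * 1 := by
        rw [mul_one]; exact h1.symm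
      exact mul_left_cancel h3
    exact aut_fix_of_fix_selfcent hP α hcop (critOm p Q M) Q
      (fun x _ c hc => hCn.conj_mem c hc x) (hQ α hα) hfC (hKC.trans hMC)

end SmallExp

end Cfsg.Agent.Lib.helper39
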