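import Cfsg.Agent.Lib.helper39.CliffordSub
import Cfsg.Agent.Lib.helper39.KInfStable
import Cfsg.Agent.Lib.helper39.ChiefSeries

/-!
# Quadratic action on a chief factor for the K-infinity subgroups

* `pMod_normalClosure_of_chief`: a subgroup acting trivially on all chief factors below a normal
  `p`-subgroup `P` has normal closure whose elements of order prime to `p` centralize `P`.
* `exists_chief_of_not_le_pCore`: a subgroup outside `O_p(G)` acts nontrivially on a chief factor
  below a critical subgroup.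
* `lowerStar_chief`: the lower-star family gives a quadratically and nontrivially acted chief factor.
* `kInf_normal_of_star`: the abstract normality criterion for the K-infinity subgroups.
* `exists_quadratic_chief_of_kInf_not_normal`: the main statement.
-/

set_option autoImplicit false

namespace Cfsg.Agent.Lib.helper39

open Cfsg

open scoped commutatorElement

universe u

section

variable {G : Type*} [Group G] [Finite G] {p : ℕ} [Fact p.Prime]

omit [Fact p.Prime] in
/-- If `X` acts trivially on every chief factor of `G` below the normal `p`-subgroup `P`, the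
elements of order prime to `p` of the normal closure of `X` centralize `P`. -/
theorem pMod_normalClosure_of_chief (P : Subgroup G) [hPn : P.Normal] (hP : IsPGroup p P)
    (X : Subgroup G)
    (h : ∀ M N : Subgroup G, IsChiefFactor M N → M ≤ P → ⁅M, X⁆ ≤ N) :
    PMod p (Subgroup.normalClosure (X : Set G)) (Subgroup.centralizer (P : Set G)) := by
  intro y hy hco
  have key : ∀ M : Subgroup G, M.Normal → M ≤ P → ⁅M, Subgroup.zpowers y⁆ = ⊥ := by
    refine chief_induction_up (fun M => ⁅M, Subgroup.zpowers y⁆ = ⊥) P ?_ ?_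
    · exact Subgroup.commutator_bot_left _
    · intro N M hMN hMP hN
      have hMn : M.Normal := hMN.2.1
      have hNn : N.Normal := hMN.2.2.1
      have h1 : Subgroup.normalClosure (X : Set G) ≤ relCent M N :=
        Subgroup.normalClosure_le_normal (le_relCent_iff.mpr (h M N hMN hMP))
      have h2 : ⁅M, Subgroup.zpowers y⁆ ≤ N :=
        le_relCent_iff.mp ((Subgroup.zpowers_le).mpr (h1 hy))
      refine commutator_eq_bot_of_pprime (hP.to_le hMP) hco
        (Subgroup.le_normalizer_of_normal (Subgroup.mem_top y)) ?_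
      apply le_bot_iff.mp
      rw [← hN]
      exact Subgroup.commutator_mono h2 le_rfl
  have h3 := key P hPn le_rfl
  rw [Subgroup.commutator_comm, Subgroup.commutator_eq_bot_iff_le_centralizer] at h3
  exact h3 (Subgroup.mem_zpowers y)

/-- If `C_G(A) ≤ O_p(G)` for the normal subgroup `A ≤ O_p(G)`, a subgroup not contained in
`O_p(G)` acts nontrivially on some chief factor of `G` below `A`. -/
theorem exists_chief_of_not_le_pCore (A : Subgroup G) [hAn : A.Normal] (hAT : A ≤ pCore p G)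
    (hC0 : Subgroup.centralizer (A : Set G) ≤ pCore p G) (B : Subgroup G)
    (hBT : ¬ B ≤ pCore p G) :
    ∃ M N : Subgroup G, IsChiefFactor M N ∧ M ≤ A ∧ ¬ ⁅M, B⁆ ≤ N := by
  by_contra hno
  apply hBT
  have h : ∀ M N : Subgroup G, IsChiefFactor M N → M ≤ A → ⁅M, B⁆ ≤ N := by
    intro M N hMN hMA
    by_contra h1
    exact hno ⟨M, N, hMN, hMA, h1⟩
  have h2 := pMod_normalClosure_of_chief A ((pCore_isPGroup p G).to_le hAT) B h
  exact Subgroup.le_normalClosure.trans (le_pCore_of_pMod hC0 _ h2)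

/-- **The lower-star family and chief factors.** In the situation of the lower-star lemma, `B` acts
quadratically and nontrivially on some chief factor of `G` below `U`. -/
theorem lowerStar_chief (B L₀ U : Subgroup G) [hL₀n : L₀.Normal]
    [hUn : U.Normal] (hUp : IsPGroup p U)
    (hB2 : ⁅⁅B, B⁆, B⁆ = ⊥) (hUB : ⁅U, B⁆ ≤ B)
    (hUcl : ⁅U, U⁆ ≤ Subgroup.centralizer (U : Set G))
    (hL₀ : PMod p (Subgroup.normalClosure (B : Set G)) L₀)
    (hL₀L : L₀ ≤ Subgroup.normalClosure (B : Set G))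
    (hgen : ∀ C : Subgroup G, C.Normal → PMod p L₀ C → L₀ ≤ C)
    (hmin : ∀ V : Subgroup G, V.Normal → V ≤ U → V ≠ U → ⁅V, L₀⁆ = ⊥)
    (hUL : ⁅U, L₀⁆ ≠ ⊥)
    (hc' : ∀ A₁ : Subgroup G, A₁ ≤ U → B ≤ Subgroup.normalizer (A₁ : Set G) →
      ⁅B, ⁅A₁, A₁⁆⁆ = ⊥ → ⁅B, A₁⁆ ≤ B ⊓ Subgroup.centralizer (B : Set G)) :
    ∃ M N : Subgroup G, IsChiefFactor M N ∧ M ≤ U ∧ ⁅⁅M, B⁆, B⁆ ≤ N ∧ ¬ ⁅M, B⁆ ≤ N := by
  have hZBc : ⁅B ⊓ Subgroup.centralizer (B : Set G), B⁆ = ⊥ := by
    rw [Subgroup.commutator_eq_bot_iff_le_centralizer]; exact inf_le_right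
  have hnormU : ∀ x : G, x ∈ Subgroup.normalizer (U : Set G) :=
    fun x => Subgroup.le_normalizer_of_normal (Subgroup.mem_top x)
  have hcent_of : (∀ y ∈ L₀, (orderOf y).Coprime p → ⁅U, Subgroup.zpowers y⁆ = ⊥) → False := by
    intro h
    apply hUL
    have h1 : L₀ ≤ Subgroup.centralizer (U : Set G) := hgen _ inferInstance (fun y hy hco => by
      have h2 := h y hy hco
      rw [Subgroup.commutator_comm, Subgroup.commutator_eq_bot_iff_le_centralizer] at h2
      exact h2 (Subgroup.mem_zpowers y))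
    rw [Subgroup.commutator_comm, Subgroup.commutator_eq_bot_iff_le_centralizer]
    exact h1
  -- (k1)
  have hk1 : ⁅U, L₀⁆ = U := by
    by_contra hne
    have h1 := hmin ⁅U, L₀⁆ inferInstance (Subgroup.commutator_le_left U L₀) hne
    apply hcent_of
    intro y hy hco
    refine commutator_eq_bot_of_pprime hUp hco (hnormU y) ?_
    apply le_bot_iff.mp
    rw [← h1]
    exact Subgroup.commutator_mono (Subgroup.commutator_mono le_rfl
      ((Subgroup.zpowers_le).mpr hy)) ((Subgroup.zpowers_le).mpr hy)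
  -- (k2)
  have hWZ : ⁅U, U⁆ ≤ U ⊓ Subgroup.centralizer (U : Set G) :=
    le_inf (Subgroup.commutator_le_left U U) hUcl
  have hZUn : (U ⊓ Subgroup.centralizer (U : Set G)).Normal := inferInstance
  by_cases hk3 : ⁅B, ⁅U, U⁆⁆ = ⊥
  · -- `B` acts quadratically on `U`
    have h1 := hc' U le_rfl Subgroup.le_normalizer_of_normal hk3
    have h2 : ⁅⁅U, B⁆, B⁆ = ⊥ := by
      apply le_bot_iff.mp
      rw [← hZBc, Subgroup.commutator_comm U B]
      exact Subgroup.commutator_mono h1 le_rfl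
    by_contra hno
    have h : ∀ M N : Subgroup G, IsChiefFactor M N → M ≤ U → ⁅M, B⁆ ≤ N := by
      intro M N hMN hMU
      by_contra h3
      refine hno ⟨M, N, hMN, hMU, ?_, h3⟩
      refine le_trans ?_ (bot_le : (⊥ : Subgroup G) ≤ N)
      rw [← h2]
      exact Subgroup.commutator_mono (Subgroup.commutator_mono hMU le_rfl) le_rfl
    have h4 := pMod_normalClosure_of_chief U hUp B h
    apply hcent_of
    intro y hy hco
    have h5 := h4 y (hL₀L hy) hco
    rw [Subgroup.commutator_comm, Subgroup.commutator_eq_bot_iff_le_centralizer]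
    exact (Subgroup.zpowers_le).mpr h5
  · -- the nonabelian case: `U / Z(U)` is a chief factor
    have hZUne : U ⊓ Subgroup.centralizer (U : Set G) ≠ U := by
      intro h
      apply hk3
      have h2 : ⁅U, U⁆ = ⊥ := Subgroup.commutator_eq_bot_iff_le_centralizer.mpr (inf_eq_left.mp h)
      rw [h2, Subgroup.commutator_bot_right]
    -- (k4)
    have hk4 : ⁅U ⊓ Subgroup.centralizer (U : Set G), L₀⁆ = ⊥ := hmin _ hZUn inf_le_left hZUne
    -- (k5)
    have hchief : ∀ V : Subgroup G, V.Normal → V ≤ U → V ≠ U →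
        V ≤ U ⊓ Subgroup.centralizer (U : Set G) := by
      intro V hVn hVU hVne
      have h1 := hmin V hVn hVU hVne
      have h2 : ⁅⁅L₀, U⁆, V⁆ = ⊥ := by
        apply Subgroup.commutator_commutator_eq_bot_of_rotate
        · apply le_bot_iff.mp
          rw [← h1]
          exact Subgroup.commutator_mono (Subgroup.commutator_le_right U V) le_rfl
        · rw [h1, Subgroup.commutator_bot_left]
      rw [Subgroup.commutator_comm L₀ U, hk1] at h2
      refine le_inf hVU ?_
      rw [Subgroup.commutator_comm] at h2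
      exact Subgroup.commutator_eq_bot_iff_le_centralizer.mp h2
    -- (k6)
    obtain ⟨W₀, hW₀⟩ : ∃ W₀, W₀ = ⁅U, U⁆ ⊓ Subgroup.centralizer (B : Set G) := ⟨_, rfl⟩
    have hW₀ZU : W₀ ≤ U ⊓ Subgroup.centralizer (U : Set G) := by
      rw [hW₀]; exact inf_le_left.trans hWZ
    have hW₀c : W₀ ≤ Subgroup.centralizer (U : Set G) := hW₀ZU.trans inf_le_right
    have hW₀B : W₀ ≤ Subgroup.centralizer (B : Set G) := by rw [hW₀]; exact inf_le_right
    obtain ⟨U₃, hU₃⟩ : ∃ U₃, U₃ = radSub U W₀ := ⟨_, rfl⟩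
    have r1 : U₃ ≤ U := by rw [hU₃]; exact radSub_le U W₀
    have r2 : U ⊓ Subgroup.centralizer (U : Set G) ≤ U₃ := by
      rw [hU₃]
      intro u hu
      refine mem_radSub_of hu.1 (fun v hv => ?_)
      have h1 : ⁅u, v⁆ = 1 := by
        rw [commutatorElement_eq_one_iff_mul_comm]
        exact ((Subgroup.mem_centralizer_iff.mp hu.2) v hv).symm
      rw [h1]
      exact one_mem _
    have r3 : ⁅U₃, U⁆ ≤ W₀ := by
      rw [Subgroup.commutator_le]
      intro u hu v hv
      rw [hU₃] at hu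
      exact ((mem_radSub hW₀c).mp hu).2 v hv
    have hBW₀ : B ≤ Subgroup.normalizer (W₀ : Set G) := by
      rw [hW₀]
      exact le_normalizer_inf Subgroup.le_normalizer_of_normal
        (Subgroup.le_normalizer.trans (normalizer_le_normalizer_centralizer B))
    have r4 : B ≤ Subgroup.normalizer (U₃ : Set G) := by
      rw [hU₃]
      exact (le_inf Subgroup.le_normalizer_of_normal hBW₀).trans
        (normalizer_le_normalizer_radSub U W₀)
    have hL₀cZ : L₀ ≤ Subgroup.centralizer
        ((U ⊓ Subgroup.centralizer (U : Set G) : Subgroup G) : Set G) := by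
      have h1 := hk4
      rw [Subgroup.commutator_comm, Subgroup.commutator_eq_bot_iff_le_centralizer] at h1
      exact h1
    have r5 : L₀ ≤ Subgroup.normalizer (U₃ : Set G) := by
      rw [hU₃]
      refine (le_inf Subgroup.le_normalizer_of_normal ?_).trans
        (normalizer_le_normalizer_radSub U W₀)
      exact (hL₀cZ.trans (Subgroup.centralizer_le hW₀ZU)).trans
        (Subgroup.centralizer_le_normalizer _)
    have r6 : U ⊓ (B ⊓ Subgroup.centralizer (B : Set G)) ≤ U₃ := by
      rw [hU₃]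
      rintro t ⟨htU, htB, htc⟩
      refine mem_radSub_of htU (fun v hv => ?_)
      rw [hW₀]
      refine ⟨Subgroup.commutator_mem_commutator htU hv, ?_⟩
      have htc' : t ∈ Subgroup.centralizer (B : Set G) := htc
      show ⁅t, v⁆ ∈ Subgroup.centralizer (B : Set G)
      rw [Subgroup.mem_centralizer_iff]
      intro b hb
      have h1 : b * t = t * b := (Subgroup.mem_centralizer_iff.mp htc') b hb
      have hvb : v⁻¹ * b * v ∈ B := by
        have h0 : ⁅v⁻¹, b⁆ ∈ B := hUB (Subgroup.commutator_mem_commutator (U.inv_mem hv) hb)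
        have e : v⁻¹ * b * v = ⁅v⁻¹, b⁆ * b := by rw [commutatorElement_def]; group
        rw [e]
        exact B.mul_mem h0 hb
      have h2 : v⁻¹ * b * v * t = t * (v⁻¹ * b * v) :=
        (Subgroup.mem_centralizer_iff.mp htc') _ hvb
      have h2' : t⁻¹ * (v⁻¹ * b * v) = (v⁻¹ * b * v) * t⁻¹ := by
        calc t⁻¹ * (v⁻¹ * b * v) = t⁻¹ * ((v⁻¹ * b * v) * t) * t⁻¹ := by group
          _ = t⁻¹ * (t * (v⁻¹ * b * v)) * t⁻¹ := by rw [h2]
          _ = (v⁻¹ * b * v) * t⁻¹ := by group
      have h3 : b * (v * t⁻¹ * v⁻¹) = (v * t⁻¹ * v⁻¹) * b := by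
        calc b * (v * t⁻¹ * v⁻¹) = v * ((v⁻¹ * b * v) * t⁻¹) * v⁻¹ := by group
          _ = v * (t⁻¹ * (v⁻¹ * b * v)) * v⁻¹ := by rw [h2']
          _ = (v * t⁻¹ * v⁻¹) * b := by group
      rw [commutatorElement_def]
      calc b * (t * v * t⁻¹ * v⁻¹) = (b * t) * (v * t⁻¹ * v⁻¹) := by group
        _ = t * (b * (v * t⁻¹ * v⁻¹)) := by rw [h1]; group
        _ = t * ((v * t⁻¹ * v⁻¹) * b) := by rw [h3]
        _ = t * v * t⁻¹ * v⁻¹ * b := by group
    have hBBZ : ⁅B, B⁆ ≤ B ⊓ Subgroup.centralizer (B : Set G) :=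
      le_inf (commutator_self_le B) (Subgroup.commutator_eq_bot_iff_le_centralizer.mp hB2)
    have r7 : ⁅⁅U, B⁆, B⁆ ≤ U₃ := by
      refine le_trans (le_inf ?_ ?_) r6
      · exact (Subgroup.commutator_mono (Subgroup.commutator_le_left U B) le_rfl).trans
          (Subgroup.commutator_le_left U B)
      · exact (Subgroup.commutator_mono hUB le_rfl).trans hBBZ
    have r8 : ⁅B, U₃⁆ ≤ B ⊓ Subgroup.centralizer (B : Set G) := by
      refine hc' U₃ r1 r4 ?_
      rw [Subgroup.commutator_comm, Subgroup.commutator_eq_bot_iff_le_centralizer]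
      exact ((Subgroup.commutator_mono le_rfl r1).trans r3).trans hW₀B
    have hchiefU : IsChiefFactor U (U ⊓ Subgroup.centralizer (U : Set G)) := by
      refine ⟨lt_of_le_of_ne inf_le_left hZUne, hUn, hZUn, ?_⟩
      intro N hNn hZN hNU
      by_cases hNe : N = U
      · exact Or.inr hNe
      · exact Or.inl (le_antisymm (hchief N hNn hNU hNe) hZN)
    have hSSL : SecSS (Subgroup.normalClosure (B : Set G)) U
        (U ⊓ Subgroup.centralizer (U : Set G)) := by
      intro V hZV hVU hLV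
      exact clifford_complement U (U ⊓ Subgroup.centralizer (U : Set G))
        (Subgroup.normalClosure (B : Set G)) V inf_le_left hWZ hchief hZV hVU hLV
    have hSSH : SecSS (L₀ ⊔ B) U (U ⊓ Subgroup.centralizer (U : Set G)) :=
      secSS_of_pMod inf_le_left hWZ hL₀ le_sup_left (sup_le hL₀L Subgroup.le_normalClosure) hSSL
    obtain ⟨Nc, hZN, hNU, hHN, hU₃N, hUle⟩ := hSSH U₃ r2 r1 (sup_le r5 r4)
    have hBN : ⁅Nc, B⁆ ≤ Nc :=
      Subgroup.le_normalizer_iff_commutator_le_left.mp (le_sup_right.trans hHN)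
    have hBU₃ : ⁅U₃, B⁆ ≤ U₃ := Subgroup.le_normalizer_iff_commutator_le_left.mp r4
    have hZW : U ⊓ Subgroup.centralizer (U : Set G) ≤
        ⁅U₃, B⁆ ⊔ ⁅Nc, B⁆ ⊔ (U ⊓ Subgroup.centralizer (U : Set G)) := le_sup_right
    have hWU : ⁅U₃, B⁆ ⊔ ⁅Nc, B⁆ ⊔ (U ⊓ Subgroup.centralizer (U : Set G)) ≤ U :=
      sup_le (sup_le (hBU₃.trans r1) (hBN.trans hNU)) inf_le_left
    have hUW : U ≤ Subgroup.normalizer
        ((⁅U₃, B⁆ ⊔ ⁅Nc, B⁆ ⊔ (U ⊓ Subgroup.centralizer (U : Set G)) : Subgroup G) : Set G) :=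
      le_normalizer_of_commutator_le hWZ hZW hWU
    have stepA : ⁅U, B⁆ ≤ ⁅U₃, B⁆ ⊔ ⁅Nc, B⁆ ⊔ (U ⊓ Subgroup.centralizer (U : Set G)) :=
      (Subgroup.commutator_mono hUle le_rfl).trans
        (commutator_sup_le' (r1.trans hUW) (hNU.trans hUW) (le_sup_left.trans le_sup_left)
          (le_sup_right.trans le_sup_left))
    have q1 : ⁅⁅U₃, B⁆, B⁆ ≤ U ⊓ Subgroup.centralizer (U : Set G) := by
      refine le_trans ?_ (bot_le : (⊥ : Subgroup G) ≤ _)
      rw [← hZBc, Subgroup.commutator_comm U₃ B]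
      exact Subgroup.commutator_mono r8 le_rfl
    have q2 : ⁅⁅Nc, B⁆, B⁆ ≤ U ⊓ Subgroup.centralizer (U : Set G) := by
      refine le_trans (le_inf ?_ ?_) hU₃N
      · exact (Subgroup.commutator_mono (Subgroup.commutator_mono hNU le_rfl) le_rfl).trans r7
      · exact (Subgroup.commutator_mono hBN le_rfl).trans hBN
    have stepB : ⁅⁅U₃, B⁆ ⊔ ⁅Nc, B⁆ ⊔ (U ⊓ Subgroup.centralizer (U : Set G)), B⁆ ≤
        U ⊓ Subgroup.centralizer (U : Set G) :=
      commutator_sup_le' Subgroup.le_normalizer_of_normal Subgroup.le_normalizer_of_normal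
        (commutator_sup_le' Subgroup.le_normalizer_of_normal Subgroup.le_normalizer_of_normal
          q1 q2)
        (Subgroup.commutator_le_left _ B)
    refine ⟨U, U ⊓ Subgroup.centralizer (U : Set G), hchiefU, le_rfl,
      (Subgroup.commutator_mono stepA le_rfl).trans stepB, ?_⟩
    intro h
    have h1 : Subgroup.normalClosure (B : Set G) ≤
        relCent U (U ⊓ Subgroup.centralizer (U : Set G)) :=
      Subgroup.normalClosure_le_normal (le_relCent_iff.mpr h)
    have h2 : ⁅U, L₀⁆ ≤ U ⊓ Subgroup.centralizer (U : Set G) :=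
      le_relCent_iff.mp (hL₀L.trans h1)
    rw [hk1] at h2
    exact hZUne (le_antisymm inf_le_left h2)

/-- If `g ∈ B ≤ S` satisfies the two Engel conditions for all `g ∈ B`, `B` is not contained in
`O_p(G)`, and (when `C_G(O_p(G)) ≤ O_p(G)`) `B` acts quadratically and nontrivially on a chief
factor below `A`, then a suitable element of `B` witnesses the conclusion. -/
theorem exists_elt_pack (S : Sylow p G) (A : Subgroup G) (hAT : A ≤ pCore p G) (B : Subgroup G)
    (hBS : B ≤ (S : Subgroup G)) (hBT : ¬ B ≤ pCore p G)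
    (ha : ∀ g ∈ B, iterCommutator A (Subgroup.zpowers g) 3 ≤
      A ⊓ Subgroup.centralizer (A : Set G))
    (hb : ∀ g ∈ B, ⁅⁅A ⊓ Subgroup.centralizer (A : Set G), Subgroup.zpowers g⁆,
      Subgroup.zpowers g⁆ = ⊥)
    (hc : Subgroup.centralizer ((pCore p G : Subgroup G) : Set G) ≤ pCore p G →
      ∃ M N : Subgroup G, IsChiefFactor M N ∧ M ≤ A ∧ ⁅⁅M, B⁆, B⁆ ≤ N ∧ ¬ ⁅M, B⁆ ≤ N) :
    ∃ g : G, g ∈ (S : Subgroup G) ∧ g ∉ pCore p G ∧
      iterCommutator A (Subgroup.zpowers g) 3 ≤ A ⊓ Subgroup.centralizer (A : Set G) ∧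
      ⁅⁅A ⊓ Subgroup.centralizer (A : Set G), Subgroup.zpowers g⁆, Subgroup.zpowers g⁆ = ⊥ ∧
      (Subgroup.centralizer ((pCore p G : Subgroup G) : Set G) ≤ pCore p G →
        ∃ U V : Subgroup G, IsChiefFactor U V ∧ U ≤ A ∧
          ⁅⁅U, Subgroup.zpowers g⁆, Subgroup.zpowers g⁆ ≤ V ∧
          ¬ ⁅U, Subgroup.zpowers g⁆ ≤ V) := by
  have hTn := pCore_normal p G
  by_cases hC : Subgroup.centralizer ((pCore p G : Subgroup G) : Set G) ≤ pCore p G
  · obtain ⟨M, N, hMN, hMA, hq, hn⟩ := hc hC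
    have hNn : N.Normal := hMN.2.2.1
    have hMn : M.Normal := hMN.2.1
    obtain ⟨g, hgB, hg⟩ : ∃ g ∈ B, ¬ ⁅M, Subgroup.zpowers g⁆ ≤ N := by
      by_contra hall
      apply hn
      apply le_relCent_iff.mp
      intro g hg
      by_contra h1
      apply hall
      refine ⟨g, hg, fun h2 => h1 ?_⟩
      exact (le_relCent_iff.mpr h2) (Subgroup.mem_zpowers g)
    have hgz : Subgroup.zpowers g ≤ B := (Subgroup.zpowers_le).mpr hgB
    refine ⟨g, hBS hgB, ?_, ha g hgB, hb g hgB, fun _ => ⟨M, N, hMN, hMA, ?_, hg⟩⟩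
    · intro hgT
      apply hg
      have h3 := commutator_le_of_chief_pgroup (pCore p G) (pCore_isPGroup p G) hMN
        (hMA.trans hAT)
      exact (Subgroup.commutator_mono le_rfl ((Subgroup.zpowers_le).mpr hgT)).trans h3
    · exact (Subgroup.commutator_mono (Subgroup.commutator_mono le_rfl hgz) hgz).trans hq
  · obtain ⟨g, hgB, hgT⟩ := SetLike.not_le_iff_exists.mp hBT
    exact ⟨g, hBS hgB, hgT, ha g hgB, hb g hgB, fun h => absurd h hC⟩

/-- A subgroup of `S` outside `O_p(G)` acting quadratically on `A/Z(A)` and on `Z(A)` yields the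
element of the conclusion. -/
theorem exists_elt_of_quadratic (S : Sylow p G) (A : Subgroup G) [hAn : A.Normal]
    (hAT : A ≤ pCore p G)
    (hTA : ⁅pCore p G, A⁆ ≤ A ⊓ Subgroup.centralizer (A : Set G))
    (hCA : pCore p G ⊓ Subgroup.centralizer (A : Set G) ≤ A)
    (B : Subgroup G) (hBS : B ≤ (S : Subgroup G))
    (h1 : ⁅⁅A, B⁆, B⁆ ≤ A ⊓ Subgroup.centralizer (A : Set G))
    (h2 : ⁅⁅A ⊓ Subgroup.centralizer (A : Set G), B⁆, B⁆ = ⊥) (hBT : ¬ B ≤ pCore p G) :
    ∃ g : G, g ∈ (S : Subgroup G) ∧ g ∉ pCore p G ∧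
      iterCommutator A (Subgroup.zpowers g) 3 ≤ A ⊓ Subgroup.centralizer (A : Set G) ∧
      ⁅⁅A ⊓ Subgroup.centralizer (A : Set G), Subgroup.zpowers g⁆, Subgroup.zpowers g⁆ = ⊥ ∧
      (Subgroup.centralizer ((pCore p G : Subgroup G) : Set G) ≤ pCore p G →
        ∃ U V : Subgroup G, IsChiefFactor U V ∧ U ≤ A ∧
          ⁅⁅U, Subgroup.zpowers g⁆, Subgroup.zpowers g⁆ ≤ V ∧
          ¬ ⁅U, Subgroup.zpowers g⁆ ≤ V) := by
  have hTn := pCore_normal p G
  have hZn : (A ⊓ Subgroup.centralizer (A : Set G)).Normal := inferInstance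
  refine exists_elt_pack S A hAT B hBS hBT ?_ ?_ ?_
  · intro g hg
    have hgz : Subgroup.zpowers g ≤ B := (Subgroup.zpowers_le).mpr hg
    show ⁅⁅⁅A, Subgroup.zpowers g⁆, Subgroup.zpowers g⁆, Subgroup.zpowers g⁆ ≤ _
    exact (Subgroup.commutator_mono ((Subgroup.commutator_mono
      (Subgroup.commutator_mono le_rfl hgz) hgz).trans h1) le_rfl).trans
      (Subgroup.commutator_le_left _ _)
  · intro g hg
    have hgz : Subgroup.zpowers g ≤ B := (Subgroup.zpowers_le).mpr hg
    apply le_bot_iff.mp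
    rw [← h2]
    exact Subgroup.commutator_mono (Subgroup.commutator_mono le_rfl hgz) hgz
  · intro hC
    have hC0 := centralizer_crit_le A hTA hCA hC
    obtain ⟨M, N, hMN, hMA, hn⟩ := exists_chief_of_not_le_pCore A hAT hC0 B hBT
    refine ⟨M, N, hMN, hMA, ?_, hn⟩
    have e1 : ChiefEngelN B 2 (A ⊓ Subgroup.centralizer (A : Set G)) :=
      (chiefEngelN_bot B 2).ext (by
        show ⁅⁅A ⊓ Subgroup.centralizer (A : Set G), B⁆, B⁆ ≤ ⊥
        rw [h2])
    have e2 : ChiefEngelN B 2 A := e1.ext h1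
    have e3 := e2 M N hMN
    rw [inf_eq_left.mpr hMA] at e3
    exact e3

/-- A subgroup of `S` outside `O_p(G)` of class at most two, normalized by `A` and satisfying the
lower-star condition with respect to the subgroups of `A`, yields the element of the conclusion. -/
theorem exists_elt_of_lowerStar (S : Sylow p G) (A : Subgroup G) [hAn : A.Normal]
    (hAT : A ≤ pCore p G)
    (hTA : ⁅pCore p G, A⁆ ≤ A ⊓ Subgroup.centralizer (A : Set G))
    (hCA : pCore p G ⊓ Subgroup.centralizer (A : Set G) ≤ A)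
    (B : Subgroup G) (hBS : B ≤ (S : Subgroup G)) (hB2 : ⁅⁅B, B⁆, B⁆ = ⊥) (hAB : ⁅A, B⁆ ≤ B)
    (hc : ∀ A₁ : Subgroup G, A₁ ≤ A → B ≤ Subgroup.normalizer (A₁ : Set G) →
      ⁅B, ⁅A₁, A₁⁆⁆ = ⊥ → ⁅⁅B ⊓ Subgroup.centralizer (B : Set G), A₁⁆, A₁⁆ = ⊥ →
      ⁅B, A₁⁆ ≤ B ⊓ Subgroup.centralizer (B : Set G)) (hBT : ¬ B ≤ pCore p G) :
    ∃ g : G, g ∈ (S : Subgroup G) ∧ g ∉ pCore p G ∧
      iterCommutator A (Subgroup.zpowers g) 3 ≤ A ⊓ Subgroup.centralizer (A : Set G) ∧
      ⁅⁅A ⊓ Subgroup.centralizer (A : Set G), Subgroup.zpowers g⁆, Subgroup.zpowers g⁆ = ⊥ ∧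
      (Subgroup.centralizer ((pCore p G : Subgroup G) : Set G) ≤ pCore p G →
        ∃ U V : Subgroup G, IsChiefFactor U V ∧ U ≤ A ∧
          ⁅⁅U, Subgroup.zpowers g⁆, Subgroup.zpowers g⁆ ≤ V ∧
          ¬ ⁅U, Subgroup.zpowers g⁆ ≤ V) := by
  have hTn := pCore_normal p G
  have hTp := pCore_isPGroup p G
  have hAp : IsPGroup p A := hTp.to_le hAT
  have hZn : (A ⊓ Subgroup.centralizer (A : Set G)).Normal := inferInstance
  have hZAc : ⁅A ⊓ Subgroup.centralizer (A : Set G), A⁆ = ⊥ := by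
    rw [Subgroup.commutator_eq_bot_iff_le_centralizer]; exact inf_le_right
  have hZBc : ⁅B ⊓ Subgroup.centralizer (B : Set G), B⁆ = ⊥ := by
    rw [Subgroup.commutator_eq_bot_iff_le_centralizer]; exact inf_le_right
  by_cases hZBT : B ⊓ Subgroup.centralizer (B : Set G) ≤ pCore p G
  · have hc' : ∀ A₁ : Subgroup G, A₁ ≤ A → B ≤ Subgroup.normalizer (A₁ : Set G) →
        ⁅B, ⁅A₁, A₁⁆⁆ = ⊥ → ⁅B, A₁⁆ ≤ B ⊓ Subgroup.centralizer (B : Set G) := by
      intro A₁ hA₁ hBA₁ h3
      refine hc A₁ hA₁ hBA₁ h3 ?_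
      apply le_bot_iff.mp
      rw [← hZAc]
      exact Subgroup.commutator_mono ((Subgroup.commutator_mono hZBT hA₁).trans hTA) hA₁
    refine exists_elt_pack S A hAT B hBS hBT ?_ ?_ ?_
    · intro g hg
      have hgz : Subgroup.zpowers g ≤ B := (Subgroup.zpowers_le).mpr hg
      show ⁅⁅⁅A, Subgroup.zpowers g⁆, Subgroup.zpowers g⁆, Subgroup.zpowers g⁆ ≤ _
      refine le_trans ?_ (bot_le : (⊥ : Subgroup G) ≤ _)
      rw [← hB2]
      exact Subgroup.commutator_mono (Subgroup.commutator_mono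
        ((Subgroup.commutator_mono le_rfl hgz).trans hAB) hgz) hgz
    · intro g hg
      have hgz : Subgroup.zpowers g ≤ B := (Subgroup.zpowers_le).mpr hg
      have hZZ : ⁅A ⊓ Subgroup.centralizer (A : Set G), A ⊓ Subgroup.centralizer (A : Set G)⁆ =
          ⊥ := le_bot_iff.mp (hZAc ▸ Subgroup.commutator_mono le_rfl inf_le_left)
      have hZ := hc' (A ⊓ Subgroup.centralizer (A : Set G)) inf_le_left
        Subgroup.le_normalizer_of_normal (by rw [hZZ, Subgroup.commutator_bot_right])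
      apply le_bot_iff.mp
      rw [← hZBc]
      refine (Subgroup.commutator_mono (Subgroup.commutator_mono le_rfl hgz) hgz).trans ?_
      rw [Subgroup.commutator_comm (A ⊓ Subgroup.centralizer (A : Set G)) B]
      exact Subgroup.commutator_mono hZ le_rfl
    · intro hC
      have hC0 := centralizer_crit_le A hTA hCA hC
      obtain ⟨L₀, hL₀⟩ : ∃ L₀, L₀ = Subgroup.normalClosure
          {y | y ∈ Subgroup.normalClosure (B : Set G) ∧ (orderOf y).Coprime p} := ⟨_, rfl⟩
      have hL₀n : L₀.Normal := by rw [hL₀]; infer_instance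
      have hPM : PMod p (Subgroup.normalClosure (B : Set G)) L₀ := by
        intro y hy hco
        rw [hL₀]
        exact Subgroup.subset_normalClosure ⟨hy, hco⟩
      have hL₀L : L₀ ≤ Subgroup.normalClosure (B : Set G) := by
        rw [hL₀]
        exact Subgroup.normalClosure_le_normal (fun y hy => hy.1)
      have hgen : ∀ C : Subgroup G, C.Normal → PMod p L₀ C → L₀ ≤ C := by
        intro C hCn hC
        have h1 : ∀ y ∈ {y | y ∈ Subgroup.normalClosure (B : Set G) ∧ (orderOf y).Coprime p},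
            y ∈ C := fun y hy => hC y (hPM y hy.1 hy.2) hy.2
        rw [hL₀]
        exact Subgroup.normalClosure_le_normal h1
      have hAL : ⁅A, L₀⁆ ≠ ⊥ := by
        intro h
        apply hBT
        refine Subgroup.le_normalClosure.trans (le_pCore_of_pMod hC0 _ ?_)
        intro y hy hco
        have h1 : L₀ ≤ Subgroup.centralizer (A : Set G) := by
          rw [Subgroup.commutator_comm, Subgroup.commutator_eq_bot_iff_le_centralizer] at h
          exact h
        exact h1 (hPM y hy hco)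
      obtain ⟨U, hUmem, hUmin⟩ := Set.exists_min_image
        {U : Subgroup G | U.Normal ∧ U ≤ A ∧ ⁅U, L₀⁆ ≠ ⊥} (fun U => Nat.card U) (Set.toFinite _)
        ⟨A, hAn, le_rfl, hAL⟩
      obtain ⟨hUn, hUA, hUL⟩ := hUmem
      obtain ⟨M, N, hMN, hMU, hq, hn⟩ := lowerStar_chief B L₀ U (hAp.to_le hUA) hB2
        ((Subgroup.commutator_mono hUA le_rfl).trans hAB)
        (by
          have h1 : ⁅A, A⁆ ≤ Subgroup.centralizer (A : Set G) :=
            ((Subgroup.commutator_mono hAT le_rfl).trans hTA).trans inf_le_right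
          exact ((Subgroup.commutator_mono hUA hUA).trans h1).trans (Subgroup.centralizer_le hUA))
        hPM hL₀L hgen
        (by
          intro V hVn hVU hVne
          by_contra hV
          have h1 := hUmin V ⟨hVn, hVU.trans hUA, hV⟩
          exact hVne (Subgroup.eq_of_le_of_card_ge hVU h1))
        hUL (fun A₁ hA₁ => hc' A₁ (hA₁.trans hUA))
      exact ⟨M, N, hMN, hMU.trans hUA, hq, hn⟩
  · have h0 : ⁅⁅A, B ⊓ Subgroup.centralizer (B : Set G)⁆,
        B ⊓ Subgroup.centralizer (B : Set G)⁆ = ⊥ := by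
      apply le_bot_iff.mp
      rw [← hZBc, Subgroup.commutator_comm (B ⊓ Subgroup.centralizer (B : Set G)) B]
      exact Subgroup.commutator_mono
        ((Subgroup.commutator_mono le_rfl inf_le_left).trans hAB) le_rfl
    refine exists_elt_of_quadratic S A hAT hTA hCA (B ⊓ Subgroup.centralizer (B : Set G))
      (inf_le_left.trans hBS) (by rw [h0]; exact bot_le) ?_ hZBT
    apply le_bot_iff.mp
    rw [← h0]
    exact Subgroup.commutator_mono (Subgroup.commutator_mono inf_le_left le_rfl) le_rfl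

end

section main

variable {G : Type u} [Group G] [Finite G] {p : ℕ} [Fact p.Prime]

/-- **Abstract normality criterion for the K-infinity subgroups.** Let `A ≤ O_p(G)` be normal
with `[O_p(G), A] ≤ Z(A)`. If the subgroups of `S` acting quadratically on `A/Z(A)` and `Z(A)`, and
the class-two subgroups of `S` normalized by `A` satisfying the lower-star condition relative to
the subgroups of `A`, all lie in `O_p(G)`, then both K-infinity subgroups of `S` are normal. -/
theorem kInf_normal_of_star (S : Sylow p G) (A : Subgroup G) [hAn : A.Normal]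
    (hAT : A ≤ pCore p G)
    (hTA : ⁅pCore p G, A⁆ ≤ A ⊓ Subgroup.centralizer (A : Set G))
    (Hq : ∀ B : Subgroup G, B ≤ (S : Subgroup G) →
      ⁅⁅A, B⁆, B⁆ ≤ A ⊓ Subgroup.centralizer (A : Set G) →
      ⁅⁅A ⊓ Subgroup.centralizer (A : Set G), B⁆, B⁆ = ⊥ → B ≤ pCore p G)
    (Hlow : ∀ B : Subgroup G, B ≤ (S : Subgroup G) → ⁅⁅B, B⁆, B⁆ = ⊥ → ⁅A, B⁆ ≤ B →
      (∀ A₁ : Subgroup G, A₁ ≤ A → B ≤ Subgroup.normalizer (A₁ : Set G) →
        ⁅B, ⁅A₁, A₁⁆⁆ = ⊥ → ⁅⁅B ⊓ Subgroup.centralizer (B : Set G), A₁⁆, A₁⁆ = ⊥ →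
        ⁅B, A₁⁆ ≤ B ⊓ Subgroup.centralizer (B : Set G)) → B ≤ pCore p G) :
    (inducedFunctor kInfLower (S : Subgroup G)).Normal ∧
      (inducedFunctor kInfUpper (S : Subgroup G)).Normal := by
  have hTn := pCore_normal p G
  have hTp := pCore_isPGroup p G
  have hTS : pCore p G ≤ (S : Subgroup G) := pCore_le_sylow S
  have hAS : A ≤ (S : Subgroup G) := hAT.trans hTS
  have hinj : Function.Injective (S : Subgroup G).subtype := Subtype.val_injective
  have hmapA : (A.subgroupOf (S : Subgroup G)).map (S : Subgroup G).subtype = A :=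
    Subgroup.map_subgroupOf_eq_of_le hAS
  have hmapT : ((pCore p G).subgroupOf (S : Subgroup G)).map (S : Subgroup G).subtype =
      pCore p G := Subgroup.map_subgroupOf_eq_of_le hTS
  have hmapZ : ((A.subgroupOf (S : Subgroup G)) ⊓ Subgroup.centralizer
      ((A.subgroupOf (S : Subgroup G) : Subgroup (S : Subgroup G)) : Set (S : Subgroup G))).map
        (S : Subgroup G).subtype = A ⊓ Subgroup.centralizer (A : Set G) := by
    rw [map_inf_centralizer hinj, hmapA]
  have hA2 : ⁅⁅A, A⁆, A⁆ = ⊥ := by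
    have h1 : ⁅A ⊓ Subgroup.centralizer (A : Set G), A⁆ = ⊥ := by
      rw [Subgroup.commutator_eq_bot_iff_le_centralizer]; exact inf_le_right
    apply le_bot_iff.mp
    rw [← h1]
    exact Subgroup.commutator_mono (le_trans (Subgroup.commutator_mono hAT le_rfl) hTA) le_rfl
  have hseq := kSeq_le_of_star ((pCore p G).subgroupOf (S : Subgroup G))
    (A.subgroupOf (S : Subgroup G))
    (by
      apply (Subgroup.map_eq_bot_iff_of_injective _ hinj).mp
      rw [Subgroup.map_commutator, Subgroup.map_commutator, hmapA]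
      exact hA2)
    (by
      apply (Subgroup.map_le_map_iff_of_injective hinj).mp
      rw [Subgroup.map_commutator, hmapZ, hmapT, hmapA]
      exact hTA)
    (by
      intro B h1 h2
      apply Subgroup.map_le_iff_le_comap.mp
      refine Hq (B.map (S : Subgroup G).subtype) (Subgroup.map_subtype_le B) ?_ ?_
      · have h3 := Subgroup.map_mono (f := (S : Subgroup G).subtype) h1
        rwa [Subgroup.map_commutator, Subgroup.map_commutator, hmapA, hmapZ] at h3
      · have h3 := congrArg (Subgroup.map (S : Subgroup G).subtype) h2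
        rwa [Subgroup.map_commutator, Subgroup.map_commutator, hmapZ, Subgroup.map_bot] at h3)
    (by
      intro B hB2 hAB hc
      apply Subgroup.map_le_iff_le_comap.mp
      refine Hlow (B.map (S : Subgroup G).subtype) (Subgroup.map_subtype_le B) ?_ ?_ ?_
      · have h3 := congrArg (Subgroup.map (S : Subgroup G).subtype) hB2
        rwa [Subgroup.map_commutator, Subgroup.map_commutator, Subgroup.map_bot] at h3
      · have h3 := Subgroup.map_mono (f := (S : Subgroup G).subtype) hAB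
        rwa [Subgroup.map_commutator, hmapA] at h3
      · intro A₁' hA₁' hBN h4 h5
        have hmapA₁ : (A₁'.subgroupOf (S : Subgroup G)).map (S : Subgroup G).subtype = A₁' :=
          Subgroup.map_subgroupOf_eq_of_le (hA₁'.trans hAS)
        have hres := hc (A₁'.subgroupOf (S : Subgroup G))
          (by
            apply (Subgroup.map_le_map_iff_of_injective hinj).mp
            rw [hmapA₁, hmapA]
            exact hA₁')
          (by
            apply (Subgroup.map_le_map_iff_of_injective hinj).mp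
            rw [Subgroup.map_commutator, hmapA₁]
            exact Subgroup.le_normalizer_iff_commutator_le_left.mp hBN)
          (by
            apply (Subgroup.map_eq_bot_iff_of_injective _ hinj).mp
            rw [Subgroup.map_commutator, Subgroup.map_commutator, hmapA₁]
            exact h4)
          (by
            apply (Subgroup.map_eq_bot_iff_of_injective _ hinj).mp
            rw [Subgroup.map_commutator, Subgroup.map_commutator, hmapA₁,
              map_inf_centralizer hinj]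
            exact h5)
        rw [← hmapA₁, ← Subgroup.map_commutator, ← map_inf_centralizer hinj]
        exact Subgroup.map_mono
          (le_inf hres.1 (Subgroup.commutator_eq_bot_iff_le_centralizer.mp hres.2)))
  obtain ⟨hlow, hupp⟩ := kInf_restrict hseq
  have hTp' : IsPGroup p ((pCore p G).subgroupOf (S : Subgroup G)) :=
    IsPGroup.to_subgroup S.2 _
  have key : ∀ W : ∀ (Q : Type u) [Group Q], Subgroup Q, IsCharPFunctor.{u} p W →
      (W ↥((pCore p G).subgroupOf (S : Subgroup G))).map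
        ((pCore p G).subgroupOf (S : Subgroup G)).subtype = W ↥(S : Subgroup G) →
      (inducedFunctor (G := G) W (S : Subgroup G)).Normal := by
    intro W hW hWeq
    have h1 : inducedFunctor (G := G) W (S : Subgroup G) =
        inducedFunctor (G := G) W (pCore p G) := by
      have h2 := ind_map hW (S : Subgroup G).subtype
        ((pCore p G).subgroupOf (S : Subgroup G)) hTp' hinj.injOn
      rw [hmapT] at h2
      rw [← h2]
      show (W ↥(S : Subgroup G)).map (S : Subgroup G).subtype = _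
      rw [← hWeq]
      rfl
    rw [h1]
    exact ind_normal hW (pCore p G) hTp
  exact ⟨key kInfLower (isCharPFunctor_kInfLower p) hlow,
    key kInfUpper (isCharPFunctor_kInfUpper p) hupp⟩

/-- **Glauberman's K-infinity theorem, chief factor form.** Let `A ≤ O_p(G)` be a normal subgroup
of `G` with `[O_p(G), A] ≤ Z(A)` and `C_{O_p(G)}(A) ≤ A` (for instance a critical subgroup of
`O_p(G)`). If the lower or the upper K-infinity subgroup of a Sylow `p`-subgroup `S` is not normal
in `G`, some `g ∈ S` outside `O_p(G)` satisfies `[A, g, g, g] ≤ Z(A)`, `[Z(A), g, g] = 1`, and, when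
`C_G(O_p(G)) ≤ O_p(G)`, acts quadratically and nontrivially on some chief factor of `G` below
`A`. -/
theorem exists_quadratic_chief_of_kInf_not_normal (S : Sylow p G) (A : Subgroup G)
    [hAn : A.Normal] (hAT : A ≤ pCore p G)
    (hTA : ⁅pCore p G, A⁆ ≤ A ⊓ Subgroup.centralizer (A : Set G))
    (hCA : pCore p G ⊓ Subgroup.centralizer (A : Set G) ≤ A)
    (hK : ¬ (inducedFunctor kInfLower (S : Subgroup G)).Normal ∨
      ¬ (inducedFunctor kInfUpper (S : Subgroup G)).Normal) :
    ∃ g : G, g ∈ (S : Subgroup G) ∧ g ∉ pCore p G ∧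
      iterCommutator A (Subgroup.zpowers g) 3 ≤ A ⊓ Subgroup.centralizer (A : Set G) ∧
      ⁅⁅A ⊓ Subgroup.centralizer (A : Set G), Subgroup.zpowers g⁆, Subgroup.zpowers g⁆ = ⊥ ∧
      (Subgroup.centralizer ((pCore p G : Subgroup G) : Set G) ≤ pCore p G →
        ∃ U V : Subgroup G, IsChiefFactor U V ∧ U ≤ A ∧
          ⁅⁅U, Subgroup.zpowers g⁆, Subgroup.zpowers g⁆ ≤ V ∧
          ¬ ⁅U, Subgroup.zpowers g⁆ ≤ V) := by
  by_contra hno
  have Hq : ∀ B : Subgroup G, B ≤ (S : Subgroup G) →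
      ⁅⁅A, B⁆, B⁆ ≤ A ⊓ Subgroup.centralizer (A : Set G) →
      ⁅⁅A ⊓ Subgroup.centralizer (A : Set G), B⁆, B⁆ = ⊥ → B ≤ pCore p G := by
    intro B hBS h1 h2
    by_contra hBT
    exact hno (exists_elt_of_quadratic S A hAT hTA hCA B hBS h1 h2 hBT)
  have Hlow : ∀ B : Subgroup G, B ≤ (S : Subgroup G) → ⁅⁅B, B⁆, B⁆ = ⊥ → ⁅A, B⁆ ≤ B →
      (∀ A₁ : Subgroup G, A₁ ≤ A → B ≤ Subgroup.normalizer (A₁ : Set G) →
        ⁅B, ⁅A₁, A₁⁆⁆ = ⊥ → ⁅⁅B ⊓ Subgroup.centralizer (B : Set G), A₁⁆, A₁⁆ = ⊥ →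
        ⁅B, A₁⁆ ≤ B ⊓ Subgroup.centralizer (B : Set G)) → B ≤ pCore p G := by
    intro B hBS hB2 hAB hc
    by_contra hBT
    exact hno (exists_elt_of_lowerStar S A hAT hTA hCA B hBS hB2 hAB hc hBT)
  have H := kInf_normal_of_star S A hAT hTA Hq Hlow
  rcases hK with hK | hK
  · exact hK H.1
  · exact hK H.2

end main

end Cfsg.Agent.Lib.helper39
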