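import Cfsg.Agent.Lib.helper39.QStable
import Cfsg.Agent.Lib.helper39.CliffordC
import Cfsg.Agent.Lib.helper39.Sections

set_option autoImplicit false

namespace Cfsg.Agent.Lib.helper39

open Cfsg

open scoped commutatorElement

section

variable {G : Type*} [Group G] [Finite G] {p : ℕ} [Fact p.Prime]

/-- The centralizer of a critical subgroup `A` of `O_p(G)` lies in `O_p(G)` when
`C_G(O_p(G)) ≤ O_p(G)`. -/
theorem centralizer_crit_le (A : Subgroup G) [hAn : A.Normal]
    (hTA : ⁅pCore p G, A⁆ ≤ A ⊓ Subgroup.centralizer (A : Set G))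
    (hCA : pCore p G ⊓ Subgroup.centralizer (A : Set G) ≤ A)
    (hC : Subgroup.centralizer ((pCore p G : Subgroup G) : Set G) ≤ pCore p G) :
    Subgroup.centralizer (A : Set G) ≤ pCore p G := by
  have hTn := pCore_normal p G
  have hTp := pCore_isPGroup p G
  refine le_pCore inferInstance (isPGroup_of_pprime_eq_one _ ?_)
  intro x hx hco
  have h1 : ⁅A, Subgroup.zpowers x⁆ = ⊥ := by
    rw [Subgroup.commutator_comm, Subgroup.commutator_eq_bot_iff_le_centralizer]
    exact (Subgroup.zpowers_le).mpr hx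
  have h2 : ⁅⁅Subgroup.zpowers x, pCore p G⁆, A⁆ = ⊥ := by
    apply Subgroup.commutator_commutator_eq_bot_of_rotate
    · apply le_bot_iff.mp
      rw [← h1]
      exact Subgroup.commutator_mono (hTA.trans inf_le_left) le_rfl
    · rw [h1, Subgroup.commutator_bot_left]
  have h3 : ⁅pCore p G, Subgroup.zpowers x⁆ ≤ A := by
    rw [Subgroup.commutator_comm]
    refine le_trans (le_inf (Subgroup.commutator_le_right _ _) ?_) hCA
    exact Subgroup.commutator_eq_bot_iff_le_centralizer.mp h2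
  have h4 : ⁅⁅pCore p G, Subgroup.zpowers x⁆, Subgroup.zpowers x⁆ = ⊥ := by
    apply le_bot_iff.mp
    rw [← h1]
    exact Subgroup.commutator_mono h3 le_rfl
  have h5 := commutator_eq_bot_of_pprime hTp hco
    (Subgroup.le_normalizer_of_normal (Subgroup.mem_top x)) h4
  have h6 : x ∈ Subgroup.centralizer ((pCore p G : Subgroup G) : Set G) := by
    rw [Subgroup.commutator_comm, Subgroup.commutator_eq_bot_iff_le_centralizer] at h5
    exact h5 (Subgroup.mem_zpowers x)
  exact eq_one_of_pprime_of_mem hTp (hC h6) hco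

/-- A normal subgroup all of whose elements of order prime to `p` lie in a subgroup of `O_p(G)`
lies in `O_p(G)`. -/
theorem le_pCore_of_pMod {C : Subgroup G} (hC0 : C ≤ pCore p G) (X : Subgroup G) [hXn : X.Normal]
    (h : PMod p X C) : X ≤ pCore p G :=
  le_pCore hXn (isPGroup_of_pprime_eq_one X
    (fun x hx hco => eq_one_of_pprime_of_mem (pCore_isPGroup p G) (hC0 (h x hx hco)) hco))

/-- In a `QStable` group, if `B` acts quadratically on `P/N`, the elements of order prime to `p`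
of the normal closure of `B` act trivially on `P/N`. -/
theorem pMod_normalClosure (hst : QStable p G) (P N : Subgroup G) [hPn : P.Normal]
    [hNn : N.Normal] (hNP : N ≤ P) (hP : IsPGroup p P) (B : Subgroup G)
    (hq : ⁅⁅P, B⁆, B⁆ ≤ N) : PMod p (Subgroup.normalClosure (B : Set G)) (relCent P N) := by
  have key := pMod_sSup (p := p) (relCent P N) ⊤ {S | ∃ b ∈ B, S = nclIn ⊤ b} (by
    rintro S ⟨b, hb, rfl⟩
    refine ⟨le_top, le_normalizer_nclIn ⊤ b, ?_⟩
    intro x hx hco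
    have h1 := hst N P ⊤ hNn hNP hP Subgroup.le_normalizer_of_normal b (Subgroup.mem_top b)
      (le_trans (Subgroup.commutator_mono (Subgroup.commutator_mono le_rfl
        ((Subgroup.zpowers_le).mpr hb)) ((Subgroup.zpowers_le).mpr hb)) hq) x hx hco
    exact (le_relCent_iff.mpr h1) (Subgroup.mem_zpowers x))
  have hn : (sSup {S : Subgroup G | ∃ b ∈ B, S = nclIn ⊤ b}).Normal := by
    apply Subgroup.sSup_normal
    rintro S ⟨b, hb, rfl⟩
    exact Subgroup.normalizer_eq_top_iff.mp (top_le_iff.mp (le_normalizer_nclIn ⊤ b))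
  refine key.mono (Subgroup.normalClosure_le_normal ?_)
  intro b hb
  have hmem : nclIn ⊤ b ∈ {S : Subgroup G | ∃ b ∈ B, S = nclIn ⊤ b} := ⟨b, hb, rfl⟩
  exact (le_sSup hmem) (self_mem_nclIn ⊤ b)

/-- **Lemma Q.** In a `QStable` group with `C_G(O_p(G)) ≤ O_p(G)` and critical subgroup `A`, every
subgroup acting quadratically on `A/Z(A)` and on `Z(A)` lies in `O_p(G)`. -/
theorem le_pCore_of_quadratic (hst : QStable p G) (A : Subgroup G) [hAn : A.Normal]
    (hAT : A ≤ pCore p G)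
    (hC0 : Subgroup.centralizer (A : Set G) ≤ pCore p G) (B : Subgroup G)
    (h1 : ⁅⁅A, B⁆, B⁆ ≤ A ⊓ Subgroup.centralizer (A : Set G))
    (h2 : ⁅⁅A ⊓ Subgroup.centralizer (A : Set G), B⁆, B⁆ = ⊥) : B ≤ pCore p G := by
  have hAp : IsPGroup p A := (pCore_isPGroup p G).to_le hAT
  have hZn : (A ⊓ Subgroup.centralizer (A : Set G)).Normal := inferInstance
  have q1 := pMod_normalClosure hst A (A ⊓ Subgroup.centralizer (A : Set G)) inf_le_left hAp B h1
  have q2 := pMod_normalClosure hst (A ⊓ Subgroup.centralizer (A : Set G)) ⊥ bot_le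
    (hAp.to_le inf_le_left) B h2.le
  refine Subgroup.le_normalClosure.trans (le_pCore_of_pMod hC0 _ ?_)
  intro x hx hco
  have a1 : ⁅A, Subgroup.zpowers x⁆ ≤ A ⊓ Subgroup.centralizer (A : Set G) :=
    le_relCent_iff.mp ((Subgroup.zpowers_le).mpr (q1 x hx hco))
  have a2 : ⁅A ⊓ Subgroup.centralizer (A : Set G), Subgroup.zpowers x⁆ ≤ ⊥ :=
    le_relCent_iff.mp ((Subgroup.zpowers_le).mpr (q2 x hx hco))
  have a3 : ⁅⁅A, Subgroup.zpowers x⁆, Subgroup.zpowers x⁆ = ⊥ :=
    le_bot_iff.mp ((Subgroup.commutator_mono a1 le_rfl).trans a2)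
  have a4 := commutator_eq_bot_of_pprime hAp hco
    (Subgroup.le_normalizer_of_normal (Subgroup.mem_top x)) a3
  rw [Subgroup.commutator_comm, Subgroup.commutator_eq_bot_iff_le_centralizer] at a4
  exact a4 (Subgroup.mem_zpowers x)

/-- The core of the argument for the lower-star family: a minimal normal subgroup `U ≤ A` on
which `L₀ = O^p(⟨B^G⟩)` acts nontrivially cannot exist. -/
theorem lowerStar_core (hst : QStable p G) (B L₀ U : Subgroup G) [hL₀n : L₀.Normal]
    [hUn : U.Normal] (hBp : IsPGroup p B) (hUp : IsPGroup p U)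
    (hB2 : ⁅⁅B, B⁆, B⁆ = ⊥) (hUB : ⁅U, B⁆ ≤ B)
    (hUcl : ⁅U, U⁆ ≤ Subgroup.centralizer (U : Set G))
    (hL₀ : PMod p (Subgroup.normalClosure (B : Set G)) L₀)
    (hL₀L : L₀ ≤ Subgroup.normalClosure (B : Set G))
    (hgen : ∀ C : Subgroup G, C.Normal → PMod p L₀ C → L₀ ≤ C)
    (hmin : ∀ V : Subgroup G, V.Normal → V ≤ U → V ≠ U → ⁅V, L₀⁆ = ⊥)
    (hUL : ⁅U, L₀⁆ ≠ ⊥)
    (hc' : ∀ A₁ : Subgroup G, A₁ ≤ U → B ≤ Subgroup.normalizer (A₁ : Set G) →
      ⁅B, ⁅A₁, A₁⁆⁆ = ⊥ → ⁅B, A₁⁆ ≤ B ⊓ Subgroup.centralizer (B : Set G)) : False := by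
  have hZBc : ⁅B ⊓ Subgroup.centralizer (B : Set G), B⁆ = ⊥ := by
    rw [Subgroup.commutator_eq_bot_iff_le_centralizer]; exact inf_le_right
  have hnormU : ∀ x : G, x ∈ Subgroup.normalizer (U : Set G) :=
    fun x => Subgroup.le_normalizer_of_normal (Subgroup.mem_top x)
  have hcent_of : (∀ y ∈ L₀, (orderOf y).Coprime p → ⁅U, Subgroup.zpowers y⁆ = ⊥) → False := by
    intro h
    apply hUL
    have h1 : L₀ ≤ Subgroup.centralizer (U : Set G) := hgen _ inferInstance (fun y hy hco => by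
      have h2 := h y hy hco
      rw [Subgroup.commutator_comm, Subgroup.commutator_eq_bot_iff_le_centralizer] at h2
      exact h2 (Subgroup.mem_zpowers y))
    rw [Subgroup.commutator_comm, Subgroup.commutator_eq_bot_iff_le_centralizer]
    exact h1
  -- (k1)
  have hk1 : ⁅U, L₀⁆ = U := by
    by_contra hne
    have h1 := hmin ⁅U, L₀⁆ inferInstance (Subgroup.commutator_le_left U L₀) hne
    apply hcent_of
    intro y hy hco
    refine commutator_eq_bot_of_pprime hUp hco (hnormU y) ?_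
    apply le_bot_iff.mp
    rw [← h1]
    exact Subgroup.commutator_mono (Subgroup.commutator_mono le_rfl
      ((Subgroup.zpowers_le).mpr hy)) ((Subgroup.zpowers_le).mpr hy)
  -- (k2)
  have hWZ : ⁅U, U⁆ ≤ U ⊓ Subgroup.centralizer (U : Set G) :=
    le_inf (Subgroup.commutator_le_left U U) hUcl
  have hZUn : (U ⊓ Subgroup.centralizer (U : Set G)).Normal := inferInstance
  -- (k3)
  have hk3 : ⁅B, ⁅U, U⁆⁆ ≠ ⊥ := by
    intro h
    have h1 := hc' U le_rfl Subgroup.le_normalizer_of_normal h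
    have h2 : ⁅⁅U, B⁆, B⁆ ≤ ⊥ := by
      rw [← hZBc, Subgroup.commutator_comm U B]
      exact Subgroup.commutator_mono h1 le_rfl
    have q := pMod_normalClosure hst U ⊥ bot_le hUp B h2
    apply hcent_of
    intro y hy hco
    exact le_bot_iff.mp (le_relCent_iff.mp ((Subgroup.zpowers_le).mpr (q y (hL₀L hy) hco)))
  have hZUne : U ⊓ Subgroup.centralizer (U : Set G) ≠ U := by
    intro h
    apply hk3
    have h2 : ⁅U, U⁆ = ⊥ := Subgroup.commutator_eq_bot_iff_le_centralizer.mpr (inf_eq_left.mp h)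
    rw [h2, Subgroup.commutator_bot_right]
  -- (k4)
  have hk4 : ⁅U ⊓ Subgroup.centralizer (U : Set G), L₀⁆ = ⊥ := hmin _ hZUn inf_le_left hZUne
  -- (k5)
  have hchief : ∀ V : Subgroup G, V.Normal → V ≤ U → V ≠ U →
      V ≤ U ⊓ Subgroup.centralizer (U : Set G) := by
    intro V hVn hVU hVne
    have h1 := hmin V hVn hVU hVne
    have h2 : ⁅⁅L₀, U⁆, V⁆ = ⊥ := by
      apply Subgroup.commutator_commutator_eq_bot_of_rotate
      · apply le_bot_iff.mp
        rw [← h1]
        exact Subgroup.commutator_mono (Subgroup.commutator_le_right U V) le_rfl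
      · rw [h1, Subgroup.commutator_bot_left]
    rw [Subgroup.commutator_comm L₀ U, hk1] at h2
    refine le_inf hVU ?_
    rw [Subgroup.commutator_comm] at h2
    exact Subgroup.commutator_eq_bot_iff_le_centralizer.mp h2
  -- (k6)
  obtain ⟨W₀, hW₀⟩ : ∃ W₀, W₀ = ⁅U, U⁆ ⊓ Subgroup.centralizer (B : Set G) := ⟨_, rfl⟩
  have hW₀ZU : W₀ ≤ U ⊓ Subgroup.centralizer (U : Set G) := by
    rw [hW₀]; exact inf_le_left.trans hWZ
  have hW₀c : W₀ ≤ Subgroup.centralizer (U : Set G) := hW₀ZU.trans inf_le_right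
  have hW₀B : W₀ ≤ Subgroup.centralizer (B : Set G) := by rw [hW₀]; exact inf_le_right
  obtain ⟨U₃, hU₃⟩ : ∃ U₃, U₃ = radSub U W₀ := ⟨_, rfl⟩
  have r1 : U₃ ≤ U := by rw [hU₃]; exact radSub_le U W₀
  have r2 : U ⊓ Subgroup.centralizer (U : Set G) ≤ U₃ := by
    rw [hU₃]
    intro u hu
    refine mem_radSub_of hu.1 (fun v hv => ?_)
    have h1 : ⁅u, v⁆ = 1 := by
      rw [commutatorElement_eq_one_iff_mul_comm]
      exact ((Subgroup.mem_centralizer_iff.mp hu.2) v hv).symm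
    rw [h1]
    exact one_mem _
  have r3 : ⁅U₃, U⁆ ≤ W₀ := by
    rw [Subgroup.commutator_le]
    intro u hu v hv
    rw [hU₃] at hu
    exact ((mem_radSub hW₀c).mp hu).2 v hv
  have hBW₀ : B ≤ Subgroup.normalizer (W₀ : Set G) := by
    rw [hW₀]
    exact le_normalizer_inf Subgroup.le_normalizer_of_normal
      (Subgroup.le_normalizer.trans (normalizer_le_normalizer_centralizer B))
  have r4 : B ≤ Subgroup.normalizer (U₃ : Set G) := by
    rw [hU₃]
    exact (le_inf Subgroup.le_normalizer_of_normal hBW₀).trans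
      (normalizer_le_normalizer_radSub U W₀)
  have hL₀cZ : L₀ ≤ Subgroup.centralizer
      ((U ⊓ Subgroup.centralizer (U : Set G) : Subgroup G) : Set G) := by
    have h1 := hk4
    rw [Subgroup.commutator_comm, Subgroup.commutator_eq_bot_iff_le_centralizer] at h1
    exact h1
  have r5 : L₀ ≤ Subgroup.normalizer (U₃ : Set G) := by
    rw [hU₃]
    refine (le_inf Subgroup.le_normalizer_of_normal ?_).trans
      (normalizer_le_normalizer_radSub U W₀)
    exact (hL₀cZ.trans (Subgroup.centralizer_le hW₀ZU)).trans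
      (Subgroup.centralizer_le_normalizer _)
  have r6 : U ⊓ (B ⊓ Subgroup.centralizer (B : Set G)) ≤ U₃ := by
    rw [hU₃]
    rintro t ⟨htU, htB, htc⟩
    refine mem_radSub_of htU (fun v hv => ?_)
    rw [hW₀]
    refine ⟨Subgroup.commutator_mem_commutator htU hv, ?_⟩
    have htc' : t ∈ Subgroup.centralizer (B : Set G) := htc
    show ⁅t, v⁆ ∈ Subgroup.centralizer (B : Set G)
    rw [Subgroup.mem_centralizer_iff]
    intro b hb
    have h1 : b * t = t * b := (Subgroup.mem_centralizer_iff.mp htc') b hb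
    have hvb : v⁻¹ * b * v ∈ B := by
      have h0 : ⁅v⁻¹, b⁆ ∈ B := hUB (Subgroup.commutator_mem_commutator (U.inv_mem hv) hb)
      have e : v⁻¹ * b * v = ⁅v⁻¹, b⁆ * b := by rw [commutatorElement_def]; group
      rw [e]
      exact B.mul_mem h0 hb
    have h2 : v⁻¹ * b * v * t = t * (v⁻¹ * b * v) :=
      (Subgroup.mem_centralizer_iff.mp htc') _ hvb
    have h2' : t⁻¹ * (v⁻¹ * b * v) = (v⁻¹ * b * v) * t⁻¹ := by
      calc t⁻¹ * (v⁻¹ * b * v) = t⁻¹ * ((v⁻¹ * b * v) * t) * t⁻¹ := by group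
        _ = t⁻¹ * (t * (v⁻¹ * b * v)) * t⁻¹ := by rw [h2]
        _ = (v⁻¹ * b * v) * t⁻¹ := by group
    have h3 : b * (v * t⁻¹ * v⁻¹) = (v * t⁻¹ * v⁻¹) * b := by
      calc b * (v * t⁻¹ * v⁻¹) = v * ((v⁻¹ * b * v) * t⁻¹) * v⁻¹ := by group
        _ = v * (t⁻¹ * (v⁻¹ * b * v)) * v⁻¹ := by rw [h2']
        _ = (v * t⁻¹ * v⁻¹) * b := by group
    rw [commutatorElement_def]
    calc b * (t * v * t⁻¹ * v⁻¹) = (b * t) * (v * t⁻¹ * v⁻¹) := by group
      _ = t * (b * (v * t⁻¹ * v⁻¹)) := by rw [h1]; group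
      _ = t * ((v * t⁻¹ * v⁻¹) * b) := by rw [h3]
      _ = t * v * t⁻¹ * v⁻¹ * b := by group
  have hBBZ : ⁅B, B⁆ ≤ B ⊓ Subgroup.centralizer (B : Set G) :=
    le_inf (commutator_self_le B) (Subgroup.commutator_eq_bot_iff_le_centralizer.mp hB2)
  have r7 : ⁅⁅U, B⁆, B⁆ ≤ U₃ := by
    refine le_trans (le_inf ?_ ?_) r6
    · exact (Subgroup.commutator_mono (Subgroup.commutator_le_left U B) le_rfl).trans
        (Subgroup.commutator_le_left U B)
    · exact (Subgroup.commutator_mono hUB le_rfl).trans hBBZ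
  have r8 : ⁅B, U₃⁆ ≤ B ⊓ Subgroup.centralizer (B : Set G) := by
    refine hc' U₃ r1 r4 ?_
    rw [Subgroup.commutator_comm, Subgroup.commutator_eq_bot_iff_le_centralizer]
    exact ((Subgroup.commutator_mono le_rfl r1).trans r3).trans hW₀B
  -- (k7)
  have hHU₃ : L₀ ⊔ B ≤ Subgroup.normalizer (U₃ : Set G) := sup_le r5 r4
  have hU₃p : IsPGroup p U₃ := hUp.to_le r1
  have hx_L₀ : ∀ b ∈ B, ∀ x ∈ nclIn (L₀ ⊔ B) b, (orderOf x).Coprime p → x ∈ L₀ := by
    intro b hb x hx hco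
    exact hL₀ x (nclIn_le (Subgroup.le_normalClosure hb) Subgroup.le_normalizer_of_normal hx) hco
  have hquadB : ∀ b ∈ B, ⁅⁅U₃, Subgroup.zpowers b⁆, Subgroup.zpowers b⁆ ≤
      U ⊓ Subgroup.centralizer (U : Set G) := by
    intro b hb
    have h1 : ⁅⁅U₃, B⁆, B⁆ ≤ ⊥ := by
      rw [← hZBc, Subgroup.commutator_comm U₃ B]
      exact Subgroup.commutator_mono r8 le_rfl
    exact le_trans (le_trans (Subgroup.commutator_mono (Subgroup.commutator_mono le_rfl
      ((Subgroup.zpowers_le).mpr hb)) ((Subgroup.zpowers_le).mpr hb)) h1) bot_le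
  have q1 : ∀ b ∈ B, ∀ x ∈ nclIn (L₀ ⊔ B) b, (orderOf x).Coprime p →
      ⁅U₃, Subgroup.zpowers x⁆ = ⊥ := by
    intro b hb x hx hco
    have hxL₀ := hx_L₀ b hb x hx hco
    have h1 := hst _ U₃ (L₀ ⊔ B) hZUn r2 hU₃p hHU₃ b (Subgroup.mem_sup_right hb) (hquadB b hb)
      x hx hco
    refine commutator_eq_bot_of_pprime hU₃p hco (r5 hxL₀) ?_
    apply le_bot_iff.mp
    rw [← hk4]
    exact Subgroup.commutator_mono h1 ((Subgroup.zpowers_le).mpr hxL₀)
  obtain ⟨Y, hY⟩ : ∃ Y, Y = Subgroup.closure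
      {x | ∃ b ∈ B, x ∈ nclIn (L₀ ⊔ B) b ∧ (orderOf x).Coprime p} := ⟨_, rfl⟩
  have y1 : Y ≤ Subgroup.centralizer (U₃ : Set G) := by
    rw [hY, Subgroup.closure_le]
    rintro x ⟨b, hb, hx, hco⟩
    have h1 := q1 b hb x hx hco
    rw [Subgroup.commutator_comm, Subgroup.commutator_eq_bot_iff_le_centralizer] at h1
    exact h1 (Subgroup.mem_zpowers x)
  have y2 : Y ≤ L₀ := by
    rw [hY, Subgroup.closure_le]
    rintro x ⟨b, hb, hx, hco⟩
    exact hx_L₀ b hb x hx hco
  have y3 : L₀ ⊔ B ≤ Subgroup.normalizer (Y : Set G) := by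
    apply le_normalizer_of_forall_cj_le
    intro h hh
    rw [hY]
    show (Subgroup.closure _).map (MulAut.conj h).toMonoidHom ≤ _
    rw [MonoidHom.map_closure, Subgroup.closure_le]
    rintro _ ⟨x, ⟨b, hb, hx, hco⟩, rfl⟩
    refine Subgroup.subset_closure ⟨b, hb, ?_, ?_⟩
    · exact (Subgroup.mem_normalizer_iff.mp (le_normalizer_nclIn (L₀ ⊔ B) b hh) x).mp hx
    · show (orderOf (h * x * h⁻¹)).Coprime p
      rw [orderOf_conj_eq]
      exact hco
  have y4 : ∀ b ∈ B, ∀ x ∈ nclIn (L₀ ⊔ B) b, (orderOf x).Coprime p → x ∈ Y := by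
    intro b hb x hx hco
    rw [hY]
    exact Subgroup.subset_closure ⟨b, hb, hx, hco⟩
  -- (k8)
  obtain ⟨V', hZV', hV'U, hLV', hUV', hUle⟩ := clifford_complement U
    (U ⊓ Subgroup.centralizer (U : Set G)) L₀ U₃ inf_le_left hWZ hchief r2 r1 r5
  have hUY : ⁅U, Y⁆ ≤ V' := by
    refine (Subgroup.commutator_mono hUle le_rfl).trans ?_
    refine commutator_sup_le' (r1.trans (le_normalizer_of_commutator_le hWZ hZV' hV'U))
      Subgroup.le_normalizer ?_ ?_
    · have h1 : ⁅U₃, Y⁆ = ⊥ := by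
        rw [Subgroup.commutator_comm, Subgroup.commutator_eq_bot_iff_le_centralizer]
        exact y1
      rw [h1]
      exact bot_le
    · exact Subgroup.le_normalizer_iff_commutator_le_left.mp (y2.trans hLV')
  obtain ⟨D, hD⟩ : ∃ D, D = ⁅U, Y⁆ ⊔ (U ⊓ Subgroup.centralizer (U : Set G)) := ⟨_, rfl⟩
  have d1 : D ≤ V' := by rw [hD]; exact sup_le hUY hZV'
  have d2 : D ≤ U := d1.trans hV'U
  have d3 : U ⊓ Subgroup.centralizer (U : Set G) ≤ D := by rw [hD]; exact le_sup_right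
  have d4 : IsPGroup p D := hUp.to_le d2
  have d5 : L₀ ⊔ B ≤ Subgroup.normalizer (D : Set G) := by
    rw [hD]
    refine le_trans (le_inf ?_ Subgroup.le_normalizer_of_normal)
      (Subgroup.normalizer_inf_normalizer_le_normalizer_sup _ _)
    intro h hh
    apply cj_eq_self_iff.mp
    rw [cj_commutator, cj_normal h U, cj_eq_self_iff.mpr (y3 hh)]
  have d6 : ∀ b ∈ B, ⁅⁅D, Subgroup.zpowers b⁆, Subgroup.zpowers b⁆ ≤
      U ⊓ Subgroup.centralizer (U : Set G) := by
    intro b hb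
    have hbz : Subgroup.zpowers b ≤ B := (Subgroup.zpowers_le).mpr hb
    refine le_trans (le_inf ?_ ?_) hUV'
    · exact (Subgroup.commutator_mono (Subgroup.commutator_mono d2 hbz) hbz).trans r7
    · have h1 : ⁅D, Subgroup.zpowers b⁆ ≤ D :=
        Subgroup.le_normalizer_iff_commutator_le_left.mp ((hbz.trans le_sup_right).trans d5)
      exact ((Subgroup.commutator_mono h1 le_rfl).trans h1).trans d1
  have q2 : ∀ b ∈ B, PMod p (nclIn (L₀ ⊔ B) b) (Subgroup.centralizer (U : Set G)) := by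
    intro b hb x hx hco
    have hxL₀ := hx_L₀ b hb x hx hco
    have hxz : Subgroup.zpowers x ≤ L₀ := (Subgroup.zpowers_le).mpr hxL₀
    have h1 := hst _ D (L₀ ⊔ B) hZUn d3 d4 d5 b (Subgroup.mem_sup_right hb) (d6 b hb) x hx hco
    have h2 : ⁅D, Subgroup.zpowers x⁆ = ⊥ := by
      refine commutator_eq_bot_of_pprime d4 hco (d5 (Subgroup.mem_sup_left hxL₀)) ?_
      apply le_bot_iff.mp
      rw [← hk4]
      exact Subgroup.commutator_mono h1 hxz
    have h3 : ⁅U, Subgroup.zpowers x⁆ = ⊥ := by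
      refine commutator_eq_bot_of_pprime hUp hco (hnormU x) ?_
      apply le_bot_iff.mp
      rw [← h2]
      refine Subgroup.commutator_mono ?_ le_rfl
      rw [hD]
      exact (Subgroup.commutator_mono le_rfl
        ((Subgroup.zpowers_le).mpr (y4 b hb x hx hco))).trans le_sup_left
    rw [Subgroup.commutator_comm, Subgroup.commutator_eq_bot_iff_le_centralizer] at h3
    exact h3 (Subgroup.mem_zpowers x)
  -- (k9)
  have hJ : PMod p (sSup {S : Subgroup G | ∃ b ∈ B, ∃ g : G,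
      S = cj g ⁅L₀, Subgroup.zpowers b⁆}) (Subgroup.centralizer (U : Set G)) := by
    apply pMod_sSup (Subgroup.centralizer (U : Set G)) L₀
    rintro S ⟨b, hb, g, rfl⟩
    refine ⟨?_, ?_, ?_⟩
    · have h1 := cj_le_cj (g := g) |>.mpr (Subgroup.commutator_le_left L₀ (Subgroup.zpowers b))
      rwa [cj_normal g L₀] at h1
    · have h1 := cj_le_cj (g := g) |>.mpr
        (le_normalizer_commutator_left L₀ (Subgroup.zpowers b))
      rwa [cj_normal g L₀, cj_normalizer] at h1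
    · exact ((q2 b hb).mono (commutator_zpowers_le_nclIn le_sup_left)).cj g
  have hJn : (sSup {S : Subgroup G | ∃ b ∈ B, ∃ g : G,
      S = cj g ⁅L₀, Subgroup.zpowers b⁆}).Normal := by
    apply Subgroup.normalizer_eq_top_iff.mp
    apply top_le_iff.mp
    apply le_normalizer_of_forall_cj_le
    intro x _
    show Subgroup.map (MulAut.conj x).toMonoidHom _ ≤ _
    rw [Subgroup.map_le_iff_le_comap]
    apply sSup_le
    rintro S ⟨b, hb, g, rfl⟩
    rw [← Subgroup.map_le_iff_le_comap]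
    show cj x (cj g _) ≤ _
    rw [← cj_mul]
    exact le_sSup ⟨b, hb, x * g, rfl⟩
  have hJCs : ⁅U, sSup {S : Subgroup G | ∃ b ∈ B, ∃ g : G,
      S = cj g ⁅L₀, Subgroup.zpowers b⁆}⁆ ≤ U ⊓ Subgroup.centralizer (U : Set G) := by
    refine le_relCent_of_pMod U _ _ inf_le_left hZUne hUp hchief (hJ.mono_right ?_)
    rw [le_relCent_iff]
    have h1 : ⁅U, Subgroup.centralizer (U : Set G)⁆ = ⊥ := by
      rw [Subgroup.commutator_comm, Subgroup.commutator_eq_bot_iff_le_centralizer]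
    rw [h1]
    exact bot_le
  have hL₀B : ⁅L₀, B⁆ ≤ relCent U (U ⊓ Subgroup.centralizer (U : Set G)) := by
    rw [Subgroup.commutator_le]
    intro l hl b hb
    have hmem : ⁅L₀, Subgroup.zpowers b⁆ ∈ {S : Subgroup G | ∃ b ∈ B, ∃ g : G,
        S = cj g ⁅L₀, Subgroup.zpowers b⁆} := ⟨b, hb, 1, (cj_one _).symm⟩
    have h1 := (le_sSup hmem) (Subgroup.commutator_mem_commutator hl (Subgroup.mem_zpowers b))
    exact (le_relCent_iff.mpr hJCs) h1
  have hL₀L' : ⁅L₀, Subgroup.normalClosure (B : Set G)⁆ ≤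
      relCent U (U ⊓ Subgroup.centralizer (U : Set G)) := by
    have h1 : B ≤ relCent L₀ (relCent U (U ⊓ Subgroup.centralizer (U : Set G))) :=
      le_relCent_iff.mpr hL₀B
    have h2 : Subgroup.normalClosure (B : Set G) ≤
        relCent L₀ (relCent U (U ⊓ Subgroup.centralizer (U : Set G))) :=
      Subgroup.normalClosure_le_normal h1
    exact le_relCent_iff.mp h2
  have hE2 : PMod p (Subgroup.normalClosure (B : Set G))
      (relCent U (U ⊓ Subgroup.centralizer (U : Set G))) := by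
    refine pMod_of_central (relCent U (U ⊓ Subgroup.centralizer (U : Set G)))
      (Group.conjugatesOfSet (B : Set G)) ?_ ?_
    · intro a ha
      obtain ⟨b, hb, hba⟩ := Group.mem_conjugatesOfSet_iff.mp ha
      obtain ⟨c, hc⟩ := isConj_iff.mp hba
      obtain ⟨k, hk⟩ := hBp ⟨b, hb⟩
      have hk' : b ^ p ^ k = 1 := by
        have h0 := congrArg Subtype.val hk
        simpa using h0
      refine ⟨k, ?_⟩
      rw [← hc, conj_pow, hk']
      group
    · intro y hy hco x hx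
      exact hL₀L' (Subgroup.commutator_mem_commutator (hL₀ y hy hco) hx)
  have hfin : L₀ ≤ relCent U (U ⊓ Subgroup.centralizer (U : Set G)) :=
    hgen _ inferInstance (hE2.mono hL₀L)
  have h9 : ⁅U, L₀⁆ ≤ U ⊓ Subgroup.centralizer (U : Set G) := le_relCent_iff.mp hfin
  rw [hk1] at h9
  exact hZUne (le_antisymm inf_le_left h9)

/-- **The lower-star lemma.** In a `QStable` group with `C_G(O_p(G)) ≤ O_p(G)` and critical
subgroup `A`, a `p`-subgroup `B` of class at most two normalized by `A` and satisfying the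
lower-star condition with respect to the subgroups of `A` lies in `O_p(G)`. -/
theorem le_pCore_of_lowerStar (hst : QStable p G) (A : Subgroup G) [hAn : A.Normal]
    (hAT : A ≤ pCore p G)
    (hTA : ⁅pCore p G, A⁆ ≤ A ⊓ Subgroup.centralizer (A : Set G))
    (hC0 : Subgroup.centralizer (A : Set G) ≤ pCore p G)
    (B : Subgroup G) (hBp : IsPGroup p B) (hB2 : ⁅⁅B, B⁆, B⁆ = ⊥) (hAB : ⁅A, B⁆ ≤ B)
    (hc : ∀ A₁ : Subgroup G, A₁ ≤ A → B ≤ Subgroup.normalizer (A₁ : Set G) →
      ⁅B, ⁅A₁, A₁⁆⁆ = ⊥ → ⁅⁅B ⊓ Subgroup.centralizer (B : Set G), A₁⁆, A₁⁆ = ⊥ →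
      ⁅B, A₁⁆ ≤ B ⊓ Subgroup.centralizer (B : Set G)) : B ≤ pCore p G := by
  have hAp : IsPGroup p A := (pCore_isPGroup p G).to_le hAT
  have hZAc : ⁅A ⊓ Subgroup.centralizer (A : Set G), A⁆ = ⊥ := by
    rw [Subgroup.commutator_eq_bot_iff_le_centralizer]; exact inf_le_right
  have hZBc : ⁅B ⊓ Subgroup.centralizer (B : Set G), B⁆ = ⊥ := by
    rw [Subgroup.commutator_eq_bot_iff_le_centralizer]; exact inf_le_right
  -- Step 1
  have hZBT : B ⊓ Subgroup.centralizer (B : Set G) ≤ pCore p G := by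
    have h0 : ⁅⁅A, B ⊓ Subgroup.centralizer (B : Set G)⁆,
        B ⊓ Subgroup.centralizer (B : Set G)⁆ = ⊥ := by
      apply le_bot_iff.mp
      rw [← hZBc, Subgroup.commutator_comm (B ⊓ Subgroup.centralizer (B : Set G)) B]
      exact Subgroup.commutator_mono
        ((Subgroup.commutator_mono le_rfl inf_le_left).trans hAB) le_rfl
    refine le_pCore_of_quadratic hst A hAT hC0 _ (by rw [h0]; exact bot_le) ?_
    apply le_bot_iff.mp
    rw [← h0]
    exact Subgroup.commutator_mono (Subgroup.commutator_mono inf_le_left le_rfl) le_rfl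
  -- Step 2
  have hc' : ∀ A₁ : Subgroup G, A₁ ≤ A → B ≤ Subgroup.normalizer (A₁ : Set G) →
      ⁅B, ⁅A₁, A₁⁆⁆ = ⊥ → ⁅B, A₁⁆ ≤ B ⊓ Subgroup.centralizer (B : Set G) := by
    intro A₁ hA₁ hBA₁ h3
    refine hc A₁ hA₁ hBA₁ h3 ?_
    apply le_bot_iff.mp
    rw [← hZAc]
    exact Subgroup.commutator_mono ((Subgroup.commutator_mono hZBT hA₁).trans hTA) hA₁
  -- Step 3
  by_contra hBT
  obtain ⟨L₀, hL₀⟩ : ∃ L₀, L₀ = Subgroup.normalClosure
      {y | y ∈ Subgroup.normalClosure (B : Set G) ∧ (orderOf y).Coprime p} := ⟨_, rfl⟩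
  have hL₀n : L₀.Normal := by rw [hL₀]; infer_instance
  have hPM : PMod p (Subgroup.normalClosure (B : Set G)) L₀ := by
    intro y hy hco
    rw [hL₀]
    exact Subgroup.subset_normalClosure ⟨hy, hco⟩
  have hL₀L : L₀ ≤ Subgroup.normalClosure (B : Set G) := by
    rw [hL₀]
    exact Subgroup.normalClosure_le_normal (fun y hy => hy.1)
  have hgen : ∀ C : Subgroup G, C.Normal → PMod p L₀ C → L₀ ≤ C := by
    intro C hCn hC
    have h1 : ∀ y ∈ {y | y ∈ Subgroup.normalClosure (B : Set G) ∧ (orderOf y).Coprime p},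
        y ∈ C := fun y hy => hC y (hPM y hy.1 hy.2) hy.2
    rw [hL₀]
    exact Subgroup.normalClosure_le_normal h1
  -- Step 4
  have hAL : ⁅A, L₀⁆ ≠ ⊥ := by
    intro h
    apply hBT
    refine Subgroup.le_normalClosure.trans (le_pCore_of_pMod hC0 _ ?_)
    intro y hy hco
    have h1 : L₀ ≤ Subgroup.centralizer (A : Set G) := by
      rw [Subgroup.commutator_comm, Subgroup.commutator_eq_bot_iff_le_centralizer] at h
      exact h
    exact h1 (hPM y hy hco)
  obtain ⟨U, hUmem, hUmin⟩ := Set.exists_min_image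
    {U : Subgroup G | U.Normal ∧ U ≤ A ∧ ⁅U, L₀⁆ ≠ ⊥} (fun U => Nat.card U) (Set.toFinite _)
    ⟨A, hAn, le_rfl, hAL⟩
  obtain ⟨hUn, hUA, hUL⟩ := hUmem
  refine lowerStar_core hst B L₀ U hBp (hAp.to_le hUA) hB2
    ((Subgroup.commutator_mono hUA le_rfl).trans hAB) ?_ hPM hL₀L hgen ?_ hUL
    (fun A₁ hA₁ => hc' A₁ (hA₁.trans hUA))
  · have h1 : ⁅A, A⁆ ≤ Subgroup.centralizer (A : Set G) :=
      ((Subgroup.commutator_mono hAT le_rfl).trans hTA).trans inf_le_right
    exact ((Subgroup.commutator_mono hUA hUA).trans h1).trans (Subgroup.centralizer_le hUA)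
  · intro V hVn hVU hVne
    by_contra hV
    have h1 := hUmin V ⟨hVn, hVU.trans hUA, hV⟩
    exact hVne (Subgroup.eq_of_le_of_card_ge hVU h1)

end

end Cfsg.Agent.Lib.helper39
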