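import Cfsg.Agent.Lib.helper38.TN2

/-!
helper39: piece J of helper38's split of S4415 (Thompson's N-groups lemma): the determinant lemma
in monomial form.
-/

set_option autoImplicit false

namespace Cfsg.Agent.Lib.helper39

open Cfsg.Agent.Lib.helper38.TN

variable {G : Type*} [Group G] [Finite G] {V : Type*} [AddCommGroup V] [Module (ZMod 3) V] [Finite V]
variable {ρ : Representation (ZMod 3) G V} {R : Subgroup G} {b q₁ q₂ q₃ : G} {u₁ u₂ u₃ : V}

omit [Finite G] [Finite V] in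
/-- Every element of `R` acts with determinant one. -/
theorem tnj_det_eq_one (h : Ctx ρ R b q₁ q₂ q₃ u₁ u₂ u₃) {r : G} (hr : r ∈ R) :
    LinearMap.det (ρ r) = 1 := by
  set f : G →* ZMod 3 := (LinearMap.det : (V →ₗ[ZMod 3] V) →* ZMod 3).comp ρ with hf
  have hb : b ∈ f.ker := by
    rw [MonoidHom.mem_ker]
    have h3 : f b ^ 3 = 1 := by
      rw [← map_pow, h.frame.b3, map_one]
    have key : ∀ x : ZMod 3, x ^ 3 = 1 → x = 1 := by decide
    exact key _ h3
  have hconj : ∀ r ∈ R, ∀ k ∈ f.ker, r * k * r⁻¹ ∈ f.ker := by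
    intro r _ k hk
    rw [MonoidHom.mem_ker] at hk ⊢
    rw [map_mul, map_mul, hk, mul_one, ← map_mul, mul_inv_cancel, map_one]
  have hmem := h.gen f.ker hb hconj hr
  rw [MonoidHom.mem_ker] at hmem
  simpa [hf] using hmem

omit [Finite G] [Finite V] in
/-- The four vectors are linearly independent. -/
theorem tnj_linearIndependent (h : Ctx ρ R b q₁ q₂ q₃ u₁ u₂ u₃) (u₄ : V)
    (hu₄ : CLine ρ q₁ q₂ u₄) : LinearIndependent (ZMod 3) ![u₁, u₂, u₃, u₄] := by
  rw [Fintype.linearIndependent_iff]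
  intro c hc
  rw [Fin.sum_univ_four] at hc
  have hc' : c 0 • u₁ + c 1 • u₂ + c 2 • u₃ + c 3 • u₄ = 0 := by simpa using hc
  have hmem : c 3 • u₄ ∈ fixQ ρ q₁ q₂ := by
    refine ⟨?_, ?_⟩
    · rw [map_smul, hu₄.2.1]
    · rw [map_smul, hu₄.2.2.1]
  obtain ⟨e0, e1, e2, e3⟩ := h.frame.indep hmem hc'
  have e3' : c 3 = 0 := (smul_eq_zero.mp e3).resolve_right hu₄.1
  intro i
  fin_cases i
  · exact e0
  · exact e1
  · exact e2
  · exact e3'

omit [Finite G] [Finite V] in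
/-- The four vectors span `V`. -/
theorem tnj_span (h : Ctx ρ R b q₁ q₂ q₃ u₁ u₂ u₃) (u₄ : V) (hu₄ : CLine ρ q₁ q₂ u₄) :
    ⊤ ≤ Submodule.span (ZMod 3) (Set.range ![u₁, u₂, u₃, u₄]) := by
  intro v _
  obtain ⟨a₁, a₂, a₃, c, hc, rfl⟩ := h.frame.decomp v
  obtain ⟨a₄, rfl⟩ := hu₄.2.2.2 c hc.1 hc.2
  have m : ∀ i : Fin 4, ![u₁, u₂, u₃, u₄] i ∈
      Submodule.span (ZMod 3) (Set.range ![u₁, u₂, u₃, u₄]) :=
    fun i => Submodule.subset_span ⟨i, rfl⟩
  have m0 := m 0
  have m1 := m 1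
  have m2 := m 2
  have m3 := m 3
  simp only [Matrix.cons_val_zero, Matrix.cons_val_one] at m0 m1
  have m2' : u₃ ∈ Submodule.span (ZMod 3) (Set.range ![u₁, u₂, u₃, u₄]) := by simpa using m2
  have m3' : u₄ ∈ Submodule.span (ZMod 3) (Set.range ![u₁, u₂, u₃, u₄]) := by simpa using m3
  exact Submodule.add_mem _ (Submodule.add_mem _ (Submodule.add_mem _
    (Submodule.smul_mem _ _ m0) (Submodule.smul_mem _ _ m1)) (Submodule.smul_mem _ _ m2'))
    (Submodule.smul_mem _ _ m3')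

omit [Finite G] [Finite V] in
/-- PIECE J: the determinant lemma in monomial form. -/
theorem mono_det (h : Ctx ρ R b q₁ q₂ q₃ u₁ u₂ u₃) (u₄ : V) (hu₄ : CLine ρ q₁ q₂ u₄) :
    MonoDet ρ R u₁ u₂ u₃ u₄ := by
  intro g hg σ ε hε
  classical
  set B : Module.Basis (Fin 4) (ZMod 3) V :=
    Module.Basis.mk (tnj_linearIndependent h u₄ hu₄) (tnj_span h u₄ hu₄) with hB
  have hBi : ∀ i, B i = ![u₁, u₂, u₃, u₄] i := fun i => by rw [hB, Module.Basis.mk_apply]
  have hent : ∀ i j : Fin 4, LinearMap.toMatrix B B (ρ g) j i = if j = σ i then ε i else 0 := by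
    intro i j
    rw [LinearMap.toMatrix_apply, hBi i, hε i, map_smul, ← hBi (σ i), B.repr_self]
    by_cases hj : j = σ i
    · subst hj
      simp
    · simp [hj]
  have hdet := tnj_det_eq_one h hg
  rw [← LinearMap.det_toMatrix B, Matrix.det_apply'] at hdet
  rw [Finset.sum_eq_single σ] at hdet
  · rw [← hdet]
    congr 1
    apply Finset.prod_congr rfl
    intro i _
    rw [hent i (σ i), if_pos rfl]
  · intro τ _ hτ
    obtain ⟨i, hi⟩ : ∃ i, τ i ≠ σ i := by
      by_contra hcon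
      exact hτ (Equiv.ext fun i => by_contra fun hi => hcon ⟨i, hi⟩)
    apply mul_eq_zero_of_right
    apply Finset.prod_eq_zero (Finset.mem_univ i)
    rw [hent i (τ i), if_neg hi]
  · intro hσ
    exact absurd (Finset.mem_univ σ) hσ

end Cfsg.Agent.Lib.helper39
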