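import Cfsg.Agent.Lib.helper39.Climb
import Cfsg.Agent.Lib.helper39.FusTools
import Cfsg.Agent.Lib.helper39.SelfCent

/-!
# Local-to-global principle for subgroups containing `Z(S)`

`adm_tower`: an abstract Alperin–Goldschmidt induction.  To realize all fusion in a Sylow
`p`-subgroup `S` it suffices to realize, for the fully normalized subgroups `U` in a family `ℋ`
containing every subgroup `T ≤ S` with `Z(S) ≤ T`, the conjugations in `N(U)` between subgroups of
`N_S(U)`, assuming realization of all fusion of larger subgroups and in the normalizers of the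
members of `ℋ` with larger `S`-normalizer.  (Subgroups not containing `Z(S)` are handled by the
Frattini argument for `C(T)`.)
-/

set_option autoImplicit false

namespace Cfsg.Agent.Lib.helper39

open Cfsg

variable {G : Type*} [Group G] [Finite G] {p : ℕ} [Fact p.Prime]

theorem adm_tower (S : Sylow p G) {R : Subgroup G → G → Prop} (hR : AdmRel (S : Subgroup G) R)
    (ℋ : Set (Subgroup G))
    (hℋ : ∀ T : Subgroup G, T ≤ (S : Subgroup G) →
      (S : Subgroup G) ⊓ Subgroup.centralizer ((S : Subgroup G) : Set G) ≤ T → T ∈ ℋ)
    (hstep : ∀ n : ℕ,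
      (∀ B : Subgroup G, B ≤ (S : Subgroup G) → n + 1 ≤ Nat.card B →
        ∀ g : G, cj g B ≤ (S : Subgroup G) → R B g) →
      (∀ U ∈ sylFamily p (S : Subgroup G), U ∈ ℋ → n + 1 ≤ Nat.card (NS (S : Subgroup G) U) →
        Good R (Subgroup.normalizer (U : Set G)) (NS (S : Subgroup G) U)) →
      ∀ U ∈ sylFamily p (S : Subgroup G), U ∈ ℋ → Nat.card (NS (S : Subgroup G) U) = n →
        Good R (Subgroup.normalizer (U : Set G)) (NS (S : Subgroup G) U)) :
    Good R ⊤ (S : Subgroup G) := by
  have hSp : IsPGroup p (S : Subgroup G) := S.2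
  have main : ∀ d n : ℕ, Nat.card (S : Subgroup G) + 1 ≤ n + d →
      (∀ B : Subgroup G, B ≤ (S : Subgroup G) → n ≤ Nat.card B →
        ∀ g : G, cj g B ≤ (S : Subgroup G) → R B g) ∧
      (∀ U ∈ sylFamily p (S : Subgroup G), U ∈ ℋ → n ≤ Nat.card (NS (S : Subgroup G) U) →
        Good R (Subgroup.normalizer (U : Set G)) (NS (S : Subgroup G) U)) := by
    intro d
    induction d with
    | zero =>
      intro n hn
      refine ⟨fun B hB hcard => ?_, fun U _ _ hcard => ?_⟩
      · have h1 := Subgroup.card_le_of_le hB
        omega
      · have h1 : Nat.card (NS (S : Subgroup G) U) ≤ Nat.card (S : Subgroup G) :=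
          Subgroup.card_le_of_le inf_le_left
        omega
    | succ d ih =>
      intro n hn
      obtain ⟨hM, hΨ⟩ := ih (n + 1) (by omega)
      have hΨn : ∀ U ∈ sylFamily p (S : Subgroup G), U ∈ ℋ →
          n ≤ Nat.card (NS (S : Subgroup G) U) →
          Good R (Subgroup.normalizer (U : Set G)) (NS (S : Subgroup G) U) := by
        intro U hU hUℋ hcard
        rcases Nat.lt_or_ge n (Nat.card (NS (S : Subgroup G) U)) with h | h
        · exact hΨ U hU hUℋ h
        · exact hstep n hM hΨ U hU hUℋ (by omega)
      have hTS : ∀ T ∈ sylFamily p (S : Subgroup G), n ≤ Nat.card T →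
          ∀ x ∈ Subgroup.normalizer (T : Set G), ∀ B : Subgroup G, B ≤ T → R B x := by
        intro T hT hcard x hx B hBT
        have hxT : cj x T = T := cj_eq_self_iff.mpr hx
        have hxB : cj x B ≤ T := by
          have h1 := cj_le_cj (g := x) |>.mpr hBT
          rwa [hxT] at h1
        by_cases hZ : (S : Subgroup G) ⊓ Subgroup.centralizer ((S : Subgroup G) : Set G) ≤ T
        · have hc : n ≤ Nat.card (NS (S : Subgroup G) T) :=
            le_trans hcard (Subgroup.card_le_of_le (le_NS hT.1))
          exact hΨn T hT (hℋ T hT.1 hZ) hc x hx B (hBT.trans (le_NS hT.1))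
            (hxB.trans (le_NS hT.1))
        · have hsylN : IsSylIn p (NS (S : Subgroup G) T) (Subgroup.normalizer (T : Set G)) :=
            ⟨inf_le_right, hSp.to_le inf_le_left, hT.2⟩
          have hsylC : IsSylIn p (NS (S : Subgroup G) T ⊓ Subgroup.centralizer (T : Set G))
              (Subgroup.centralizer (T : Set G)) :=
            isSylIn_inf_of_le_normalizer hsylN (Subgroup.centralizer_le_normalizer _)
              (normalizer_le_normalizer_centralizer T)
          have hxD : cj x (NS (S : Subgroup G) T ⊓ Subgroup.centralizer (T : Set G)) ≤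
              Subgroup.centralizer (T : Set G) := by
            rw [cj_inf]
            refine inf_le_right.trans ?_
            rw [cj_centralizer, hxT]
          obtain ⟨m, hm, hle⟩ := hsylC.exists_cj_le (isPGroup_cj hsylC.2.1) hxD
          rw [← cj_mul] at hle
          have heq : cj (m * x) (NS (S : Subgroup G) T ⊓ Subgroup.centralizer (T : Set G)) =
              NS (S : Subgroup G) T ⊓ Subgroup.centralizer (T : Set G) :=
            Subgroup.eq_of_le_of_card_ge hle (le_of_eq (card_cj _ _).symm)
          have hmT : cj m T = T :=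
            cj_eq_self_iff.mpr (Subgroup.centralizer_le_normalizer _ hm)
          have hyT : cj (m * x) T = T := by rw [cj_mul, hxT, hmT]
          have hDS : NS (S : Subgroup G) T ⊓ Subgroup.centralizer (T : Set G) ≤ (S : Subgroup G) :=
            inf_le_left.trans inf_le_left
          have hBS : T ⊔ (NS (S : Subgroup G) T ⊓ Subgroup.centralizer (T : Set G)) ≤
              (S : Subgroup G) := sup_le hT.1 hDS
          have hlt : T < T ⊔ (NS (S : Subgroup G) T ⊓ Subgroup.centralizer (T : Set G)) := by
            refine lt_of_le_of_ne le_sup_left (fun h => hZ ?_)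
            have hD_le : NS (S : Subgroup G) T ⊓ Subgroup.centralizer (T : Set G) ≤ T :=
              le_sup_right.trans (le_of_eq h.symm)
            refine le_trans ?_ hD_le
            intro z hz
            have hzC : z ∈ Subgroup.centralizer (T : Set G) :=
              Subgroup.centralizer_le hT.1 hz.2
            exact ⟨⟨hz.1, Subgroup.centralizer_le_normalizer _ hzC⟩, hzC⟩
          have hcardlt := card_lt_card_of_lt hlt
          have hy : cj (m * x) (T ⊔ (NS (S : Subgroup G) T ⊓ Subgroup.centralizer (T : Set G))) ≤
              (S : Subgroup G) := by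
            have e : cj (m * x) (T ⊔ (NS (S : Subgroup G) T ⊓ Subgroup.centralizer (T : Set G))) =
                cj (m * x) T ⊔
                  cj (m * x) (NS (S : Subgroup G) T ⊓ Subgroup.centralizer (T : Set G)) :=
              Subgroup.map_sup _ _ _
            rw [e, hyT, heq]
            exact hBS
          have r1 : R (T ⊔ (NS (S : Subgroup G) T ⊓ Subgroup.centralizer (T : Set G))) (m * x) :=
            hM _ hBS (by omega) (m * x) hy
          have r2 : R B (m * x) := hR.mono _ _ _ (hBT.trans le_sup_left) r1
          refine hR.congr B (m * x) x ?_ r2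
          intro b hb
          have h1 : x * b * x⁻¹ ∈ T := hxB (conj_mem_cj.mpr hb)
          have h2 := (Subgroup.mem_centralizer_iff.mp hm) _ h1
          calc m * x * b * (m * x)⁻¹ = m * (x * b * x⁻¹) * m⁻¹ := by group
            _ = (x * b * x⁻¹) * m * m⁻¹ := by rw [h2]
            _ = x * b * x⁻¹ := by group
      refine ⟨?_, hΨn⟩
      intro B hB hcard g hgB
      by_cases hB0 : B = ⊥
      · subst hB0
        exact hR.bot g
      have hdec := sylFamily_dec S B g⁻¹ hB (by
        show cj g⁻¹⁻¹ B ≤ _
        rw [inv_inv]; exact hgB)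
      obtain ⟨l, hl, hprod⟩ := hdec
      have hl' := hl.restrict_card
      have key := RChain.realize
        (𝓕 := {T | T ∈ sylFamily p (S : Subgroup G) ∧ Nat.card B ≤ Nat.card T})
        (S := (S : Subgroup G)) (fun T hT => hT.1.1) R hR.one hR.mul
        (by
          intro T hT y hy B' hBT _
          exact hTS T hT.1 (le_trans hcard hT.2) y hy B' hBT)
        hB hB0 hl'
      rw [hprod, inv_inv] at key
      exact key
  intro x _ B hB hxB
  exact (main (Nat.card (S : Subgroup G) + 1) 0 (by omega)).1 B hB (Nat.zero_le _) x hxB

end Cfsg.Agent.Lib.helper39
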