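import Cfsg.Agent.Lib.helper39.SecFusion
import Cfsg.Agent.Lib.helper39.SecTools
import Cfsg.Agent.Lib.helper39.KSeq

/-!
# Triple factorizations and strongly closed abelian subgroups

`zOm p T` is `Ω₁(Z(T))`, `nclS H Z` is the subgroup generated by the `H`-conjugates of `Z`.
The main lemma `nclA`: in a class of groups closed under subgroups and quotients in which every
constrained member factorizes as `X = C_X(Ω₁Z(T)) N_X(W(T))`, every member `X` with
`Ω₁Z(S) ≤ O_p(X)` satisfies `⟨Ω₁Z(S)^X⟩ = ⟨Ω₁Z(S)^{N_X(W(S))}⟩`.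
-/

set_option autoImplicit false

namespace Cfsg.Agent.Lib.helper39

open Cfsg

universe u

section basic

variable {X : Type*} [Group X]

/-- `Ω₁(Z(T))`. -/
def zOm (p : ℕ) (T : Subgroup X) : Subgroup X :=
  omegaOne p (T ⊓ Subgroup.centralizer (T : Set X))

theorem zOm_le (p : ℕ) (T : Subgroup X) : zOm p T ≤ T ⊓ Subgroup.centralizer (T : Set X) := by
  unfold zOm omegaOne
  rw [Subgroup.closure_le]
  intro x hx
  exact hx.1

theorem zOm_map {Y : Type*} [Group Y] (p : ℕ) (f : Y →* X) (T : Subgroup Y)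
    (hf : Set.InjOn f (T : Set Y)) : (zOm p T).map f = zOm p (T.map f) := by
  unfold zOm omegaOne
  rw [MonoidHom.map_closure]
  congr 1
  ext y
  constructor
  · rintro ⟨x, ⟨⟨hxT, hxC⟩, hxp⟩, rfl⟩
    have hxC' : x ∈ Subgroup.centralizer (T : Set Y) := hxC
    rw [Subgroup.mem_centralizer_iff] at hxC'
    refine ⟨⟨Subgroup.mem_map_of_mem f hxT, ?_⟩, by rw [← map_pow, hxp, map_one]⟩
    show f x ∈ Subgroup.centralizer ((T.map f : Subgroup X) : Set X)
    rw [Subgroup.mem_centralizer_iff]
    rintro _ ⟨t, ht, rfl⟩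
    rw [← map_mul, ← map_mul, hxC' t ht]
  · rintro ⟨⟨⟨x, hxT, rfl⟩, hyC⟩, hyp⟩
    have hyC' : f x ∈ Subgroup.centralizer ((T.map f : Subgroup X) : Set X) := hyC
    rw [Subgroup.mem_centralizer_iff] at hyC'
    refine ⟨x, ⟨⟨hxT, ?_⟩, ?_⟩, rfl⟩
    · show x ∈ Subgroup.centralizer (T : Set Y)
      rw [Subgroup.mem_centralizer_iff]
      intro t ht
      apply hf (T.mul_mem ht hxT) (T.mul_mem hxT ht)
      rw [map_mul, map_mul]
      exact hyC' (f t) (Subgroup.mem_map_of_mem f ht)
    · apply hf (T.pow_mem hxT p) T.one_mem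
      rw [map_pow, map_one]
      exact hyp

/-- The subgroup generated by the `H`-conjugates of `Z`. -/
def nclS (H Z : Subgroup X) : Subgroup X :=
  Subgroup.closure {y | ∃ h ∈ H, ∃ z ∈ Z, y = h * z * h⁻¹}

theorem conj_mem_nclS {H Z : Subgroup X} {h z : X} (hh : h ∈ H) (hz : z ∈ Z) :
    h * z * h⁻¹ ∈ nclS H Z :=
  Subgroup.subset_closure ⟨h, hh, z, hz, rfl⟩

theorem le_nclS (H Z : Subgroup X) : Z ≤ nclS H Z := by
  intro z hz
  have h1 := conj_mem_nclS (H := H) (one_mem H) hz
  simpa using h1

theorem nclS_le {H Z U : Subgroup X} (hZ : Z ≤ U) (hH : H ≤ Subgroup.normalizer (U : Set X)) :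
    nclS H Z ≤ U := by
  unfold nclS
  rw [Subgroup.closure_le]
  rintro _ ⟨h, hh, z, hz, rfl⟩
  exact (Subgroup.mem_normalizer_iff.mp (hH hh) z).mp (hZ hz)

theorem nclS_mono {H H' Z Z' : Subgroup X} (hH : H ≤ H') (hZ : Z ≤ Z') :
    nclS H Z ≤ nclS H' Z' := by
  unfold nclS
  apply Subgroup.closure_mono
  rintro _ ⟨h, hh, z, hz, rfl⟩
  exact ⟨h, hH hh, z, hZ hz, rfl⟩

theorem le_normalizer_nclS (H Z : Subgroup X) :
    H ≤ Subgroup.normalizer ((nclS H Z : Subgroup X) : Set X) := by
  apply le_normalizer_of_forall_cj_le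
  intro x hx
  unfold nclS
  show (Subgroup.closure _).map _ ≤ _
  rw [MonoidHom.map_closure, Subgroup.closure_le]
  rintro _ ⟨_, ⟨h, hh, z, hz, rfl⟩, rfl⟩
  refine Subgroup.subset_closure ⟨x * h, H.mul_mem hx hh, z, hz, ?_⟩
  show x * (h * z * h⁻¹) * x⁻¹ = _
  group

theorem map_nclS {Y : Type*} [Group Y] (f : Y →* X) (H Z : Subgroup Y) :
    (nclS H Z).map f = nclS (H.map f) (Z.map f) := by
  unfold nclS
  rw [MonoidHom.map_closure]
  congr 1
  ext y
  constructor
  · rintro ⟨_, ⟨h, hh, z, hz, rfl⟩, rfl⟩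
    exact ⟨f h, Subgroup.mem_map_of_mem f hh, f z, Subgroup.mem_map_of_mem f hz, by simp⟩
  · rintro ⟨_, ⟨h, hh, rfl⟩, _, ⟨z, hz, rfl⟩, rfl⟩
    exact ⟨h * z * h⁻¹, ⟨h, hh, z, hz, rfl⟩, by simp⟩

theorem nclS_le_of_factor {H H' Z : Subgroup X}
    (h : ∀ g ∈ H, ∃ y ∈ H', ∃ l ∈ Subgroup.centralizer (Z : Set X), g = y * l) :
    nclS H Z ≤ nclS H' Z := by
  unfold nclS
  rw [Subgroup.closure_le]
  rintro _ ⟨g, hg, z, hz, rfl⟩
  obtain ⟨y, hy, l, hl, rfl⟩ := h g hg
  rw [Subgroup.mem_centralizer_iff] at hl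
  have h1 := hl z hz
  have e : y * l * z * (y * l)⁻¹ = y * z * y⁻¹ := by
    calc y * l * z * (y * l)⁻¹ = y * (l * z) * l⁻¹ * y⁻¹ := by group
      _ = y * (z * l) * l⁻¹ * y⁻¹ := by rw [h1]
      _ = y * z * y⁻¹ := by group
  rw [e]
  exact Subgroup.subset_closure ⟨y, hy, z, hz, rfl⟩

/-- The normal closure of `Z` inside the subgroup `H`, as a subgroup of the ambient group. -/
theorem map_normalClosure_subgroupOf {H Z : Subgroup X} (hZ : Z ≤ H) :
    (Subgroup.normalClosure ((Z.subgroupOf H : Subgroup ↥H) : Set ↥H)).map H.subtype =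
      nclS H Z := by
  apply le_antisymm
  · rw [Subgroup.map_le_iff_le_comap]
    have hn : ((nclS H Z).comap H.subtype).Normal := by
      constructor
      intro n hn g
      rw [Subgroup.mem_comap] at hn ⊢
      have h1 := le_normalizer_nclS H Z g.2
      exact (Subgroup.mem_normalizer_iff.mp h1 _).mp hn
    apply Subgroup.normalClosure_le_normal
    intro z hz
    exact le_nclS H Z (Subgroup.mem_subgroupOf.mp hz)
  · unfold nclS
    rw [Subgroup.closure_le]
    rintro _ ⟨h, hh, z, hz, rfl⟩
    refine ⟨⟨h, hh⟩ * ⟨z, hZ hz⟩ * ⟨h, hh⟩⁻¹, ?_, rfl⟩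
    apply (Subgroup.normalClosure_normal).conj_mem
    apply Subgroup.subset_normalClosure
    exact Subgroup.mem_subgroupOf.mpr hz

end basic

section frattini

variable {X : Type*} [Group X] [Finite X] {p : ℕ} [Fact p.Prime]

/-- Frattini argument for `S ⊓ K`, `K` normal. -/
theorem frattini_inf (S : Sylow p X) (K : Subgroup X) [hK : K.Normal] (x : X) :
    ∃ y ∈ Subgroup.normalizer (((S : Subgroup X) ⊓ K : Subgroup X) : Set X), ∃ l ∈ K,
      x = y * l := by
  have hsyl := isSylIn_inf_normal S K
  have hxQ : cj x ((S : Subgroup X) ⊓ K) ≤ K := by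
    have h1 := cj_le_cj (g := x) |>.mpr (inf_le_right : (S : Subgroup X) ⊓ K ≤ K)
    rwa [cj_normal x K] at h1
  obtain ⟨m, hm, hle⟩ := hsyl.exists_cj_le (isPGroup_cj hsyl.2.1) hxQ
  rw [← cj_mul] at hle
  have heq : cj (m * x) ((S : Subgroup X) ⊓ K) = (S : Subgroup X) ⊓ K :=
    Subgroup.eq_of_le_of_card_ge hle (le_of_eq (card_cj _ _).symm)
  refine ⟨m * x, cj_eq_self_iff.mp heq, x⁻¹ * m⁻¹ * x, ?_, by group⟩
  have h2 := hK.conj_mem m⁻¹ (K.inv_mem hm) x⁻¹
  simpa using h2

end frattini

section main

variable {p : ℕ} [Fact p.Prime] {W : ∀ (Q : Type u) [Group Q], Subgroup Q}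

omit [Fact p.Prime] in
/-- Passing from the subgroup `Y`, as a group, to the ambient group. -/
theorem nclA_sub (hW : IsCharPFunctor.{u} p W) {X : Type u} [Group X] [Finite X]
    (Y T : Subgroup X) (hTY : T ≤ Y) (hT : IsPGroup p T)
    (h : nclS ⊤ (zOm p (T.subgroupOf Y)) ≤
      nclS (Subgroup.normalizer ((inducedFunctor W (T.subgroupOf Y) : Subgroup ↥Y) : Set ↥Y))
        (zOm p (T.subgroupOf Y))) :
    nclS Y (zOm p T) ≤
      nclS (Y ⊓ Subgroup.normalizer ((inducedFunctor W T : Subgroup X) : Set X)) (zOm p T) := by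
  have hmapT : (T.subgroupOf Y).map Y.subtype = T := Subgroup.map_subgroupOf_eq_of_le hTY
  have hZ : (zOm p (T.subgroupOf Y)).map Y.subtype = zOm p T := by
    rw [zOm_map p Y.subtype _ Subtype.val_injective.injOn, hmapT]
  have hT' : IsPGroup p (T.subgroupOf Y) := hT.comap_subtype
  have hV : (inducedFunctor W (T.subgroupOf Y)).map Y.subtype = inducedFunctor W T := by
    rw [ind_map hW Y.subtype (T.subgroupOf Y) hT' Subtype.val_injective.injOn, hmapT]
  have h1 := Subgroup.map_mono (f := Y.subtype) h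
  rw [map_nclS, map_nclS, hZ] at h1
  have htop : (⊤ : Subgroup ↥Y).map Y.subtype = Y := by
    rw [← MonoidHom.range_eq_map, Subgroup.range_subtype]
  rw [htop] at h1
  refine h1.trans (nclS_mono ?_ le_rfl)
  refine le_inf (Subgroup.map_subtype_le _) ?_
  rw [← hV]
  exact Subgroup.le_normalizer_map _

/-- **Main lemma.** In a class of groups closed under subgroups and quotients whose constrained
members factorize as `X = C_X(Ω₁Z(T)) N_X(W(T))`, every member `X` with `Ω₁Z(S) ≤ O_p(X)`
satisfies `⟨Ω₁Z(S)^X⟩ ≤ ⟨Ω₁Z(S)^{N_X(W(S))}⟩`. -/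
theorem nclA (hW : IsCharPFunctor.{u} p W)
    (𝒞 : ∀ (X : Type u) [Group X], Prop)
    (hsub : ∀ (X : Type u) [Group X] (H : Subgroup X), 𝒞 X → 𝒞 ↥H)
    (hquot : ∀ (X : Type u) [Group X] (N : Subgroup X) [N.Normal], 𝒞 X → 𝒞 (X ⧸ N))
    (hfac : ∀ (X : Type u) [Group X] [Finite X], 𝒞 X →
      Subgroup.centralizer ((pCore p X : Subgroup X) : Set X) ≤ pCore p X →
      ∀ T : Sylow p X, ∀ x : X,
        ∃ a ∈ Subgroup.centralizer ((zOm p (T : Subgroup X) : Subgroup X) : Set X),
        ∃ b ∈ Subgroup.normalizer ((inducedFunctor W (T : Subgroup X) : Subgroup X) : Set X),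
          x = a * b) :
    ∀ (n : ℕ) (X : Type u) [Group X] [Finite X], Nat.card X ≤ n → 𝒞 X → ∀ S : Sylow p X,
      zOm p (S : Subgroup X) ≤ pCore p X →
      nclS ⊤ (zOm p (S : Subgroup X)) ≤
        nclS (Subgroup.normalizer ((inducedFunctor W (S : Subgroup X) : Subgroup X) : Set X))
          (zOm p (S : Subgroup X)) := by
  intro n
  induction n with
  | zero =>
    intro X _ _ hcard
    exact absurd hcard (by have := Nat.card_pos (α := X); omega)
  | succ n ih =>
    intro X _ _ hcard hX S hZQ
    have hQn := pCore_normal p X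
    have hQp := pCore_isPGroup p X
    have hQS : pCore p X ≤ (S : Subgroup X) := pCore_le_sylow S
    have hZc : zOm p (S : Subgroup X) ≤ Subgroup.centralizer ((S : Subgroup X) : Set X) :=
      (zOm_le p _).trans inf_le_right
    by_cases hcon : Subgroup.centralizer ((pCore p X : Subgroup X) : Set X) ≤ pCore p X
    · -- constrained case
      apply nclS_le_of_factor
      intro g _
      obtain ⟨a, ha, b, hb, hab⟩ := hfac X hX hcon S g⁻¹
      refine ⟨b⁻¹, inv_mem hb, a⁻¹, inv_mem ha, ?_⟩
      have e : g = (g⁻¹)⁻¹ := (inv_inv g).symm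
      rw [e, hab, mul_inv_rev]
    · -- `L = O_p(X) C_X(O_p(X))` centralizes `Ω₁Z(S)`
      have hLc : pCore p X ⊔ Subgroup.centralizer ((pCore p X : Subgroup X) : Set X) ≤
          Subgroup.centralizer ((zOm p (S : Subgroup X) : Subgroup X) : Set X) := by
        refine sup_le ?_ (Subgroup.centralizer_le hZQ)
        intro q hq
        rw [Subgroup.mem_centralizer_iff]
        intro z hz
        have h1 := hZc hz
        rw [Subgroup.mem_centralizer_iff] at h1
        exact (h1 q (hQS hq)).symm
      by_cases hNQ : Subgroup.normalizer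
          (((S : Subgroup X) ⊓ (pCore p X ⊔
            Subgroup.centralizer ((pCore p X : Subgroup X) : Set X)) : Subgroup X) : Set X) = ⊤
      · -- `S ∩ L` is normal: a normal `p'`-subgroup appears
        have hQn' : ((S : Subgroup X) ⊓ (pCore p X ⊔
            Subgroup.centralizer ((pCore p X : Subgroup X) : Set X))).Normal :=
          Subgroup.normalizer_eq_top_iff.mp hNQ
        have hQP : (S : Subgroup X) ⊓ (pCore p X ⊔
            Subgroup.centralizer ((pCore p X : Subgroup X) : Set X)) ≤ pCore p X :=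
          le_pCore hQn' (S.2.to_le inf_le_left)
        have hZ' : (S : Subgroup X) ⊓ Subgroup.centralizer ((pCore p X : Subgroup X) : Set X) ≤
            pCore p X := le_trans (inf_le_inf_left _ le_sup_right) hQP
        have hsyl := isSylIn_inf_normal S (Subgroup.centralizer ((pCore p X : Subgroup X) : Set X))
        obtain ⟨N, hNn, hNc, hCN⟩ := exists_normal_pprime_of_central_sylow hsyl (by
          intro c hc
          rw [Subgroup.mem_centralizer_iff] at hc ⊢
          intro z hz
          exact hc z (hZ' hz))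
        have hN0 : N ≠ ⊥ := by
          intro h0
          apply hcon
          rw [h0, sup_bot_eq] at hCN
          exact hCN.trans hZ'
        have hcard' : Nat.card (X ⧸ N) ≤ n := by
          have h1 : Nat.card (X ⧸ N) < Nat.card X := by
            rw [← Subgroup.index_eq_card, ← Subgroup.card_mul_index N]
            have h2 : 1 < Nat.card N := N.one_lt_card_iff_ne_bot.mpr hN0
            have h3 : 0 < N.index := Nat.pos_of_ne_zero Subgroup.index_ne_zero_of_finite
            nlinarith
          omega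
        have hSN : (S : Subgroup X) ⊓ N = ⊥ := isPGroup_inf_pprime S.2 hNc
        have hinj : Set.InjOn (QuotientGroup.mk' N) ((S : Subgroup X) : Set X) := by
          intro a ha b hb hab
          have h1 : a⁻¹ * b ∈ N := by
            rw [← QuotientGroup.ker_mk' N, MonoidHom.mem_ker, map_mul, map_inv, hab,
              inv_mul_cancel]
          have h2 : a⁻¹ * b ∈ (S : Subgroup X) ⊓ N :=
            ⟨(S : Subgroup X).mul_mem ((S : Subgroup X).inv_mem ha) hb, h1⟩
          rw [hSN, Subgroup.mem_bot] at h2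
          exact inv_mul_eq_one.mp h2
        have hidx : ¬ p ∣ ((S : Subgroup X).map (QuotientGroup.mk' N)).index := by
          intro hdvd
          exact S.not_dvd_index
            (dvd_trans hdvd (Subgroup.index_map_dvd _ (QuotientGroup.mk'_surjective N)))
        have hZm : (zOm p (S : Subgroup X)).map (QuotientGroup.mk' N) =
            zOm p ((S : Subgroup X).map (QuotientGroup.mk' N)) :=
          zOm_map p (QuotientGroup.mk' N) (S : Subgroup X) hinj
        have hVm : (inducedFunctor W (S : Subgroup X)).map (QuotientGroup.mk' N) =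
            inducedFunctor W ((S : Subgroup X).map (QuotientGroup.mk' N)) :=
          ind_map hW (QuotientGroup.mk' N) (S : Subgroup X) S.2 hinj
        have hZQ' : zOm p ((S : Subgroup X).map (QuotientGroup.mk' N)) ≤ pCore p (X ⧸ N) := by
          rw [← hZm]
          exact (Subgroup.map_mono hZQ).trans
            (le_pCore (hQn.map _ (QuotientGroup.mk'_surjective N)) (hQp.map _))
        have key := ih (X ⧸ N) hcard' (hquot X N hX) ((S.2.map (QuotientGroup.mk' N)).toSylow hidx)
          (by rw [IsPGroup.toSylow_coe]; exact hZQ')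
        rw [IsPGroup.toSylow_coe, ← hZm, ← hVm] at key
        have key2 : (nclS ⊤ (zOm p (S : Subgroup X))).map (QuotientGroup.mk' N) ≤
            (nclS (Subgroup.normalizer
              ((inducedFunctor W (S : Subgroup X) : Subgroup X) : Set X))
              (zOm p (S : Subgroup X))).map (QuotientGroup.mk' N) := by
          rw [map_nclS, map_nclS]
          refine le_trans (nclS_mono le_top le_rfl) (key.trans (nclS_mono ?_ le_rfl))
          exact normalizer_map_le_of_pprime N hNc (S.2.to_le (ind_le _))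
        have hA1 : nclS ⊤ (zOm p (S : Subgroup X)) ≤ pCore p X :=
          nclS_le hZQ (by rw [Subgroup.normalizer_eq_top])
        have hA2 : nclS (Subgroup.normalizer
              ((inducedFunctor W (S : Subgroup X) : Subgroup X) : Set X))
              (zOm p (S : Subgroup X)) ≤ pCore p X :=
          (nclS_mono le_top le_rfl).trans hA1
        intro m hm
        obtain ⟨a, ha, ham⟩ := key2 (Subgroup.mem_map_of_mem _ hm)
        have h1 : a⁻¹ * m ∈ N := by
          rw [← QuotientGroup.ker_mk' N, MonoidHom.mem_ker, map_mul, map_inv, ham,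
            inv_mul_cancel]
        have h2 : a⁻¹ * m ∈ (S : Subgroup X) ⊓ N :=
          ⟨(S : Subgroup X).mul_mem ((S : Subgroup X).inv_mem (hQS (hA2 ha))) (hQS (hA1 hm)), h1⟩
        rw [hSN, Subgroup.mem_bot] at h2
        rw [← inv_mul_eq_one.mp h2]
        exact ha
      · -- Frattini argument
        have hSY0 : (S : Subgroup X) ≤ Subgroup.normalizer
            (((S : Subgroup X) ⊓ (pCore p X ⊔
              Subgroup.centralizer ((pCore p X : Subgroup X) : Set X)) : Subgroup X) : Set X) := by
          intro s hs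
          apply cj_eq_self_iff.mp
          rw [cj_inf, cj_eq_self_of_mem hs, cj_normal]
        have hfr : ∀ g : X, ∃ y ∈ Subgroup.normalizer
            (((S : Subgroup X) ⊓ (pCore p X ⊔
              Subgroup.centralizer ((pCore p X : Subgroup X) : Set X)) : Subgroup X) : Set X),
            ∃ l ∈ Subgroup.centralizer ((zOm p (S : Subgroup X) : Subgroup X) : Set X),
              g = y * l := by
          intro g
          obtain ⟨y, hy, l, hl, rfl⟩ := frattini_inf S (pCore p X ⊔
              Subgroup.centralizer ((pCore p X : Subgroup X) : Set X)) g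
          exact ⟨y, hy, l, hLc hl, rfl⟩
        obtain ⟨Y, hYdef⟩ : ∃ Y : Subgroup X, Y = Subgroup.normalizer
            (((S : Subgroup X) ⊓ (pCore p X ⊔
              Subgroup.centralizer ((pCore p X : Subgroup X) : Set X)) : Subgroup X) : Set X) :=
          ⟨_, rfl⟩
        rw [← hYdef] at hNQ hSY0 hfr
        have hlt : Nat.card ↥Y ≤ n := by
          have h1 : Nat.card ↥Y < Nat.card X := by
            by_contra hcon'
            exact hNQ (Subgroup.eq_top_of_card_eq _
              (le_antisymm (Subgroup.card_le_card_group _) (not_lt.mp hcon')))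
          omega
        have hZY : zOm p ((S.subtype hSY0 : Sylow p ↥Y) : Subgroup ↥Y) ≤ pCore p ↥Y := by
          rw [Sylow.coe_subtype]
          have h1 : ((pCore p X).subgroupOf Y).Normal := hQn.subgroupOf _
          refine le_trans ?_ (le_pCore h1 (hQp.comap_subtype))
          intro z hz
          rw [Subgroup.mem_subgroupOf]
          apply hZQ
          have h2 := Subgroup.mem_map_of_mem Y.subtype hz
          rw [zOm_map p _ _ Subtype.val_injective.injOn,
            Subgroup.map_subgroupOf_eq_of_le hSY0] at h2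
          exact h2
        have key := ih ↥Y hlt (hsub X Y hX) (S.subtype hSY0) hZY
        rw [Sylow.coe_subtype] at key
        have key2 := nclA_sub hW Y (S : Subgroup X) hSY0 S.2 key
        refine le_trans ?_ (key2.trans (nclS_mono inf_le_right le_rfl))
        apply nclS_le_of_factor
        intro g _
        exact hfr g

end main

end Cfsg.Agent.Lib.helper39
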