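import Cfsg.Agent.Lib.helper39.TripleFac
import Cfsg.Agent.Lib.helper39.SelfCent
import Cfsg.Prelude.Def_TwoFusion
import Cfsg.Prelude.Def_Transfer
import Cfsg.Prelude.Def_LocalEven

/-!
# Triple factorizations: the strongly closed abelian subgroup

If every constrained section `X` of `G` satisfies `X = C(Ω₁Z(T)) N(W₁(T)) = C(Ω₁Z(T)) N(W₂(T))`,
the pair `{W₁, W₂}` controls strong fusion in `G` and `Ω₁Z(S) ≤ W₁(S) ∩ W₂(S)`, then the normal
closure `A` of `Ω₁Z(S)` in `N_G(W₁(S))` is elementary abelian, strongly closed in `S`, and `N_G(A)`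
controls strong fusion in `S`.
-/

set_option autoImplicit false

namespace Cfsg.Agent.Lib.helper39

open Cfsg

universe u

section tools

variable {X : Type*} [Group X]

theorem pow_eq_one_of_mem_closure {s : Set X} {p : ℕ} (hs : ∀ x ∈ s, x ^ p = 1)
    (hc : ∀ a ∈ Subgroup.closure s, ∀ b ∈ Subgroup.closure s, a * b = b * a) :
    ∀ a ∈ Subgroup.closure s, a ^ p = 1 := by
  intro a ha
  induction ha using Subgroup.closure_induction with
  | mem x hx => exact hs x hx
  | one => exact one_pow p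
  | mul x y hx hy ihx ihy =>
    rw [(show Commute x y from hc x hx y hy).mul_pow, ihx, ihy, one_mul]
  | inv x hx ih => rw [inv_pow, ih, inv_one]

theorem zOm_pow (p : ℕ) (T : Subgroup X) : ∀ z ∈ zOm p T, z ^ p = 1 := by
  have hle := zOm_le p T
  unfold zOm omegaOne at hle ⊢
  apply pow_eq_one_of_mem_closure
  · intro x hx
    exact hx.2
  · intro a ha b hb
    have h1 : b ∈ Subgroup.centralizer (T : Set X) := (hle hb).2
    rw [Subgroup.mem_centralizer_iff] at h1
    exact h1 a (hle ha).1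

/-- Transport of a factorization along an isomorphism. -/
theorem fac_map_equiv {A B : Type*} [Group A] [Group B] (e : A ≃* B) {H₁ H₂ : Subgroup A}
    {H₁' H₂' : Subgroup B} (h₁ : H₁.map e.toMonoidHom ≤ H₁') (h₂ : H₂.map e.toMonoidHom ≤ H₂')
    (h : ∀ x : A, ∃ a ∈ H₁, ∃ b ∈ H₂, x = a * b) :
    ∀ x : B, ∃ a ∈ H₁', ∃ b ∈ H₂', x = a * b := by
  intro x
  obtain ⟨y, rfl⟩ := e.surjective x
  obtain ⟨a, ha, b, hb, rfl⟩ := h y
  exact ⟨e a, h₁ ⟨a, ha, rfl⟩, e b, h₂ ⟨b, hb, rfl⟩, map_mul e a b⟩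

theorem map_centralizer_le {A B : Type*} [Group A] [Group B] (f : A →* B) (Z : Subgroup A) :
    (Subgroup.centralizer (Z : Set A)).map f ≤
      Subgroup.centralizer ((Z.map f : Subgroup B) : Set B) := by
  rintro _ ⟨a, ha, rfl⟩
  have ha' : a ∈ Subgroup.centralizer (Z : Set A) := ha
  rw [Subgroup.mem_centralizer_iff] at ha' ⊢
  rintro _ ⟨z, hz, rfl⟩
  rw [← map_mul, ← map_mul, ha' z hz]

end tools

section sylow

variable {p : ℕ} [Fact p.Prime]

theorem exists_sylow_map_equiv' {A B : Type*} [Group A] [Group B] [Finite B]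
    (e : A ≃* B) (T : Sylow p B) :
    ∃ T₀ : Sylow p A, (T₀ : Subgroup A).map e.toMonoidHom = T := by
  have hs : Function.Surjective e.symm.toMonoidHom := e.symm.surjective
  refine ⟨T.mapSurjective hs, ?_⟩
  rw [Sylow.coe_mapSurjective, Subgroup.map_map]
  have h : e.toMonoidHom.comp e.symm.toMonoidHom = MonoidHom.id B := by ext x; simp
  rw [h, Subgroup.map_id]

variable {W : ∀ (Q : Type u) [Group Q], Subgroup Q}

omit [Fact p.Prime] in
/-- Transport of the factorization `X = C(Ω₁Z(T)) N(W(T))` along an isomorphism. -/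
theorem cn_fac_equiv (hW : IsCharPFunctor.{u} p W) {A B : Type u} [Group A] [Group B] [Finite A]
    (e : A ≃* B) (T₀ : Subgroup A) (hT₀ : IsPGroup p T₀)
    (h : ∀ x : A, ∃ a ∈ Subgroup.centralizer ((zOm p T₀ : Subgroup A) : Set A),
      ∃ b ∈ Subgroup.normalizer ((inducedFunctor W T₀ : Subgroup A) : Set A), x = a * b) :
    ∀ x : B, ∃ a ∈ Subgroup.centralizer ((zOm p (T₀.map e.toMonoidHom) : Subgroup B) : Set B),
      ∃ b ∈ Subgroup.normalizer ((inducedFunctor W (T₀.map e.toMonoidHom) : Subgroup B) : Set B),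
        x = a * b := by
  refine fac_map_equiv e ?_ ?_ h
  · rw [← zOm_map p e.toMonoidHom T₀ e.injective.injOn]
    exact map_centralizer_le _ _
  · rw [← ind_map hW e.toMonoidHom T₀ hT₀ e.injective.injOn]
    exact Subgroup.le_normalizer_map _

/-- Subgroup form of the main lemma `nclA`. -/
theorem nclA_subgroup (hW : IsCharPFunctor.{u} p W)
    (𝒞 : ∀ (X : Type u) [Group X], Prop)
    (hsub : ∀ (X : Type u) [Group X] (H : Subgroup X), 𝒞 X → 𝒞 ↥H)
    (hquot : ∀ (X : Type u) [Group X] (N : Subgroup X) [N.Normal], 𝒞 X → 𝒞 (X ⧸ N))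
    (hfac : ∀ (X : Type u) [Group X] [Finite X], 𝒞 X →
      Subgroup.centralizer ((pCore p X : Subgroup X) : Set X) ≤ pCore p X →
      ∀ T : Sylow p X, ∀ x : X,
        ∃ a ∈ Subgroup.centralizer ((zOm p (T : Subgroup X) : Subgroup X) : Set X),
        ∃ b ∈ Subgroup.normalizer ((inducedFunctor W (T : Subgroup X) : Subgroup X) : Set X),
          x = a * b)
    {X : Type u} [Group X] [Finite X] (hX : 𝒞 X) (S : Sylow p X) (Y U : Subgroup X)
    (hSY : (S : Subgroup X) ≤ Y) (hUY : U ≤ Y) (hYU : Y ≤ Subgroup.normalizer (U : Set X))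
    (hUp : IsPGroup p U) (hZU : zOm p (S : Subgroup X) ≤ U) :
    nclS Y (zOm p (S : Subgroup X)) ≤
      nclS (Y ⊓ Subgroup.normalizer ((inducedFunctor W (S : Subgroup X) : Subgroup X) : Set X))
        (zOm p (S : Subgroup X)) := by
  have hZY : zOm p ((S.subtype hSY : Sylow p ↥Y) : Subgroup ↥Y) ≤ pCore p ↥Y := by
    rw [Sylow.coe_subtype]
    have h1 : (U.subgroupOf Y).Normal :=
      (Subgroup.normal_subgroupOf_iff_le_normalizer hUY).mpr hYU
    refine le_trans ?_ (le_pCore h1 (hUp.comap_subtype))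
    intro z hz
    rw [Subgroup.mem_subgroupOf]
    apply hZU
    have h2 := Subgroup.mem_map_of_mem Y.subtype hz
    rw [zOm_map p _ _ Subtype.val_injective.injOn, Subgroup.map_subgroupOf_eq_of_le hSY] at h2
    exact h2
  have key := nclA hW 𝒞 hsub hquot hfac (Nat.card ↥Y) ↥Y le_rfl (hsub X Y hX) (S.subtype hSY) hZY
  rw [Sylow.coe_subtype] at key
  exact nclA_sub hW Y (S : Subgroup X) hSY S.2 key

end sylow

section main

variable {G : Type u} [Group G] [Finite G] {p : ℕ} [Fact p.Prime]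
variable {W₁ W₂ : ∀ (Q : Type u) [Group Q], Subgroup Q}

/-- **Strongly closed abelian subgroups from triple factorizations.** -/
theorem strongly_closed_of_triple (S : Sylow p G) (hW₁ : IsCharPFunctor.{u} p W₁)
    (hW₂ : IsCharPFunctor.{u} p W₂)
    (𝒞 : ∀ (X : Type u) [Group X], Prop)
    (hsub : ∀ (X : Type u) [Group X] (H : Subgroup X), 𝒞 X → 𝒞 ↥H)
    (hquot : ∀ (X : Type u) [Group X] (N : Subgroup X) [N.Normal], 𝒞 X → 𝒞 (X ⧸ N))
    (hG : 𝒞 G)
    (h1 : ∀ (X : Type u) [Group X] [Finite X], 𝒞 X →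
      Subgroup.centralizer ((pCore p X : Subgroup X) : Set X) ≤ pCore p X →
      ∀ T : Sylow p X, ∀ x : X,
        ∃ a ∈ Subgroup.centralizer ((zOm p (T : Subgroup X) : Subgroup X) : Set X),
        ∃ b ∈ Subgroup.normalizer ((inducedFunctor W₁ (T : Subgroup X) : Subgroup X) : Set X),
          x = a * b)
    (h2 : ∀ (X : Type u) [Group X] [Finite X], 𝒞 X →
      Subgroup.centralizer ((pCore p X : Subgroup X) : Set X) ≤ pCore p X →
      ∀ T : Sylow p X, ∀ x : X,
        ∃ a ∈ Subgroup.centralizer ((zOm p (T : Subgroup X) : Subgroup X) : Set X),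
        ∃ b ∈ Subgroup.normalizer ((inducedFunctor W₂ (T : Subgroup X) : Subgroup X) : Set X),
          x = a * b)
    (hpair : FamilyControlsStrongFusionIn p
      {inducedFunctor (G := G) W₁, inducedFunctor (G := G) W₂} ⊤)
    (hZ : zOm p (S : Subgroup G) ≤
      inducedFunctor W₁ (S : Subgroup G) ⊓ inducedFunctor W₂ (S : Subgroup G)) :
    nclS (Subgroup.normalizer ((inducedFunctor W₁ (S : Subgroup G) : Subgroup G) : Set G))
        (zOm p (S : Subgroup G)) ≤ (S : Subgroup G) ∧
      IsElementaryAbelian p (nclS (Subgroup.normalizer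
        ((inducedFunctor W₁ (S : Subgroup G) : Subgroup G) : Set G)) (zOm p (S : Subgroup G))) ∧
      IsStronglyClosed (nclS (Subgroup.normalizer
        ((inducedFunctor W₁ (S : Subgroup G) : Subgroup G) : Set G)) (zOm p (S : Subgroup G)))
        (S : Subgroup G) ∧
      ControlsStrongFusion p (nclS (Subgroup.normalizer
        ((inducedFunctor W₁ (S : Subgroup G) : Subgroup G) : Set G)) (zOm p (S : Subgroup G))) := by
  have hV₁S : inducedFunctor W₁ (S : Subgroup G) ≤ S := ind_le _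
  have hV₂S : inducedFunctor W₂ (S : Subgroup G) ≤ S := ind_le _
  have hSN₁ : (S : Subgroup G) ≤ Subgroup.normalizer
      ((inducedFunctor W₁ (S : Subgroup G) : Subgroup G) : Set G) :=
    fun s hs => cfun_normalizer_le (isConjugacyFunctor_ind hW₁ G) S.2 (Subgroup.le_normalizer hs)
  have hSN₂ : (S : Subgroup G) ≤ Subgroup.normalizer
      ((inducedFunctor W₂ (S : Subgroup G) : Subgroup G) : Set G) :=
    fun s hs => cfun_normalizer_le (isConjugacyFunctor_ind hW₂ G) S.2 (Subgroup.le_normalizer hs)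
  have hZ₁ : zOm p (S : Subgroup G) ≤ inducedFunctor W₁ (S : Subgroup G) := hZ.trans inf_le_left
  have hZ₂ : zOm p (S : Subgroup G) ≤ inducedFunctor W₂ (S : Subgroup G) := hZ.trans inf_le_right
  have h21 : nclS (Subgroup.normalizer ((inducedFunctor W₂ (S : Subgroup G) : Subgroup G) : Set G))
      (zOm p (S : Subgroup G)) ≤
      nclS (Subgroup.normalizer ((inducedFunctor W₁ (S : Subgroup G) : Subgroup G) : Set G))
        (zOm p (S : Subgroup G)) :=
    (nclA_subgroup hW₁ 𝒞 hsub hquot h1 hG S _ _ hSN₂ (hV₂S.trans hSN₂) le_rfl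
      (S.2.to_le hV₂S) hZ₂).trans (nclS_mono inf_le_right le_rfl)
  have h12 : nclS (Subgroup.normalizer ((inducedFunctor W₁ (S : Subgroup G) : Subgroup G) : Set G))
      (zOm p (S : Subgroup G)) ≤
      nclS (Subgroup.normalizer ((inducedFunctor W₂ (S : Subgroup G) : Subgroup G) : Set G))
        (zOm p (S : Subgroup G)) :=
    (nclA_subgroup hW₂ 𝒞 hsub hquot h2 hG S _ _ hSN₁ (hV₁S.trans hSN₁) le_rfl
      (S.2.to_le hV₁S) hZ₁).trans (nclS_mono inf_le_right le_rfl)
  have hAeq := le_antisymm h12 h21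
  obtain ⟨A, hAdef⟩ : ∃ A : Subgroup G, A = nclS (Subgroup.normalizer
      ((inducedFunctor W₁ (S : Subgroup G) : Subgroup G) : Set G)) (zOm p (S : Subgroup G)) :=
    ⟨_, rfl⟩
  rw [← hAdef] at hAeq ⊢
  have hN₁A : Subgroup.normalizer ((inducedFunctor W₁ (S : Subgroup G) : Subgroup G) : Set G) ≤
      Subgroup.normalizer (A : Set G) := by
    rw [hAdef]; exact le_normalizer_nclS _ _
  have hN₂A : Subgroup.normalizer ((inducedFunctor W₂ (S : Subgroup G) : Subgroup G) : Set G) ≤
      Subgroup.normalizer (A : Set G) := by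
    rw [hAeq]; exact le_normalizer_nclS _ _
  have hAV : A ≤ inducedFunctor W₁ (S : Subgroup G) := by
    rw [hAdef]; exact nclS_le hZ₁ le_rfl
  have hAS : A ≤ (S : Subgroup G) := hAV.trans hV₁S
  have hZc : zOm p (S : Subgroup G) ≤ Subgroup.centralizer ((S : Subgroup G) : Set G) :=
    (zOm_le p _).trans inf_le_right
  have hAC : A ≤ Subgroup.centralizer ((inducedFunctor W₁ (S : Subgroup G) : Subgroup G) : Set G) := by
    rw [hAdef]
    exact nclS_le (hZc.trans (Subgroup.centralizer_le hV₁S))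
      (normalizer_le_normalizer_centralizer _)
  have hcomm : ∀ a ∈ A, ∀ b ∈ A, a * b = b * a := by
    intro a ha b hb
    have h3 := hAC hb
    rw [Subgroup.mem_centralizer_iff] at h3
    exact h3 a (hAV ha)
  have hctl : ∀ (B : Subgroup G) (g : G), B ≤ (S : Subgroup G) → cj g B ≤ (S : Subgroup G) →
      ∃ c ∈ Subgroup.normalizer (A : Set G), ∀ b ∈ B, c * b * c⁻¹ = g * b * g⁻¹ := by
    have h𝓦X : ∀ W' ∈ ({inducedFunctor (G := G) W₁, inducedFunctor (G := G) W₂} :
        Set (Subgroup G → Subgroup G)), IsConjugacyFunctor p W' := by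
      intro W' hW'
      rcases hW' with rfl | hW'
      · exact isConjugacyFunctor_ind hW₁ G
      · rw [Set.mem_singleton_iff] at hW'
        rw [hW']
        exact isConjugacyFunctor_ind hW₂ G
    have hF := FCSF.of_controls h𝓦X hpair (sylow_isSylIn_top S)
    intro B g hB hgB
    obtain ⟨c, hc, hca⟩ := hF B g (Subgroup.mem_top g) hB hgB
    refine ⟨c, hc.mem (H := Subgroup.normalizer (A : Set G)) ?_, hca⟩
    rintro k ⟨W', hW', hk⟩
    rcases hW' with rfl | hW'
    · exact hN₁A hk.2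
    · rw [Set.mem_singleton_iff] at hW'
      rw [hW'] at hk
      exact hN₂A hk.2
  refine ⟨hAS, ⟨?_, ?_⟩, ⟨hAS, ?_⟩, ⟨S, hAS, ?_⟩⟩
  · exact Subgroup.le_centralizer_iff_isMulCommutative.mp (hAC.trans (Subgroup.centralizer_le hAV))
  · rw [hAdef] at hcomm ⊢
    unfold nclS at hcomm ⊢
    apply pow_eq_one_of_mem_closure _ hcomm
    rintro _ ⟨h, -, z, hz, rfl⟩
    rw [conj_pow, zOm_pow p _ z hz, mul_one, mul_inv_cancel]
  · intro x hx g hg
    have hB : Subgroup.closure ({x} : Set G) ≤ (S : Subgroup G) :=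
      (Subgroup.closure_le _).mpr (Set.singleton_subset_iff.mpr (hAS hx))
    have hgB : cj g (Subgroup.closure ({x} : Set G)) ≤ (S : Subgroup G) := by
      show (Subgroup.closure _).map _ ≤ _
      rw [MonoidHom.map_closure, Subgroup.closure_le]
      rintro _ ⟨_, rfl, rfl⟩
      exact hg
    obtain ⟨c, hc, hca⟩ := hctl _ g hB hgB
    rw [← hca x (Subgroup.subset_closure (Set.mem_singleton x))]
    exact (Subgroup.mem_normalizer_iff.mp hc x).mp hx
  · intro B hB
    refine ⟨hB, fun g hg => ?_⟩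
    have hB' : Subgroup.closure B ≤ (S : Subgroup G) := (Subgroup.closure_le _).mpr hB
    have hgB : cj g (Subgroup.closure B) ≤ (S : Subgroup G) := by
      show (Subgroup.closure _).map _ ≤ _
      rw [MonoidHom.map_closure, Subgroup.closure_le]
      rintro _ ⟨b, hb, rfl⟩
      exact hg ⟨b, hb, rfl⟩
    obtain ⟨c, hc, hca⟩ := hctl _ g hB' hgB
    exact ⟨c, hc, fun a ha => (hca a (Subgroup.subset_closure ha)).symm⟩

end main

end Cfsg.Agent.Lib.helper39
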